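import Cfsg.Agent.Lib.ShultFlavell.Basic
import Cfsg.Agent.Techniques.Alperin.Radical

/-!
The centre of `E` is not central in `G`.

If it were, fusion in an invariant Sylow `2`-subgroup would be controlled, modulo `ctr E`, by the
stabiliser of `E`, and the focal subgroup theorem would give a Sylow `2`-subgroup fixed by `a`.
-/

set_option autoImplicit false
set_option linter.style.haveILetI false
set_option linter.unusedSectionVars false

namespace Cfsg.Agent.Lib.ShultFlavell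

open Module (End)
open Cfsg.Agent.CharP Cfsg.Agent.Techniques.Alperin.Basic
open scoped commutatorElement

section fusion

variable {X : Type*} [Group X] [Finite X] {q : ℕ} [Fact q.Prime]

/-- If every subgroup of `P` containing `E` has normaliser in `H`, and `E` centralises `P` modulo the
central subgroup `Z`, then `H` controls fusion in `P` modulo `Z`. -/
theorem fusion_mod (P : Sylow q X) {Z E H : Subgroup X} (hZ : Z ≤ Subgroup.center X) (hZE : Z ≤ E)
    (hEP : E ≤ (P : Subgroup X)) (hcomm : ∀ e ∈ E, ∀ x ∈ (P : Subgroup X), x⁻¹ * (e⁻¹ * x * e) ∈ Z)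
    (hloc : ∀ D : Subgroup X, E ≤ D → D ≤ (P : Subgroup X) → Subgroup.normalizer (D : Set X) ≤ H)
    {x g : X} (hx : x ∈ (P : Subgroup X)) (hg : g⁻¹ * x * g ∈ (P : Subgroup X)) :
    ∃ n ∈ H, ∃ z ∈ Z, g⁻¹ * x * g = n⁻¹ * x * n * z := by
  have hc : ∀ z ∈ Z, ∀ y : X, y * z = z * y := fun z hz => Subgroup.mem_center_iff.mp (hZ hz)
  let Φ : Subgroup X → X → Prop :=
    fun D g => ∃ n ∈ H, ∀ x ∈ D, ∃ z ∈ Z, g⁻¹ * x * g = n⁻¹ * x * n * z
  have hmain : Φ (Subgroup.closure {x}) g := by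
    refine induction (P := P) Φ ?_ ?_ ?_ ?_ (Subgroup.closure {x}) g
      ((Subgroup.closure_le _).2 (Set.singleton_subset_iff.2 hx)) ?_
    · exact fun D D' g hD ⟨n, hn, h⟩ => ⟨n, hn, fun x hx => h x (hD hx)⟩
    · rintro D a b ⟨n, hn, h⟩ ⟨m, hm, h'⟩
      refine ⟨n * m, mul_mem hn hm, fun x hx => ?_⟩
      obtain ⟨z, hz, e⟩ := h x hx
      obtain ⟨z', hz', e'⟩ := h' _ (conj_mem_cv hx)
      refine ⟨z * z', mul_mem hz hz', ?_⟩
      calc (a * b)⁻¹ * x * (a * b) = b⁻¹ * (a⁻¹ * x * a) * b := by group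
        _ = m⁻¹ * (n⁻¹ * x * n * z) * m * z' := by rw [e', e]
        _ = m⁻¹ * (n⁻¹ * x * n) * (z * m) * z' := by group
        _ = m⁻¹ * (n⁻¹ * x * n) * (m * z) * z' := by rw [hc z hz m]
        _ = _ := by group
    · rintro D a ⟨n, hn, h⟩
      refine ⟨n⁻¹, inv_mem hn, fun y hy => ?_⟩
      obtain ⟨z, hz, e⟩ := h _ (mem_cv.mp hy)
      refine ⟨z⁻¹, inv_mem hz, ?_⟩
      rw [show a⁻¹ * (a * y * a⁻¹) * a = y by group] at e
      rw [inv_inv, inv_inv]
      generalize a * y * a⁻¹ = w at e ⊢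
      rw [e, show n * (n⁻¹ * w * n * z) * n⁻¹ * z⁻¹ = w * n * (z * n⁻¹) * z⁻¹ by group,
        ← hc z hz n⁻¹]
      group
    · intro D hD ih n hn
      have hbig : ∀ F : Subgroup X, D < F → F ≤ (P : Subgroup X) → n ∈ Subgroup.normalizer (F : Set X) →
          Φ D n := fun F hF hFP hnF => by
        obtain ⟨m, hm, h⟩ := ih F n hF hFP (by rw [cv_of_mem hnF]; exact hFP)
        exact ⟨m, hm, fun x hx => h x (hF.le hx)⟩
      by_cases hZD : Z ≤ D
      swap
      · refine hbig (D ⊔ Z) (lt_of_le_of_ne le_sup_left fun e => hZD (e ▸ le_sup_right))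
          (sup_le hD.le (hZE.trans hEP)) (mem_normalizer_sup hn ?_)
        exact Subgroup.centralizer_le_normalizer _
          (Subgroup.mem_centralizer_iff.mpr fun z hz => (hc z hz n).symm)
      by_cases hED : E ≤ D
      · exact ⟨n, hloc D hED hD.le hn, fun x _ => ⟨1, one_mem _, by rw [mul_one]⟩⟩
      -- the elements normalising `D` and centralising it modulo `Z`
      let N := Subgroup.normalizer (D : Set X)
      let C : Subgroup X :=
        { carrier := {m | m ∈ N ∧ ∀ x ∈ D, x⁻¹ * (m⁻¹ * x * m) ∈ Z}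
          one_mem' := ⟨one_mem _, fun x _ => by simp⟩
          mul_mem' := fun {b c} hb hcm => ⟨mul_mem hb.1 hcm.1, fun x hx => by
            have e : x⁻¹ * ((b * c)⁻¹ * x * (b * c)) =
                x⁻¹ * (c⁻¹ * x * (x⁻¹ * (b⁻¹ * x * b) * c)) := by group
            rw [e, ← hc _ (hb.2 x hx) c, show x⁻¹ * (c⁻¹ * x * (c * (x⁻¹ * (b⁻¹ * x * b)))) =
              x⁻¹ * (c⁻¹ * x * c) * (x⁻¹ * (b⁻¹ * x * b)) by group]
            exact mul_mem (hcm.2 x hx) (hb.2 x hx)⟩
          inv_mem' := fun {b} hb => ⟨inv_mem hb.1, fun x hx => by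
            have hz := inv_mem (hb.2 x hx)
            have e : x⁻¹ * (b⁻¹⁻¹ * x * b⁻¹) = (x⁻¹ * (b⁻¹ * x * b))⁻¹ := by
              refine eq_inv_of_mul_eq_one_left ?_
              rw [mul_assoc, show b⁻¹⁻¹ * x * b⁻¹ * (x⁻¹ * (b⁻¹ * x * b)) =
                b * x * (b⁻¹ * (x⁻¹ * (b⁻¹ * x * b))) by group, hc _ (hb.2 x hx) b⁻¹]
              group
            rw [e]
            exact hz⟩ }
      have hCN : C ≤ N := fun m hm => hm.1
      haveI : (C.subgroupOf N).Normal := ⟨fun u hu m => by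
        refine Subgroup.mem_subgroupOf.mpr ⟨(m * u * m⁻¹).2, fun x hx => ?_⟩
        have hu' : ((m : X)⁻¹ * x * m)⁻¹ * ((u : X)⁻¹ * ((m : X)⁻¹ * x * m) * u) ∈ Z :=
          hu.2 _ ((Subgroup.mem_normalizer_iff''.mp m.2 x).mp hx)
        simp only [Subgroup.coe_mul, InvMemClass.coe_inv]
        have e : x⁻¹ * (((m : X) * u * (m : X)⁻¹)⁻¹ * x * ((m : X) * u * (m : X)⁻¹)) =
            (m : X) * (((m : X)⁻¹ * x * m)⁻¹ * ((u : X)⁻¹ * ((m : X)⁻¹ * x * m) * u)) * (m : X)⁻¹ := by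
          group
        rw [e, hc _ hu' (m : X), mul_inv_cancel_right]
        exact hu'⟩
      obtain ⟨S, hS⟩ := hD.syl
      set T := (P : Subgroup X) ⊓ N ⊓ C with hT
      have hsyl : IsSylIn q T C := by
        have := (Techniques.Alperin.Radical.isSylIn_inf_normal S (C.subgroupOf N)).map N.subtype_injective
        rwa [Subgroup.map_inf _ _ _ N.subtype_injective, hS,
          Subgroup.map_subgroupOf_eq_of_le hCN] at this
      obtain ⟨e, he, heD⟩ := SetLike.not_le_iff_exists.mp hED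
      have heconj : ∀ d ∈ E, ∀ x ∈ D, d⁻¹ * x * d ∈ D := fun d hd x hx => by
        have := mul_mem hx (hZD (hcomm d hd x (hD.le hx)))
        rwa [mul_inv_cancel_left] at this
      have heN : e ∈ N := Subgroup.mem_normalizer_iff''.mpr fun x => ⟨heconj e he x, fun hx => by
        have := heconj _ (inv_mem he) _ hx
        rwa [show e⁻¹⁻¹ * (e⁻¹ * x * e) * e⁻¹ = x by group] at this⟩
      have heT : e ∈ T := ⟨⟨hEP he, heN⟩, heN, fun x hx => hcomm e he x (hD.le hx)⟩
      have h2 : IsSylIn q (cv n T) C := by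
        have := hsyl.conj n⁻¹
        rwa [show C.map (MulAut.conj n⁻¹).toMonoidHom = C from conj_map_of_mem ?_] at this
        rw [Subgroup.inv_mem_iff, Subgroup.mem_normalizer_iff]
        intro u
        have key : ∀ m ∈ N, ∀ u ∈ C, m * u * m⁻¹ ∈ C := fun m hm u hu => by
          have := (inferInstance : (C.subgroupOf N).Normal).conj_mem ⟨u, hCN hu⟩
            (Subgroup.mem_subgroupOf.mpr hu) ⟨m, hm⟩
          exact Subgroup.mem_subgroupOf.mp this
        exact ⟨key n hn u, fun hu => by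
          have := key _ (inv_mem hn) _ hu
          rwa [show n⁻¹ * (n * u * n⁻¹) * n⁻¹⁻¹ = u by group] at this⟩
      obtain ⟨k, hk, hke⟩ := h2.exists_conj hsyl
      have h3 : n * k⁻¹ ∈ Subgroup.normalizer (T : Set X) := by
        rw [← cv_eq_self_iff, ← cv_cv, cv.eq_1 k⁻¹, inv_inv]; exact hke
      have h4 : n * k⁻¹ ∈ N := mul_mem hn (inv_mem (hCN hk))
      obtain ⟨m, hm, hmn⟩ := ih (D ⊔ T) (n * k⁻¹)
        (lt_of_le_of_ne le_sup_left fun h => heD (h ▸ Subgroup.mem_sup_right heT))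
        (sup_le hD.le (inf_le_left.trans inf_le_left))
        (by rw [cv_of_mem (mem_normalizer_sup h4 h3)]; exact sup_le hD.le (inf_le_left.trans inf_le_left))
      refine ⟨m, hm, fun x hx => ?_⟩
      obtain ⟨z, hz, e1⟩ := hmn x (Subgroup.mem_sup_left hx)
      have hy : (n * k⁻¹)⁻¹ * x * (n * k⁻¹) ∈ D := (Subgroup.mem_normalizer_iff''.mp h4 x).mp hx
      refine ⟨z * (((n * k⁻¹)⁻¹ * x * (n * k⁻¹))⁻¹ * (k⁻¹ * ((n * k⁻¹)⁻¹ * x * (n * k⁻¹)) * k)),
        mul_mem hz (hk.2 _ hy), ?_⟩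
      rw [← mul_assoc, ← e1]
      group
    · rw [cv, Subgroup.map_le_iff_le_comap, Subgroup.closure_le, Set.singleton_subset_iff]
      simpa [Subgroup.mem_comap] using (show g⁻¹ * x * g ∈ P from hg)
  obtain ⟨n, hn, h⟩ := hmain
  exact ⟨n, hn, h x (Subgroup.subset_closure rfl)⟩

end fusion

variable {K : Type*} [Field K] {W : Type*} [AddCommGroup W] [Module K W]
variable {Y : Type*} [Group Y] [Finite Y]
variable {ρ : Y →* End K W} {a : Y} {r p : ℕ} {G E : Subgroup Y}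
variable [IsAlgClosed K] [FiniteDimensional K W] [Nontrivial W] [CharP K p]

/-- The centre of `E` is not central in `G`. -/
theorem Ctx.ctr_not_central (h : Ctx ρ a r p G) (hE : IsE a G E) : ¬ ctr E ≤ Zc G := by
  intro hcZ
  haveI : Fact (Nat.Prime 2) := ⟨Nat.prime_two⟩
  haveI := h.normal
  obtain ⟨S, hSa, hES⟩ := id hE
  set SY := (S : Subgroup G).map G.subtype with hSY
  have hmv := hE.moved h
  have hESY : E ≤ SY := hES ▸ Coprime.commutator_le_of_le_normalizer (zpowers_le_normalizer hSa)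
  have hSH : SY ≤ ptH G E :=
    le_inf (Subgroup.map_subtype_le _) (hES ▸ Subgroup.normalizer_commutator_ge_left SY _)
  -- `H = C_H(a) E`, with commuting factors
  have hsplit : ∀ x ∈ ptH G E, ∃ e ∈ E, ∃ c, Commute c a ∧ (∀ y ∈ E, Commute c y) ∧ x = c * e := by
    intro x hx
    obtain ⟨e, he, c, hcH, hca, rfl⟩ := h.ptH_split hE hx
    exact ⟨e, he, c, hca, fun y hy => hmv.centralizes_of_ctr hcH.2 hca (h.order_coprime (ptH_le hcH))
      (fun z hz => h.comm_Zc (hcZ hz) c) y hy, rfl⟩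
  have hcentre : (ctr E).subgroupOf G ≤ Subgroup.center G := fun z hz =>
    Subgroup.mem_center_iff.mpr fun g => Subtype.ext (h.comm_Zc (hcZ (Subgroup.mem_subgroupOf.mp hz)) g)
  have hcomm : ∀ e ∈ E.subgroupOf G, ∀ x ∈ (S : Subgroup G), x⁻¹ * (e⁻¹ * x * e) ∈ (ctr E).subgroupOf G := by
    intro e he x hx
    obtain ⟨e0, he0, c, -, hcE, hxe⟩ := hsplit _ (hSH ⟨x, hx, rfl⟩)
    rw [Subgroup.mem_subgroupOf] at he ⊢
    have h1 : ⁅e0⁻¹, (e : Y)⁻¹⁆ ∈ ctr E :=
      hmv.commutator_le_ctr (Subgroup.commutator_mem_commutator (inv_mem he0) (inv_mem he))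
    rw [commutatorElement_def, inv_inv, inv_inv] at h1
    have h2 : ((x⁻¹ * (e⁻¹ * x * e) : G) : Y) = e0⁻¹ * (e : Y)⁻¹ * e0 * e := by
      simp only [Subgroup.coe_mul, InvMemClass.coe_inv]
      rw [show (x : Y) = c * e0 from hxe, show (c * e0)⁻¹ * ((e : Y)⁻¹ * (c * e0) * e) =
        e0⁻¹ * c⁻¹ * ((e : Y)⁻¹ * c) * e0 * e by group, ← (hcE _ (inv_mem he)).eq]
      group
    rw [h2]
    exact h1
  have hloc : ∀ D : Subgroup G, E.subgroupOf G ≤ D → D ≤ (S : Subgroup G) →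
      Subgroup.normalizer (D : Set G) ≤ (ptH G E).subgroupOf G := by
    intro D hED hDS
    set DY := D.map G.subtype with hDY
    have hEDY : E ≤ DY := fun x hx => ⟨⟨x, hE.le h hx⟩, hED (Subgroup.mem_subgroupOf.mpr hx), rfl⟩
    have hDSY : DY ≤ SY := Subgroup.map_mono hDS
    have haD : a ∈ Subgroup.normalizer (DY : Set Y) := by
      rw [Subgroup.mem_normalizer_iff_map_conj_eq]
      refine Subgroup.eq_of_le_of_card_ge ?_ (Subgroup.card_map_of_injective (MulEquiv.injective _)).ge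
      rintro _ ⟨x, hx, rfl⟩
      obtain ⟨e, he, c, hca, -, rfl⟩ := hsplit x (hSH (hDSY hx))
      show a * (c * e) * a⁻¹ ∈ DY
      rw [show a * (c * e) * a⁻¹ = (a * c) * e * a⁻¹ by group, ← hca.eq,
        show c * a * e * a⁻¹ = c * e * (e⁻¹ * (a * e * a⁻¹)) by group]
      exact mul_mem hx (hEDY (mul_mem (inv_mem he) ((Subgroup.mem_normalizer_iff.mp hE.norm e).mp he)))
    set N := G ⊓ Subgroup.normalizer (DY : Set Y) with hN
    have hNlt : N < G := by
      refine inf_le_left.lt_of_ne fun e => ?_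
      haveI : DY.Normal := h.normal_of (fun g hg => (show g ∈ N by rw [hN, e]; exact hg).2) haD
      have hlt : DY < G := (Subgroup.map_subtype_le D).lt_of_ne fun e' => h.not_two
        (e' ▸ (S.isPGroup'.map G.subtype).to_le hDSY)
      exact hE.not_le_PZ h ((hEDY.trans (h.normal_lt_central hlt)).trans Zc_le_PZ)
    intro n hn
    refine Subgroup.mem_subgroupOf.mpr (h.le_ptH hE hNlt (h.norm_norm haD)
      (le_inf (hE.le h) (hEDY.trans Subgroup.le_normalizer)) ⟨n.2, ?_⟩)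
    exact Subgroup.le_normalizer_map G.subtype ⟨n, hn, rfl⟩
  -- so the focal subgroup is centralised by `a`
  set F : Subgroup G := (Subgroup.centralizer ({a} : Set Y)).comap G.subtype with hF
  have hfoc : commutator G ⊓ (S : Subgroup G) ≤ F := by
    rw [Subgroup.commutator_inf_eq_focalSubgroup S, Subgroup.focalSubgroup_def, Subgroup.closure_le]
    rintro _ ⟨hmem, x, hx, u, rfl⟩
    have hux : u⁻¹⁻¹ * x * u⁻¹ ∈ (S : Subgroup G) := by
      have := (S : Subgroup G).inv_mem ((S : Subgroup G).mul_mem ((S : Subgroup G).inv_mem hx) hmem)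
      simpa [commutatorElement_def, mul_assoc] using this
    obtain ⟨n, hn, z, hz, hz'⟩ := fusion_mod S hcentre
      (fun y hy => Subgroup.mem_subgroupOf.mpr (Subgroup.mem_subgroupOf.mp hy).1)
      (fun y hy => by
        obtain ⟨y', hy', e⟩ := hESY (Subgroup.mem_subgroupOf.mp hy)
        exact (Subtype.ext e : y' = y) ▸ hy')
      hcomm hloc hx hux
    obtain ⟨e, he, c, hca, hcE, hxe⟩ := hsplit _ (hSH ⟨x, hx, rfl⟩)
    obtain ⟨e', he', c', hc'a, hc'E, hne⟩ := hsplit _ (Subgroup.mem_subgroupOf.mp hn)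
    rw [SetLike.mem_coe, hF, Subgroup.mem_comap, Subgroup.mem_centralizer_singleton_iff]
    have hcom : ⁅x, u⁆ = x * z⁻¹ * (n⁻¹ * x⁻¹ * n) := by
      rw [commutatorElement_def, show x * u * x⁻¹ * u⁻¹ = x * (u⁻¹⁻¹ * x * u⁻¹)⁻¹ by group, hz']
      group
    have hzY : (z : Y) ∈ ctr E := Subgroup.mem_subgroupOf.mp hz
    have heq : ((⁅x, u⁆ : G) : Y) = c * c'⁻¹ * c⁻¹ * c' * ⁅e, e'⁻¹⁆ * (z : Y)⁻¹ := by
      rw [hcom]
      simp only [Subgroup.coe_mul, InvMemClass.coe_inv]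
      rw [show (x : Y) = c * e from hxe, show (n : Y) = c' * e' from hne]
      have hzc : ∀ v : Y, (z : Y)⁻¹ * v = v * (z : Y)⁻¹ := fun v => (h.comm_Zc (inv_mem (hcZ hzY)) v).symm
      rw [mul_assoc (c * e) (z : Y)⁻¹, hzc, commutatorElement_def, inv_inv, ← mul_assoc]
      congr 1
      have h1 : Commute (c'⁻¹ : Y) (e * e'⁻¹) := ((hc'E _ (mul_mem he (inv_mem he'))).inv_left)
      have h2 : Commute (c⁻¹ * c' : Y) (e⁻¹) := ((hcE _ (inv_mem he)).inv_left).mul_left (hc'E _ (inv_mem he))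
      have h3 : Commute (c⁻¹ * c' : Y) (e * e'⁻¹) :=
        ((hcE _ (mul_mem he (inv_mem he'))).inv_left).mul_left (hc'E _ (mul_mem he (inv_mem he')))
      calc c * e * ((c' * e')⁻¹ * (c * e)⁻¹ * (c' * e'))
          = c * ((e * e'⁻¹) * c'⁻¹) * (e⁻¹ * (c⁻¹ * c')) * e' := by group
        _ = c * (c'⁻¹ * (e * e'⁻¹)) * ((c⁻¹ * c') * e⁻¹) * e' := by rw [h1.eq, h2.eq]
        _ = c * c'⁻¹ * ((e * e'⁻¹) * (c⁻¹ * c')) * e⁻¹ * e' := by group
        _ = c * c'⁻¹ * ((c⁻¹ * c') * (e * e'⁻¹)) * e⁻¹ * e' := by rw [h3.eq]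
        _ = _ := by group
    show ((⁅x, u⁆ : G) : Y) * a = a * ((⁅x, u⁆ : G) : Y)
    rw [heq]
    have hec : ⁅e, e'⁻¹⁆ ∈ ctr E :=
      hmv.commutator_le_ctr (Subgroup.commutator_mem_commutator he (inv_mem he'))
    exact ((((((hca.mul_left hc'a.inv_left).mul_left hca.inv_left).mul_left hc'a).mul_left
      (show Commute a ⁅e, e'⁻¹⁆ from hmv.comm_ctr hec).symm).mul_left
      (show Commute a (z : Y) from hmv.comm_ctr hzY).symm.inv_left)).eq
  refine hE.ne_bot h ?_
  rw [hES]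
  refine comm_zpowers_eq_bot ?_
  rintro _ ⟨x, hx, rfl⟩
  have htop : commutator G = ⊤ := Subgroup.map_injective G.subtype_injective
    (by rw [Subgroup.map_subtype_commutator, h.perfect, ← MonoidHom.range_eq_map, Subgroup.range_subtype])
  exact (Subgroup.mem_centralizer_singleton_iff.mp
    (Subgroup.mem_comap.mp (hfoc ⟨htop ▸ Subgroup.mem_top x, hx⟩))).symm

end Cfsg.Agent.Lib.ShultFlavell
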