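import Cfsg.Agent.Lib.ShultFlavell.CaseTwo

/-!
Families of hermitian forms of rank one indexed by an elementary group: all of them have kernel zero
and they are indexed by the fixed field.
-/

set_option autoImplicit false
set_option linter.style.haveILetI false
set_option linter.unusedSectionVars false

namespace Cfsg.Agent.Lib.ShultFlavell

variable {m : ℕ}

theorem card_fixedField (hm : 1 ≤ m) : Nat.card {w : Fl m // conj m w = w} = 2 ^ m := by
  let e : {w : Fl m // conj m w = w} × {w : Fl m // conj m w = w} → Fl m :=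
    fun p => (p.1 : Fl m) + halfW m * (p.2 : Fl m)
  have hbij : Function.Bijective e := by
    refine ⟨?_, ?_⟩
    · rintro ⟨u, v⟩ ⟨u', v'⟩ h
      have h0 : (u : Fl m) + halfW m * v = u' + halfW m * v' := h
      have h1 := congrArg (conj m) h0
      rw [map_add, map_add, map_mul, map_mul, u.2, v.2, u'.2, v'.2] at h1
      have hv : (v : Fl m) = v' := by
        have := congrArg₂ (· + ·) h0 h1
        linear_combination this - ((v : Fl m) - v') * halfW_spec hm
          - ((u : Fl m) - u') * (CharTwo.two_eq_zero (R := Fl m))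
      have hu : (u : Fl m) = u' := by rw [hv] at h0; exact add_right_cancel h0
      exact Prod.ext (Subtype.ext hu) (Subtype.ext hv)
    · intro z
      have hv : conj m (z + conj m z) = z + conj m z := by rw [map_add, conj_conj hm, add_comm]
      have hu : conj m (z + halfW m * (z + conj m z)) = z + halfW m * (z + conj m z) := by
        rw [map_add, map_mul, hv]
        linear_combination (z + conj m z) * halfW_spec hm
          + (conj m z - halfW m * (z + conj m z)) * (CharTwo.two_eq_zero (R := Fl m))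
      refine ⟨(⟨_, hu⟩, ⟨_, hv⟩), ?_⟩
      show z + halfW m * (z + conj m z) + halfW m * (z + conj m z) = z
      rw [add_assoc, CharTwo.add_self_eq_zero, add_zero]
  have h := Nat.card_congr (Equiv.ofBijective e hbij)
  rw [Nat.card_prod, card_Fl hm, ← pow_two, show 2 ^ (2 * m) = (2 ^ m) ^ 2 by ring] at h
  exact Nat.pow_left_injective two_ne_zero h

/-- A proper subgroup of the fixed field is killed by a non-zero element. -/
theorem exists_t0_annihilator (hm : 1 ≤ m) (U : AddSubgroup (Fl m))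
    {w : Fl m} (hw : conj m w = w) (hwU : w ∉ U) :
    ∃ κ : Fl m, κ ≠ 0 ∧ conj m κ = κ ∧ ∀ u ∈ U, conj m u = u → t0 m (κ * u) = 0 := by
  classical
  let W : AddSubgroup (Fl m) := U.comap (AddMonoidHom.id (Fl m) + (conj m).toAddMonoidHom)
  have hWmem : ∀ z, z ∈ W ↔ z + conj m z ∈ U := fun z => Iff.rfl
  have hhalf : ∀ v : Fl m, conj m v = v → halfW m * v + conj m (halfW m * v) = v := fun v hv => by
    rw [map_mul, hv, ← add_mul, halfW_spec hm, one_mul]
  have hlt : AddSubgroup.toZModSubmodule 2 W < ⊤ := by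
    refine lt_top_iff_ne_top.mpr fun e => hwU ?_
    have h1 : halfW m * w ∈ AddSubgroup.toZModSubmodule 2 W := e ▸ Submodule.mem_top
    have h2 : halfW m * w + conj m (halfW m * w) ∈ U := h1
    rwa [hhalf w hw] at h2
  obtain ⟨f, hf0, hf⟩ := Submodule.exists_le_ker_of_lt_top _ hlt
  obtain ⟨κ, hκ⟩ := exists_trF_repr f.toAddMonoidHom
  have hreal : κ + conj m κ = 0 := by
    refine eq_zero_of_t0 hm (by rw [map_add, conj_conj hm, add_comm]) fun z hz => ?_
    rw [mul_comm (κ + conj m κ) z, t0_polar hm hz, mul_comm z κ, ← hκ]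
    have hzW : z ∈ AddSubgroup.toZModSubmodule 2 W := by
      show z + conj m z ∈ U
      rw [hz, CharTwo.add_self_eq_zero]; exact zero_mem U
    exact hf hzW
  have hκc : conj m κ = κ := by
    rw [add_eq_zero_iff_eq_neg, CharTwo.neg_eq] at hreal
    exact hreal.symm
  refine ⟨κ, fun e => hf0 (LinearMap.ext fun v => ?_), hκc, fun u hu huc => ?_⟩
  · have := hκ v
    rw [e, zero_mul, map_zero] at this
    exact this
  · have h1 : halfW m * u ∈ AddSubgroup.toZModSubmodule 2 W := by
      show halfW m * u + conj m (halfW m * u) ∈ U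
      rwa [hhalf u huc]
    rw [← hhalf u huc, t0_polar hm hκc, ← hκ]
    exact hf h1

theorem det_identity {R : Type*} [CommRing R] (h2 : (2 : R) = 0)
    (A B C D a1 a2 a3 b1 b2 b3 c1 c2 c3 d1 d2 d3 : R)
    (h_1 : (A + a1) * (B + b1) + (C + c1) * (D + d1) = 0)
    (h_2 : (A + a2) * (B + b2) + (C + c2) * (D + d2) = 0)
    (h_3 : (A + a3) * (B + b3) + (C + c3) * (D + d3) = 0)
    (h_12 : (A + (a1 + a2)) * (B + (b1 + b2)) + (C + (c1 + c2)) * (D + (d1 + d2)) = 0)
    (h_13 : (A + (a1 + a3)) * (B + (b1 + b3)) + (C + (c1 + c3)) * (D + (d1 + d3)) = 0)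
    (h_23 : (A + (a2 + a3)) * (B + (b2 + b3)) + (C + (c2 + c3)) * (D + (d2 + d3)) = 0)
    (h_123 : (A + (a1 + a2 + a3)) * (B + (b1 + b2 + b3)) +
      (C + (c1 + c2 + c3)) * (D + (d1 + d2 + d3)) = 0) :
    A * B + C * D = 0 := by
  linear_combination h_1 + h_2 + h_3 + h_12 + h_13 + h_23 + h_123
    - (3 * (A * B) + 2 * A * (b1 + b2 + b3) + 2 * B * (a1 + a2 + a3) + 2 * (a1 * b1 + a2 * b2 + a3 * b3)
      + (a1 * b2 + a1 * b3 + a2 * b1 + a2 * b3 + a3 * b1 + a3 * b2)
      + 3 * (C * D) + 2 * C * (d1 + d2 + d3) + 2 * D * (c1 + c2 + c3) + 2 * (c1 * d1 + c2 * d2 + c3 * d3)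
      + (c1 * d2 + c1 * d3 + c2 * d1 + c2 * d3 + c3 * d1 + c3 * d2)) * h2

namespace Family

variable {Δ : Type*} [AddCommGroup Δ] {V : Type*} [AddCommGroup V] (F : Family m Δ V)
include F

theorem eq_top (U : AddSubgroup (Fl m)) {u : Fl m} (hu : u ∈ U) (hu0 : u ≠ 0)
    (hU : ∀ v ∈ U, F.ω * v ∈ U) : U = ⊤ := by
  classical
  haveI := Fact.mk F.prime
  haveI := Fintype.ofFinite U
  let f : Function.End U := fun v => ⟨F.ω * v, hU v v.2⟩
  have hfk : ∀ (k : ℕ) (v : U), ((f^[k] v : U) : Fl m) = F.ω ^ k * (v : Fl m) := by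
    intro k v
    induction k with
    | zero => rw [Function.iterate_zero_apply, pow_zero, one_mul]
    | succ k ih => rw [Function.iterate_succ_apply', pow_succ', mul_assoc, ← ih]
  have hfr : f^[(2 ^ m + 1) ^ 1] = id :=
    funext fun v => Subtype.ext (by rw [pow_one, hfk, F.omega_pow, one_mul]; rfl)
  have hone : Fintype.card (Function.fixedPoints f) = 1 := by
    rw [Fintype.card_eq_one_iff]
    refine ⟨⟨0, Subtype.ext (mul_zero _)⟩, fun ⟨v, hv⟩ => Subtype.ext (Subtype.ext ?_)⟩
    have h1 : F.ω * (v : Fl m) = v := congrArg Subtype.val hv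
    show (v : Fl m) = 0
    by_contra h0
    exact F.omega_ne ((mul_eq_right₀ h0).mp h1)
  have hmod := Equiv.Perm.card_fixedPoints_modEq (f := f) (p := 2 ^ m + 1) (n := 1) hfr
  rw [show Fintype.card (Function.fixedPoints f) = 1 by convert hone, ← Nat.card_eq_fintype_card] at hmod
  have hdvd : Nat.card U ∣ 2 ^ (2 * m) := card_Fl F.one_le ▸ AddSubgroup.card_addSubgroup_dvd_card U
  obtain ⟨j, hj, hjc⟩ := (Nat.dvd_prime_pow Nat.prime_two).mp hdvd
  have hj1 : 1 ≤ j := by
    by_contra h0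
    obtain rfl : j = 0 := by omega
    rw [pow_zero] at hjc
    exact hu0 (congrArg Subtype.val ((Nat.card_eq_one_iff_unique.mp hjc).1.elim (⟨u, hu⟩ : U) 0))
  rw [hjc] at hmod
  have hjj : j = 2 * m := le_antisymm hj (two_pow_order hj1 hmod)
  exact AddSubgroup.eq_top_of_card_eq _ (by rw [hjc, hjj, card_Fl F.one_le])

/-- `V` carries an action of the field for which all coordinates are linear. -/
theorem exists_smul (s : Fl m) (x : V) : ∃ x', ∀ d, d ≠ 0 → F.ψ d x' = s * F.ψ d x := by
  let U : AddSubgroup (Fl m) :=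
    { carrier := {s | ∀ x, ∃ x', ∀ d, d ≠ 0 → F.ψ d x' = s * F.ψ d x}
      zero_mem' := fun x => ⟨0, fun d _ => by rw [map_zero, zero_mul]⟩
      add_mem' := fun {s t} hs ht x => by
        obtain ⟨y, hy⟩ := hs x
        obtain ⟨z, hz⟩ := ht x
        exact ⟨y + z, fun d hd => by rw [map_add, hy d hd, hz d hd, add_mul]⟩
      neg_mem' := fun {s} hs x => by
        obtain ⟨y, hy⟩ := hs x
        exact ⟨-y, fun d hd => by rw [map_neg, hy d hd, neg_mul]⟩ }
  have h1 : (1 : Fl m) ∈ U := fun x => ⟨x, fun d _ => (one_mul _).symm⟩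
  have htop := F.eq_top U h1 one_ne_zero fun v hv x => by
    obtain ⟨y, hy⟩ := hv x
    exact ⟨F.T y, fun d hd => by rw [F.equiv d hd, hy d hd, mul_assoc]⟩
  exact (htop ▸ AddSubgroup.mem_top s : s ∈ U) x

theorem ker_eq_of_le {d e : Δ} (hd : d ≠ 0) (he : e ≠ 0) (hle : (F.ψ d).ker ≤ (F.ψ e).ker) :
    (F.ψ d).ker = (F.ψ e).ker := by
  refine le_antisymm hle fun x hx => ?_
  rw [AddMonoidHom.mem_ker] at hx ⊢
  by_contra h0
  obtain ⟨y, hy⟩ := F.surj e he 1
  obtain ⟨x', hx'⟩ := F.exists_smul (F.ψ d y / F.ψ d x) x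
  have hk : y - x' ∈ (F.ψ d).ker := by
    rw [AddMonoidHom.mem_ker, map_sub, hx' d hd, div_mul_cancel₀ _ h0, sub_self]
  have h2 := hle hk
  rw [AddMonoidHom.mem_ker, map_sub, hx' e he, hx, mul_zero, sub_zero, hy] at h2
  exact one_ne_zero h2

/-- Two different coordinates are jointly surjective. -/
theorem pair_surj {d e : Δ} (hd : d ≠ 0) (he : e ≠ 0) (hne : (F.ψ d).ker ≠ (F.ψ e).ker) (p q : Fl m) :
    ∃ x, F.ψ d x = p ∧ F.ψ e x = q := by
  have h1 : ∃ y, F.ψ e y = 0 ∧ F.ψ d y ≠ 0 := by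
    by_contra h
    push Not at h
    exact hne (F.ker_eq_of_le he hd fun y hy => h y hy).symm
  have h2 : ∃ y, F.ψ d y = 0 ∧ F.ψ e y ≠ 0 := by
    by_contra h
    push Not at h
    exact hne (F.ker_eq_of_le hd he fun y hy => h y hy)
  obtain ⟨y, hy, hy'⟩ := h1
  obtain ⟨z, hz, hz'⟩ := h2
  obtain ⟨y1, hy1⟩ := F.exists_smul (p / F.ψ d y) y
  obtain ⟨z1, hz1⟩ := F.exists_smul (q / F.ψ e z) z
  exact ⟨y1 + z1, by rw [map_add, hy1 d hd, hz1 d hd, hz, mul_zero, add_zero, div_mul_cancel₀ _ hy'],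
    by rw [map_add, hy1 e he, hz1 e he, hy, mul_zero, zero_add, div_mul_cancel₀ _ hz']⟩

/-- The sesquilinear form of a coordinate. -/
noncomputable def form (d : Δ) (x y : V) : Fl m := F.κ * F.ψ d x * conj m (F.ψ d y)

theorem form_swap (d : Δ) (x y : V) : conj m (F.form d x y) = F.form d y x := by
  simp only [form, map_mul, F.kappa_conj, conj_conj F.one_le]
  ring

theorem form_det (d : Δ) (x y : V) :
    F.form d x x * F.form d y y + F.form d x y * F.form d y x = 0 := by
  rw [show F.form d x y * F.form d y x = F.form d x x * F.form d y y by simp only [form]; ring]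
  exact CharTwo.add_self_eq_zero _

variable [Finite Δ]

theorem exists_pair : ∃ p : Δ × Δ, p.1 ≠ 0 ∧ p.2 ≠ 0 ∧ p.1 ≠ p.2 := by
  classical
  haveI := Fintype.ofFinite Δ
  have h4 := F.card
  rw [Nat.card_eq_fintype_card] at h4
  obtain ⟨d, hd⟩ := Fintype.exists_ne_of_one_lt_card (by omega) (0 : Δ)
  by_contra h
  push Not at h
  have hsub : (Finset.univ : Finset Δ) ⊆ {0, d} := fun x _ => by
    rw [Finset.mem_insert, Finset.mem_singleton]
    by_contra hx
    push Not at hx
    exact hx.2 (h (d, x) hd hx.1).symm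
  have := (Finset.card_le_card hsub).trans Finset.card_le_two
  rw [Finset.card_univ] at this
  omega

/-- The common sum over a line. -/
noncomputable def base (x y : V) : Fl m :=
  F.form F.exists_pair.choose.1 x y + F.form F.exists_pair.choose.2 x y +
    F.form (F.exists_pair.choose.1 + F.exists_pair.choose.2) x y

theorem base_eq {d e : Δ} (hd : d ≠ 0) (he : e ≠ 0) (hde : d ≠ e) (x y : V) :
    F.base x y = F.form d x y + F.form e x y + F.form (d + e) x y :=
  F.line _ _ d e F.exists_pair.choose_spec.1 F.exists_pair.choose_spec.2.1 F.exists_pair.choose_spec.2.2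
    hd he hde x y

theorem base_swap (x y : V) : conj m (F.base x y) = F.base y x := by
  simp only [base, map_add, F.form_swap]

theorem add_ne {d e : Δ} (hde : d ≠ e) : d + e ≠ 0 := fun h => hde (by
  rw [add_eq_zero_iff_eq_neg] at h
  rw [h]; exact (eq_neg_of_add_eq_zero_left (F.torsion e)).symm)

open Classical in
/-- The additive family. -/
noncomputable def lin (x y : V) : Δ →+ Fl m where
  toFun d := if d = 0 then 0 else F.form d x y + F.base x y
  map_zero' := if_pos rfl
  map_add' d e := by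
    by_cases hd : d = 0
    · simp [hd]
    by_cases he : e = 0
    · simp [he]
    by_cases hde : d = e
    · subst hde
      rw [if_pos (F.torsion d), CharTwo.add_self_eq_zero]
    · rw [if_neg (F.add_ne hde), if_neg hd, if_neg he]
      linear_combination -F.base_eq hd he hde x y
        - (F.form d x y + F.form e x y) * (CharTwo.two_eq_zero (R := Fl m))

theorem lin_apply {d : Δ} (hd : d ≠ 0) (x y : V) : F.lin x y d = F.form d x y + F.base x y := if_neg hd

theorem form_eq_lin {d : Δ} (hd : d ≠ 0) (x y : V) : F.form d x y = F.lin x y d + F.base x y := by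
  rw [F.lin_apply hd, add_assoc, CharTwo.add_self_eq_zero, add_zero]

theorem lin_real (x : V) (d : Δ) : conj m (F.lin x x d) = F.lin x x d := by
  by_cases hd : d = 0
  · simp [hd]
  · rw [F.lin_apply hd, map_add, F.form_swap, F.base_swap]

theorem exists_add_eq {f : Δ} (hf : f ≠ 0) : ∃ d e, d ≠ 0 ∧ e ≠ 0 ∧ d ≠ e ∧ d + e = f := by
  obtain ⟨⟨a, b⟩, ha, hb, hab⟩ := F.exists_pair
  obtain ⟨d, hd, hdf⟩ : ∃ d, d ≠ 0 ∧ d ≠ f := by
    by_cases h : a = f
    · exact ⟨b, hb, fun e => hab (h.trans e.symm)⟩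
    · exact ⟨a, ha, h⟩
  refine ⟨d, d + f, hd, F.add_ne hdf, fun e => hf ?_, by rw [← add_assoc, F.torsion, zero_add]⟩
  exact left_eq_add.mp e

/-- At a vector where the forms differ the additive family takes every real value. -/
theorem lin_surj {x : V} (hne : ∃ d e, d ≠ 0 ∧ e ≠ 0 ∧ F.form d x x ≠ F.form e x x) {w : Fl m}
    (hw : conj m w = w) : ∃ d, F.lin x x d = w := by
  by_contra hall
  push Not at hall
  obtain ⟨ν, hν0, hνc, hν⟩ := exists_t0_annihilator F.one_le (F.lin x x).range hw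
    (fun ⟨d, hd⟩ => hall d hd)
  obtain ⟨s, hs⟩ := (Finite.injective_iff_surjective.mp (frobenius (Fl m) 2).injective) ν
  rw [frobenius_def] at hs
  have hsc : conj m s = s := (frobenius (Fl m) 2).injective (by
    rw [frobenius_def, frobenius_def, ← map_pow, hs, hνc])
  obtain ⟨x', hx'⟩ := F.exists_smul s x
  have hq : ∀ d, d ≠ 0 → F.κ * F.ψ d x' * conj m (F.ψ d x') = ν * F.form d x x := fun d hd => by
    rw [hx' d hd, map_mul, hsc, form, ← hs]; ring
  obtain ⟨d, e, hd, he, hde⟩ := hne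
  refine hde (mul_left_cancel₀ hν0 ?_)
  rw [← hq d hd, ← hq e he]
  refine F.scale x' (fun d e hd he => ?_) d e hd he
  rw [hq d hd, hq e he, F.form_eq_lin hd, F.form_eq_lin he, mul_add, mul_add, map_add, map_add,
    hν _ ⟨d, rfl⟩ (F.lin_real x d), hν _ ⟨e, rfl⟩ (F.lin_real x e)]

theorem card_le_of_injective {x : V} (h : Function.Injective (F.lin x x)) : Nat.card Δ ≤ 2 ^ m := by
  rw [← card_fixedField F.one_le]
  exact Nat.card_le_card_of_injective (fun d => (⟨F.lin x x d, F.lin_real x d⟩ : {w : Fl m // conj m w = w}))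
    fun d e hde => h (congrArg Subtype.val hde)

theorem const_of_eq (hle : Nat.card Δ ≤ 2 ^ m) {d e : Δ} (hd : d ≠ 0) (he : e ≠ 0) (hde : d ≠ e) {x : V}
    (h : F.form d x x = F.form e x x) {f : Δ} (hf : f ≠ 0) : F.form f x x = F.form d x x := by
  by_contra hne
  let g : Δ → {w : Fl m // conj m w = w} := fun d => ⟨F.lin x x d, F.lin_real x d⟩
  have hsurj : Function.Surjective g := fun ⟨w, hw⟩ => by
    obtain ⟨d', hd'⟩ := F.lin_surj ⟨f, d, hf, hd, hne⟩ hw
    exact ⟨d', Subtype.ext hd'⟩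
  have hbij : Function.Bijective g := by
    refine (Nat.bijective_iff_surjective_and_card g).mpr ⟨hsurj, ?_⟩
    refine le_antisymm ?_ (Nat.card_le_card_of_surjective g hsurj)
    rw [card_fixedField F.one_le]; exact hle
  refine F.add_ne hde (hbij.1 (Subtype.ext ?_))
  show F.lin x x (d + e) = F.lin x x 0
  rw [map_add, map_zero, F.lin_apply hd, F.lin_apply he, h, CharTwo.add_self_eq_zero]

/-- The common sum has rank at most one. -/
theorem base_det (h5 : 4 < Nat.card Δ) (x y : V) :
    F.base x x * F.base y y + F.base x y * F.base y x = 0 := by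
  classical
  haveI := Fintype.ofFinite Δ
  obtain ⟨⟨d, e⟩, hd, he, hde⟩ := F.exists_pair
  obtain ⟨f, -, hf⟩ : ∃ f ∈ (Finset.univ : Finset Δ), f ∉ ({0, d, e, d + e} : Finset Δ) :=
    Finset.exists_mem_notMem_of_card_lt_card (by
      rw [Finset.card_univ, ← Nat.card_eq_fintype_card]
      exact lt_of_le_of_lt Finset.card_le_four h5)
  simp only [Finset.mem_insert, Finset.mem_singleton, not_or] at hf
  obtain ⟨hf0, hfd, hfe, hfde⟩ := hf
  have hu : ∀ g, g ≠ 0 → (F.base x x + F.lin x x g) * (F.base y y + F.lin y y g) +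
      (F.base x y + F.lin x y g) * (F.base y x + F.lin y x g) = 0 := fun g hg => by
    rw [add_comm (F.base x x), add_comm (F.base y y), add_comm (F.base x y), add_comm (F.base y x),
      ← F.form_eq_lin hg, ← F.form_eq_lin hg, ← F.form_eq_lin hg, ← F.form_eq_lin hg]
    exact F.form_det g x y
  have h1 := hu d hd
  have h2 := hu e he
  have h3 := hu f hf0
  have h12 := hu (d + e) (F.add_ne hde)
  have h13 := hu (d + f) (F.add_ne (Ne.symm hfd))
  have h23 := hu (e + f) (F.add_ne (Ne.symm hfe))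
  have h123 := hu (d + e + f) (F.add_ne (Ne.symm hfde))
  simp only [map_add] at h12 h13 h23 h123
  exact det_identity (CharTwo.two_eq_zero (R := Fl m)) _ _ _ _ _ _ _ _ _ _ _ _ _ _ _ _
    h1 h2 h3 h12 h13 h23 h123

/-- Two different coordinates together separate the points. -/
theorem inter_ker (h5 : 4 < Nat.card Δ) {d e : Δ} (hd : d ≠ 0) (he : e ≠ 0)
    (hne : (F.ψ d).ker ≠ (F.ψ e).ker) {z : V} (hzd : F.ψ d z = 0) (hze : F.ψ e z = 0) : z = 0 := by
  classical
  haveI := Fintype.ofFinite Δ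
  have hde : d ≠ e := fun h => hne (by rw [h])
  have hform : ∀ g h k : Δ, g ≠ 0 → h ≠ 0 → k ≠ 0 → g + h + k ≠ 0 → ∀ x y,
      F.form (g + h + k) x y = F.form g x y + F.form h x y + F.form k x y := by
    intro g h k hg hh hk hs x y
    rw [F.form_eq_lin hs, map_add, map_add, F.lin_apply hg, F.lin_apply hh, F.lin_apply hk]
    linear_combination (2 * F.base x y) * (CharTwo.two_eq_zero (R := Fl m))
  have key : ∀ f, f ≠ 0 → f ≠ d + e → F.ψ f z = 0 := by
    intro f hf hfde
    by_contra h0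
    have hs : d + e + f ≠ 0 := F.add_ne (Ne.symm hfde)
    obtain ⟨a, ha, ha'⟩ := F.pair_surj hd he hne 1 0
    obtain ⟨b, hb, hb'⟩ := F.pair_surj hd he hne 0 1
    obtain ⟨za, hza⟩ := F.exists_smul (F.ψ f a / F.ψ f z) z
    obtain ⟨zb, hzb⟩ := F.exists_smul (F.ψ f b / F.ψ f z) z
    set x := a - za
    set y := b - zb
    have x1 : F.ψ d x = 1 := by rw [map_sub, ha, hza d hd, hzd, mul_zero, sub_zero]
    have x2 : F.ψ e x = 0 := by rw [map_sub, ha', hza e he, hze, mul_zero, sub_zero]
    have x3 : F.ψ f x = 0 := by rw [map_sub, hza f hf, div_mul_cancel₀ _ h0, sub_self]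
    have y1 : F.ψ d y = 0 := by rw [map_sub, hb, hzb d hd, hzd, mul_zero, sub_zero]
    have y2 : F.ψ e y = 1 := by rw [map_sub, hb', hzb e he, hze, mul_zero, sub_zero]
    have y3 : F.ψ f y = 0 := by rw [map_sub, hzb f hf, div_mul_cancel₀ _ h0, sub_self]
    have hxx := hform d e f hd he hf hs x x
    have hyy := hform d e f hd he hf hs y y
    have hxy := hform d e f hd he hf hs x y
    simp only [form, x1, x2, x3, y1, y2, y3, map_one, map_zero, mul_one, mul_zero, add_zero,
      zero_add] at hxx hyy hxy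
    rcases mul_eq_zero.mp hxy with h | h
    · rcases mul_eq_zero.mp h with h | h
      · exact F.kappa_ne h
      · exact F.kappa_ne (by rw [← hxx, h, mul_zero, zero_mul])
    · exact F.kappa_ne (by rw [← hyy, h, mul_zero])
  refine F.sep z fun f hf => ?_
  by_cases hfde : f = d + e
  · obtain ⟨g, -, hg⟩ : ∃ g ∈ (Finset.univ : Finset Δ), g ∉ ({0, d, e, d + e} : Finset Δ) :=
      Finset.exists_mem_notMem_of_card_lt_card (by
        rw [Finset.card_univ, ← Nat.card_eq_fintype_card]
        exact lt_of_le_of_lt Finset.card_le_four h5)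
    simp only [Finset.mem_insert, Finset.mem_singleton, not_or] at hg
    obtain ⟨hg0, hgd, hge, hgde⟩ := hg
    have heg : e + g ≠ 0 := F.add_ne (Ne.symm hge)
    have hsum : g + d + (e + g) = f := by
      rw [hfde, show g + d + (e + g) = d + e + (g + g) by abel, F.torsion, add_zero]
    have hz := hform g d (e + g) hg0 hd heg (hsum.symm ▸ hf) z z
    rw [hsum] at hz
    have e1 : F.ψ g z = 0 := key g hg0 hgde
    have e2 : F.ψ (e + g) z = 0 := key (e + g) heg fun h => hgd (by rw [add_comm d e] at h; exact add_left_cancel h)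
    simp only [form, e1, e2, hzd, map_zero, mul_zero, add_zero] at hz
    rcases mul_eq_zero.mp hz with h | h
    · exact (mul_eq_zero.mp h).resolve_left F.kappa_ne
    · exact (map_eq_zero (conj m)).mp h
  · exact key f hf hfde

/-- Two different kernels bound the index group. -/
theorem card_le_of_ne {d e : Δ} (hd : d ≠ 0) (he : e ≠ 0) (hne : (F.ψ d).ker ≠ (F.ψ e).ker) :
    Nat.card Δ ≤ 2 ^ m := by
  classical
  by_contra hlt
  push Not at hlt
  have h5 : 4 < Nat.card Δ := by
    rcases Nat.lt_or_ge m 2 with h | h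
    · have : m = 1 := by have := F.one_le; omega
      have := F.small this
      have := F.card
      omega
    · exact lt_of_le_of_lt (Nat.pow_le_pow_right (by norm_num) h : 2 ^ 2 ≤ 2 ^ m) hlt
  have hker : ∀ f g : Δ, f ≠ 0 → g ≠ 0 → (F.ψ f).ker ≠ (F.ψ g).ker → ∀ u, F.ψ f u = 0 → F.ψ g u = 0 → u = 0 :=
    fun f g hf hg h u => F.inter_ker h5 hf hg h
  -- values of the common sum
  have hbase : ∀ f g : Δ, f ≠ 0 → g ≠ 0 → f ≠ g → ∀ x x' y y' : V, ∀ s t : Fl m,
      (∀ k, k ≠ 0 → F.ψ k x' = s * F.ψ k x) → (∀ k, k ≠ 0 → F.ψ k y' = t * F.ψ k y) →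
      F.base x' y' = s * conj m t * F.base x y := by
    intro f g hf hg hfg x x' y y' s t hx hy
    rw [F.base_eq hf hg hfg, F.base_eq hf hg hfg]
    simp only [form, hx _ hf, hx _ hg, hx _ (F.add_ne hfg), hy _ hf, hy _ hg, hy _ (F.add_ne hfg), map_mul]
    ring
  obtain ⟨x1, h11, h12⟩ := F.pair_surj hd he hne 1 0
  obtain ⟨x2, h21, h22⟩ := F.pair_surj hd he hne 0 1
  have hde : d ≠ e := fun h => hne (by rw [h])
  -- a vector isotropic for the common sum
  obtain ⟨v, hv0, hv⟩ : ∃ v, v ≠ 0 ∧ F.base v v = 0 := by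
    by_cases hA : F.base x1 x1 = 0
    · exact ⟨x1, fun h => one_ne_zero (α := Fl m) (by rw [← h11, h, map_zero]), hA⟩
    · obtain ⟨y1, hy1⟩ := F.exists_smul (F.base x2 x1) x1
      obtain ⟨y2, hy2⟩ := F.exists_smul (F.base x1 x1) x2
      refine ⟨y1 + y2, fun h => hA ?_, ?_⟩
      · have := congrArg (F.ψ e) h
        rwa [map_add, hy1 e he, hy2 e he, h12, h22, mul_zero, mul_one, zero_add, map_zero] at this
      · have hexp : F.base (y1 + y2) (y1 + y2) =
            F.base y1 y1 + F.base y1 y2 + F.base y2 y1 + F.base y2 y2 := by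
          rw [F.base_eq hd he hde, F.base_eq hd he hde, F.base_eq hd he hde, F.base_eq hd he hde,
            F.base_eq hd he hde]
          simp only [form, map_add]
          ring
        rw [hexp, hbase d e hd he hde x1 y1 x1 y1 _ _ hy1 hy1, hbase d e hd he hde x1 y1 x2 y2 _ _ hy1 hy2,
          hbase d e hd he hde x2 y2 x1 y1 _ _ hy2 hy1, hbase d e hd he hde x2 y2 x2 y2 _ _ hy2 hy2,
          F.base_swap x1 x1, F.base_swap x2 x1]
        linear_combination (F.base x1 x1) * F.base_det h5 x1 x2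
          + (F.base x1 x1 * (F.base x1 x2 * F.base x2 x1)) * (CharTwo.two_eq_zero (R := Fl m))
  have hvd : ∀ f, f ≠ 0 → F.ψ f v ≠ 0 := by
    intro f hf hf0
    obtain ⟨g, hg, hfg⟩ : ∃ g, g ≠ 0 ∧ (F.ψ f).ker ≠ (F.ψ g).ker := by
      by_cases h : (F.ψ f).ker = (F.ψ d).ker
      · exact ⟨e, he, h ▸ hne⟩
      · exact ⟨d, hd, h⟩
    have hfg' : f ≠ g := fun h => hfg (by rw [h])
    have hgv : F.ψ g v ≠ 0 := fun h => hv0 (hker f g hf hg hfg v hf0 h)
    obtain ⟨y1, h1f, h1g⟩ := F.pair_surj hf hg hfg 1 0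
    obtain ⟨y2, h2f, h2g⟩ := F.pair_surj hf hg hfg 0 1
    have hB : F.base y2 y2 = 0 := by
      obtain ⟨v', hv'⟩ := F.exists_smul (F.ψ g v) y2
      have hvv : v = v' := sub_eq_zero.mp (hker f g hf hg hfg _
        (by rw [map_sub, hv' f hf, hf0, h2f, mul_zero, sub_zero])
        (by rw [map_sub, hv' g hg, h2g, mul_one, sub_self]))
      rw [hvv, hbase f g hf hg hfg' y2 v' y2 v' _ _ hv' hv'] at hv
      refine (mul_eq_zero.mp hv).resolve_left (mul_ne_zero hgv ?_)
      exact fun h => hgv ((map_eq_zero (conj m)).mp h)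
    have hdet := F.base_det h5 y1 y2
    rw [hB, mul_zero, zero_add] at hdet
    have hC : F.base y1 y2 = 0 := by
      rcases mul_eq_zero.mp hdet with h | h
      · exact h
      · rw [← F.base_swap y2 y1, h, map_zero]
    have hD : F.base y2 y1 = 0 := by rw [← F.base_swap y1 y2, hC, map_zero]
    -- the third point of the line
    have hfgd := F.form_det (f + g) y1 y2
    have hval : ∀ p q, F.form (f + g) p q = F.base p q + F.form f p q + F.form g p q := fun p q => by
      rw [F.base_eq hf hg hfg' p q]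
      linear_combination (- F.form f p q - F.form g p q) * (CharTwo.two_eq_zero (R := Fl m))
    rw [hval, hval, hval, hval, hB, hC, hD] at hfgd
    simp only [form, h1f, h1g, h2f, h2g, map_one, map_zero, mul_one, mul_zero, add_zero,
      zero_add] at hfgd
    have hA : F.base y1 y1 = F.κ := by
      have h := (mul_eq_zero.mp hfgd).resolve_right F.kappa_ne
      rwa [add_eq_zero_iff_eq_neg, CharTwo.neg_eq] at h
    -- hence the common sum is the form of `f`
    have heq : ∀ p q, F.base p q = F.form f p q := by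
      intro p q
      obtain ⟨p1, hp1⟩ := F.exists_smul (F.ψ f p) y1
      obtain ⟨p2, hp2⟩ := F.exists_smul (F.ψ g p) y2
      obtain ⟨q1, hq1⟩ := F.exists_smul (F.ψ f q) y1
      obtain ⟨q2, hq2⟩ := F.exists_smul (F.ψ g q) y2
      have hp : p = p1 + p2 := sub_eq_zero.mp (hker f g hf hg hfg _
        (by rw [map_sub, map_add, hp1 f hf, hp2 f hf, h1f, h2f, mul_one, mul_zero, add_zero, sub_self])
        (by rw [map_sub, map_add, hp1 g hg, hp2 g hg, h1g, h2g, mul_one, mul_zero, zero_add, sub_self]))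
      have hq : q = q1 + q2 := sub_eq_zero.mp (hker f g hf hg hfg _
        (by rw [map_sub, map_add, hq1 f hf, hq2 f hf, h1f, h2f, mul_one, mul_zero, add_zero, sub_self])
        (by rw [map_sub, map_add, hq1 g hg, hq2 g hg, h1g, h2g, mul_one, mul_zero, zero_add, sub_self]))
      have hexp : F.base (p1 + p2) (q1 + q2) =
          F.base p1 q1 + F.base p1 q2 + F.base p2 q1 + F.base p2 q2 := by
        rw [F.base_eq hf hg hfg', F.base_eq hf hg hfg', F.base_eq hf hg hfg', F.base_eq hf hg hfg',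
          F.base_eq hf hg hfg']
        simp only [form, map_add]
        ring
      conv_lhs => rw [hp, hq, hexp, hbase f g hf hg hfg' y1 p1 y1 q1 _ _ hp1 hq1,
        hbase f g hf hg hfg' y1 p1 y2 q2 _ _ hp1 hq2, hbase f g hf hg hfg' y2 p2 y1 q1 _ _ hp2 hq1,
        hbase f g hf hg hfg' y2 p2 y2 q2 _ _ hp2 hq2, hA, hB, hC, hD]
      simp only [form]
      ring
    obtain ⟨p, q, hpq⟩ := F.distinct g (f + g) hg (F.add_ne hfg') (fun h => hf (right_eq_add.mp h))
    refine hpq ?_
    show F.form g p q = F.form (f + g) p q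
    rw [hval, heq, CharTwo.add_self_eq_zero, zero_add]
  refine absurd (F.card_le_of_injective (x := v) ((injective_iff_map_eq_zero _).mpr fun f hf => ?_))
    (not_le.mpr hlt)
  by_contra hf0
  rw [F.lin_apply hf0, hv, add_zero, form] at hf
  rcases mul_eq_zero.mp hf with h | h
  · exact hvd f hf0 ((mul_eq_zero.mp h).resolve_left F.kappa_ne)
  · exact hvd f hf0 ((map_eq_zero (conj m)).mp h)

/-- All coordinates have the same kernel. -/
theorem ker_eq {d e : Δ} (hd : d ≠ 0) (he : e ≠ 0) : (F.ψ d).ker = (F.ψ e).ker := by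
  by_contra hne
  have hde : d ≠ e := fun h => hne (by rw [h])
  have hle := F.card_le_of_ne hd he hne
  obtain ⟨f, hf, hfd, hfe⟩ := F.blocks d e hd he hne
  have hm := F.one_le
  have hnorm : ∀ p : Fl m, p * conj m p = 1 → ∀ x, F.ψ d x = p → F.ψ e x = 1 →
      F.ψ f x * conj m (F.ψ f x) = 1 := by
    intro p hp x hx1 hx2
    have h1 : F.form d x x = F.κ := by rw [form, hx1, mul_assoc, hp, mul_one]
    have h2 : F.form e x x = F.κ := by rw [form, hx2, map_one, mul_one, mul_one]
    have h3 := F.const_of_eq hle hd he hde (h1.trans h2.symm) hf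
    rw [h1, form, mul_assoc] at h3
    exact mul_left_cancel₀ F.kappa_ne (h3.trans (mul_one _).symm)
  -- the third coordinate vanishes on the common kernel
  have hK : ∀ z, F.ψ d z = 0 → F.ψ e z = 0 → F.ψ f z = 0 := by
    intro z hzd hze
    by_contra h0
    obtain ⟨x, hx1, hx2⟩ := F.pair_surj hd he hne 1 1
    obtain ⟨z', hz'⟩ := F.exists_smul (F.ψ f x / F.ψ f z) z
    have := hnorm 1 (by rw [map_one, mul_one]) (x - z')
      (by rw [map_sub, hx1, hz' d hd, hzd, mul_zero, sub_zero])
      (by rw [map_sub, hx2, hz' e he, hze, mul_zero, sub_zero])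
    rw [map_sub, hz' f hf, div_mul_cancel₀ _ h0, sub_self, zero_mul] at this
    exact zero_ne_one this
  obtain ⟨y1, h11, h12⟩ := F.pair_surj hd he hne 1 0
  obtain ⟨y2, h21, h22⟩ := F.pair_surj hd he hne 0 1
  set α := F.ψ f y1 with hα
  set β := F.ψ f y2 with hβ
  have hform : ∀ x, F.ψ f x = F.ψ d x * α + F.ψ e x * β := by
    intro x
    obtain ⟨p1, hp1⟩ := F.exists_smul (F.ψ d x) y1
    obtain ⟨p2, hp2⟩ := F.exists_smul (F.ψ e x) y2
    have := hK (x - (p1 + p2))
      (by rw [map_sub, map_add, hp1 d hd, hp2 d hd, h11, h21, mul_one, mul_zero, add_zero, sub_self])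
      (by rw [map_sub, map_add, hp1 e he, hp2 e he, h12, h22, mul_one, mul_zero, zero_add, sub_self])
    rwa [map_sub, sub_eq_zero, map_add, hp1 f hf, hp2 f hf] at this
  have hω : F.ω * conj m F.ω = 1 := by rw [conj_apply, ← pow_succ', F.omega_pow]
  have hval : ∀ p : Fl m, p * conj m p = 1 →
      α * conj m α + β * conj m β + p * (α * conj m β) + conj m p * (conj m α * β) = 1 := by
    intro p hp
    obtain ⟨x, hx1, hx2⟩ := F.pair_surj hd he hne p 1
    have h := hnorm p hp x hx1 hx2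
    rw [hform, hx1, hx2, map_add, map_mul, map_mul, map_one] at h
    linear_combination h - (α * conj m α) * hp
  have e0 := hval 1 (by rw [map_one, mul_one])
  have e1 := hval F.ω hω
  have e2 := hval (F.ω * F.ω) (by
    rw [map_mul]; linear_combination (F.ω * conj m F.ω + 1) * hω)
  rw [map_one, one_mul, one_mul] at e0
  rw [map_mul] at e2
  set A := α * conj m β with hAdef
  set B := conj m α * β with hBdef
  have r1 : (F.ω - 1) * A + (conj m F.ω - 1) * B = 0 := by linear_combination e1 - e0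
  have r2 : (F.ω - 1) * F.ω * A + (conj m F.ω - 1) * conj m F.ω * B = 0 := by
    linear_combination e2 - e1
  have r3 : (F.ω - conj m F.ω) * ((F.ω - 1) * A) = 0 := by linear_combination r2 - conj m F.ω * r1
  have hA0 : A = 0 := by
    rcases mul_eq_zero.mp r3 with h | h
    · exfalso
      have hreal : conj m F.ω = F.ω := (sub_eq_zero.mp h).symm
      rw [hreal] at hω
      refine F.omega_ne (sub_eq_zero.mp (mul_self_eq_zero.mp ?_))
      linear_combination hω + (1 - F.ω) * (CharTwo.two_eq_zero (R := Fl m))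
    · exact (mul_eq_zero.mp h).resolve_left (sub_ne_zero.mpr F.omega_ne)
  rcases mul_eq_zero.mp hA0 with h | h
  · -- only `e` is left
    have hβ0 : β ≠ 0 := fun hb => by
      obtain ⟨x, hx⟩ := F.surj f hf 1
      rw [hform, h, hb, mul_zero, mul_zero, add_zero] at hx
      exact zero_ne_one hx
    refine hfe (le_antisymm (fun x hx => ?_) fun x hx => ?_) <;> rw [AddMonoidHom.mem_ker] at hx ⊢
    · rw [hform, h, mul_zero, zero_add] at hx
      exact (mul_eq_zero.mp hx).resolve_right hβ0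
    · rw [hform, h, hx, mul_zero, zero_mul, add_zero]
  · have hb : β = 0 := (map_eq_zero (conj m)).mp h
    have hα0 : α ≠ 0 := fun ha => by
      obtain ⟨x, hx⟩ := F.surj f hf 1
      rw [hform, ha, hb, mul_zero, mul_zero, add_zero] at hx
      exact zero_ne_one hx
    refine hfd (le_antisymm (fun x hx => ?_) fun x hx => ?_) <;> rw [AddMonoidHom.mem_ker] at hx ⊢
    · rw [hform, hb, mul_zero, add_zero] at hx
      exact (mul_eq_zero.mp hx).resolve_right hα0
    · rw [hform, hb, hx, mul_zero, zero_mul, add_zero]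

/-- **The coordinates are injective and indexed by the fixed field.** -/
theorem conclusion [Finite V] :
    (∀ d, d ≠ 0 → ∀ x, F.ψ d x = 0 → x = 0) ∧ Nat.card Δ = 2 ^ m ∧
    ∀ x y, (∀ d e, d ≠ 0 → e ≠ 0 →
        t0 m (F.κ * F.ψ d x * conj m (F.ψ d x)) + t0 m (F.κ * F.ψ e x * conj m (F.ψ e x)) =
          t0 m (F.κ * F.ψ d y * conj m (F.ψ d y)) + t0 m (F.κ * F.ψ e y * conj m (F.ψ e y))) →
      ∀ d, d ≠ 0 → F.κ * F.ψ d x * conj m (F.ψ d x) = F.κ * F.ψ d y * conj m (F.ψ d y) := by
  classical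
  have hm := F.one_le
  obtain ⟨⟨d0, e0⟩, hd0, he0, hde0⟩ := F.exists_pair
  have hinj : ∀ d, d ≠ 0 → ∀ x, F.ψ d x = 0 → x = 0 := fun d hd x hx => F.sep x fun e he => by
    have : x ∈ (F.ψ e).ker := F.ker_eq hd he ▸ (AddMonoidHom.mem_ker.mpr hx)
    exact this
  obtain ⟨x1, hx1⟩ := F.surj d0 hd0 1
  set u : Δ → Fl m := fun d => F.ψ d x1 with hu
  have hlin : ∀ d, d ≠ 0 → ∀ x, F.ψ d x = F.ψ d0 x * u d := by
    intro d hd x
    obtain ⟨x', hx'⟩ := F.exists_smul (F.ψ d0 x) x1
    have : x = x' := sub_eq_zero.mp (hinj d0 hd0 _ (by rw [map_sub, hx' d0 hd0, hx1, mul_one, sub_self]))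
    conv_lhs => rw [this, hx' d hd]
  have hform : ∀ d, d ≠ 0 → ∀ x y, F.form d x y = F.ψ d0 x * conj m (F.ψ d0 y) * F.form d x1 x1 := by
    intro d hd x y
    simp only [form, hlin d hd x, hlin d hd y, map_mul]
    ring
  have hbase : ∀ x y, F.base x y = F.ψ d0 x * conj m (F.ψ d0 y) * F.base x1 x1 := fun x y => by
    rw [F.base_eq hd0 he0 hde0, F.base_eq hd0 he0 hde0, hform _ hd0, hform _ he0,
      hform _ (F.add_ne hde0)]
    ring
  have hL : ∀ d x, F.lin x x d = F.ψ d0 x * conj m (F.ψ d0 x) * F.lin x1 x1 d := by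
    intro d x
    by_cases hd : d = 0
    · simp [hd]
    · rw [F.lin_apply hd, F.lin_apply hd, hform d hd x x, hbase x x]; ring
  have hLinj : Function.Injective (F.lin x1 x1) := (injective_iff_map_eq_zero _).mpr fun d hd => by
    by_contra h0
    obtain ⟨g, hg, hgd⟩ : ∃ g, g ≠ 0 ∧ g ≠ d := by
      by_cases h : d0 = d
      · exact ⟨e0, he0, fun e => hde0 (h.trans e.symm)⟩
      · exact ⟨d0, hd0, h⟩
    obtain ⟨p, q, hpq⟩ := F.distinct g (g + d) hg (F.add_ne hgd) (fun h => h0 (left_eq_add.mp h))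
    refine hpq ?_
    show F.form g p q = F.form (g + d) p q
    rw [hform g hg, hform _ (F.add_ne hgd), F.form_eq_lin hg x1 x1, F.form_eq_lin (F.add_ne hgd) x1 x1,
      map_add, hd, add_zero]
  have hne1 : ∃ d e, d ≠ 0 ∧ e ≠ 0 ∧ F.form d x1 x1 ≠ F.form e x1 x1 := by
    refine ⟨d0, e0, hd0, he0, fun h => hde0 (hLinj ?_)⟩
    rw [F.lin_apply hd0, F.lin_apply he0, h]
  have hcard : Nat.card Δ = 2 ^ m := by
    refine le_antisymm (F.card_le_of_injective hLinj) ?_
    rw [← card_fixedField hm]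
    refine Nat.card_le_card_of_surjective (fun d => (⟨F.lin x1 x1 d, F.lin_real x1 d⟩ :
      {w : Fl m // conj m w = w})) fun ⟨w, hw⟩ => ?_
    obtain ⟨d, hd⟩ := F.lin_surj hne1 hw
    exact ⟨d, Subtype.ext hd⟩
  refine ⟨hinj, hcard, fun x y h => ?_⟩
  set n := F.ψ d0 x * conj m (F.ψ d0 x) + F.ψ d0 y * conj m (F.ψ d0 y) with hn
  have hnc : conj m n = n := by
    rw [hn]
    simp only [map_add, map_mul, conj_conj hm]
    ring
  have hn0 : n = 0 := eq_zero_of_t0 hm hnc fun w hw => by
    obtain ⟨f, rfl⟩ := F.lin_surj hne1 hw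
    by_cases hf : f = 0
    · rw [hf, map_zero, mul_zero, map_zero]
    obtain ⟨d, e, hd, he, hde, rfl⟩ := F.exists_add_eq hf
    have h' := h d e hd he
    change t0 m (F.form d x x) + t0 m (F.form e x x) = t0 m (F.form d y y) + t0 m (F.form e y y) at h'
    rw [← map_add, ← map_add, ← sub_eq_zero, ← map_sub] at h'
    rw [← h', map_add, F.lin_apply hd, F.lin_apply he, hn, hform d hd x x, hform e he x x, hform d hd y y,
      hform e he y y]
    congr 1
    linear_combination (F.base x1 x1 * (F.ψ d0 x * conj m (F.ψ d0 x) + F.ψ d0 y * conj m (F.ψ d0 y))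
      + F.ψ d0 y * conj m (F.ψ d0 y) * (F.form d x1 x1 + F.form e x1 x1)) * (CharTwo.two_eq_zero (R := Fl m))
  intro d hd
  show F.form d x x = F.form d y y
  rw [hform d hd x x, hform d hd y y]
  rw [hn, add_eq_zero_iff_eq_neg, CharTwo.neg_eq] at hn0
  rw [hn0]

end Family

end Cfsg.Agent.Lib.ShultFlavell
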