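import Cfsg.Agent.Lib.ShultFlavell.CoordsDual
import Cfsg.Agent.Lib.ShultFlavell.Forms

/-!
The family of hermitian forms on `E / ctr E`, and the coordinates it gives.
-/

set_option autoImplicit false
set_option linter.style.haveILetI false
set_option linter.unusedSectionVars false

namespace Cfsg.Agent.Lib.ShultFlavell

open Module (End)
open scoped commutatorElement

universe u

variable {K : Type*} [Field K] {W : Type*} [AddCommGroup W] [Module K W]
variable {Y : Type u} [Group Y] [Finite Y]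
variable [IsAlgClosed K] [FiniteDimensional K W]
variable {ρ : Y →* End K W} {a : Y} {r p m q : ℕ} {G E : Subgroup Y}

theorem Moved.conj_mem_ctr_iff (h : Moved ρ a r E q) {c : Y} (hc : c ∈ Subgroup.normalizer (E : Set Y))
    {z : Y} : c * z * c⁻¹ ∈ ctr E ↔ z ∈ ctr E :=
  ⟨fun hz => by have := h.conj_ctr hc _ hz; rwa [show c⁻¹ * (c * z * c⁻¹) * c = z by group] at this,
    h.mem_ctr_conj hc⟩

theorem IsBit.cj_bit (h : Moved ρ a r E q) {c : Y} (hc : c ∈ Subgroup.normalizer (E : Set Y))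
    {f : Y → ZMod 2} (hf : IsBit E f) : IsBit E (cj c f) :=
  ⟨fun z hz => hf.out _ (mt (h.conj_mem_ctr_iff hc).mp hz), fun x hx y hy => by
    simp only [cj]
    rw [show c * (x * y) * c⁻¹ = c * x * c⁻¹ * (c * y * c⁻¹) by group,
      hf.add _ (h.mem_ctr_conj hc hx) _ (h.mem_ctr_conj hc hy)]⟩

theorem IsBit.cj_eq_self (h : Moved ρ a r E q) {c : Y} (hc : c ∈ Subgroup.normalizer (E : Set Y))
    {f : Y → ZMod 2} (hf : IsBit E f) (hz : ∀ z ∈ ctr E, c * z = z * c) : cj c f = f := by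
  funext z
  by_cases hzc : z ∈ ctr E
  · rw [cj_apply, hz z hzc, mul_inv_cancel_right]
  · rw [hf.out z hzc, cj_apply, hf.out _ (mt (h.conj_mem_ctr_iff hc).mp hzc)]

/-- The characters of the centre of `E` under an odd group commuting with `a`. -/
structure CoordFrame (ρ : Y →* End K W) (a : Y) (r : ℕ) (G E A : Subgroup Y) where
  f0 : Y → ZMod 2
  d1 : Y → ZMod 2
  χ : ctr E → K
  le : A ≤ ptH G E
  comm : ∀ c ∈ A, Commute c a
  odd : ∀ c ∈ A, ∃ k : ℕ, Odd k ∧ ∀ z ∈ ctr E, Commute (c ^ k) z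
  trans : ∀ z ∈ ctr E, z ∉ Zc G → ∀ z' ∈ ctr E, z' ∉ Zc G → ∃ c ∈ A, c * z * c⁻¹ * z'⁻¹ ∈ Zc G
  exc : Exc ρ a r E χ
  f0_bit : IsBit E f0
  f0_inv : ∀ c ∈ A, cj c f0 = f0
  d1_mem : d1 ∈ dualZ G E
  d1_ne : d1 ≠ 0
  bit_eq : bit χ = f0 + d1
  orbit : ∀ d ∈ dualZ G E, d ≠ 0 → ∃ c ∈ A, cj c d1 = d
  card_dvd : Nat.card (dualZ G E) - 1 ∣ Nat.card A

variable [Nontrivial W] [CharP K p]

theorem Ctx.cj_mem_dualZ (h : Ctx ρ a r p G) (hE : IsE a G E) {c : Y}
    (hc : c ∈ Subgroup.normalizer (E : Set Y)) {f : Y → ZMod 2} (hf : f ∈ dualZ G E) :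
    cj c f ∈ dualZ G E := by
  refine ⟨hf.1.cj_bit (hE.moved h) hc, fun z hz hzZ => ?_⟩
  rw [cj_apply, h.conj_Zc hzZ c]
  exact hf.2 z hz hzZ

theorem Ctx.exists_frame (h : Ctx ρ a r p G) (hE : IsE a G E) (hP : Prelim a G E) :
    ∃ A : Subgroup Y, Nonempty (CoordFrame ρ a r G E A) := by
  classical
  have hM := hE.moved h
  haveI := Fintype.ofFinite Y
  obtain ⟨A, hAH, hAa, hAodd, hAtr⟩ := hP.act
  have hN : ∀ c ∈ A, c ∈ Subgroup.normalizer (E : Set Y) := fun c hc => (hAH hc).2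
  have htr : ∀ z ∈ ctr E, z ∉ Zc G → ∀ z' ∈ ctr E, z' ∉ Zc G → ∃ c ∈ A, c * z * c⁻¹ * z'⁻¹ ∈ Zc G :=
    fun z hz hzZ z' hz' hz'Z => hAtr z (ctr_le_PZ hz) hzZ z' (ctr_le_PZ hz') hz'Z
  -- some character of an exceptional piece moves
  obtain ⟨χ, hexc, c1, hc1A, hc1⟩ : ∃ χ : ctr E → K, Exc ρ a r E χ ∧ ∃ c ∈ A, cj c (bit χ) ≠ bit χ := by
    by_contra hall
    push Not at hall
    have hcent : ∀ c ∈ A, ∀ z ∈ ctr E, c * z * c⁻¹ = z := by
      intro c hc z hz
      have hz' := hM.mem_ctr_conj (hN c hc) hz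
      have hu := mul_mem (inv_mem hz) hz'
      refine (inv_mul_eq_one.mp (hM.eq_one_of_pieces hu.1 fun χ w hw => ?_)).symm
      rcases hM.piece_cases χ with ht | he
      · exact ht _ hu.1 w hw
      · have e0 : bit χ (z⁻¹ * (c * z * c⁻¹)) = 0 := by
          have h1 := congrFun (hall χ he c hc) z
          rw [cj_apply] at h1
          rw [hM.bit_mul he.piece_ne rfl (inv_mem hz) hz', h1,
            inv_eq_of_mul_eq_one_right (hM.ctr_sq hz), CharTwo.add_self_eq_zero]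
        rw [mem_piece.mp hw ⟨_, hu⟩, (bit_eq_zero_iff hu).mp e0, one_smul]
    obtain ⟨y, hy, y', hy', hyZ, hy'Z, hne⟩ := hP.two
    obtain ⟨c, hc, hcy⟩ := hAtr y hy hyZ y' hy' hy'Z
    obtain ⟨v, hv, w, hw, rfl⟩ := (mem_PZ h).mp hy
    refine hne ?_
    rwa [show c * (v * w) * c⁻¹ = v * w by
      rw [show c * (v * w) * c⁻¹ = c * v * c⁻¹ * (c * w * c⁻¹) by group, hcent c hc v hv,
        h.conj_Zc hw c]] at hcy
  have hl : IsBit E (bit χ) := hM.isBit_bit rfl hexc.piece_ne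
  -- the fixed character
  let O1 : Finset (Y → ZMod 2) := (Finset.univ.filter fun c : Y => c ∈ A).image fun c => cj c (bit χ)
  have hO1 : ∀ f, f ∈ O1 ↔ ∃ c ∈ A, cj c (bit χ) = f := fun f => by simp [O1]
  have hO1bit : ∀ f ∈ O1, IsBit E f := by
    intro f hf
    obtain ⟨c, hc, rfl⟩ := (hO1 f).mp hf
    exact hl.cj_bit hM (hN c hc)
  have hodd1 : Odd O1.card := by
    have e : Set.range (fun c : A => cj (c : Y) (bit χ)) = (O1 : Set (Y → ZMod 2)) := by
      ext f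
      rw [Finset.mem_coe, hO1]
      exact ⟨fun ⟨c, hc⟩ => ⟨c, c.2, hc⟩, fun ⟨c, hc, he⟩ => ⟨⟨c, hc⟩, he⟩⟩
    have h1 := (card_cj_orbit A (bit χ)).2 fun c hc n hn => by
      obtain ⟨k, hk, hkz⟩ := hAodd c hc
      obtain ⟨j, hj⟩ := exists_pow_eq_self_of_coprime (x := c) (n := k)
        ((((Nat.coprime_two_right).mpr hk).pow_right n).coprime_dvd_right
          (orderOf_dvd_of_pow_eq_one hn))
      refine hl.cj_eq_self hM (hN c hc) fun z hz => ?_
      rw [← hj]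
      exact ((hkz z hz).pow_left j).eq
    rw [e, Nat.card_coe_set_eq, Set.ncard_coe_finset] at h1
    exact h1
  set f0 : Y → ZMod 2 := ∑ f ∈ O1, f with hf0
  have hf0bit : IsBit E f0 := IsBit.sum O1 hO1bit
  have hcl1 : ∀ c ∈ A, ∀ f ∈ O1, cj c f ∈ O1 := by
    intro c hc f hf
    obtain ⟨g, hg, rfl⟩ := (hO1 f).mp hf
    exact (hO1 _).mpr ⟨g * c, mul_mem hg hc, (cj_cj c g _).symm⟩
  have hf0inv : ∀ c ∈ A, cj c f0 = f0 := by
    intro c hc
    funext z
    rw [cj_apply, hf0, Finset.sum_apply, Finset.sum_apply]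
    exact Finset.sum_nbij' (fun f => cj c f) (fun f => cj c⁻¹ f) (fun f hf => hcl1 c hc f hf)
      (fun f hf => hcl1 _ (inv_mem hc) f hf) (fun f _ => cj_cancel c f) (fun f _ => cj_cancel' c f)
      (fun f _ => rfl)
  set d1 : Y → ZMod 2 := f0 + bit χ with hd1
  have hd1mem : d1 ∈ dualZ G E := by
    refine ⟨hf0bit.add' hl, fun z hz hzZ => ?_⟩
    have hsame : ∀ f ∈ O1, f z = bit χ z := by
      intro f hf
      obtain ⟨c, hc, rfl⟩ := (hO1 f).mp hf
      rw [cj_apply, h.conj_Zc hzZ c]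
    obtain ⟨k, hk⟩ := hodd1
    rw [hd1, Pi.add_apply, hf0, Finset.sum_apply, Finset.sum_congr rfl hsame, Finset.sum_const, hk,
      succ_nsmul, mul_nsmul, two_nsmul, CharTwo.add_self_eq_zero, nsmul_zero, zero_add,
      CharTwo.add_self_eq_zero]
  have hd1ne : d1 ≠ 0 := fun e => hc1 (by rw [← eq_of_add_eq_zero_fun e]; exact hf0inv c1 hc1A)
  have hbit : bit χ = f0 + d1 := by rw [hd1, ← add_assoc, add_self_fun, zero_add]
  -- the orbit
  let O : Finset (Y → ZMod 2) := (Finset.univ.filter fun c : Y => c ∈ A).image fun c => cj c d1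
  have hO : ∀ f, f ∈ O ↔ ∃ c ∈ A, cj c d1 = f := fun f => by simp [O]
  have horb : ∀ d ∈ dualZ G E, d ≠ 0 → ∃ c ∈ A, cj c d1 = d := fun d hd hd0 => (hO d).mp
    (dualZ_orbit (fun c hc z hz => hM.mem_ctr_conj (hN c hc) hz) htr O
      (fun f hf => by
        obtain ⟨c, hc, rfl⟩ := (hO f).mp hf
        exact h.cj_mem_dualZ hE (hN c hc) hd1mem)
      (fun c hc f hf => by
        obtain ⟨g, hg, rfl⟩ := (hO f).mp hf
        exact (hO _).mpr ⟨g * c, mul_mem hg hc, (cj_cj c g _).symm⟩)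
      ((hO d1).mpr ⟨1, one_mem A, cj_one d1⟩) hd1ne hd hd0)
  have hcard : Nat.card (dualZ G E) - 1 ∣ Nat.card A := by
    have e : Set.range (fun c : A => cj (c : Y) d1) = (dualZ G E : Set (Y → ZMod 2)) \ {0} := by
      ext f
      rw [Set.mem_sdiff, Set.mem_singleton_iff, SetLike.mem_coe]
      constructor
      · rintro ⟨c, rfl⟩
        refine ⟨h.cj_mem_dualZ hE (hN c c.2) hd1mem, fun e0 => hd1ne ?_⟩
        have e1 : cj ((c : Y)⁻¹) (cj (c : Y) d1) = cj ((c : Y)⁻¹) 0 := congrArg (cj _) e0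
        rwa [cj_cancel, cj_zero] at e1
      · rintro ⟨hf, hf0'⟩
        obtain ⟨c, hc, hce⟩ := horb f hf hf0'
        exact ⟨⟨c, hc⟩, hce⟩
    have h1 := (card_cj_orbit A d1).1
    rw [e, Nat.card_coe_set_eq, Set.ncard_sdiff_singleton_of_mem (zero_mem (dualZ G E)),
      ← Nat.card_coe_set_eq] at h1
    exact h1
  exact ⟨A, ⟨⟨f0, d1, χ, hAH, hAa, hAodd, htr, hexc, hf0bit, hf0inv, hd1mem, hd1ne, hbit, horb, hcard⟩⟩⟩

theorem Ctx.exists_two_dual (h : Ctx ρ a r p G) (hE : IsE a G E) (hP : Prelim a G E) :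
    ∃ d ∈ dualZ G E, ∃ e ∈ dualZ G E, d ≠ 0 ∧ e ≠ 0 ∧ d ≠ e := by
  have hM := hE.moved h
  obtain ⟨y, hy, y', hy', hyZ, hy'Z, hne⟩ := hP.two
  obtain ⟨u, hu, v, hv, rfl⟩ := (mem_PZ h).mp hy
  obtain ⟨u', hu', v', hv', rfl⟩ := (mem_PZ h).mp hy'
  have hsep : ∀ z ∈ ctr E, z ∉ Zc G → ∃ d ∈ dualZ G E, d z = 1 := by
    intro z hz hzZ
    by_contra hall
    push Not at hall
    exact hzZ (h.mem_Zc_of_dual hE hz fun d hd => (show ∀ t : ZMod 2, t ≠ 1 → t = 0 by decide) _ (hall d hd))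
  obtain ⟨d, hd, hdu⟩ := hsep u hu fun hz => hyZ (mul_mem hz hv)
  obtain ⟨d', hd', hdu'⟩ := hsep u' hu' fun hz => hy'Z (mul_mem hz hv')
  obtain ⟨d'', hd'', hduu⟩ := hsep (u * u') (mul_mem hu hu') fun hz => hne (by
    rw [show u * v * (u' * v')⁻¹ = u * (v * v'⁻¹) * u'⁻¹ by group,
      inv_eq_of_mul_eq_one_right (hM.ctr_sq hu'), mul_assoc, ← h.comm_Zc (mul_mem hv (inv_mem hv')) u',
      ← mul_assoc]
    exact mul_mem hz (mul_mem hv (inv_mem hv')))
  have h01 : ∀ {f : Y → ZMod 2} {z : Y}, f z = 1 → f ≠ 0 := fun hf e => by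
    rw [e] at hf; exact zero_ne_one hf
  by_cases e1 : d = d'
  · by_cases e2 : d = d''
    · exfalso
      rw [← e2, hd.1.add u hu u' hu', hdu, e1, hdu', CharTwo.add_self_eq_zero] at hduu
      exact zero_ne_one hduu
    · exact ⟨d, hd, d'', hd'', h01 hdu, h01 hduu, e2⟩
  · exact ⟨d, hd, d', hd', h01 hdu, h01 hdu', e1⟩

/-- The coordinates, given the classification of the families. -/
theorem Ctx.norm_data' (h : Ctx ρ a r p G) (hE : IsE a G E) (hP : Prelim a G E) (hr : r = 2 ^ m + 1)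
    (hconc : ∀ (Δ V : Type u) [AddCommGroup Δ] [AddCommGroup V] [Finite Δ] [Finite V] (F : Family m Δ V),
      (∀ d, d ≠ 0 → ∀ x, F.ψ d x = 0 → x = 0) ∧ Nat.card Δ = 2 ^ m ∧
      ∀ x y, (∀ d e, d ≠ 0 → e ≠ 0 →
        t0 m (F.κ * F.ψ d x * conj m (F.ψ d x)) + t0 m (F.κ * F.ψ e x * conj m (F.ψ e x)) =
          t0 m (F.κ * F.ψ d y * conj m (F.ψ d y)) + t0 m (F.κ * F.ψ e y * conj m (F.ψ e y))) →
        ∀ d, d ≠ 0 → F.κ * F.ψ d x * conj m (F.ψ d x) = F.κ * F.ψ d y * conj m (F.ψ d y)) :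
    Nonempty (Norm a m G E) := by
  classical
  have hM := hE.moved h
  obtain ⟨A, ⟨F⟩⟩ := h.exists_frame hE hP
  obtain ⟨C⟩ := hM.exists_coord F.exc hr
  obtain ⟨d₀, hd₀, e₀, he₀, hd₀0, he₀0, hde₀⟩ := h.exists_two_dual hE hP
  have hm : 1 ≤ m := by
    obtain ⟨-, m', hm', hr'⟩ := h.fermat
    obtain rfl : m' = m := Nat.pow_right_injective le_rfl (by omega : 2 ^ m' = 2 ^ m)
    exact hm'
  have hp : (2 ^ m + 1).Prime := hr ▸ h.fpf.prime
  have hne := F.exc.piece_ne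
  have hN : ∀ c ∈ A, c ∈ Subgroup.normalizer (E : Set Y) := fun c hc => (F.le hc).2
  have hcE : ∀ c ∈ A, ∀ x ∈ E, c * x * c⁻¹ ∈ E := fun c hc x hx =>
    (Subgroup.mem_normalizer_iff.mp (hN c hc) x).mp hx
  have haE : ∀ x ∈ E, a * x * a⁻¹ ∈ E := fun x hx => (Subgroup.mem_normalizer_iff.mp hE.norm x).mp hx
  have hsqc : ∀ x ∈ E, x ^ 2 ∈ ctr E := fun x hx => hM.sq_mem_ctr hx
  -- the quotient by the centre
  set S := (ctr E).subgroupOf E with hSdef
  haveI hSn : S.Normal := (Subgroup.normal_subgroupOf_iff_le_normalizer inf_le_left).mpr fun e he =>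
    mem_normalizer_of_conj_mem fun z hz => by rwa [(mem_ctr.mp hz).2 e he, mul_inv_cancel_right]
  let Q := E ⧸ S
  have hQc : ∀ u v : Q, u * v = v * u := by
    intro u v
    obtain ⟨u, rfl⟩ := QuotientGroup.mk'_surjective _ u
    obtain ⟨v, rfl⟩ := QuotientGroup.mk'_surjective _ v
    rw [← map_mul, ← map_mul, QuotientGroup.mk'_apply, QuotientGroup.mk'_apply, QuotientGroup.eq,
      hSdef, Subgroup.mem_subgroupOf]
    simpa [commutatorElement_def, mul_assoc] using hM.comm_mem_ctr (inv_mem v.2) (inv_mem u.2)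
  letI : CommGroup Q := { (inferInstance : Group Q) with mul_comm := hQc }
  haveI : Finite Q := inferInstance
  haveI : Finite (Additive Q) := inferInstanceAs (Finite Q)
  let π : E → Additive Q := fun x => Additive.ofMul (QuotientGroup.mk x : Q)
  have hπ0 : ∀ x : E, π x = 0 ↔ (x : Y) ∈ ctr E := fun x => by
    show (QuotientGroup.mk x : Q) = 1 ↔ _
    rw [QuotientGroup.eq_one_iff, hSdef, Subgroup.mem_subgroupOf]
  have hπs : ∀ v : Additive Q, ∃ x : E, π x = v := fun v =>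
    (QuotientGroup.mk_surjective (v.toMul : Q)).imp fun _ e => congrArg Additive.ofMul e
  let Φ : ∀ g : Y, g ∈ A → (E →* Multiplicative (Fl m)) := fun g hg =>
    MonoidHom.mk' (fun x => Multiplicative.ofAdd (C.φ (g * x * g⁻¹))) fun x y => by
      rw [← ofAdd_add, Subgroup.coe_mul, show g * ((x : Y) * y) * g⁻¹ = g * x * g⁻¹ * (g * y * g⁻¹) by group,
        C.add _ (hcE g hg x x.2) _ (hcE g hg y y.2)]
  let Ψ : ∀ g : Y, g ∈ A → (Additive Q →+ Fl m) := fun g hg =>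
    MonoidHom.toAdditiveLeft (QuotientGroup.lift S (Φ g hg) fun x hx => MonoidHom.mem_ker.mpr <| by
      show Multiplicative.ofAdd (C.φ (g * x * g⁻¹)) = 1
      rw [(C.ker _ (hcE g hg x x.2)).mpr (ctr_le_rad (hM.mem_ctr_conj (hN g hg) (Subgroup.mem_subgroupOf.mp hx)))]
      rfl)
  have hgd : ∀ d : dualZ G E, ∃ g ∈ A, d ≠ 0 → cj g F.d1 = (d : Y → ZMod 2) := by
    intro d
    by_cases hd : d = 0
    · exact ⟨1, one_mem A, fun h0 => absurd hd h0⟩
    · obtain ⟨c, hc, e⟩ := F.orbit d d.2 fun e => hd (Subtype.ext e)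
      exact ⟨c, hc, fun _ => e⟩
  choose g hgA hg using hgd
  let P : dualZ G E → Y → Fl m := fun d x => C.φ (g d * x * (g d)⁻¹)
  have hPadd : ∀ d, ∀ x ∈ E, ∀ y ∈ E, P d (x * y) = P d x + P d y := fun d x hx y hy => by
    show C.φ _ = C.φ _ + C.φ _
    rw [← C.add _ (hcE _ (hgA d) x hx) _ (hcE _ (hgA d) y hy)]
    congr 1
    group
  have hPequiv : ∀ d, ∀ x ∈ E, P d (a * x * a⁻¹) = C.ω * P d x := fun d x hx => by
    show C.φ _ = _ * C.φ _
    rw [← C.equiv _ (hcE _ (hgA d) x hx)]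
    congr 1
    calc g d * (a * x * a⁻¹) * (g d)⁻¹ = (g d * a) * x * (g d * a)⁻¹ := by group
      _ = _ := by rw [(F.comm _ (hgA d)).eq]; group
  have hPsurj : ∀ d, ∀ t, ∃ x ∈ E, P d x = t := fun d t => by
    obtain ⟨x, hx, e⟩ := C.surj t
    refine ⟨(g d)⁻¹ * x * g d, (Subgroup.mem_normalizer_iff''.mp (hN _ (hgA d)) x).mp hx, ?_⟩
    show C.φ _ = t
    rw [← e]; congr 1; group
  let H : dualZ G E → Y → Y → Fl m := fun d x y => C.κ * P d x * conj m (P d y)
  -- the characters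
  have hlam : ∀ d : dualZ G E, d ≠ 0 → ∀ z, bit F.χ (g d * z * (g d)⁻¹) = F.f0 z + (d : Y → ZMod 2) z := by
    intro d hd z
    rw [F.bit_eq, Pi.add_apply, ← hg d hd, cj_apply]
    congr 1
    exact congrFun (F.f0_inv _ (hgA d)) z
  have hcomm : ∀ d : dualZ G E, d ≠ 0 → ∀ x ∈ E, ∀ y ∈ E,
      F.f0 ⁅x, y⁆ + (d : Y → ZMod 2) ⁅x, y⁆ = trF m (H d x y) := by
    intro d hd x hx y hy
    rw [← hlam d hd, show g d * ⁅x, y⁆ * (g d)⁻¹ = ⁅g d * x * (g d)⁻¹, g d * y * (g d)⁻¹⁆ by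
      simp [commutatorElement_def, mul_assoc]]
    exact C.comm _ (hcE _ (hgA d) x hx) _ (hcE _ (hgA d) y hy)
  have hsq : ∀ d : dualZ G E, d ≠ 0 → ∀ x ∈ E,
      F.f0 (x ^ 2) + (d : Y → ZMod 2) (x ^ 2) = t0 m (H d x x) := by
    intro d hd x hx
    rw [← hlam d hd, show g d * x ^ 2 * (g d)⁻¹ = (g d * x * (g d)⁻¹) ^ 2 by simp [sq, mul_assoc]]
    exact C.sq _ (hcE _ (hgA d) x hx)
  have hadd3 : ∀ d e : dualZ G E, d ≠ e → d + e ≠ 0 := fun d e hde e0 =>
    hde (Subtype.ext (eq_of_add_eq_zero_fun (congrArg Subtype.val e0)))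
  have hsum3 : ∀ (d e : dualZ G E) (z : Y), F.f0 z + (d : Y → ZMod 2) z + (F.f0 z + (e : Y → ZMod 2) z) +
      (F.f0 z + (d + e : dualZ G E).1 z) = F.f0 z := fun d e z =>
    (show ∀ s t t' : ZMod 2, s + t + (s + t') + (s + (t + t')) = s by decide) _ _ _
  set D₀ : dualZ G E := ⟨d₀, hd₀⟩ with hD₀
  set E₀ : dualZ G E := ⟨e₀, he₀⟩ with hE₀
  have hD0 : D₀ ≠ 0 := fun e => hd₀0 (congrArg Subtype.val e)
  have hE0 : E₀ ≠ 0 := fun e => he₀0 (congrArg Subtype.val e)
  have hDE : D₀ ≠ E₀ := fun e => hde₀ (congrArg Subtype.val e)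
  -- two elements with the same values
  have hf0eq : ∀ z z' : Y, (∀ d : dualZ G E, d ≠ 0 →
      F.f0 z + (d : Y → ZMod 2) z = F.f0 z' + (d : Y → ZMod 2) z') →
      F.f0 z = F.f0 z' ∧ ∀ d : dualZ G E, d ≠ 0 → (d : Y → ZMod 2) z = (d : Y → ZMod 2) z' := by
    intro z z' hzz
    have e0 : F.f0 z = F.f0 z' := by
      rw [← hsum3 D₀ E₀ z, ← hsum3 D₀ E₀ z', hzz D₀ hD0, hzz E₀ hE0, hzz _ (hadd3 _ _ hDE)]
    exact ⟨e0, fun d hd => by have := hzz d hd; rwa [e0, add_right_inj] at this⟩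
  have hone : ∀ z ∈ ctr E, (∀ d : dualZ G E, d ≠ 0 → F.f0 z + (d : Y → ZMod 2) z = 0) → z = 1 := by
    intro z hz hz0
    have h1 := hf0eq z 1 fun d hd => by rw [hz0 d hd, F.f0_bit.one, d.2.1.one, add_zero]
    have hd : ∀ d : dualZ G E, (d : Y → ZMod 2) z = 0 := fun d => by
      by_cases hd : d = 0
      · rw [hd]; rfl
      · rw [h1.2 d hd, d.2.1.one]
    refine hM.eq_one_of_pieces hz.1 fun χ w hw => ?_
    rcases eq_or_ne w 0 with rfl | hw0
    · exact map_zero _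
    have hne' : piece ρ E χ ≠ ⊥ := fun e => hw0 ((Submodule.mem_bot K).mp (e ▸ hw))
    have h2 : (bit χ + bit F.χ) z = 0 := hd ⟨_, h.bit_add_mem hE hne' hne⟩
    rw [Pi.add_apply, F.bit_eq, Pi.add_apply, h1.1, F.f0_bit.one, (show F.d1 z = 0 from hd ⟨_, F.d1_mem⟩), add_zero, add_zero] at h2
    rw [mem_piece.mp hw ⟨z, hz⟩, (bit_eq_zero_iff hz).mp h2, one_smul]
  -- the operator
  let cE : E →* E :=
    { toFun := fun y => ⟨a * y * a⁻¹, haE y y.2⟩
      map_one' := Subtype.ext (by simp)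
      map_mul' := fun y z => Subtype.ext (by simp [mul_assoc]) }
  let T : Additive Q →+ Additive Q := MonoidHom.toAdditive (QuotientGroup.map S S cE fun y hy => by
    rw [Subgroup.mem_comap, hSdef, Subgroup.mem_subgroupOf]
    rw [hSdef, Subgroup.mem_subgroupOf] at hy
    exact hM.mem_ctr_conj hE.norm hy)
  -- the radicals
  let R : (Y → ZMod 2) → Set Y := fun f => {x | x ∈ E ∧ ∀ y ∈ E, F.f0 ⁅x, y⁆ + f ⁅x, y⁆ = 0}
  have hker : ∀ d : dualZ G E, d ≠ 0 → ∀ x ∈ E, P d x = 0 ↔ x ∈ R d := by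
    intro d hd x hx
    rw [C.ker _ (hcE _ (hgA d) x hx), hM.mem_rad_iff_bit hne (hcE _ (hgA d) x hx)]
    constructor
    · intro hb
      refine ⟨hx, fun y hy => ?_⟩
      rw [← hlam d hd, show g d * ⁅x, y⁆ * (g d)⁻¹ = ⁅g d * x * (g d)⁻¹, g d * y * (g d)⁻¹⁆ by
        simp [commutatorElement_def, mul_assoc]]
      exact hb _ (hcE _ (hgA d) y hy)
    · rintro ⟨-, hb⟩ y hy
      have hy' : (g d)⁻¹ * y * g d ∈ E := (Subgroup.mem_normalizer_iff''.mp (hN _ (hgA d)) y).mp hy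
      have := hb _ hy'
      rwa [← hlam d hd, show g d * ⁅x, (g d)⁻¹ * y * g d⁆ * (g d)⁻¹ = ⁅g d * x * (g d)⁻¹, y⁆ by
        simp [commutatorElement_def, mul_assoc]] at this
  have hsep : ∀ x ∈ E, (∀ d : dualZ G E, d ≠ 0 → P d x = 0) → x ∈ ctr E := by
    intro x hx hx0
    refine mem_ctr.mpr ⟨hx, fun y hy => ?_⟩
    exact (commutatorElement_eq_one_iff_mul_comm.mp (hone _ (hM.comm_mem_ctr hx hy) fun d hd =>
      ((hker d hd x hx).mp (hx0 d hd)).2 y hy)).symm
  have hfam : ∃ Fm : Family m (dualZ G E) (Additive Q), Fm.κ = C.κ ∧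
      ∀ (d : dualZ G E) (x : E), Fm.ψ d (π x) = P d x := by
    refine ⟨{ T := T, ω := C.ω, κ := C.κ, ψ := fun d => Ψ (g d) (hgA d), one_le := hm, prime := hp,
              omega_ne := C.omega_ne, omega_pow := C.omega_pow, kappa_ne := C.kappa_ne,
              kappa_conj := C.kappa_conj,
              torsion := fun d => Subtype.ext (add_self_fun _)
              card := ?_, small := ?_, equiv := ?_, surj := ?_, sep := ?_, distinct := ?_, line := ?_,
              scale := ?_, blocks := ?_ }, rfl, fun d x => rfl⟩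
    · -- card
      haveI := Fintype.ofFinite (dualZ G E)
      have h1 : ({0, D₀, E₀, D₀ + E₀} : Finset (dualZ G E)).card = 4 := by
        have e1 : D₀ + E₀ ≠ D₀ := fun e => hE0 (add_eq_left.mp e)
        have e2 : D₀ + E₀ ≠ E₀ := fun e => hD0 (add_eq_right.mp e)
        simp [hDE, Ne.symm hD0, Ne.symm hE0, (hadd3 _ _ hDE).symm, Ne.symm e1, Ne.symm e2]
      rw [Nat.card_eq_fintype_card, ← h1]
      exact Finset.card_le_univ _
    · -- small
      intro hm1 h4
      have h3 := F.card_dvd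
      rw [h4] at h3
      refine h.not_dvd (F.le.trans ptH_le) ?_
      rw [hr, hm1]
      exact h3
    · -- equiv
      intro d _ v
      obtain ⟨x, rfl⟩ := hπs v
      exact hPequiv d x x.2
    · -- surj
      intro d _ t
      obtain ⟨x, hx, e⟩ := hPsurj d t
      exact ⟨π ⟨x, hx⟩, e⟩
    · -- sep
      intro v hv
      obtain ⟨x, rfl⟩ := hπs v
      exact (hπ0 x).mpr (hsep x x.2 fun d hd => hv d hd)
    · -- distinct
      intro d e hd he hde
      by_contra hall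
      push Not at hall
      have heq : ∀ x ∈ E, ∀ y ∈ E, (d : Y → ZMod 2) ⁅x, y⁆ = (e : Y → ZMod 2) ⁅x, y⁆ := by
        intro x hx y hy
        have e1 := hcomm d hd x hx y hy
        have e2 := hcomm e he x hx y hy
        have e3 : H d x y = H e x y := hall (π ⟨x, hx⟩) (π ⟨y, hy⟩)
        rw [e3, ← e2, add_right_inj] at e1
        exact e1
      let U : Subgroup Y :=
        { carrier := {z | z ∈ ctr E ∧ (d : Y → ZMod 2) z = (e : Y → ZMod 2) z}
          one_mem' := ⟨one_mem _, by rw [d.2.1.one, e.2.1.one]⟩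
          mul_mem' := fun {u v} hu hv =>
            ⟨mul_mem hu.1 hv.1, by rw [d.2.1.add u hu.1 v hv.1, e.2.1.add u hu.1 v hv.1, hu.2, hv.2]⟩
          inv_mem' := fun {u} hu => by
            rw [inv_eq_of_mul_eq_one_right (hM.ctr_sq hu.1)]; exact hu }
      have hle : ctr E ≤ U := hM.ctr_eq.le.trans (Subgroup.commutator_le.mpr fun x hx y hy =>
        ⟨hM.comm_mem_ctr hx hy, heq x hx y hy⟩)
      refine hde (Subtype.ext (funext fun z => ?_))
      by_cases hz : z ∈ ctr E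
      · exact (hle hz).2
      · rw [d.2.1.out z hz, e.2.1.out z hz]
    · -- line
      intro d e d' e' hd he hde hd' he' hde' v w
      obtain ⟨x, rfl⟩ := hπs v
      obtain ⟨y, rfl⟩ := hπs w
      let D : Y → Fl m := fun x => H d x y + H e x y + H (d + e) x y +
        (H d' x y + H e' x y + H (d' + e') x y)
      have hD : ∀ x ∈ E, trF m (D x) = 0 := by
        intro x hx
        simp only [D, map_add, ← hcomm _ hd x hx y y.2, ← hcomm _ he x hx y y.2,
          ← hcomm _ (hadd3 _ _ hde) x hx y y.2, ← hcomm _ hd' x hx y y.2, ← hcomm _ he' x hx y y.2,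
          ← hcomm _ (hadd3 _ _ hde') x hx y y.2]
        rw [hsum3, hsum3, CharTwo.add_self_eq_zero]
      have hDω : ∀ x ∈ E, D (a * x * a⁻¹) = C.ω * D x := by
        intro x hx
        simp only [D, H, hPequiv _ x hx]
        ring
      let U : AddSubgroup (Fl m) :=
        { carrier := {v | ∀ x ∈ E, trF m (v * D x) = 0}
          add_mem' := fun {u v} hu hv x hx => by rw [add_mul, map_add, hu x hx, hv x hx, add_zero]
          zero_mem' := fun x _ => by rw [zero_mul, map_zero]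
          neg_mem' := fun {v} hv => by rwa [CharTwo.neg_eq] }
      have htop := C.eq_top_of_omega hp hm U (u := 1) (fun x hx => by rw [one_mul]; exact hD x hx) one_ne_zero
        fun v hv x hx => by
          rw [show C.ω * v * D x = v * (C.ω * D x) by ring, ← hDω x hx]
          exact hv _ (haE x hx)
      have h0 : D x = 0 := eq_zero_of_trF fun t => by
        rw [mul_comm (D x) t]
        exact (htop.symm ▸ AddSubgroup.mem_top t : t ∈ U) x x.2
      exact CharTwo.add_eq_zero.mp h0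
    · -- scale
      intro v hv d e hd he
      obtain ⟨x, rfl⟩ := hπs v
      have hsame : ∀ d e : dualZ G E, d ≠ 0 → e ≠ 0 →
          (d : Y → ZMod 2) ((x : Y) ^ 2) = (e : Y → ZMod 2) ((x : Y) ^ 2) := by
        intro d e hd he
        have e1 : t0 m (H d x x) = t0 m (H e x x) := hv d e hd he
        rwa [← hsq d hd x x.2, ← hsq e he x x.2, add_right_inj] at e1
      have hx2 : (x : Y) ^ 2 ∈ Zc G := h.mem_Zc_of_dual hE (hsqc x x.2) fun f hf => by
        by_cases hf0 : (⟨f, hf⟩ : dualZ G E) = 0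
        · rw [show f = 0 from congrArg Subtype.val hf0]; rfl
        · refine (hsame _ D₀ hf0 hD0).trans ?_
          have e1 := hsame _ E₀ (hadd3 _ _ hDE) hE0
          exact add_eq_right.mp e1
      let V : AddSubgroup (Fl m) :=
        { carrier := {t | ∀ i : ℕ, trF m (C.ω ^ i * t * (H d x x + H e x x)) = 0}
          add_mem' := fun {u v} hu hv i => by
            rw [show C.ω ^ i * (u + v) * (H d x x + H e x x) = C.ω ^ i * u * (H d x x + H e x x) +
              C.ω ^ i * v * (H d x x + H e x x) by ring, map_add, hu i, hv i, add_zero]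
          zero_mem' := fun i => by rw [mul_zero, zero_mul, map_zero]
          neg_mem' := fun {v} hv => by rwa [CharTwo.neg_eq] }
      have h1 : (1 : Fl m) ∈ V := fun i => by
        have hu : ∀ i : ℕ, a ^ i * (x : Y) * (a ^ i)⁻¹ ∈ E := fun i =>
          (Subgroup.mem_normalizer_iff.mp (Subgroup.pow_mem _ hE.norm i) _).mp x.2
        have hpow : ∀ (f : dualZ G E) (i : ℕ), P f (a ^ i * (x : Y) * (a ^ i)⁻¹) = C.ω ^ i * P f x := by
          intro f i
          induction i with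
          | zero => simp
          | succ i ih =>
            rw [show a ^ (i + 1) * (x : Y) * (a ^ (i + 1))⁻¹ = a * (a ^ i * x * (a ^ i)⁻¹) * a⁻¹ by
              rw [pow_succ']; group, hPequiv f _ (hu i), ih, pow_succ', mul_assoc]
        have hz : ⁅a ^ i * (x : Y) * (a ^ i)⁻¹, (x : Y)⁆ ∈ Zc G := by
          rw [← commutatorElement_inv]
          exact inv_mem (hP.scale x x.2 hx2 i)
        have key : ∀ f : dualZ G E, f ≠ 0 →
            trF m (C.ω ^ i * H f x x) = F.f0 ⁅a ^ i * (x : Y) * (a ^ i)⁻¹, (x : Y)⁆ := by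
          intro f hf
          rw [show C.ω ^ i * H f x x = H f (a ^ i * (x : Y) * (a ^ i)⁻¹) x by
            simp only [H, hpow]; ring, ← hcomm f hf _ (hu i) x x.2,
            f.2.2 _ (hM.comm_mem_ctr (hu i) x.2) hz, add_zero]
        rw [mul_one, mul_add, map_add, key d hd, key e he, CharTwo.add_self_eq_zero]
      have htop := C.eq_top_of_omega hp hm V h1 one_ne_zero fun t ht i => by
        rw [← mul_assoc, ← pow_succ]
        exact ht (i + 1)
      have h0 : H d x x + H e x x = 0 := eq_zero_of_trF fun t => by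
        have h2 := (htop.symm ▸ AddSubgroup.mem_top t : t ∈ V) 0
        rw [pow_zero, one_mul] at h2
        rwa [mul_comm (H d x x + H e x x) t]
      exact CharTwo.add_eq_zero.mp h0
    · -- blocks
      intro d e hd he hne'
      have hiff : ∀ d e : dualZ G E, d ≠ 0 → e ≠ 0 →
          ((Ψ (g d) (hgA d)).ker = (Ψ (g e) (hgA e)).ker ↔ R d = R e) := by
        intro d e hd he
        constructor
        · intro hk
          ext x
          by_cases hx : x ∈ E
          · rw [← hker d hd x hx, ← hker e he x hx]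
            exact AddSubgroup.ext_iff.mp hk (π ⟨x, hx⟩)
          · exact ⟨fun h1 => absurd h1.1 hx, fun h1 => absurd h1.1 hx⟩
        · intro hR
          ext v
          obtain ⟨x, rfl⟩ := hπs v
          show P d x = 0 ↔ P e x = 0
          rw [hker d hd x x.2, hker e he x x.2, hR]
      have hRc : ∀ c ∈ A, ∀ (f : Y → ZMod 2) (x : Y), x ∈ R (cj c f) ↔ c * x * c⁻¹ ∈ R f := by
        intro c hc f x
        have hf0c : ∀ z, F.f0 (c * z * c⁻¹) = F.f0 z := fun z => congrFun (F.f0_inv c hc) z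
        constructor
        · rintro ⟨hx, hb⟩
          refine ⟨hcE c hc x hx, fun y hy => ?_⟩
          have := hb _ ((Subgroup.mem_normalizer_iff''.mp (hN c hc) y).mp hy)
          rwa [cj_apply, ← hf0c ⁅x, c⁻¹ * y * c⁆,
            show c * ⁅x, c⁻¹ * y * c⁆ * c⁻¹ = ⁅c * x * c⁻¹, y⁆ by simp [commutatorElement_def, mul_assoc]] at this
        · rintro ⟨hx, hb⟩
          refine ⟨(Subgroup.mem_normalizer_iff.mp (hN c hc) x).mpr hx, fun y hy => ?_⟩
          rw [cj_apply, ← hf0c ⁅x, y⁆,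
            show c * ⁅x, y⁆ * c⁻¹ = ⁅c * x * c⁻¹, c * y * c⁻¹⁆ by simp [commutatorElement_def, mul_assoc]]
          exact hb _ (hcE c hc y hy)
      have hRmap : ∀ c ∈ A, ∀ f f' : Y → ZMod 2, R f = R f' → R (cj c f) = R (cj c f') := by
        intro c hc f f' hff
        ext x
        rw [hRc c hc f x, hRc c hc f' x, hff]
      by_contra hall
      push Not at hall
      have htwo : ∀ f : dualZ G E, f ≠ 0 → R f = R d ∨ R f = R e := by
        intro f hf
        by_cases h1 : (Ψ (g f) (hgA f)).ker = (Ψ (g d) (hgA d)).ker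
        · exact Or.inl ((hiff f d hf hd).mp h1)
        · exact Or.inr ((hiff f e hf he).mp (hall f hf h1))
      have hRne : R (d : Y → ZMod 2) ≠ R e := fun e1 => hne' ((hiff d e hd he).mpr e1)
      -- an element mapping `d` to `e`
      set c := (g d)⁻¹ * g e with hc_def
      have hcA : c ∈ A := mul_mem (inv_mem (hgA d)) (hgA e)
      have hce : cj c d = (e : Y → ZMod 2) := by
        rw [← hg d hd, cj_cj, hc_def, mul_inv_cancel_left]
        exact hg e he
      have hcomem : ∀ f : dualZ G E, cj c f ∈ dualZ G E := fun f => h.cj_mem_dualZ hE (hN c hcA) f.2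
      have hRce : R (cj c e) = R (d : Y → ZMod 2) := by
        refine (htwo ⟨_, hcomem e⟩ fun e0 => he ?_).resolve_right fun e1 => ?_
        · refine Subtype.ext ?_
          have e1 : cj c⁻¹ (cj c (e : Y → ZMod 2)) = cj c⁻¹ 0 := congrArg (cj c⁻¹) (congrArg Subtype.val e0)
          rwa [cj_cancel, cj_zero] at e1
        · refine hRne ?_
          have e2 : R (cj c e) = R (cj c d) := e1.trans (congrArg R hce.symm)
          have e3 := hRmap c⁻¹ (inv_mem hcA) _ _ e2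
          rw [cj_cancel, cj_cancel] at e3
          exact e3.symm
      have hsucc : ∀ (n : ℕ) (f : Y → ZMod 2), cj (c ^ (n + 1)) f = cj c (cj (c ^ n) f) := fun n f => by
        rw [cj_cj, pow_succ]
      have heven : ∀ j : ℕ, R (cj (c ^ (2 * j)) d) = R (d : Y → ZMod 2) := by
        intro j
        induction j with
        | zero => rw [mul_zero, pow_zero, cj_one]
        | succ j ih =>
          have e1 : R (cj (c ^ (2 * j + 1)) d) = R (e : Y → ZMod 2) := by
            rw [hsucc]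
            exact (hRmap c hcA _ _ ih).trans (congrArg R hce)
          rw [show 2 * (j + 1) = 2 * j + 1 + 1 by omega, hsucc]
          exact (hRmap c hcA _ _ e1).trans hRce
      obtain ⟨k, ⟨j, rfl⟩, hkz⟩ := F.odd c hcA
      have hfix : cj (c ^ (2 * j + 1)) (d : Y → ZMod 2) = d :=
        d.2.1.cj_eq_self hM (hN _ (pow_mem hcA _)) fun z hz => (hkz z hz).eq
      refine hRne ?_
      rw [← hfix, hsucc]
      exact (hRmap c hcA _ _ (heven j)).trans (congrArg R hce)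
  obtain ⟨Fm, hκ, hψ⟩ := hfam
  obtain ⟨hinj, hcard, hclause⟩ := hconc _ _ Fm
  -- the kernel of the coordinates
  have hker1 : ∀ x ∈ E, C.φ x = 0 → x ∈ ctr E := by
    intro x hx h0
    have hx' : (g D₀)⁻¹ * x * g D₀ ∈ E := (Subgroup.mem_normalizer_iff''.mp (hN _ (hgA D₀)) x).mp hx
    have h1 : Fm.ψ D₀ (π ⟨_, hx'⟩) = 0 := by
      rw [hψ]
      show C.φ _ = 0
      rw [← h0]; congr 1; group
    have h2 := hM.mem_ctr_conj (hN _ (hgA D₀)) ((hπ0 _).mp (hinj D₀ hD0 _ h1))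
    rwa [show g D₀ * ((g D₀)⁻¹ * x * g D₀) * (g D₀)⁻¹ = x by group] at h2
  let φV : Additive Q →+ Fl m := Ψ 1 (one_mem A)
  have hφV : ∀ x : E, φV (π x) = C.φ x := fun x => by
    show C.φ (1 * (x : Y) * 1⁻¹) = _
    rw [one_mul, inv_one, mul_one]
  have hbij : Function.Bijective φV := by
    refine ⟨(injective_iff_map_eq_zero φV).mpr fun v hv => ?_, fun t => ?_⟩
    · obtain ⟨x, rfl⟩ := hπs v
      rw [hφV] at hv
      exact (hπ0 x).mpr (hker1 x x.2 hv)
    · obtain ⟨x, hx, e⟩ := C.surj t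
      exact ⟨π ⟨x, hx⟩, (hφV _).trans e⟩
  have hscal : ∀ d : dualZ G E, d ≠ 0 → ∃ s : Fl m, s ≠ 0 ∧ ∀ x ∈ E, P d x = s * C.φ x := by
    intro d _
    let e := AddEquiv.ofBijective φV hbij
    let f : Fl m →+ Fl m := (Fm.ψ d).comp e.symm.toAddMonoidHom
    have hf : ∀ x ∈ E, f (C.φ x) = P d x := by
      intro x hx
      show Fm.ψ d (e.symm (C.φ x)) = _
      rw [show C.φ x = e (π ⟨x, hx⟩) from (hφV ⟨x, hx⟩).symm, AddEquiv.symm_apply_apply]
      exact hψ d _
    have hfω : ∀ t, f (C.ω * t) = C.ω * f t := by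
      intro t
      obtain ⟨x, hx, rfl⟩ := C.surj t
      rw [← C.equiv x hx, hf _ (haE x hx), hf x hx, hPequiv d x hx]
    have hall : ∀ x ∈ E, P d x = f 1 * C.φ x := fun x hx => by
      rw [← C.eq_mul hp hm f hfω, hf x hx]
    refine ⟨f 1, fun e0 => ?_, hall⟩
    obtain ⟨x, hx, e1⟩ := hPsurj d 1
    rw [hall x hx, e0, zero_mul] at e1
    exact zero_ne_one e1
  have hH : ∀ d : dualZ G E, d ≠ 0 → ∃ s : Fl m, s ≠ 0 ∧ ∀ x ∈ E,
      H d x x = s * (C.φ x * conj m (C.φ x)) := by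
    intro d hd
    obtain ⟨s, hs, hall⟩ := hscal d hd
    refine ⟨C.κ * s * conj m s,
      mul_ne_zero (mul_ne_zero C.kappa_ne hs) fun e => hs ((conj m).injective (e.trans (map_zero _).symm)),
      fun x hx => ?_⟩
    simp only [H, hall x hx, map_mul]
    ring
  have htwo_le : 2 ≤ m := by
    have h1 := Fm.card
    rw [hcard] at h1
    by_contra hm2
    obtain rfl : m = 1 := by omega
    norm_num at h1
  have hφ1 : C.φ 1 = 0 := C.phi_one
  have hsqiff : ∀ x ∈ E, ∀ y ∈ E, x ^ 2 * (y ^ 2)⁻¹ ∈ Zc G ↔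
      C.φ x * conj m (C.φ x) = C.φ y * conj m (C.φ y) := by
    intro x hx y hy
    have hyi : (y ^ 2)⁻¹ = y ^ 2 := inv_eq_of_mul_eq_one_right (hM.ctr_sq (hsqc y hy))
    rw [hyi]
    constructor
    · intro hz
      have hd : ∀ d : dualZ G E, (d : Y → ZMod 2) (x ^ 2) = (d : Y → ZMod 2) (y ^ 2) := fun d => by
        have h1 := d.2.2 _ (mul_mem (hsqc x hx) (hsqc y hy)) hz
        rw [d.2.1.add _ (hsqc x hx) _ (hsqc y hy)] at h1
        exact CharTwo.add_eq_zero.mp h1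
      have h2 := hclause (π ⟨x, hx⟩) (π ⟨y, hy⟩) (fun d e hd' he' => by
        simp only [hκ, hψ]
        show t0 m (H d x x) + t0 m (H e x x) = t0 m (H d y y) + t0 m (H e y y)
        rw [← hsq d hd' x hx, ← hsq e he' x hx, ← hsq d hd' y hy, ← hsq e he' y hy, hd d, hd e]
        exact (show ∀ s s' t t' : ZMod 2, s + t + (s + t') = s' + t + (s' + t') by decide) _ _ _ _) D₀ hD0
      simp only [hκ, hψ] at h2
      obtain ⟨s, hs, hsH⟩ := hH D₀ hD0
      have h3 : H D₀ x x = H D₀ y y := h2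
      rw [hsH x hx, hsH y hy] at h3
      exact mul_left_cancel₀ hs h3
    · intro hNn
      have h1 := hf0eq (x ^ 2) (y ^ 2) fun d hd => by
        obtain ⟨s, -, hsH⟩ := hH d hd
        rw [hsq d hd x hx, hsq d hd y hy, hsH x hx, hsH y hy, hNn]
      refine h.mem_Zc_of_dual hE (mul_mem (hsqc x hx) (hsqc y hy)) fun f hf => ?_
      rw [hf.1.add _ (hsqc x hx) _ (hsqc y hy)]
      by_cases hf0 : (⟨f, hf⟩ : dualZ G E) = 0
      · rw [show f = 0 from congrArg Subtype.val hf0]; simp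
      · have h2 : f (x ^ 2) = f (y ^ 2) := h1.2 _ hf0
        rw [h2, CharTwo.add_self_eq_zero]
  refine ⟨⟨C.φ, C.ω, htwo_le, C.omega_ne, C.omega_pow, C.add, fun x hx => ⟨hker1 x hx, fun hc =>
    (C.ker x hx).mpr (ctr_le_rad hc)⟩, C.surj, C.equiv, hsqiff, fun z hz => ?_⟩⟩
  by_cases hzZ : z ∈ Zc G
  · exact ⟨1, one_mem E, by simpa using hzZ⟩
  obtain ⟨x0, hx0, hφ0⟩ := C.surj 1
  have hx0Z : x0 ^ 2 ∉ Zc G := fun hc => by
    have := (hsqiff x0 hx0 1 (one_mem E)).mp (by simpa using hc)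
    rw [hφ0, hφ1, map_one, map_zero, one_mul, mul_zero] at this
    exact one_ne_zero this
  obtain ⟨u, hu, v, hv, rfl⟩ := (mem_PZ h).mp hz
  obtain ⟨c, hc, hcz⟩ := F.trans _ (hsqc x0 hx0) hx0Z u hu fun e => hzZ (mul_mem e hv)
  refine ⟨c * x0 * c⁻¹, hcE c hc x0 hx0, ?_⟩
  have e : u * v * ((c * x0 * c⁻¹) ^ 2)⁻¹ = v * (c * x0 ^ 2 * c⁻¹ * u⁻¹)⁻¹ := by
    rw [show (c * x0 * c⁻¹) ^ 2 = c * x0 ^ 2 * c⁻¹ by simp [sq, mul_assoc], h.comm_Zc hv u]
    group
  rw [e]
  exact mul_mem hv (inv_mem hcz)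

/-- `E / ctr E` is a field, and squaring is the norm. -/
theorem Ctx.norm_data (h : Ctx ρ a r p G) (hE : IsE a G E) (hT : TI G E) (hS : Swaps a G E)
    (hP : Prelim a G E) (hr : r = 2 ^ m + 1) : Nonempty (Norm a m G E) :=
  h.norm_data' hE hP hr fun _ _ _ _ _ _ F => F.conclusion

end Cfsg.Agent.Lib.ShultFlavell
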