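import Cfsg.Agent.Lib.ShultFlavell.FinalPoints

/-!
The last step: a non-trivial element of the stabiliser of two points fixes no third one, so every
point is conjugate under `H` to one fixed by `a`, and counting gives a contradiction.
-/

set_option autoImplicit false
set_option linter.style.haveILetI false
set_option linter.unusedSectionVars false

namespace Cfsg.Agent.Lib.ShultFlavell

open Module (End)
open scoped commutatorElement

variable {K : Type*} [Field K] {W : Type*} [AddCommGroup W] [Module K W]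
variable {Y : Type*} [Group Y] [Finite Y]
variable {ρ : Y →* End K W} {a : Y} {r p m : ℕ} {G E : Subgroup Y}
variable [IsAlgClosed K] [FiniteDimensional K W] [Nontrivial W] [CharP K p]

theorem coset_eq_iff {H : Subgroup Y} {x y : G} :
    (QuotientGroup.mk x : G ⧸ H.subgroupOf G) = QuotientGroup.mk y ↔ (x : Y)⁻¹ * (y : Y) ∈ H := by
  rw [QuotientGroup.eq, Subgroup.mem_subgroupOf]; rfl

namespace FinalData

variable (D : FinalData ρ a r p m G E)
include D

/-- An element with non-trivial scalar fixes at most two points. -/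
theorem two_fixed {k g1 g2 : Y} (hk : k ∈ ptH G E) (hsk : D.sc k ≠ 1) (hg1 : g1 ∈ G)
    (hg1out : g1 ∉ ptH G E) (hk1 : g1⁻¹ * k * g1 ∈ ptH G E) (hg2 : g2 ∈ G) (hg2out : g2 ∉ ptH G E)
    (hk2 : g2⁻¹ * k * g2 ∈ ptH G E) : g1⁻¹ * g2 ∈ ptH G E := by
  classical
  by_contra h12
  haveI := D.ctx.normal
  haveI hZn : (Zc G).Normal := ⟨fun z hz g => by rwa [D.z_conj hz g]⟩
  set Hs : Subgroup G := (ptH G E).subgroupOf G with hHs
  let kG : G := ⟨k, ptH_le hk⟩
  have hfix : ∀ x : G, kG • (QuotientGroup.mk x : G ⧸ Hs) = QuotientGroup.mk x ↔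
      (x : Y)⁻¹ * k * x ∈ ptH G E := fun x => by
    rw [MulAction.Quotient.smul_mk, eq_comm, coset_eq_iff, smul_eq_mul, Subgroup.coe_mul, mul_assoc]
  set F : Set (G ⧸ Hs) := {x | kG • x = x}
  have hscal : ∀ x : G, (x : Y)⁻¹ * k * x ∈ ptH G E → D.sc ((x : Y)⁻¹ * k * x) ≠ 1 := by
    intro x hx e
    by_cases hxH : (x : Y) ∈ ptH G E
    · exact hsk (by rwa [D.sc_conj hk hxH] at e)
    · exact hsk (D.sc_Z (D.inj_one x.2 hxH hk hx (Or.inr e)))
  have hZfix : ∀ z : G, (z : Y) ∈ Zc G → ∀ x : G ⧸ Hs, z • x = x := by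
    intro z hz x
    induction x using QuotientGroup.induction_on with
    | _ x =>
      rw [MulAction.Quotient.smul_mk, eq_comm, coset_eq_iff, smul_eq_mul, Subgroup.coe_mul, ← mul_assoc]
      have := D.z_conj hz (x : Y)⁻¹
      rw [inv_inv] at this
      rw [this]
      exact D.Z_le_H hz
  -- exchanging two fixed points
  have hswap : ∀ x y : G ⧸ Hs, x ∈ F → y ∈ F → x ≠ y →
      ∃ τ : G, (τ : Y) ^ 2 ∈ Zc G ∧ τ • x = y ∧ τ • y = x ∧ (τ : Y) * k * (τ : Y)⁻¹ * k ∈ Zc G := by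
    intro x y hx hy hne
    induction x using QuotientGroup.induction_on with
    | _ x =>
    induction y using QuotientGroup.induction_on with
    | _ y =>
      have hxk := (hfix x).mp hx
      have hyk := (hfix y).mp hy
      have hgout : (x : Y)⁻¹ * (y : Y) ∉ ptH G E := fun e => hne (coset_eq_iff.mpr e)
      have hgG : (x : Y)⁻¹ * (y : Y) ∈ G := mul_mem (inv_mem x.2) y.2
      obtain ⟨t, ht, htout, ht2, hgt, htg⟩ := D.exists_swapper hgG hgout
      have hkt : t⁻¹ * ((x : Y)⁻¹ * k * x) * t ∈ ptH G E := by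
        rw [show t⁻¹ * ((x : Y)⁻¹ * k * x) * t =
          (((x : Y)⁻¹ * y)⁻¹ * t)⁻¹ * ((y : Y)⁻¹ * k * y) * (((x : Y)⁻¹ * y)⁻¹ * t) by group]
        exact mul_mem (mul_mem (inv_mem hgt) hyk) hgt
      have hinv := D.inverted ht htout ht2 hxk hkt
      refine ⟨⟨(x : Y) * t * (x : Y)⁻¹, mul_mem (mul_mem x.2 ht) (inv_mem x.2)⟩, ?_, ?_, ?_, ?_⟩
      · show ((x : Y) * t * (x : Y)⁻¹) ^ 2 ∈ Zc G
        rw [conj_pow]
        exact (D.conj_mem_Z_iff _).mpr ht2
      · rw [MulAction.Quotient.smul_mk, coset_eq_iff]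
        show ((x : Y) * t * (x : Y)⁻¹ * x)⁻¹ * (y : Y) ∈ ptH G E
        rwa [show ((x : Y) * t * (x : Y)⁻¹ * x)⁻¹ * (y : Y) = t⁻¹ * ((x : Y)⁻¹ * y) by group]
      · rw [MulAction.Quotient.smul_mk, eq_comm, coset_eq_iff]
        show (x : Y)⁻¹ * ((x : Y) * t * (x : Y)⁻¹ * y) ∈ ptH G E
        rw [show (x : Y)⁻¹ * ((x : Y) * t * (x : Y)⁻¹ * y) = t * t * (t⁻¹ * ((x : Y)⁻¹ * y)) by group, ← sq]
        exact mul_mem (D.Z_le_H ht2) htg
      · show (x : Y) * t * (x : Y)⁻¹ * k * ((x : Y) * t * (x : Y)⁻¹)⁻¹ * k ∈ Zc G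
        rw [show (x : Y) * t * (x : Y)⁻¹ * k * ((x : Y) * t * (x : Y)⁻¹)⁻¹ * k =
          (x : Y) * (t * ((x : Y)⁻¹ * k * x) * t⁻¹ * ((x : Y)⁻¹ * k * x)) * (x : Y)⁻¹ by group]
        exact (D.conj_mem_Z_iff _).mpr hinv
  set π := QuotientGroup.mk' (Zc G)
  have hπ : ∀ z : Y, π z = 1 ↔ z ∈ Zc G := fun z => QuotientGroup.eq_one_iff z
  have hinvπ : ∀ τ : G, (τ : Y) * k * (τ : Y)⁻¹ * k ∈ Zc G →
      π (τ : Y) * π k * (π (τ : Y))⁻¹ = (π k)⁻¹ := fun τ h => by
    have h1 := (hπ _).mpr h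
    simp only [map_mul, map_inv] at h1
    exact mul_eq_one_iff_eq_inv.mp h1
  -- the centraliser of `k` modulo the centre
  set X : Subgroup G := ((Subgroup.centralizer {π k}).comap π).subgroupOf G
  have hmemX : ∀ x : G, x ∈ X ↔ π (x : Y) * π k = π k * π (x : Y) := fun x => by
    show (x : Y) ∈ (Subgroup.centralizer {π k}).comap π ↔ _
    rw [Subgroup.mem_comap, Subgroup.mem_centralizer_singleton_iff]
  have hXF : ∀ x ∈ X, ∀ q ∈ F, x • q ∈ F := by
    intro x hx q hq
    induction q using QuotientGroup.induction_on with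
    | _ q =>
      have hq' := (hfix q).mp hq
      show kG • x • (QuotientGroup.mk q : G ⧸ Hs) = _
      rw [MulAction.Quotient.smul_mk]
      refine (hfix _).mpr ?_
      show ((x * q : G) : Y)⁻¹ * k * (x * q : G) ∈ ptH G E
      have hz : k⁻¹ * ((x : Y)⁻¹ * k * x) ∈ Zc G := by
        rw [← hπ]
        simp only [map_mul, map_inv]
        rw [mul_assoc (π (x : Y))⁻¹, ← (hmemX x).mp hx, inv_mul_cancel_left, inv_mul_cancel]
      have hzq := D.z_conj hz (q : Y)⁻¹
      rw [inv_inv] at hzq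
      rw [Subgroup.coe_mul, show ((x : Y) * q)⁻¹ * k * ((x : Y) * q) =
        ((q : Y)⁻¹ * k * q) * ((q : Y)⁻¹ * (k⁻¹ * ((x : Y)⁻¹ * k * x)) * q) by group, hzq]
      exact mul_mem hq' (D.Z_le_H hz)
  let b0 : G ⧸ Hs := QuotientGroup.mk 1
  let b1 : G ⧸ Hs := QuotientGroup.mk ⟨g1, hg1⟩
  let b2 : G ⧸ Hs := QuotientGroup.mk ⟨g2, hg2⟩
  have hb0 : b0 ∈ F := (hfix 1).mpr (by simpa using hk)
  have hb1 : b1 ∈ F := (hfix ⟨g1, hg1⟩).mpr hk1
  have hb2 : b2 ∈ F := (hfix ⟨g2, hg2⟩).mpr hk2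
  have h01 : b0 ≠ b1 := fun e => hg1out (by simpa using coset_eq_iff.mp e)
  have h02 : b0 ≠ b2 := fun e => hg2out (by simpa using coset_eq_iff.mp e)
  have h12' : b1 ≠ b2 := fun e => h12 (coset_eq_iff.mp e)
  -- transitivity on the fixed points
  have horb : MulAction.orbit X b0 = F := by
    ext q
    constructor
    · rintro ⟨x, rfl⟩
      exact hXF x x.2 b0 hb0
    · intro hq
      by_cases hq0 : q = b0
      · exact hq0 ▸ MulAction.mem_orbit_self _
      obtain ⟨q', hq', hne0, hne⟩ : ∃ q' ∈ F, b0 ≠ q' ∧ q' ≠ q := by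
        by_cases hq1 : q = b1
        · exact ⟨b2, hb2, h02, hq1 ▸ h12'.symm⟩
        · exact ⟨b1, hb1, h01, Ne.symm hq1⟩
      obtain ⟨τ, -, hτ, -, hτk⟩ := hswap b0 q' hb0 hq' hne0
      obtain ⟨τ', -, hτ', -, hτ'k⟩ := hswap q' q hq' hq hne
      refine ⟨⟨τ' * τ, (hmemX _).mpr ?_⟩, ?_⟩
      · refine mul_inv_eq_iff_eq_mul.mp ?_
        rw [Subgroup.coe_mul, map_mul]
        calc π (τ' : Y) * π (τ : Y) * π k * (π (τ' : Y) * π (τ : Y))⁻¹
            = π (τ' : Y) * (π (τ : Y) * π k * (π (τ : Y))⁻¹) * (π (τ' : Y))⁻¹ := by group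
          _ = π (τ' : Y) * (π k)⁻¹ * (π (τ' : Y))⁻¹ := by rw [hinvπ τ hτk]
          _ = (π (τ' : Y) * π k * (π (τ' : Y))⁻¹)⁻¹ := by group
          _ = π k := by rw [hinvπ τ' hτ'k, inv_inv]
      · show (τ' * τ) • b0 = q
        rw [mul_smul, hτ, hτ']
  -- `X` has no involution, so the number of fixed points is odd
  have hodd : ¬ 2 ∣ F.ncard := by
    intro h2
    set Z' : Subgroup X := ((Zc G).subgroupOf G).subgroupOf X
    have hle : Z' ≤ MulAction.stabilizer X b0 := fun x hx => by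
      rw [MulAction.mem_stabilizer_iff]
      exact hZfix _ hx b0
    rw [← horb, ← MulAction.index_stabilizer] at h2
    have h2' : 2 ∣ Nat.card (X ⧸ Z') := h2.trans (Subgroup.index_dvd_of_le hle)
    haveI : Fact (Nat.Prime 2) := ⟨Nat.prime_two⟩
    obtain ⟨q, hq⟩ := exists_prime_orderOf_dvd_card' 2 h2'
    obtain ⟨x, rfl⟩ := QuotientGroup.mk'_surjective Z' q
    have hxZ : ((x : G) : Y) ∉ Zc G := fun e => by
      have h1 : QuotientGroup.mk' Z' x = 1 := (QuotientGroup.eq_one_iff x).mpr e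
      rw [h1, orderOf_one] at hq
      norm_num at hq
    have hx2 : ((x : G) : Y) ^ 2 ∈ Zc G := by
      have h1 : QuotientGroup.mk' Z' (x ^ 2) = 1 := by rw [map_pow, ← hq, pow_orderOf_eq_one]
      exact ((QuotientGroup.eq_one_iff (x ^ 2)).mp h1 : _)
    obtain ⟨l, hl, u, hu, huZ, hlu⟩ := D.exists_conj_P (x : G).2 hxZ hx2
    have hxk := (hmemX x).mp x.2
    set k' := l⁻¹ * k * l with hk'
    have hku : k' * u * k'⁻¹ * u⁻¹ ∈ Zc G := by
      rw [← D.conj_mem_Z_iff l, show l * (k' * u * k'⁻¹ * u⁻¹) * l⁻¹ =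
        k * ((x : G) : Y) * k⁻¹ * ((x : G) : Y)⁻¹ by rw [hk', hlu]; group, ← hπ]
      simp only [map_mul, map_inv]
      rw [← hxk, mul_inv_cancel_right, mul_inv_cancel]
    have hk'uP : k' * u * k'⁻¹ ∈ PZ G E := by
      have := mul_mem (Zc_le_PZ (E := E) hku) hu
      rwa [inv_mul_cancel_right] at this
    have hk'H : k' ∈ ptH G E :=
      D.ctx.point D.isE hu huZ (mul_mem (mul_mem (inv_mem hl) (ptH_le hk)) hl) hk'uP
    refine hscal ⟨l, hl⟩ hk'H (Fl.sq_inj ?_)
    have h1 := (D.nu_eq_iff hk'uP hu).mpr hku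
    rw [D.nu_conj hk'H hu] at h1
    rw [one_mul]
    exact (mul_eq_right₀ fun e => huZ ((D.nu_eq_zero_iff hu).mp e)).mp h1
  -- an involution inverting `k` fixes none of them, so the number is even
  obtain ⟨τ, hτ2, hτ01, -, hτk⟩ := hswap b0 b1 hb0 hb1 h01
  have hτF : ∀ q ∈ F, τ • q ∈ F := by
    intro q hq
    induction q using QuotientGroup.induction_on with
    | _ q =>
      rw [MulAction.Quotient.smul_mk]
      refine (hfix _).mpr ?_
      show ((τ * q : G) : Y)⁻¹ * k * (τ * q : G) ∈ ptH G E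
      have hq' := inv_mem ((hfix q).mp hq)
      have hz : k * ((τ : Y)⁻¹ * k * τ) ∈ Zc G := by
        rw [← D.conj_mem_Z_iff (τ : Y), show (τ : Y) * (k * ((τ : Y)⁻¹ * k * τ)) * (τ : Y)⁻¹ =
          (τ : Y) * k * (τ : Y)⁻¹ * k by group]
        exact hτk
      have hzq := D.z_conj hz (q : Y)⁻¹
      rw [inv_inv] at hzq
      rw [Subgroup.coe_mul, show ((τ : Y) * q)⁻¹ * k * ((τ : Y) * q) =
        ((q : Y)⁻¹ * k * q)⁻¹ * ((q : Y)⁻¹ * (k * ((τ : Y)⁻¹ * k * τ)) * q) by group, hzq]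
      exact mul_mem hq' (D.Z_le_H hz)
  have hnofix : ∀ q ∈ F, τ • q ≠ q := by
    intro q hq
    induction q using QuotientGroup.induction_on with
    | _ q =>
      intro e
      have hq' := (hfix q).mp hq
      have hτq : (q : Y)⁻¹ * τ * q ∈ ptH G E := by
        rw [MulAction.Quotient.smul_mk, eq_comm, coset_eq_iff, smul_eq_mul, Subgroup.coe_mul, ← mul_assoc] at e
        exact e
      have hτ2' : ((q : Y)⁻¹ * τ * q) ^ 2 ∈ Zc G := by
        rw [show ((q : Y)⁻¹ * τ * q) ^ 2 = (q : Y)⁻¹ * (τ : Y) ^ 2 * q by rw [sq, sq]; group]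
        exact (D.conj_mem_Z_iff' _).mpr hτ2
      have hz : ((q : Y)⁻¹ * τ * q) * ((q : Y)⁻¹ * k * q) * ((q : Y)⁻¹ * τ * q)⁻¹ * ((q : Y)⁻¹ * k * q)
          ∈ Zc G := by
        rw [show ((q : Y)⁻¹ * τ * q) * ((q : Y)⁻¹ * k * q) * ((q : Y)⁻¹ * τ * q)⁻¹ *
          ((q : Y)⁻¹ * k * q) = (q : Y)⁻¹ * ((τ : Y) * k * (τ : Y)⁻¹ * k) * q by group]
        exact (D.conj_mem_Z_iff' _).mpr hτk
      have h1 := D.sc_Z hz
      rw [D.sc_mul (mul_mem (mul_mem hτq hq') (inv_mem hτq)) hq',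
        D.sc_mul (mul_mem hτq hq') (inv_mem hτq), D.sc_mul hτq hq', mul_right_comm (D.sc _) (D.sc _) (D.sc _),
        D.sc_inv hτq, one_mul] at h1
      exact hscal q hq' (Fl.sq_inj (by rw [h1, one_mul]))
  refine hodd ?_
  let f : Function.End F := fun q => ⟨τ • (q : G ⧸ Hs), hτF q q.2⟩
  haveI : Finite (G ⧸ Hs) := inferInstance
  haveI : Fintype F := Fintype.ofFinite F
  have hf2 : f^[2 ^ 1] = id := funext fun q => Subtype.ext (by
    show τ • τ • (q : G ⧸ Hs) = q
    rw [← mul_smul]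
    exact hZfix _ (by rw [Subgroup.coe_mul, ← sq]; exact hτ2) _)
  haveI : Fact (Nat.Prime 2) := ⟨Nat.prime_two⟩
  haveI : IsEmpty (Function.fixedPoints f) := ⟨fun ⟨q, hq⟩ => hnofix q q.2 (congrArg Subtype.val hq)⟩
  have hmod := Equiv.Perm.card_fixedPoints_modEq (f := f) (p := 2) (n := 1) hf2
  rw [Fintype.card_eq_zero (α := Function.fixedPoints f), ← Nat.card_eq_fintype_card,
    Nat.card_coe_set_eq] at hmod
  exact Nat.modEq_zero_iff_dvd.mp hmod

/-- Every point is conjugate under `E` to a point fixed by `a`. -/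
theorem exists_fixed_point {g : Y} (hg : g ∈ G) (hgout : g ∉ ptH G E) :
    ∃ e ∈ E, ∃ c ∈ G, Commute c a ∧ c ∉ ptH G E ∧ c⁻¹ * e * g ∈ ptH G E := by
  obtain ⟨s, hs, hs0, hs1⟩ := D.exists_scalar_ne
  obtain ⟨k, hk, hgk, rfl⟩ := D.exists_scalar hg hgout hs hs0
  obtain ⟨c, e0, hc, hca, he0, hce, hsc⟩ := D.exists_split hk
  set s' := D.sc c⁻¹
  have hs'1 : s' + 1 ≠ 0 := by
    intro e
    have h1 : D.sc c⁻¹ = 1 := CharTwo.add_eq_zero.mp e
    have := D.sc_inv hc
    rw [h1, mul_one, hsc] at this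
    exact hs1 this
  obtain ⟨e, he, hφe⟩ := D.nd.surj (D.nd.φ e0 * (s' + 1)⁻¹)
  set k1 := e * k * e⁻¹ with hk1
  have hk1H : k1 ∈ ptH G E :=
    mul_mem (mul_mem (D.ctx.E_le_ptH D.isE he) hk) (inv_mem (D.ctx.E_le_ptH D.isE he))
  have hce' : c⁻¹ * e * c ∈ E := by simpa using conjE (inv_mem hc) he
  have hb : (c⁻¹ * e * c) * e0 * e⁻¹ ∈ ctr E := by
    rw [← D.nd.ker _ (mul_mem (mul_mem hce' he0) (inv_mem he)), D.nd.add _ (mul_mem hce' he0) _ (inv_mem he),
      D.nd.add _ hce' _ he0, D.phi_inv he]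
    have h1 := D.phi_conj (inv_mem hc) he
    rw [inv_inv] at h1
    rw [h1, show D.sc c⁻¹ * D.nd.φ e + D.nd.φ e0 + D.nd.φ e = D.nd.φ e * (s' + 1) + D.nd.φ e0 by ring,
      hφe, inv_mul_cancel_right₀ hs'1, Fl.add_self]
  have hk1a : Commute k1 a := by
    rw [hk1, hce, show e * (c * e0) * e⁻¹ = c * ((c⁻¹ * e * c) * e0 * e⁻¹) by group]
    exact hca.mul_left (show Commute a _ from D.mv.comm_ctr hb).symm
  have hsk1 : D.sc k1 ≠ 1 := by
    rw [show k1 = e⁻¹⁻¹ * k * e⁻¹ by rw [hk1, inv_inv],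
      D.sc_conj hk (inv_mem (D.ctx.E_le_ptH D.isE he))]
    exact hs1
  set g1 := e * g with hg1
  have hg1G : g1 ∈ G := mul_mem (D.isE.le D.ctx he) hg
  have hg1out : g1 ∉ ptH G E := fun e' => hgout (by
    simpa [hg1] using mul_mem (inv_mem (D.ctx.E_le_ptH D.isE he)) e')
  have hk1g1 : g1⁻¹ * k1 * g1 ∈ ptH G E := by
    rwa [show g1⁻¹ * k1 * g1 = g⁻¹ * k * g by rw [hg1, hk1]; group]
  have hnH := D.ctx.norm_ptH D.isE
  set g2 := a * g1 * a⁻¹ with hg2
  have hg2G : g2 ∈ G := (Subgroup.mem_normalizer_iff.mp D.ctx.a_norm g1).mp hg1G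
  have hg2out : g2 ∉ ptH G E := fun e' => hg1out ((Subgroup.mem_normalizer_iff.mp hnH g1).mpr e')
  have hk1g2 : g2⁻¹ * k1 * g2 ∈ ptH G E := by
    have e' : g2⁻¹ * k1 * g2 = a * (g1⁻¹ * k1 * g1) * a⁻¹ := by
      have hc2 : k1 = a * k1 * a⁻¹ := by rw [← hk1a.eq, mul_inv_cancel_right]
      conv_lhs => rw [hc2, hg2]
      group
    rw [e']
    exact (Subgroup.mem_normalizer_iff.mp hnH _).mp hk1g1
  have hfix1 := D.two_fixed hk1H hsk1 hg1G hg1out hk1g1 hg2G hg2out hk1g2
  have hfixA : ∀ b ∈ Subgroup.zpowers a, g1⁻¹ * (b * g1 * b⁻¹) ∈ ptH G E := by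
    intro b hb'
    rw [← mem_powers_iff_mem_zpowers] at hb'
    obtain ⟨i, rfl⟩ := hb'
    show g1⁻¹ * (a ^ i * g1 * (a ^ i)⁻¹) ∈ ptH G E
    induction i with
    | zero => simp
    | succ i ih =>
      rw [show g1⁻¹ * (a ^ (i + 1) * g1 * (a ^ (i + 1))⁻¹) =
        (g1⁻¹ * g2) * (a * (g1⁻¹ * (a ^ i * g1 * (a ^ i)⁻¹)) * a⁻¹) by rw [hg2, pow_succ']; group]
      exact mul_mem hfix1 ((Subgroup.mem_normalizer_iff.mp hnH _).mp ih)
  obtain ⟨n, hn, hcn⟩ := Coprime.exists_fixed_in_coset (zpowers_le_normalizer hnH)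
    (D.ctx.coprime ptH_le) (Or.inl (Fpf.zpowers_solvable a)) hfixA
  refine ⟨e, he, g1 * n, mul_mem hg1G (ptH_le hn), mem_centralizer_zpowers.mp hcn,
    fun e' => hg1out (by simpa using mul_mem e' (inv_mem hn)), ?_⟩
  rw [show (g1 * n)⁻¹ * e * g = n⁻¹ by rw [hg1]; group]
  exact inv_mem hn

/-- The counting contradiction. -/
theorem false' : False := by
  classical
  haveI := D.ctx.normal
  set H := ptH G E with hH
  set CA : Subgroup Y := G ⊓ Subgroup.centralizer {a} with hCA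
  have hHG : H ≤ G := ptH_le
  have hPCA : PZ G E ≤ CA := le_inf D.P_le_G fun z hz =>
    Subgroup.mem_centralizer_singleton_iff.mpr (PZ_commute D.ctx D.isE hz).1.symm
  have hmemCA : ∀ x, x ∈ CA ↔ x ∈ G ∧ x * a = a * x := fun x => by
    rw [hCA, Subgroup.mem_inf, Subgroup.mem_centralizer_singleton_iff]
  -- the points and the fixed points
  let Q := G ⧸ H.subgroupOf G
  let C0 := CA ⧸ H.subgroupOf CA
  let b0 : C0 := QuotientGroup.mk 1
  let o0 : Q := QuotientGroup.mk 1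
  have hC0 : ∀ x y : CA, (QuotientGroup.mk x : C0) = QuotientGroup.mk y ↔ (x : Y)⁻¹ * (y : Y) ∈ H :=
    fun x y => coset_eq_iff
  let ι : C0 → Q := fun x => Quotient.liftOn' x
    (fun c => (QuotientGroup.mk (⟨(c : Y), c.2.1⟩ : G) : Q))
    (fun c c' e => coset_eq_iff.mpr (by
      rw [QuotientGroup.leftRel_apply, Subgroup.mem_subgroupOf] at e
      exact e))
  have hι : ∀ c : CA, ι (QuotientGroup.mk c) = QuotientGroup.mk (⟨(c : Y), c.2.1⟩ : G) := fun c => rfl
  let preG : Fl m → G := fun u => ⟨D.pre u, D.isE.le D.ctx (D.pre_mem u)⟩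
  have hne : ∀ c : CA, (QuotientGroup.mk c : C0) ≠ b0 ↔ (c : Y) ∉ H := fun c => by
    rw [Ne, hC0]
    simp
  have hout : ∀ (u : Fl m) (x : C0), x ≠ b0 → preG u • ι x ≠ o0 := by
    intro u x
    induction x using QuotientGroup.induction_on with
    | _ c =>
      intro hc e
      rw [hne] at hc
      rw [hι, MulAction.Quotient.smul_mk, coset_eq_iff] at e
      have he : D.pre u * (c : Y) ∈ H := by simpa using inv_mem e
      exact hc (by simpa using mul_mem (inv_mem (D.ctx.E_le_ptH D.isE (D.pre_mem u))) he)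
  let Ψ : Fl m × {x : C0 // x ≠ b0} → {q : Q // q ≠ o0} := fun z =>
    ⟨preG z.1 • ι z.2, hout z.1 z.2 z.2.2⟩
  have hΨ : Function.Bijective Ψ := by
    constructor
    · rintro ⟨u, ⟨x, hx⟩⟩ ⟨u', ⟨x', hx'⟩⟩ e
      replace e : preG u • ι x = preG u' • ι x' := congrArg Subtype.val e
      induction x using QuotientGroup.induction_on with
      | _ c =>
      induction x' using QuotientGroup.induction_on with
      | _ c' =>
        rw [hne] at hx hx'
        rw [hι, hι, MulAction.Quotient.smul_mk, MulAction.Quotient.smul_mk, coset_eq_iff] at e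
        replace e : (D.pre u * (c : Y))⁻¹ * (D.pre u' * (c' : Y)) ∈ H := e
        set e1 := (D.pre u')⁻¹ * D.pre u with he1
        have he1E : e1 ∈ E := mul_mem (inv_mem (D.pre_mem _)) (D.pre_mem _)
        set h0 := (c' : Y)⁻¹ * e1 * (c : Y) with hh0
        have hh0H : h0 ∈ H := by
          have := inv_mem e
          rwa [show ((D.pre u * (c : Y))⁻¹ * (D.pre u' * (c' : Y)))⁻¹ = h0 by rw [hh0, he1]; group] at this
        set w := e1⁻¹ * (a * e1 * a⁻¹) with hw
        have hwE : w ∈ E :=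
          mul_mem (inv_mem he1E) ((Subgroup.mem_normalizer_iff.mp D.isE.norm e1).mp he1E)
        have hcw : (c : Y)⁻¹ * w * (c : Y) ∈ H := by
          have hca := ((hmemCA _).mp c.2).2
          have hca' := ((hmemCA _).mp c'.2).2
          have h1 : a * h0 * a⁻¹ = (c' : Y)⁻¹ * (a * e1 * a⁻¹) * (c : Y) := by
            rw [hh0]
            have k1 : a * (c' : Y)⁻¹ = (c' : Y)⁻¹ * a := (show Commute a (c' : Y) from hca'.symm).inv_right.eq
            have k2 : (c : Y) * a⁻¹ = a⁻¹ * (c : Y) := (show Commute (c : Y) a from hca).inv_right.eq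
            calc a * ((c' : Y)⁻¹ * e1 * c) * a⁻¹ = (a * (c' : Y)⁻¹) * e1 * ((c : Y) * a⁻¹) := by group
              _ = _ := by rw [k1, k2]; group
          have h2 : a * h0 * a⁻¹ ∈ H :=
            (Subgroup.mem_normalizer_iff.mp (D.ctx.norm_ptH D.isE) h0).mp hh0H
          rw [show (c : Y)⁻¹ * w * c = h0⁻¹ * (a * h0 * a⁻¹) by rw [h1, hw, hh0]; group]
          exact mul_mem (inv_mem hh0H) h2
        have hwZ : w ∈ Zc G := D.inj_one c.2.1 hx (D.ctx.E_le_ptH D.isE hwE) hcw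
          (Or.inl (D.sc_of_mem_E hwE))
        have hwφ : D.nd.φ w = 0 := (D.nd.ker w hwE).mpr
          (mem_ctr.mpr ⟨hwE, fun x _ => D.ctx.comm_Zc hwZ x⟩)
        rw [hw, D.nd.add _ (inv_mem he1E) _ ((Subgroup.mem_normalizer_iff.mp D.isE.norm e1).mp he1E),
          D.phi_inv he1E, D.nd.equiv _ he1E] at hwφ
        have hφ0 : D.nd.φ e1 = 0 := by
          by_contra h0'
          exact D.nd.omega_ne ((mul_eq_right₀ h0').mp (CharTwo.add_eq_zero.mp hwφ).symm)
        have huu : u = u' := by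
          rw [he1, D.nd.add _ (inv_mem (D.pre_mem _)) _ (D.pre_mem _), D.phi_inv (D.pre_mem _), D.phi_pre,
            D.phi_pre] at hφ0
          exact (CharTwo.add_eq_zero.mp hφ0).symm
        subst huu
        rw [he1, inv_mul_cancel, mul_one] at hh0
        have hcc : (QuotientGroup.mk c' : C0) = QuotientGroup.mk c := (hC0 c' c).mpr (hh0 ▸ hh0H)
        simp [hcc]
    · rintro ⟨q, hq⟩
      induction q using QuotientGroup.induction_on with
      | _ g =>
        have hgout : (g : Y) ∉ H := fun e => hq (coset_eq_iff.mpr (by simpa using inv_mem e))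
        obtain ⟨e, he, c, hc, hca, hcout, hce⟩ := D.exists_fixed_point g.2 hgout
        set u := D.nd.φ e with hu
        set z := (D.pre u)⁻¹ * e⁻¹ with hz
        have hzc : z ∈ ctr E := (D.phi_eq_iff (inv_mem he) (D.pre_mem u)).mp (by
          rw [D.phi_inv he, D.phi_pre])
        have hzP : z ∈ PZ G E := ctr_le_PZ hzc
        have hzH : z ∈ H := PZ_le D.ctx D.isE hzP
        let c' : CA := ⟨z * c, mul_mem (hPCA hzP) ((hmemCA c).mpr ⟨hc, hca.eq⟩)⟩
        have hc'out : (c' : Y) ∉ H := fun e' => hcout (by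
          have := mul_mem (inv_mem hzH) e'
          rwa [show z⁻¹ * (c' : Y) = c by show z⁻¹ * (z * c) = c; group] at this)
        refine ⟨(u, ⟨QuotientGroup.mk c', (hne c').mpr hc'out⟩), Subtype.ext ?_⟩
        show preG u • ι (QuotientGroup.mk c') = QuotientGroup.mk g
        rw [hι, MulAction.Quotient.smul_mk, coset_eq_iff]
        show (D.pre u * (z * c))⁻¹ * (g : Y) ∈ H
        rwa [show (D.pre u * (z * c))⁻¹ * (g : Y) = c⁻¹ * e * (g : Y) by rw [hz]; group]
  set n := Nat.card Q with hn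
  set N := Nat.card C0 with hN
  have hcard : n = 2 ^ (2 * m) * (N - 1) + 1 := by
    have h1 : n = Nat.card {q : Q // q ≠ o0} + 1 := by
      rw [hn, ← Nat.card_congr (Equiv.optionSubtypeNe o0), Finite.card_option]
    have h2 : N = Nat.card {x : C0 // x ≠ b0} + 1 := by
      rw [hN, ← Nat.card_congr (Equiv.optionSubtypeNe b0), Finite.card_option]
    rw [h1, ← Nat.card_congr (Equiv.ofBijective Ψ hΨ), Nat.card_prod, card_Fl D.one_le, h2,
      Nat.add_sub_cancel]
  -- the centre of `E` acts semiregularly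
  set PG : Subgroup CA := (PZ G E).subgroupOf CA with hPG
  set ZP : Subgroup PG := ((Zc G).subgroupOf CA).subgroupOf PG with hZP
  have hPfix : ∀ z : PG, ((z : CA) : Y) ∈ H := fun z => PZ_le D.ctx D.isE z.2
  have hPb : ∀ z : PG, (z : CA) • b0 = b0 := fun z => by
    rw [MulAction.Quotient.smul_mk, eq_comm, hC0]
    simpa using hPfix z
  letI actP : MulAction PG {x : C0 // x ≠ b0} :=
    { smul := fun z x => ⟨(z : CA) • (x : C0), fun e => x.2 (by
        have := congrArg (fun y => (z : CA)⁻¹ • y) e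
        rw [inv_smul_smul] at this
        exact this.trans (inv_smul_eq_iff.mpr (hPb z).symm))⟩
      one_smul := fun x => Subtype.ext (one_smul CA (x : C0))
      mul_smul := fun z z' x => Subtype.ext (mul_smul (z : CA) (z' : CA) (x : C0)) }
  have hstab : ∀ x : {x : C0 // x ≠ b0}, MulAction.stabilizer PG x = ZP := by
    rintro ⟨x, hx⟩
    induction x using QuotientGroup.induction_on with
    | _ c =>
      rw [hne] at hx
      ext z
      rw [MulAction.mem_stabilizer_iff, Subtype.ext_iff]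
      show (z : CA) • (QuotientGroup.mk c : C0) = QuotientGroup.mk c ↔ ((z : CA) : Y) ∈ Zc G
      rw [MulAction.Quotient.smul_mk, eq_comm, hC0]
      show (c : Y)⁻¹ * (((z : CA) : Y) * (c : Y)) ∈ H ↔ _
      constructor
      · intro h
        exact D.ti.ti (c : Y)⁻¹ (inv_mem c.2.1) (fun e => hx (by simpa using inv_mem e)) _ z.2
          (by rwa [inv_inv, mul_assoc])
      · intro h
        rw [D.ctx.center_commute h (c : Y) |>.eq.symm, inv_mul_cancel_left]
        exact D.Z_le_H h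
  set q' := ZP.index with hq'
  have hdvdN : q' ∣ N - 1 := by
    have h2 : N = Nat.card {x : C0 // x ≠ b0} + 1 := by
      rw [hN, ← Nat.card_congr (Equiv.optionSubtypeNe b0), Finite.card_option]
    rw [h2, Nat.add_sub_cancel, Nat.card_congr (MulAction.selfEquivSigmaOrbits' PG {x : C0 // x ≠ b0})]
    haveI := Fintype.ofFinite (Quotient (MulAction.orbitRel PG {x : C0 // x ≠ b0}))
    rw [Nat.card_sigma]
    refine Finset.dvd_sum fun ω _ => ?_
    induction ω using Quotient.inductionOn' with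
    | _ x =>
      rw [MulAction.orbitRel.Quotient.orbit_mk, Nat.card_coe_set_eq, ← MulAction.index_stabilizer, hstab]
  -- its order
  let f : Fl m →+ Fl m := AddMonoidHom.id _ + (conj m).toAddMonoidHom
  have hfk : ∀ u, u ∈ f.ker ↔ conj m u = u := fun u => by
    rw [AddMonoidHom.mem_ker]
    show u + conj m u = 0 ↔ _
    rw [CharTwo.add_eq_zero, eq_comm]
  have hq'card : q' = Nat.card f.ker := by
    let Θ : PG ⧸ ZP → f.ker := fun x => Quotient.liftOn' x
      (fun z => ⟨D.nu ((z : CA) : Y), (hfk _).mpr (D.nu_fix z.2)⟩)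
      (fun z z' e => Subtype.ext (by
        rw [QuotientGroup.leftRel_apply] at e
        show D.nu _ = D.nu _
        refine ((D.nu_eq_iff z'.2 z.2).mpr ?_).symm
        have e' : ((z : CA) : Y)⁻¹ * ((z' : CA) : Y) ∈ Zc G := e
        have := (D.conj_mem_Z_iff ((z : CA) : Y)).mpr e'
        rwa [mul_inv_cancel_left] at this))
    have hΘ : Function.Bijective Θ := by
      constructor
      · intro x x' e
        induction x using QuotientGroup.induction_on with
        | _ z =>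
        induction x' using QuotientGroup.induction_on with
        | _ z' =>
          have h1 : D.nu ((z : CA) : Y) = D.nu ((z' : CA) : Y) := congrArg Subtype.val e
          rw [QuotientGroup.eq]
          show ((z : CA) : Y)⁻¹ * ((z' : CA) : Y) ∈ Zc G
          have := (D.nu_eq_iff z'.2 z.2).mp h1.symm
          rw [← D.conj_mem_Z_iff ((z : CA) : Y), mul_inv_cancel_left]
          exact this
      · rintro ⟨u, hu⟩
        obtain ⟨s, hs⟩ := Fl.exists_sqrt u
        obtain ⟨z, hz, hzs⟩ := D.exists_nu (Fl.conj_fix_sqrt ((hfk u).mp hu) hs)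
        exact ⟨QuotientGroup.mk ⟨⟨z, hPCA hz⟩, hz⟩, Subtype.ext (hzs.trans hs)⟩
    rw [hq', Subgroup.index_eq_card]
    exact Nat.card_congr (Equiv.ofBijective Θ hΘ)
  have hprod : Nat.card f.range * Nat.card f.ker = 2 ^ (2 * m) := by
    rw [← card_Fl D.one_le, ← AddSubgroup.card_mul_index f.ker, AddSubgroup.index_ker, mul_comm]
  have hrk : Nat.card f.range ≤ Nat.card f.ker := by
    refine Nat.card_le_card_of_injective (fun v : f.range => (⟨(v : Fl m), ?_⟩ : f.ker)) fun v w e =>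
      Subtype.ext (congrArg Subtype.val e :)
    obtain ⟨u, hu⟩ := v.2
    rw [hfk, ← hu]
    show conj m (u + conj m u) = u + conj m u
    rw [map_add, conj_conj D.one_le, add_comm]
  have hq'ge : 2 ^ m ≤ q' := by
    by_contra hlt
    rw [not_le, hq'card] at hlt
    have h1 : Nat.card f.range * Nat.card f.ker < 2 ^ m * 2 ^ m :=
      Nat.mul_lt_mul'' (lt_of_le_of_lt hrk hlt) hlt
    rw [hprod, ← pow_add, ← two_mul] at h1
    exact lt_irrefl _ h1
  have hq'even : 2 ∣ q' := by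
    have hd : q' ∣ 2 ^ (2 * m) := hq'card ▸ hprod ▸ Dvd.intro_left _ rfl
    obtain ⟨j, -, hj⟩ := (Nat.dvd_prime_pow Nat.prime_two).mp hd
    rcases j with _ | j
    · have : 2 ≤ 2 ^ m := Nat.le_self_pow (by have := D.one_le; omega) 2
      rw [hj, pow_zero] at hq'ge
      omega
    · exact hj ▸ dvd_pow_self 2 j.succ_ne_zero
  have hNpos : 1 ≤ N := hN ▸ Nat.card_pos
  have hNodd : N.Coprime 2 := by
    rw [Nat.coprime_two_right, Nat.odd_iff]
    obtain ⟨w, hw⟩ := hq'even.trans hdvdN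
    omega
  -- the index of the fixed points divides that of `H`
  set CH : Subgroup Y := H ⊓ CA with hCH
  have hCH' : CH.relIndex H = 2 ^ (2 * m) := by
    let Φ : Fl m → H ⧸ CH.subgroupOf H := fun u =>
      QuotientGroup.mk ⟨D.pre u, D.ctx.E_le_ptH D.isE (D.pre_mem u)⟩
    have hΦ : Function.Bijective Φ := by
      constructor
      · intro u u' e
        rw [coset_eq_iff] at e
        have he : (D.pre u)⁻¹ * D.pre u' ∈ E := mul_mem (inv_mem (D.pre_mem _)) (D.pre_mem _)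
        have h1 : (D.pre u)⁻¹ * D.pre u' ∈ ctr E :=
          (D.mv.mem_ctr_iff_fixed he).mpr ((hmemCA _).mp e.2).2.symm
        have h2 := (D.phi_eq_iff (D.pre_mem u') (D.pre_mem u)).mpr h1
        rwa [D.phi_pre, D.phi_pre, eq_comm] at h2
      · intro x
        induction x using QuotientGroup.induction_on with
        | _ x =>
          obtain ⟨c, e, hc, hca, he, hce, -⟩ := D.exists_split (inv_mem x.2)
          refine ⟨D.nd.φ e⁻¹, ?_⟩
          rw [coset_eq_iff]
          show (D.pre (D.nd.φ e⁻¹))⁻¹ * (x : Y) ∈ CH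
          have hx : (x : Y) = e⁻¹ * c⁻¹ := by
            have := congrArg (·⁻¹) hce
            simpa [mul_inv_rev] using this
          have h1 : (D.pre (D.nd.φ e⁻¹))⁻¹ * e⁻¹ ∈ ctr E :=
            (D.phi_eq_iff (inv_mem he) (D.pre_mem _)).mp (D.phi_pre _).symm
          rw [hx, ← mul_assoc]
          exact mul_mem (Subgroup.mem_inf.mpr ⟨PZ_le D.ctx D.isE (ctr_le_PZ h1), hPCA (ctr_le_PZ h1)⟩)
            (Subgroup.mem_inf.mpr ⟨inv_mem hc, (hmemCA _).mpr ⟨inv_mem (ptH_le hc), hca.inv_left.eq⟩⟩)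
    rw [Subgroup.relIndex, Subgroup.index_eq_card, ← Nat.card_congr (Equiv.ofBijective Φ hΦ),
      card_Fl D.one_le]
  have hmul : N * CA.relIndex G = 2 ^ (2 * m) * n := by
    have e1 : CH.relIndex CA = N := by
      rw [hCH, Subgroup.inf_relIndex_right]
      rfl
    rw [← e1, Subgroup.relIndex_mul_relIndex _ _ _ inf_le_right inf_le_left, ← hCH',
      show n = H.relIndex G from rfl, Subgroup.relIndex_mul_relIndex _ _ _ inf_le_left hHG]
  have hNn : N ∣ n :=
    ((Nat.Coprime.pow_right (2 * m) hNodd)).dvd_of_dvd_mul_left ⟨_, hmul.symm⟩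
  have hsum : n + (2 ^ (2 * m) - 1) = 2 ^ (2 * m) * N := by
    obtain ⟨N', hN'⟩ := Nat.exists_eq_add_of_le hNpos
    have := Nat.one_le_two_pow (n := 2 * m)
    rw [hcard, hN', Nat.add_sub_cancel_left, mul_add, mul_one]
    omega
  have hNd : N ∣ 2 ^ (2 * m) - 1 := (Nat.dvd_add_right hNn).mp (hsum ▸ Dvd.intro_left _ rfl)
  have hNr : N.Coprime r := by
    refine (D.ctx.fpf.prime.coprime_iff_not_dvd.mpr fun e => D.ctx.cop ?_).symm
    have h1 : N ∣ Nat.card CA := by
      rw [hN, show Nat.card C0 = (H.subgroupOf CA).index from (Subgroup.index_eq_card _).symm]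
      exact Subgroup.index_dvd_card _
    exact e.trans (h1.trans (Subgroup.card_dvd_of_le inf_le_left))
  have hNq : N ∣ 2 ^ m - 1 := by
    refine hNr.dvd_of_dvd_mul_right ?_
    rw [D.hr, mul_comm, ← Nat.sq_sub_sq, one_pow, ← pow_mul, mul_comm m 2]
    exact hNd
  have hN1 : N - 1 = 0 := by
    rcases Nat.eq_zero_or_pos (N - 1) with e | e
    · exact e
    · have h1 := Nat.le_of_dvd e hdvdN
      have h2 := Nat.le_of_dvd (by have := D.one_le; have := Nat.one_lt_two_pow (n := m) (by omega); omega) hNq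
      omega
  have hn1 : n = 1 := by rw [hcard, hN1, mul_zero]
  exact (D.ctx.ptH_lt D.isE).not_ge (Subgroup.relIndex_eq_one.mp hn1)

end FinalData

/-- The last step: the configuration is impossible. -/
theorem Ctx.final (h : Ctx ρ a r p G) (hE : IsE a G E) (hT : TI G E) (hS : Swaps a G E)
    (hN : Norm a m G E) (hr : r = 2 ^ m + 1) : False :=
  FinalData.false' ⟨h, hE, hT, hS, hr, hN⟩

end Cfsg.Agent.Lib.ShultFlavell
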