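import Cfsg.Agent.Lib.ShultFlavell.Central
import Cfsg.Agent.GenA.SquareCount
import Mathlib.RingTheory.Flat.Basic
import Mathlib.RepresentationTheory.Basic
import Mathlib.FieldTheory.IsAlgClosed.AlgebraicClosure

/-!
The reduction of the fixed point theorem of Shult type to a minimal counterexample.
-/

set_option autoImplicit false
set_option linter.style.haveILetI false
set_option linter.unusedSectionVars false

namespace Cfsg.Agent.Lib.ShultFlavell

open Module (End finrank)
open scoped commutatorElement TensorProduct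

universe u v w

variable {Y : Type u} [Group Y]

/-! ### Operations on `Nice` -/

theorem nice_of_isPGroup_two {p : ℕ} {T : Subgroup Y} (h : IsPGroup 2 T) : Nice p T :=
  ⟨⊥, bot_le, fun x _ => Subgroup.mem_normalizer_iff.mpr fun y => by simp, IsPGroup.of_bot,
    fun x hx => by
      obtain ⟨k, hk⟩ := h ⟨x, hx⟩
      exact ⟨k, Subgroup.mem_bot.mpr (congrArg Subtype.val hk)⟩⟩

theorem nice_map {Y' : Type*} [Group Y'] {p : ℕ} {T : Subgroup Y} (h : Nice p T) (f : Y →* Y') :
    Nice p (T.map f) := by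
  obtain ⟨N, hNT, hTN, hNp, hq⟩ := h
  refine ⟨N.map f, Subgroup.map_mono hNT, (Subgroup.map_mono hTN).trans (Subgroup.le_normalizer_map f),
    hNp.map f, ?_⟩
  rintro _ ⟨x, hx, rfl⟩
  obtain ⟨k, hk⟩ := hq x hx
  exact ⟨k, x ^ 2 ^ k, hk, map_pow f x _⟩

theorem nice_of_quotients {p : ℕ} {T K1 K2 : Subgroup Y} [K1.Normal] [K2.Normal]
    (h1 : Nice p (T.map (QuotientGroup.mk' K1))) (h2 : Nice p (T.map (QuotientGroup.mk' K2)))
    (h12 : ∀ x ∈ T, x ∈ K1 → x ∈ K2 → ∃ j : ℕ, x ^ p ^ j = 1) : Nice p T := by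
  obtain ⟨N1, -, hn1, hp1, hq1⟩ := h1
  obtain ⟨N2, -, hn2, hp2, hq2⟩ := h2
  refine ⟨T ⊓ (N1.comap (QuotientGroup.mk' K1) ⊓ N2.comap (QuotientGroup.mk' K2)), inf_le_left,
    fun t ht => Subgroup.mem_normalizer_iff.mpr fun x => ?_, fun x => ?_, fun x hx => ?_⟩
  · have e1 := Subgroup.mem_normalizer_iff.mp (hn1 ⟨t, ht, rfl⟩) (QuotientGroup.mk' K1 x)
    have e2 := Subgroup.mem_normalizer_iff.mp (hn2 ⟨t, ht, rfl⟩) (QuotientGroup.mk' K2 x)
    rw [← map_inv, ← map_mul, ← map_mul] at e1 e2
    have e0 : x ∈ T ↔ t * x * t⁻¹ ∈ T := by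
      rw [T.mul_mem_cancel_right (inv_mem ht), T.mul_mem_cancel_left ht]
    simp only [Subgroup.mem_inf, Subgroup.mem_comap]
    rw [e0, e1, e2]
  · obtain ⟨hxT, hx1, hx2⟩ := x.2
    obtain ⟨i, hi⟩ := hp1 ⟨_, hx1⟩
    obtain ⟨j, hj⟩ := hp2 ⟨_, hx2⟩
    have h1' : (x : Y) ^ p ^ (i + j) ∈ K1 := by
      have : QuotientGroup.mk' K1 ((x : Y) ^ p ^ i) = 1 := by
        rw [map_pow]; exact congrArg Subtype.val hi
      rw [pow_add, pow_mul]
      exact pow_mem ((QuotientGroup.eq_one_iff _).mp this) _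
    have h2' : (x : Y) ^ p ^ (i + j) ∈ K2 := by
      have : QuotientGroup.mk' K2 ((x : Y) ^ p ^ j) = 1 := by
        rw [map_pow]; exact congrArg Subtype.val hj
      rw [add_comm, pow_add, pow_mul]
      exact pow_mem ((QuotientGroup.eq_one_iff _).mp this) _
    obtain ⟨l, hl⟩ := h12 _ (pow_mem hxT _) h1' h2'
    refine ⟨i + j + l, Subtype.ext ?_⟩
    rw [Subgroup.coe_pow, pow_add, pow_mul, hl, Subgroup.coe_one]
  · obtain ⟨i, hi⟩ := hq1 _ ⟨x, hx, rfl⟩
    obtain ⟨j, hj⟩ := hq2 _ ⟨x, hx, rfl⟩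
    rw [← map_pow] at hi hj
    refine ⟨i + j, pow_mem hx _, ?_, ?_⟩
    · show x ^ 2 ^ (i + j) ∈ N1.comap _
      rw [pow_add, pow_mul]
      exact pow_mem (Subgroup.mem_comap.mpr hi) _
    · show x ^ 2 ^ (i + j) ∈ N2.comap _
      rw [add_comm, pow_add, pow_mul]
      exact pow_mem (Subgroup.mem_comap.mpr hj) _

/-- Every setting of a minimal counterexample is contradictory. -/
def NoCtx : Prop :=
  ∀ (K : Type v) [Field K] [IsAlgClosed K] (W : Type w) [AddCommGroup W] [Module K W]
    [FiniteDimensional K W] [Nontrivial W] (Y : Type u) [Group Y] [Finite Y]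
    (ρ : Y →* End K W) (a : Y) (r p : ℕ) (G : Subgroup Y) [CharP K p],
    Ctx ρ a r p G → False

section

variable {K : Type v} [Field K] [IsAlgClosed K] {p : ℕ} [CharP K p] [Fact p.Prime]
variable {W : Type w} [AddCommGroup W] [Module K W] [FiniteDimensional K W]
variable [Finite Y]

/-- The statement proved by induction. -/
def NiceUpTo (K : Type v) [Field K] (p r n : ℕ) : Prop :=
  ∀ (W : Type w) [AddCommGroup W] [Module K W] [FiniteDimensional K W] (Y : Type u) [Group Y] [Finite Y]
    (ρ : Y →* End K W) (a : Y) (G : Subgroup Y),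
    Nat.card G + finrank K W ≤ n → Fpf ρ a r → ¬ r ∣ Nat.card G → (∀ x ∈ G, ρ x = 1 → x = 1) →
    a ∈ Subgroup.normalizer (G : Set Y) → Nice p ⁅G, Subgroup.zpowers a⁆

/-- The step for a group with a proper invariant subspace. -/
theorem nice_top (H : NoCtx.{u, v, w}) {r n : ℕ} (ih : ∀ m < n, NiceUpTo.{u, v, w} K p r m)
    {ρ : Y →* End K W} {a : Y} {G : Subgroup Y} (hn : Nat.card G + finrank K W ≤ n)
    (hf : Fpf ρ a r) (hcop : ¬ r ∣ Nat.card G) (hfaith : ∀ x ∈ G, ρ x = 1 → x = 1) (hG : G.Normal)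
    (htop : G ⊔ Subgroup.zpowers a = ⊤) (hgen : ⁅G, Subgroup.zpowers a⁆ = G) : Nice p G := by
  classical
  rcases subsingleton_or_nontrivial W with hW | hW
  · refine nice_of_isPGroup_two fun x => ⟨0, Subtype.ext ?_⟩
    rw [pow_zero, pow_one]
    exact hfaith x x.2 (LinearMap.ext fun w => Subsingleton.elim _ _)
  by_cases hirr : ∀ U : Submodule K W, (∀ y : Y, ∀ w ∈ U, ρ y w ∈ U) → U = ⊥ ∨ U = ⊤
  · by_cases h2 : IsPGroup 2 G
    · exact nice_of_isPGroup_two h2
    refine (H K W Y ρ a r p G ⟨hf, Fact.out, hG, htop, hcop, hfaith, hirr, hgen, ?_, h2⟩).elim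
    intro X hX ha
    have hlt : Nat.card X < Nat.card G := by
      refine lt_of_le_of_ne (Nat.le_of_dvd Nat.card_pos (Subgroup.card_dvd_of_le hX.le)) fun e => ?_
      exact hX.ne (Subgroup.eq_of_le_of_card_ge hX.le e.ge)
    exact ih (Nat.card X + finrank K W) (by omega) W Y ρ a X le_rfl hf
      (fun e => hcop (e.trans (Subgroup.card_dvd_of_le hX.le)))
      (fun x hx => hfaith x (hX.le hx)) ha
  push Not at hirr
  obtain ⟨U, hUinv, hU0, hU1⟩ := hirr
  let σ1 : Y →* End K U :=
    { toFun := fun g => (ρ g).restrict (hUinv g)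
      map_one' := by ext w; simp [LinearMap.restrict_apply]
      map_mul' := fun x y => by ext w; simp [LinearMap.restrict_apply] }
  have hle : ∀ g, U ≤ U.comap (ρ g) := fun g w hw => hUinv g w hw
  let σ2 : Y →* End K (W ⧸ U) :=
    { toFun := fun g => U.mapQ U (ρ g) (hle g)
      map_one' := by ext w; simp
      map_mul' := fun x y => by ext w; simp }
  have hf1 : Fpf σ1 a r :=
    ⟨hf.prime, hf.pow, fun w hw => Subtype.ext (hf.fix w (congrArg Subtype.val hw))⟩
  have hf2 : Fpf σ2 a r := by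
    refine ⟨hf.prime, hf.pow, fun w hw => ?_⟩
    induction w using Submodule.Quotient.induction_on with
    | H w =>
      have hi : ∀ i : ℕ, Submodule.Quotient.mk (p := U) ((ρ a ^ i) w) = Submodule.Quotient.mk w := by
        intro i
        induction i with
        | zero => rfl
        | succ i ihi =>
          rw [pow_succ', Module.End.mul_apply]
          have : σ2 a (Submodule.Quotient.mk ((ρ a ^ i) w)) = Submodule.Quotient.mk (ρ a ((ρ a ^ i) w)) := rfl
          rw [← this, ihi, hw]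
      have h0 := congrArg U.mkQ (hf.sum_eq_zero w)
      rw [map_sum, map_zero] at h0
      simp only [Submodule.mkQ_apply, hi, Finset.sum_const, Finset.card_range] at h0
      rw [← Nat.cast_smul_eq_nsmul K] at h0
      exact (smul_eq_zero.mp h0).resolve_left hf.cast_ne_zero
  -- the two images
  haveI := hG
  have step : ∀ (V : Type w) [AddCommGroup V] [Module K V] [FiniteDimensional K V] (σ : Y →* End K V),
      Fpf σ a r → finrank K V < finrank K W →
      Nice p (G.map (QuotientGroup.mk' (G ⊓ σ.toHomUnits.ker))) := by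
    intro V _ _ _ σ hσ hdim
    set N : Subgroup Y := G ⊓ σ.toHomUnits.ker with hN
    let σb : Y ⧸ N →* End K V :=
      (Units.coeHom (End K V)).comp (QuotientGroup.lift N σ.toHomUnits inf_le_right)
    have hσb : ∀ y : Y, σb (QuotientGroup.mk' N y) = σ y := fun y => rfl
    have hcard : Nat.card (G.map (QuotientGroup.mk' N)) ∣ Nat.card G := Subgroup.card_map_dvd _ _
    have hcard' := Nat.le_of_dvd Nat.card_pos hcard
    haveI : (G.map (QuotientGroup.mk' N)).Normal := hG.map _ (QuotientGroup.mk'_surjective N)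
    have key := ih (Nat.card (G.map (QuotientGroup.mk' N)) + finrank K V) (by omega) V (Y ⧸ N) σb
      (QuotientGroup.mk' N a) (G.map (QuotientGroup.mk' N)) le_rfl
      ⟨hσ.prime, by rw [← map_pow, hσ.pow, map_one], fun w hw => hσ.fix w (by rwa [hσb] at hw)⟩
      (fun e => hcop (e.trans hcard))
      (by
        rintro _ ⟨x, hx, rfl⟩ h1
        rw [hσb] at h1
        exact (QuotientGroup.eq_one_iff x).mpr ⟨hx, Units.ext h1⟩)
      (by rw [Subgroup.normalizer_eq_top]; exact Subgroup.mem_top _)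
    rwa [← MonoidHom.map_zpowers, ← Subgroup.map_commutator, hgen] at key
  haveI := hG
  refine nice_of_quotients (step U σ1 hf1 (Submodule.finrank_lt hU1))
    (step (W ⧸ U) σ2 hf2 ?_) ?_
  · have := Submodule.finrank_quotient_add_finrank U
    have : 0 < finrank K U := by
      haveI : Nontrivial U := Submodule.nontrivial_iff_ne_bot.mpr hU0
      exact Module.finrank_pos
    omega
  intro x hxG hx1 hx2
  refine ⟨1, hfaith _ (pow_mem hxG _) ?_⟩
  have e1 : ∀ w ∈ U, ρ x w = w := fun w hw => by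
    have := congrArg Units.val (MonoidHom.mem_ker.mp hx1.2)
    exact congrArg Subtype.val (LinearMap.congr_fun this ⟨w, hw⟩)
  have e2 : ∀ w, ρ x w - w ∈ U := fun w => by
    have := congrArg Units.val (MonoidHom.mem_ker.mp hx2.2)
    exact (Submodule.Quotient.eq U).mp (LinearMap.congr_fun this (Submodule.Quotient.mk w))
  have hsq : (ρ x - 1) ^ 2 = 0 := LinearMap.ext fun w => by
    rw [sq, Module.End.mul_apply, LinearMap.sub_apply, LinearMap.sub_apply, Module.End.one_apply,
      Module.End.one_apply, e1 _ (e2 w), sub_self, LinearMap.zero_apply]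
  haveI : Nontrivial (End K W) := by
    obtain ⟨v, hv⟩ := exists_ne (0 : W)
    exact ⟨⟨1, 0, fun e => hv (LinearMap.congr_fun e v)⟩⟩
  haveI : CharP (End K W) p := charP_of_injective_algebraMap (algebraMap K (End K W)).injective p
  rw [pow_one, map_pow, show ρ x = (ρ x - 1) + 1 by rw [sub_add_cancel],
    add_pow_char_of_commute p (Commute.one_right _), one_pow,
    pow_eq_zero_of_le (Nat.Prime.two_le Fact.out) hsq, zero_add]

/-- The moved part is a `p`-group extended by a `2`-group. -/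
theorem nice_upTo (H : NoCtx.{u, v, w}) (r : ℕ) : ∀ n, NiceUpTo.{u, v, w} K p r n := by
  intro n
  induction n using Nat.strong_induction_on with
  | _ n ih =>
    intro W _ _ _ Y _ _ ρ a G hn hf hcop hfaith ha
    set G1 := ⁅G, Subgroup.zpowers a⁆ with hG1
    have hA : Subgroup.zpowers a ≤ Subgroup.normalizer (G : Set Y) := zpowers_le_normalizer ha
    have hle : G1 ≤ G := Coprime.commutator_le_of_le_normalizer hA
    have hidem : ⁅G1, Subgroup.zpowers a⁆ = G1 :=
      Coprime.commutator_commutator_eq hA (hf.coprime hcop) (Or.inl (Fpf.zpowers_solvable a))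
    have ha1 : a ∈ Subgroup.normalizer (G1 : Set Y) := Ctx.comm_norm ha
    have hc1 : ¬ r ∣ Nat.card G1 := fun e => hcop (e.trans (Subgroup.card_dvd_of_le hle))
    have hlc : Nat.card G1 ≤ Nat.card G := Nat.le_of_dvd Nat.card_pos (Subgroup.card_dvd_of_le hle)
    set Y0 := G1 ⊔ Subgroup.zpowers a with hY0
    let a0 : Y0 := ⟨a, Subgroup.mem_sup_right (Subgroup.mem_zpowers a)⟩
    have hG10 : (G1.subgroupOf Y0).map Y0.subtype = G1 := Subgroup.map_subgroupOf_eq_of_le le_sup_left
    have hA0 : (Subgroup.zpowers a0).map Y0.subtype = Subgroup.zpowers a := MonoidHom.map_zpowers _ _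
    have hinj := Subgroup.map_injective Y0.subtype_injective
    have hcard : Nat.card (G1.subgroupOf Y0) = Nat.card G1 :=
      Nat.card_congr (Subgroup.subgroupOfEquivOfLe le_sup_left).toEquiv
    have key : Nice p (G1.subgroupOf Y0) := by
      refine nice_top (ρ := ρ.comp Y0.subtype) (a := a0) H ih (by omega) ⟨hf.prime, Subtype.ext hf.pow, hf.fix⟩
        (by rw [hcard]; exact hc1)
        (fun x hx h1 => Subtype.ext (hfaith x (hle (Subgroup.mem_subgroupOf.mp hx)) h1)) ?_ ?_ ?_
      · exact (Subgroup.normal_subgroupOf_iff_le_normalizer le_sup_left).mpr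
          (sup_le Subgroup.le_normalizer (zpowers_le_normalizer ha1))
      · refine hinj ?_
        rw [Subgroup.map_sup, hG10, hA0, ← MonoidHom.range_eq_map, Subgroup.range_subtype]
      · refine hinj ?_
        rw [Subgroup.map_commutator, hG10, hA0, hidem]
    have := nice_map key Y0.subtype
    rwa [hG10] at this

end

/-- A `p`-group has a fixed vector in every invariant subspace. -/
theorem exists_fixed_of_pgroup {L : Type v} [Field L] {W : Type w} [AddCommGroup W] [Module L W] [Finite Y]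
    {p : ℕ} [CharP L p] {ρ : Y →* End L W} [Fact p.Prime] {N : Subgroup Y} (hN : IsPGroup p N) {U : Submodule L W}
    (hU : U ≠ ⊥) (hinv : ∀ x ∈ N, ∀ w ∈ U, ρ x w ∈ U) :
    ∃ w ∈ U, w ≠ 0 ∧ ∀ x ∈ N, ρ x w = w := by
  obtain ⟨v, hvU, hv⟩ := Submodule.exists_mem_ne_zero_of_ne_bot hU
  letI : Algebra (ZMod p) L := ZMod.algebra L p
  letI : Module (ZMod p) W := Module.compHom W (algebraMap (ZMod p) L)
  let S : Submodule (ZMod p) W := Submodule.span (ZMod p) (Set.range fun y : N => ρ y v)
  haveI : Module.Finite (ZMod p) S := Module.Finite.span_of_finite (ZMod p) (Set.finite_range _)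
  haveI : Finite S := Module.finite_of_finite (ZMod p)
  have hSU : ∀ w ∈ S, w ∈ U := by
    intro w hw
    induction hw using Submodule.span_induction with
    | mem w hw => obtain ⟨z, rfl⟩ := hw; exact hinv z z.2 v hvU
    | zero => exact zero_mem _
    | add u w _ _ hu hw => exact add_mem hu hw
    | smul c u _ hu => exact U.smul_mem (algebraMap (ZMod p) L c) hu
  have hinvS : ∀ (y : N), ∀ w ∈ S, ρ y w ∈ S := by
    intro y w hw
    induction hw using Submodule.span_induction with
    | mem w hw =>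
      obtain ⟨z, rfl⟩ := hw
      exact Submodule.subset_span ⟨y * z, by simp⟩
    | zero => rw [map_zero]; exact zero_mem _
    | add u w _ _ hu hw => rw [map_add]; exact add_mem hu hw
    | smul c u _ hu =>
      show ρ y (algebraMap (ZMod p) L c • u) ∈ S
      rw [map_smul]
      exact S.smul_mem c hu
  letI : MulAction N S :=
    { smul := fun y w => ⟨ρ y w, hinvS y w w.2⟩
      one_smul := fun w => Subtype.ext (by show ρ ((1 : N) : Y) (w : W) = w; simp)
      mul_smul := fun x y w => Subtype.ext (by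
        show ρ ((x * y : N) : Y) (w : W) = ρ x (ρ y w); simp) }
  haveI : Nontrivial S :=
    ⟨⟨⟨v, Submodule.subset_span ⟨1, by simp⟩⟩, 0, fun e => hv (congrArg Subtype.val e)⟩⟩
  have hdvd : p ∣ Nat.card S := by
    have h2 : Nat.card S = p ^ finrank (ZMod p) S := by
      rw [Module.natCard_eq_pow_finrank (K := ZMod p), Nat.card_zmod]
    rw [h2]
    exact dvd_pow_self p Module.finrank_pos.ne'
  have h0 : (0 : S) ∈ MulAction.fixedPoints N S := fun y => Subtype.ext (map_zero _)
  obtain ⟨w, hw, hw0⟩ := hN.exists_fixed_point_of_prime_dvd_card_of_fixed_point S hdvd h0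
  exact ⟨(w : W), hSU _ w.2, fun e => hw0 (Subtype.ext e.symm), fun x hx => congrArg Subtype.val (hw ⟨x, hx⟩)⟩

/-! ### The theorem -/

theorem main_of_noCtx {X : Type u} [Group X] [Finite X] {k : Type v} [Field k] {V : Type w}
    [AddCommGroup V] [Module k V] [FiniteDimensional k V] [Nontrivial V]
    (H : NoCtx.{u, v, max v w}) (G R : Subgroup X) [G.Normal] (hX : G ⊔ R = ⊤) (r : ℕ) (hr : r.Prime)
    (hR : Nat.card R = r) (hcop : ¬ r ∣ Nat.card G) {p : ℕ} [Fact p.Prime] [CharP k p]
    (ρ : Representation k X V) (hfaith : Function.Injective ρ)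
    (hirr : ∀ W : Submodule k V, (∀ x : X, W.map (ρ x) ≤ W) → W = ⊥ ∨ W = ⊤)
    (hfix : ∀ v : V, (∀ x ∈ R, ρ x v = v) → v = 0) :
    ⁅G, R⁆ = ⊥ ∨ ((∃ m : ℕ, r = 2 ^ m + 1) ∧ ¬ IsMulCommutative ↥⁅G, R⁆ ∧
      Cfsg.IsSpecial 2 ↥⁅G, R⁆) := by
  classical
  refine or_iff_not_imp_left.mpr fun hne => ?_
  haveI := Fact.mk hr
  -- a generator
  obtain ⟨a', ha'⟩ := (isCyclic_of_prime_card hR).exists_generator
  let a : X := a'
  have hRa : Subgroup.zpowers a = R := by
    refine le_antisymm (Subgroup.zpowers_le.mpr a'.2) fun x hx => ?_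
    obtain ⟨i, hi⟩ := Subgroup.mem_zpowers_iff.mp (ha' ⟨x, hx⟩)
    exact Subgroup.mem_zpowers_iff.mpr ⟨i, congrArg Subtype.val hi⟩
  have har : a ^ r = 1 := by
    have : a' ^ r = 1 := hR ▸ pow_card_eq_one'
    exact congrArg Subtype.val this
  have hfix' : ∀ v : V, ρ a v = v → v = 0 := by
    intro v hv
    refine hfix v fun x hx => ?_
    rw [← hRa, ← mem_powers_iff_mem_zpowers] at hx
    obtain ⟨i, rfl⟩ := hx
    show ρ (a ^ i) v = v
    induction i with
    | zero => simp
    | succ i ihi => rw [pow_succ, map_mul, Module.End.mul_apply, hv, ihi]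
  -- extension of scalars
  set Kb := AlgebraicClosure k
  haveI : CharP Kb p := charP_of_injective_algebraMap (algebraMap k Kb).injective p
  let B : End k V →ₐ[k] End Kb (Kb ⊗[k] V) := Module.End.baseChangeHom k Kb V
  have hB : Function.Injective B := LinearMap.baseChangeHom_injective k V Kb
  let σ : X →* End Kb (Kb ⊗[k] V) := B.toMonoidHom.comp ρ
  have hfσ : Fpf σ a r := by
    refine ⟨hr, har, fun w hw => ?_⟩
    have hinj0 : Function.Injective ⇑((ρ a : End k V) - 1) := LinearMap.ker_eq_bot.mp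
      ((LinearMap.ker_eq_bot').mpr fun v hv => hfix' v (sub_eq_zero.mp hv))
    have hinj1 : Function.Injective ⇑(B ((ρ a : End k V) - 1)) := by
      show Function.Injective ⇑(((ρ a : End k V) - 1).baseChange Kb)
      rw [LinearMap.baseChange_eq_ltensor]
      exact Module.Flat.lTensor_preserves_injective_linearMap _ hinj0
    refine hinj1 ?_
    rw [map_zero, map_sub, map_one, LinearMap.sub_apply, Module.End.one_apply, sub_eq_zero]
    exact hw
  have hfσ' : ∀ x, σ x = 1 → x = 1 := fun x hx =>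
    hfaith (hB (by rw [map_one, map_one]; exact hx))
  have haG : a ∈ Subgroup.normalizer (G : Set X) := by
    rw [Subgroup.normalizer_eq_top]; exact Subgroup.mem_top a
  haveI : Nontrivial (Kb ⊗[k] V) :=
    Module.nontrivial_of_finrank_pos (R := Kb) (by rw [Module.finrank_baseChange]; exact Module.finrank_pos)
  have hnice := nice_upTo H r _ (Kb ⊗[k] V) X σ a G le_rfl hfσ hcop (fun x _ => hfσ' x) haG
  rw [hRa] at hnice
  set T := ⁅G, R⁆ with hT
  haveI hTn : T.Normal := by
    rw [← Subgroup.normalizer_eq_top_iff, eq_top_iff, ← hX]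
    exact sup_le (Subgroup.normalizer_commutator_ge_left G R) (Subgroup.normalizer_commutator_ge_right G R)
  have hTG : T ≤ G := Subgroup.commutator_le_left G R
  -- no normal `p`-subgroup
  obtain ⟨N, hNT, hTN, hNp, hq⟩ := hnice
  haveI : (N.subgroupOf T).Normal := (Subgroup.normal_subgroupOf_iff_le_normalizer hNT).mpr hTN
  haveI := PLocal.Cores.map_subtype_pCore_normal (p := p) T
  set P := (Cfsg.pCore p T).map T.subtype with hP
  have hPp : IsPGroup p P := PLocal.Cores.isPGroup_pCore.map _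
  have hNP : N ≤ P := fun x hx => ⟨⟨x, hNT hx⟩, PLocal.Cores.le_pCore (N := N.subgroupOf T) (hNp.comap_subtype)
    (Subgroup.mem_subgroupOf.mpr hx), rfl⟩
  have hP1 : P = ⊥ := by
    let U : Submodule k V :=
      { carrier := {w | ∀ x ∈ P, ρ x w = w}
        add_mem' := fun h1 h2 x hx => by rw [map_add, h1 x hx, h2 x hx]
        zero_mem' := fun x _ => map_zero _
        smul_mem' := fun c w hw x hx => by rw [map_smul, hw x hx] }
    have hUinv : ∀ y : X, U.map (ρ y) ≤ U := by
      rintro y _ ⟨w, hw, rfl⟩ x hx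
      rw [← Module.End.mul_apply, ← map_mul, show x * y = y * (y⁻¹ * x * y) by group, map_mul,
        Module.End.mul_apply, hw _ (Subgroup.Normal.conj_mem' inferInstance x hx y)]
    have hUtop : U = ⊤ := (hirr U hUinv).resolve_left (by
      obtain ⟨w, -, hw0, hw⟩ := exists_fixed_of_pgroup (ρ := ρ) hPp (U := ⊤) top_ne_bot
        (fun _ _ _ _ => Submodule.mem_top)
      intro e
      have : w ∈ U := hw
      rw [e, Submodule.mem_bot] at this
      exact hw0 this)
    refine (Subgroup.eq_bot_iff_forall P).mpr fun x hx => hfaith ?_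
    rw [map_one]
    exact LinearMap.ext fun w => (show w ∈ U from hUtop ▸ Submodule.mem_top) x hx
  have hT2 : IsPGroup 2 T := fun x => by
    obtain ⟨i, hi⟩ := hq x x.2
    refine ⟨i, Subtype.ext ?_⟩
    have h1 := hNP hi
    rw [hP1, Subgroup.mem_bot] at h1
    rw [Subgroup.coe_pow, h1, Subgroup.coe_one]
  haveI : Fact (Nat.Prime 2) := ⟨Nat.prime_two⟩
  have hp2 : p ≠ 2 := by
    rintro rfl
    refine hne ?_
    rw [eq_bot_iff, ← hP1]
    intro x hx
    haveI := Subgroup.normal_subgroupOf (H := T) (N := T)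
    exact ⟨⟨x, hx⟩, PLocal.Cores.le_pCore (N := ⊤) (IsPGroup.to_subgroup hT2 _)
      (Subgroup.mem_top _), rfl⟩
  have hr2 : 2 ≠ r := fun e => hne (by
    obtain ⟨i, hi⟩ := IsPGroup.iff_card.mp hT2
    rcases i with _ | i
    · exact Subgroup.card_eq_one.mp (by rw [hi, pow_zero])
    · refine absurd (?_ : r ∣ Nat.card G) hcop
      refine dvd_trans ?_ (Subgroup.card_dvd_of_le hTG)
      rw [hi, ← e]
      exact dvd_pow_self 2 (Nat.succ_ne_zero i))
  have hidem : ⁅T, R⁆ = T := by
    rw [hT, ← hRa]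
    exact Coprime.commutator_commutator_eq (zpowers_le_normalizer haG) (hfσ.coprime hcop)
      (Or.inl (Fpf.zpowers_solvable a))
  have hM : Moved σ a r T 2 := by
    refine ⟨hfσ, Nat.prime_two, hT2, ?_, hr2, ?_, fun x _ => hfσ' x, by rw [hRa]; exact hidem⟩
    · intro e
      have := (CharP.cast_eq_zero_iff Kb p 2).mp e
      exact hp2 ((Nat.prime_dvd_prime_iff_eq Fact.out Nat.prime_two).mp this)
    · rw [Subgroup.normalizer_eq_top]; exact Subgroup.mem_top a
  obtain ⟨-, m, -, hm⟩ := hM.two hne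
  refine ⟨⟨m, hm⟩, fun hcomm => hne ?_, hT2, ?_⟩
  · have hc : ∀ x ∈ T, a * x = x * a := fun x hx => hM.comm_of_abelian le_rfl hM.norm
      (fun u hu v hv => congrArg Subtype.val (hcomm.is_comm.comm (⟨u, hu⟩ : T) ⟨v, hv⟩)) hx
    have h0 : ⁅T, Subgroup.zpowers a⁆ = ⊥ := comm_zpowers_eq_bot hc
    rw [hRa, hidem] at h0
    exact h0
  -- the centre
  have hctr : ∀ x : T, x ∈ Subgroup.center T ↔ (x : X) ∈ ctr T := fun x => by
    rw [Subgroup.mem_center_iff, mem_ctr]
    exact ⟨fun h => ⟨x.2, fun y hy => congrArg Subtype.val (h ⟨y, hy⟩)⟩,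
      fun h y => Subtype.ext (h.2 y y.2)⟩
  have hcomm : commutator T = Subgroup.center T := by
    refine Subgroup.map_injective T.subtype_injective ?_
    rw [Subgroup.map_subtype_commutator, ← hM.ctr_eq]
    ext x
    constructor
    · intro hx
      exact ⟨⟨x, hx.1⟩, (hctr _).mpr hx, rfl⟩
    · rintro ⟨y, hy, rfl⟩
      exact (hctr y).mp hy
  have hfr : frattini T = Subgroup.center T := by
    refine le_antisymm (Cfsg.Agent.GenA.SquareCount.frattini_le _ (fun g => ?_) fun g h => ?_) ?_
    · rw [hctr, Subgroup.coe_mul, ← sq]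
      exact hM.sq_mem_ctr g.2
    · rw [← hcomm]
      exact Subgroup.commutator_mem_commutator (Subgroup.mem_top g) (Subgroup.mem_top h)
    · rw [← hcomm]
      exact Cfsg.Agent.GenA.SquareCount.commutator_le_frattini hT2
  exact ⟨hfr, hcomm⟩

end Cfsg.Agent.Lib.ShultFlavell
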