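import Cfsg.Agent.Lib.ShultFlavell.PairAux

/-!
Two conjugates of `E` by elements commuting with `a` meet centrally.
-/

set_option autoImplicit false
set_option linter.style.haveILetI false
set_option linter.unusedSectionVars false

namespace Cfsg.Agent.Lib.ShultFlavell

open Module (End)
open scoped commutatorElement Pointwise

variable {K : Type*} [Field K] {W : Type*} [AddCommGroup W] [Module K W]
variable {Y : Type*} [Group Y] [Finite Y]
variable {ρ : Y →* End K W} {a : Y} {r p : ℕ} {G E E' : Subgroup Y}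
variable [IsAlgClosed K] [FiniteDimensional K W] [Nontrivial W] [CharP K p]

theorem Ctx.conj_mem_ptH_self (_h : Ctx ρ a r p G) {g v : Y} (hg : g ∈ ptH G E) (hv : v ∈ ptH G E) :
    g * v * g⁻¹ ∈ ptH G E :=
  mul_mem (mul_mem hg hv) (inv_mem hg)

/-- `x v x⁻¹ = v` modulo the centre puts `x` into the stabiliser. -/
theorem Ctx.mem_ptH_of_comm (h : Ctx ρ a r p G) (hE : IsE a G E) {x v : Y} (hx : x ∈ G)
    (hv : v ∈ PZ G E) (hvZ : v ∉ Zc G) (hc : ⁅x, v⁆ ∈ Zc G) : x ∈ ptH G E := by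
  refine h.point hE hv hvZ hx ?_
  rw [show x * v * x⁻¹ = ⁅x, v⁆ * v by rw [commutatorElement_def]; group]
  exact mul_mem (Zc_le_PZ hc) hv

/-- A non-central element in both `PZ`'s determines the point. -/
theorem Ctx.eq_of_mem_inter (h : Ctx ρ a r p G) (hE : IsE a G E) (hE' : IsE a G E') {v : Y}
    (hv : v ∈ PZ G E) (hv' : v ∈ PZ G E') (hvZ : v ∉ Zc G) : E' = E := by
  have hle : E' ≤ ptH G E := fun e he => h.centralizer_le_ptH hE hv hvZ (hE'.le h he)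
    ((PZ_commute h hE' hv').2 e he)
  refine Subgroup.eq_of_le_of_card_ge ?_ (hE.card_eq h hE').ge
  exact (hE'.gen h).symm.le.trans ((Subgroup.commutator_mono hle le_rfl).trans (h.comm_ptH hE).le)

/-- The action on a pair: the generating steps for `E`. -/
theorem Ctx.pair_step (h : Ctx ρ a r p G) (hE : IsE a G E) (hE' : IsE a G E') (hne : E' ≠ E) {v x : Y}
    (hv : v ∈ PZ G E') (hvH : v ∈ ptH G E) (hvZ : v ∉ Zc G) (hx : x ∈ E) :
    (⁅x, v⁆ ∈ ⁅E ⊓ E', Subgroup.zpowers a⁆ ⊔ (PZ G E ⊓ ptH G E')) ∧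
      ∀ d ∈ ⁅E ⊓ E', Subgroup.zpowers a⁆, ⁅x, d⁆ ∈ PZ G E ⊓ ptH G E' := by
  have hm := hE.moved h
  set D := ⁅E ⊓ E', Subgroup.zpowers a⁆ with hD
  have haI : a ∈ Subgroup.normalizer ((E ⊓ E' : Subgroup Y) : Set Y) := mem_normalizer_inf hE.norm hE'.norm
  have hDI : D ≤ E ⊓ E' := Coprime.commutator_le_of_le_normalizer (zpowers_le_normalizer haI)
  have hvG : v ∈ G := ptH_le hvH
  have hva : Commute v a := (PZ_commute h hE' hv).1.symm
  have hvn : v ∈ Subgroup.normalizer (E : Set Y) := hvH.2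
  have hinter : ∀ u ∈ PZ G E, u ∈ PZ G E' → u ∈ Zc G := fun u hu hu' => by
    by_contra huZ
    exact hne (h.eq_of_mem_inter hE hE' hu hu' huZ)
  have hDDZ : ∀ d ∈ D, ∀ d' ∈ D, ⁅d, d'⁆ ∈ Zc G := fun d hd d' hd' => hinter _
    (ctr_le_PZ (hm.comm_mem_ctr (hDI hd).1 (hDI hd').1))
    (ctr_le_PZ ((hE'.moved h).comm_mem_ctr (hDI hd).2 (hDI hd').2))
  obtain ⟨E1, hE1E, hE1a, hmem, hcom, hsp⟩ := hm.exists_centralized_part hva
  have hE1D : ⁅E1, Subgroup.zpowers a⁆ ≤ D := by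
    have hle : ⁅E1, Subgroup.zpowers a⁆ ≤ E1 :=
      Coprime.commutator_le_of_le_normalizer (zpowers_le_normalizer hE1a)
    have hidem := h.comm_idem (hE1E.trans (hE.le h)) hE1a
    rw [← hidem]
    refine Subgroup.commutator_mono (le_inf (hle.trans hE1E) ?_) le_rfl
    rw [← hidem, ← h.comm_ptH hE']
    refine Subgroup.commutator_mono (fun e he => h.centralizer_le_ptH hE' hv hvZ
      (hE.le h (hE1E (hle he))) (hcom e he).eq.symm) le_rfl
  -- `v` inverts `⁅x, v⁆`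
  set x1 := ⁅x, v⁆ with hx1
  have hx1E : x1 ∈ E := by
    rw [hx1, commutatorElement_def, show x * v * x⁻¹ * v⁻¹ = x * (v * x⁻¹ * v⁻¹) by group]
    exact mul_mem hx ((Subgroup.mem_normalizer_iff.mp hvn _).mp (inv_mem hx))
  have hinv : v * x1 * v⁻¹ = x1⁻¹ := by
    have hz := PZ_sq h hE' hv
    have e1 : v * x1 * v⁻¹ = v * x * v * x⁻¹ * (v ^ 2)⁻¹ := by
      rw [hx1, commutatorElement_def, sq]; group
    rw [e1, mul_assoc _ x⁻¹, h.comm_Zc (inv_mem hz) x⁻¹, hx1, commutatorElement_inv, commutatorElement_def,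
      show v * x * v * ((v ^ 2)⁻¹ * x⁻¹) = v * x * v⁻¹ * x⁻¹ by rw [sq]; group]
  have hx1mem : x1 ∈ E1 := (hmem x1).mpr ⟨hx1E, by
    rw [commutatorElement_def, hinv, ← mul_inv_rev, ← sq]
    exact inv_mem (hm.sq_mem_ctr hx1E)⟩
  obtain ⟨d1, hd1, hφ⟩ := hsp x1 hx1mem
  set φ := d1⁻¹ * x1 with hφ'
  have hd1D : d1 ∈ D := hE1D hd1
  have hd1v : Commute v d1 := hcom d1 hd1
  -- the central part lies in the other stabiliser
  have hφF : φ ∈ ptH G E' := by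
    refine h.mem_ptH_of_comm hE' (hE.le h hφ.1) hv hvZ ?_
    have h1 : v * φ * v⁻¹ = d1⁻¹ * x1⁻¹ := by
      rw [← hinv, hφ', show v * (d1⁻¹ * x1) * v⁻¹ = (v * d1⁻¹) * x1 * v⁻¹ by group, hd1v.inv_right.eq]
      group
    have h2 : φ⁻¹ = φ := inv_eq_of_mul_eq_one_right (hm.ctr_sq hφ)
    have h3 : x1 = d1 * φ := by rw [hφ']; group
    have h4 : d1 ^ 2 ∈ Zc G := hinter _ (ctr_le_PZ (hm.sq_mem_ctr (hDI hd1D).1))
      (ctr_le_PZ ((hE'.moved h).sq_mem_ctr (hDI hd1D).2))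
    have h6 : d1⁻¹ * φ = φ * d1⁻¹ := (mem_ctr.mp hφ).2 d1⁻¹ (inv_mem (hDI hd1D).1)
    have h5 : ⁅v, φ⁆ = (d1 ^ 2)⁻¹ := by
      calc ⁅v, φ⁆ = v * φ * v⁻¹ * φ⁻¹ := commutatorElement_def v φ
        _ = d1⁻¹ * (φ * d1⁻¹) * φ := by rw [h1, h2, h3, mul_inv_rev, h2]
        _ = d1⁻¹ * d1⁻¹ * (φ * φ) := by rw [← h6]; group
        _ = (d1 ^ 2)⁻¹ := by rw [hm.ctr_sq hφ, mul_one, sq, mul_inv_rev]
    rw [← commutatorElement_inv, h5, inv_inv]
    exact h4
  refine ⟨?_, fun d hd => ?_⟩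
  · rw [show x1 = d1 * φ by rw [hφ']; group]
    exact mul_mem (Subgroup.mem_sup_left hd1D) (Subgroup.mem_sup_right ⟨ctr_le_PZ hφ, hφF⟩)
  · have hxd : ⁅x, d⁆ ∈ ctr E := hm.comm_mem_ctr hx (hDI hd).1
    refine ⟨ctr_le_PZ hxd, h.mem_ptH_of_comm hE' (hE.le h hxd.1) hv hvZ ?_⟩
    have hvd : Commute v d := ((PZ_commute h hE' hv).2 d (hDI hd).2).symm
    have e1 : v * ⁅x, d⁆ * v⁻¹ = ⁅x1⁻¹ * x, d⁆ := by
      calc v * ⁅x, d⁆ * v⁻¹ = ⁅v * x * v⁻¹, v * d * v⁻¹⁆ := by simp [commutatorElement_def, mul_assoc]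
        _ = _ := by
          rw [hvd.eq, mul_inv_cancel_right, hx1, commutatorElement_inv, commutatorElement_def v x,
            inv_mul_cancel_right]
    have e2 : ⁅x1⁻¹ * x, d⁆ = ⁅x, d⁆ * ⁅d1⁻¹, d⁆ := by
      have e4 : x1⁻¹ = d1⁻¹ * φ := by
        rw [show x1 = d1 * φ by rw [hφ']; group, mul_inv_rev, inv_eq_of_mul_eq_one_right (hm.ctr_sq hφ),
          ← (mem_ctr.mp hφ).2 d1⁻¹ (inv_mem (hDI hd1D).1)]
      rw [commutatorElement_mul_left_eq_conj_mul, (mem_ctr.mp hxd).2 _ (inv_mem hx1E), mul_inv_cancel_right, e4]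
      congr 1
      have := comm_mul_ctr (inv_mem (hDI hd1D).1) (hDI hd).1 hφ (one_mem (ctr E))
      rwa [mul_one] at this
    have h4 := hDDZ _ (inv_mem hd1D) _ hd
    have e3 : ⁅v, ⁅x, d⁆⁆ = ⁅d1⁻¹, d⁆ := by
      rw [commutatorElement_def v, e1, e2, ← (h.comm_Zc h4 ⁅x, d⁆).symm, mul_inv_cancel_right]
    rw [← commutatorElement_inv, e3]
    exact inv_mem h4

/-- A non-central element of another `PZ` does not stabilise `E`. -/
theorem Ctx.fixed_far (h : Ctx ρ a r p G) (hE : IsE a G E) (hE' : IsE a G E') {v : Y} (hv : v ∈ PZ G E')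
    (hvH : v ∈ ptH G E) (hvZ : v ∉ Zc G) : E' = E := by
  classical
  by_contra hne
  haveI := h.normal
  set D := ⁅E ⊓ E', Subgroup.zpowers a⁆ with hD
  set A0 := PZ G E ⊓ ptH G E' with hA0
  set A1 := PZ G E' ⊓ ptH G E with hA1
  have haI : a ∈ Subgroup.normalizer ((E ⊓ E' : Subgroup Y) : Set Y) := mem_normalizer_inf hE.norm hE'.norm
  have hDI : D ≤ E ⊓ E' := Coprime.commutator_le_of_le_normalizer (zpowers_le_normalizer haI)
  set N0 := D ⊔ A0 ⊔ A1 with hN0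
  have hgen : ∀ E₁ E₂ : Subgroup Y, IsE a G E₁ → IsE a G E₂ → E₂ ≠ E₁ →
      (∃ w ∈ PZ G E₂, w ∈ ptH G E₁ ∧ w ∉ Zc G) → ∀ x ∈ E₁,
      (∀ n ∈ ⁅E₁ ⊓ E₂, Subgroup.zpowers a⁆, x * n * x⁻¹ ∈
        ⁅E₁ ⊓ E₂, Subgroup.zpowers a⁆ ⊔ (PZ G E₁ ⊓ ptH G E₂)) ∧
      (∀ n ∈ PZ G E₁ ⊓ ptH G E₂, x * n * x⁻¹ = n) ∧
      (∀ n ∈ PZ G E₂ ⊓ ptH G E₁, x * n * x⁻¹ ∈
        ⁅E₁ ⊓ E₂, Subgroup.zpowers a⁆ ⊔ (PZ G E₁ ⊓ ptH G E₂) ⊔ (PZ G E₂ ⊓ ptH G E₁)) := by
    intro E₁ E₂ h₁ h₂ hne' ⟨w, hw, hwH, hwZ⟩ x hx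
    refine ⟨fun n hn => ?_, fun n hn => ?_, fun n hn => ?_⟩
    · rw [show x * n * x⁻¹ = ⁅x, n⁆ * n by rw [commutatorElement_def]; group]
      exact mul_mem (Subgroup.mem_sup_right ((h.pair_step h₁ h₂ hne' hw hwH hwZ hx).2 n hn))
        (Subgroup.mem_sup_left hn)
    · rw [(PZ_commute h h₁ hn.1).2 x hx, mul_inv_cancel_right]
    · rcases em (n ∈ Zc G) with hnZ | hnZ
      · rw [h.conj_Zc hnZ]; exact Subgroup.mem_sup_right hn
      · rw [show x * n * x⁻¹ = ⁅x, n⁆ * n by rw [commutatorElement_def]; group]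
        exact mul_mem (Subgroup.mem_sup_left (h.pair_step h₁ h₂ hne' hn.1 hn.2 hnZ hx).1)
          (Subgroup.mem_sup_right hn)
  -- some non-central element of `PZ G E` stabilises `E'`
  obtain ⟨w', hw', hw'H, hw'Z⟩ : ∃ w' ∈ PZ G E, w' ∈ ptH G E' ∧ w' ∉ Zc G := by
    by_cases hall : PZ G E ≤ ptH G E'
    · by_contra hcon
      push Not at hcon
      have hPZ : PZ G E ≤ Zc G := fun u hu => hcon u hu (hall hu)
      refine hvZ (hPZ ?_)
      have hvE : ∀ x ∈ E, Commute v x := fun x hx =>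
        (hE.moved h).commute_of_mod_ctr (PZ_commute h hE' hv).1.symm (fun y hy => by
          have h1 : ⁅v, y⁆ ∈ E := by
            rw [commutatorElement_def]
            exact mul_mem ((Subgroup.mem_normalizer_iff.mp hvH.2 y).mp hy) (inv_mem hy)
          have hvc : ∀ z ∈ ctr E, Commute v z := fun z hz => h.center_commute (hPZ (ctr_le_PZ hz)) v
          exact mem_ctr.mpr ⟨h1, fun u hu => by
            have hd := (hE.moved h).centralizes_of_ctr hvH.2 (PZ_commute h hE' hv).1.symm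
              (h.order_coprime (ptH_le hvH)) (fun z hz => (hvc z hz).eq) y hy
            rw [show ⁅v, y⁆ = 1 from commutatorElement_eq_one_iff_mul_comm.mpr hd, mul_one, one_mul]⟩) hx
      have hle : E ≤ ptH G E' := fun x hx => h.centralizer_le_ptH hE' hv hvZ (hE.le h hx) (hvE x hx).eq.symm
      exfalso
      exact hne (Subgroup.eq_of_le_of_card_ge ((hE.gen h).symm.le.trans
        ((Subgroup.commutator_mono hle le_rfl).trans (h.comm_ptH hE').le)) (hE.card_eq h hE').le).symm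
    · obtain ⟨f, hf, hfF⟩ := SetLike.not_le_iff_exists.mp hall
      have hfG : f ∈ G := ptH_le (PZ_le h hE hf)
      have hc : ⁅f, v⁆ ∈ PZ G E := by
        rw [commutatorElement_def, show f * v * f⁻¹ * v⁻¹ = f * (v * f⁻¹ * v⁻¹) by group]
        exact mul_mem hf (h.mem_PZ_conj hvH.2 hE (inv_mem hf))
      refine ⟨⁅f, v⁆, hc, ?_, fun hz => hfF (h.mem_ptH_of_comm hE' hfG hv hvZ hz)⟩
      refine h.mem_ptH_of_comm hE' (ptH_le (PZ_le h hE hc)) hv hvZ ?_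
      have hf2 : f ^ 2 ∈ Zc G := PZ_sq h hE hf
      have hv2 : v ^ 2 ∈ Zc G := PZ_sq h hE' hv
      have hc2 : ⁅f, v⁆ ^ 2 ∈ Zc G := PZ_sq h hE hc
      have e1 : v * ⁅f, v⁆ * v⁻¹ = ⁅f, v⁆⁻¹ := by
        have e : v * ⁅f, v⁆ * v⁻¹ = v * f * v * f⁻¹ * (v ^ 2)⁻¹ := by
          rw [commutatorElement_def, sq]; group
        rw [e, mul_assoc _ f⁻¹, h.comm_Zc (inv_mem hv2) f⁻¹, commutatorElement_inv, commutatorElement_def,
          show v * f * v * ((v ^ 2)⁻¹ * f⁻¹) = v * f * v⁻¹ * f⁻¹ by rw [sq]; group]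
      rw [← commutatorElement_inv, commutatorElement_def v, e1, ← mul_inv_rev, inv_inv, ← sq]
      exact hc2
  have h1 := hgen E E' hE hE' hne ⟨v, hv, hvH, hvZ⟩
  have h2 := hgen E' E hE' hE (Ne.symm hne) ⟨w', hw', hw'H, hw'Z⟩
  rw [inf_comm E' E] at h2
  have hEN : E ≤ Subgroup.normalizer (N0 : Set Y) := by
    intro x hx
    obtain ⟨hd, h0, hA⟩ := h1 x hx
    refine mem_normalizer_of_conj_mem ?_
    have hle : N0 ≤ N0.comap ((MulAut.conj x : Y ≃* Y) : Y →* Y) := by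
      refine sup_le (sup_le ?_ ?_) ?_
      · exact fun n hn => Subgroup.mem_sup_left (hd n hn)
      · exact fun n hn => Subgroup.mem_sup_left (Subgroup.mem_sup_right (by
          show x * n * x⁻¹ ∈ A0; rw [h0 n hn]; exact hn))
      · exact fun n hn => hA n hn
    exact fun n hn => hle hn
  have hE'N : E' ≤ Subgroup.normalizer (N0 : Set Y) := by
    intro x hx
    obtain ⟨hd, h0, hA⟩ := h2 x hx
    have hN0' : N0 = D ⊔ A1 ⊔ A0 := by rw [hN0, sup_assoc, sup_comm A0, ← sup_assoc]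
    refine mem_normalizer_of_conj_mem ?_
    have hle : N0 ≤ N0.comap ((MulAut.conj x : Y ≃* Y) : Y →* Y) := by
      refine sup_le (sup_le ?_ ?_) ?_
      · exact fun n hn => hN0' ▸ Subgroup.mem_sup_left (hd n hn)
      · exact fun n hn => hN0' ▸ hA n hn
      · exact fun n hn => Subgroup.mem_sup_right (by
          show x * n * x⁻¹ ∈ A1; rw [h0 n hn]; exact hn)
    exact fun n hn => hle hn
  have hN0H : N0 ≤ ptH G E := sup_le (sup_le ((hDI.trans inf_le_left).trans (h.E_le_ptH hE))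
    (inf_le_left.trans (PZ_le h hE))) inf_le_right
  have haN : a ∈ Subgroup.normalizer (N0 : Set Y) := by
    have hPa : ∀ {F : Subgroup Y}, IsE a G F → a ∈ Subgroup.normalizer (PZ G F : Set Y) := fun hF =>
      mem_normalizer_of_conj_mem fun u hu => by rw [(PZ_commute h hF hu).1, mul_inv_cancel_right]; exact hu
    exact mem_normalizer_sup (mem_normalizer_sup (Ctx.comm_norm haI)
      (mem_normalizer_inf (hPa hE) (h.norm_ptH hE'))) (mem_normalizer_inf (hPa hE') (h.norm_ptH hE))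
  set X := G ⊓ Subgroup.normalizer (N0 : Set Y)
  have hXlt : X < G := by
    refine inf_le_left.lt_of_ne fun e => ?_
    haveI : N0.Normal := h.normal_of (fun g hg => (show g ∈ G ⊓ Subgroup.normalizer (N0 : Set Y) by rw [e]; exact hg).2) haN
    exact hvZ (h.normal_lt_central (hN0H.trans_lt (h.ptH_lt hE)) (Subgroup.mem_sup_right ⟨hv, hvH⟩))
  have hXH : X ≤ ptH G E := h.le_ptH hE hXlt (mem_normalizer_inf h.a_norm (Subgroup.le_normalizer haN))
    (le_inf (hE.le h) hEN)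
  have hE'H : E' ≤ ptH G E := (le_inf (hE'.le h) hE'N).trans hXH
  exact hne (Subgroup.eq_of_le_of_card_ge ((hE'.gen h).symm.le.trans
    ((Subgroup.commutator_mono hE'H le_rfl).trans (h.comm_ptH hE).le)) (hE.card_eq h hE').ge)

end Cfsg.Agent.Lib.ShultFlavell
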