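import Cfsg.Agent.Lib.ShultFlavell.PairAux

/-!
Elements of `C(a)` fixing `ctr E` modulo the centre of `G` without centralising it.
-/

set_option autoImplicit false
set_option linter.style.haveILetI false
set_option linter.unusedSectionVars false

namespace Cfsg.Agent.Lib.ShultFlavell

open Module (End)
open scoped commutatorElement

variable {K : Type*} [Field K] {W : Type*} [AddCommGroup W] [Module K W]
variable {Y : Type*} [Group Y] [Finite Y]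
variable {ρ : Y →* End K W} {a : Y} {r p : ℕ} {G E : Subgroup Y}
variable [IsAlgClosed K] [FiniteDimensional K W] [Nontrivial W] [CharP K p]

/-- A non-identity central element of `G` inside `ctr E` leaves no trivial piece. -/
theorem Ctx.exc_of_central (h : Ctx ρ a r p G) (hm : Moved ρ a r E 2) {z0 : Y} (hz0 : z0 ∈ ctr E)
    (hz0Z : z0 ∈ Zc G) (hz01 : z0 ≠ 1) {χ : ctr E → K} (hne : piece ρ E χ ≠ ⊥) : Exc ρ a r E χ := by
  refine (hm.piece_cases χ).resolve_left fun ht => ?_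
  obtain ⟨w, hw, hw0⟩ := Submodule.exists_mem_ne_zero_of_ne_bot hne
  exact hz01 (h.eq_one_of_fix hz0Z hw0 (ht z0 hz0.1 w hw))

/-- If `c` in `C(a)` induces a transvection on `ctr E`, the elements of `E` centralised by `c` modulo
`ctr E` are the commutators with `c`, and their commutators are central in `G`. -/
theorem Ctx.transvection (h : Ctx ρ a r p G) (hE : IsE a G E) {c : Y}
    (hc : c ∈ Subgroup.normalizer (E : Set Y)) (hca : Commute c a)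
    (hc2 : ∀ x ∈ E, Commute (c ^ 2) x) (hfix : ∀ z ∈ ctr E, ⁅c, z⁆ ∈ Zc G) {z₀ : Y} (hz₀ : z₀ ∈ ctr E)
    (hne : ⁅c, z₀⁆ ≠ 1) :
    (∀ x ∈ E, ⁅c, x⁆ ∈ ctr E → ∃ y ∈ E, x⁻¹ * ⁅c, y⁆ ∈ ctr E) ∧
      ∀ x ∈ E, ⁅c, x⁆ ∈ ctr E → ∀ x' ∈ E, ⁅c, x'⁆ ∈ ctr E → ⁅x, x'⁆ ∈ Zc G := by
  classical
  have hm := hE.moved h
  have hepsC : ∀ z ∈ ctr E, ⁅c, z⁆ ∈ ctr E := fun z hz => by
    rw [commutatorElement_def]
    exact mul_mem (hm.mem_ctr_conj hc hz) (inv_mem hz)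
  have hExc : ∀ χ : ctr E → K, piece ρ E χ ≠ ⊥ → Exc ρ a r E χ := fun χ =>
    h.exc_of_central hm (hepsC z₀ hz₀) (hfix z₀ hz₀) hne
  have hcE : ∀ x ∈ E, c * x * c⁻¹ ∈ E := fun x hx => (Subgroup.mem_normalizer_iff.mp hc x).mp hx
  have hcE' : ∀ x ∈ E, c⁻¹ * x * c ∈ E := fun x hx => (Subgroup.mem_normalizer_iff''.mp hc x).mp hx
  have hepsmul : ∀ u ∈ ctr E, ∀ v ∈ ctr E, ⁅c, u * v⁆ = ⁅c, u⁆ * ⁅c, v⁆ := fun u hu v hv => by
    rw [commutatorElement_mul_right_eq_mul_conj, mul_assoc _ u, (mem_ctr.mp (hepsC v hv)).2 u hu.1]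
    group
  -- `D x y` is the value of the transvection on `⁅x, y⁆`
  let D : Y → Y → Y := fun x y => ⁅c, ⁅x, y⁆⁆
  have hDc : ∀ x ∈ E, ∀ y ∈ E, D x y ∈ ctr E ∧ D x y ∈ Zc G := fun x hx y hy =>
    ⟨hepsC _ (hm.comm_mem_ctr hx hy), hfix _ (hm.comm_mem_ctr hx hy)⟩
  have hD1 : ∀ x ∈ E, ∀ y ∈ E, ∀ χ : ctr E → K, Exc ρ a r E χ → bit χ (D x y) = 0 → D x y = 1 :=
    fun x hx y hy χ hχ hb => h.eq_one_of_bit hχ (hDc x hx y hy).1 (hDc x hx y hy).2 hb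
  have hDmul : ∀ x ∈ E, ∀ x' ∈ E, ∀ y ∈ E, D (x * x') y = D x y * D x' y := fun x hx x' hx' y hy => by
    have h1 := hm.comm_mem_ctr hx' hy
    show ⁅c, ⁅x * x', y⁆⁆ = _
    rw [commutatorElement_mul_left_eq_conj_mul, (mem_ctr.mp h1).2 x hx, mul_inv_cancel_right,
      hepsmul _ h1 _ (hm.comm_mem_ctr hx hy)]
    exact (mem_ctr.mp (hepsC _ (hm.comm_mem_ctr hx hy))).2 _ (hepsC _ h1).1
  have hDswap : ∀ x ∈ E, ∀ y ∈ E, D x y = D y x := fun x hx y hy => by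
    show ⁅c, ⁅x, y⁆⁆ = ⁅c, ⁅y, x⁆⁆
    rw [← commutatorElement_inv x y, inv_eq_of_mul_eq_one_right (hm.commutator_sq hx hy)]
  have hDconj : ∀ x ∈ E, ∀ y ∈ E, D (c * x * c⁻¹) (c * y * c⁻¹) = D x y := fun x hx y hy => by
    show ⁅c, ⁅c * x * c⁻¹, c * y * c⁻¹⁆⁆ = ⁅c, ⁅x, y⁆⁆
    have e : ⁅c, ⁅c * x * c⁻¹, c * y * c⁻¹⁆⁆ = c * ⁅c, ⁅x, y⁆⁆ * c⁻¹ := by
      simp [commutatorElement_def, mul_assoc]
    rw [e, h.conj_Zc (hfix _ (hm.comm_mem_ctr hx hy))]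
  have hbc : ∀ χ : ctr E → K, piece ρ E χ ≠ ⊥ → ∀ x ∈ E, ∀ y ∈ E,
      bit χ ⁅c * x * c⁻¹, c * y * c⁻¹⁆ = bit χ ⁅x, y⁆ + bit χ (D x y) := fun χ hχ x hx y hy => by
    have hz := hm.comm_mem_ctr hx hy
    rw [show ⁅c * x * c⁻¹, c * y * c⁻¹⁆ = ⁅c, ⁅x, y⁆⁆ * ⁅x, y⁆ by simp [commutatorElement_def, mul_assoc],
      hm.bit_mul hχ rfl (hepsC _ hz) hz, add_comm]
  -- the radical of `D`
  have hrad : ∀ x ∈ E, (∀ y ∈ E, D x y = 1) → x ∈ ctr E := by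
    intro x₁ hx₁ hD₁
    let S : Subgroup Y :=
      { carrier := {x | x ∈ E ∧ ∀ y ∈ E, D x y = 1}
        one_mem' := ⟨one_mem E, fun y _ => by
          show ⁅c, ⁅1, y⁆⁆ = 1; rw [commutatorElement_one_left, commutatorElement_one_right]⟩
        mul_mem' := fun {x x'} hx hx' => ⟨mul_mem hx.1 hx'.1, fun y hy => by
          rw [hDmul x hx.1 x' hx'.1 y hy, hx.2 y hy, hx'.2 y hy, one_mul]⟩
        inv_mem' := fun {x} hx => ⟨inv_mem hx.1, fun y hy => by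
          have := hDmul x hx.1 x⁻¹ (inv_mem hx.1) y hy
          rw [mul_inv_cancel, hx.2 y hy, one_mul] at this
          rw [← this]; show ⁅c, ⁅1, y⁆⁆ = 1; rw [commutatorElement_one_left, commutatorElement_one_right]⟩ }
    have hSE : S ≤ E := fun x hx => hx.1
    have hSa : ∀ x ∈ S, a * x * a⁻¹ ∈ S := by
      intro x ⟨hx, hD⟩
      refine ⟨(Subgroup.mem_normalizer_iff.mp hm.norm x).mp hx, fun y hy => ?_⟩
      have hy' : a⁻¹ * y * a ∈ E := (Subgroup.mem_normalizer_iff''.mp hm.norm y).mp hy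
      show ⁅c, ⁅a * x * a⁻¹, y⁆⁆ = 1
      rw [show ⁅a * x * a⁻¹, y⁆ = a * ⁅x, a⁻¹ * y * a⁆ * a⁻¹ by simp [commutatorElement_def, mul_assoc],
        hm.comm_ctr (hm.comm_mem_ctr hx hy'), mul_inv_cancel_right]
      exact hD _ hy'
    have hSc : ∀ x ∈ S, c⁻¹ * x * c ∈ S := by
      intro x ⟨hx, hD⟩
      refine ⟨hcE' x hx, fun y hy => ?_⟩
      rw [← hDconj _ (hcE' x hx) y hy, show c * (c⁻¹ * x * c) * c⁻¹ = x by group]
      exact hD _ (hcE y hy)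
    refine hm.mem_ctr_of_pieces hx₁ fun χ hχ => ?_
    by_contra hxr
    have hne' := hχ.piece_ne
    have hcov : ∀ e ∈ E, ∃ s ∈ S, s⁻¹ * e ∈ rad ρ E χ := fun e he =>
      hχ.cover hm hSE hSa (fun hle => hxr (hle ⟨hx₁, hD₁⟩)) he
    have hradc : ∀ y ∈ rad ρ E χ, c * y * c⁻¹ ∈ rad ρ E χ := by
      intro y hy
      refine (hm.mem_rad_iff_bit hne' (hcE y (rad_le hy))).mpr fun e he => ?_
      obtain ⟨s, hs, hsr⟩ := hcov e he
      have h1 := hm.bit_comm_right hne' rfl (hcE y (rad_le hy)) (hSE hs) (rad_le hsr)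
      rw [mul_inv_cancel_left, hm.bit_comm_swap (hcE y (rad_le hy)) (rad_le hsr),
        (hm.mem_rad_iff_bit hne' (rad_le hsr)).mp hsr _ (hcE y (rad_le hy)), add_zero] at h1
      have hs' := hSc s hs
      have h2 := hbc χ hne' y (rad_le hy) _ hs'.1
      rw [show c * (c⁻¹ * s * c) * c⁻¹ = s by group, (hm.mem_rad_iff_bit hne' (rad_le hy)).mp hy _ hs'.1,
        zero_add, hDswap y (rad_le hy) _ hs'.1, hs'.2 y (rad_le hy), Moved.bit_one (ρ := ρ) hne'] at h2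
      rw [h1, h2]
    have hcomm : ∀ x ∈ E, ∀ y ∈ E, D x y = 1 := by
      intro x hx y hy
      refine hD1 x hx y hy χ hχ ?_
      obtain ⟨s, hs, hsr⟩ := hcov x hx
      set t := s⁻¹ * x with ht
      have ex : x = s * t := by rw [ht]; group
      have htE : t ∈ E := rad_le hsr
      have h1 := hbc χ hne' x hx y hy
      have e1 : bit χ ⁅c * x * c⁻¹, c * y * c⁻¹⁆ = bit χ ⁅x, y⁆ := by
        rw [ex, show c * (s * t) * c⁻¹ = c * s * c⁻¹ * (c * t * c⁻¹) by group,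
          hm.bit_comm_left hne' rfl (hcE s hs.1) (hcE t htE) (hcE y hy),
          hm.bit_comm_left hne' rfl hs.1 htE hy,
          (hm.mem_rad_iff_bit hne' (rad_le hsr)).mp hsr y hy,
          (hm.mem_rad_iff_bit hne' (hcE t htE)).mp (hradc t hsr) _ (hcE y hy),
          hbc χ hne' s hs.1 y hy, hs.2 y hy, Moved.bit_one (ρ := ρ) hne']
        simp
      rw [e1] at h1
      exact left_eq_add.mp h1
    refine hne ?_
    have hgenc : ∀ z ∈ ⁅E, E⁆, ⁅c, z⁆ = 1 := by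
      intro z hz
      refine Subgroup.closure_induction (p := fun z _ => ⁅c, z⁆ = 1) ?_ (commutatorElement_one_right c) ?_ ?_
        (show z ∈ Subgroup.closure {g | ∃ x ∈ E, ∃ y ∈ E, ⁅x, y⁆ = g} from Subgroup.commutator_def E E ▸ hz)
      · rintro _ ⟨x, hx, y, hy, rfl⟩
        exact hcomm x hx y hy
      · intro u v _ _ h1 h2
        rw [commutatorElement_mul_right_eq_mul_conj, h1, h2]
        group
      · intro u _ h1
        rw [commutatorElement_eq_one_iff_commute] at h1 ⊢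
        exact h1.inv_right
    exact hgenc z₀ (hm.ctr_eq ▸ hz₀)
  -- commutators with `c`
  have hK : ∀ x ∈ E, ⁅c, x⁆ ∈ ctr E → ∀ y ∈ E, ∀ χ : ctr E → K, piece ρ E χ ≠ ⊥ →
      bit χ ⁅x, ⁅c, y⁆⁆ = bit χ (D x y) := by
    intro x hx hxc y hy χ hχ
    have h1 := hbc χ hχ x hx y hy
    have e1 : c * x * c⁻¹ = x * ⁅c, x⁆ := by
      rw [(mem_ctr.mp hxc).2 x hx, commutatorElement_def, inv_mul_cancel_right]
    have e3 : ⁅c * x * c⁻¹, c * y * c⁻¹⁆ = ⁅x, ⁅c, y⁆ * y⁆ := by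
      have e2 : c * y * c⁻¹ = ⁅c, y⁆ * y := by rw [commutatorElement_def, inv_mul_cancel_right]
      rw [e1, e2]
      have hcy : ⁅c, y⁆ * y ∈ E := e2 ▸ hcE y hy
      have := comm_mul_ctr hx hcy hxc (one_mem (ctr E))
      rwa [mul_one] at this
    have hIy : ⁅c, y⁆ ∈ E := by rw [commutatorElement_def]; exact mul_mem (hcE y hy) (inv_mem hy)
    rw [e3, hm.bit_comm_right hχ rfl hx hIy hy, add_comm] at h1
    exact add_left_cancel h1
  let I : Subgroup Y :=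
    { carrier := {x | x ∈ E ∧ ∃ y ∈ E, x⁻¹ * ⁅c, y⁆ ∈ ctr E}
      one_mem' := ⟨one_mem E, 1, one_mem E, by simp⟩
      mul_mem' := fun {x x'} ⟨hx, y, hy, e⟩ ⟨hx', y', hy', e'⟩ => ⟨mul_mem hx hx', y * y', mul_mem hy hy', by
        have hy1 : ⁅c, y'⁆ ∈ E := by rw [commutatorElement_def]; exact mul_mem (hcE y' hy') (inv_mem hy')
        have hA := hm.comm_mem_ctr hy hy1
        rw [commutatorElement_mul_right_eq_mul_conj, mul_inv_rev,
          show x'⁻¹ * x⁻¹ * (⁅c, y⁆ * y * ⁅c, y'⁆ * y⁻¹) =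
            x'⁻¹ * (x⁻¹ * ⁅c, y⁆) * (⁅y, ⁅c, y'⁆⁆ * ⁅c, y'⁆) by simp [commutatorElement_def, mul_assoc],
          ← (mem_ctr.mp hA).2 _ hy1,
          show x'⁻¹ * (x⁻¹ * ⁅c, y⁆) * (⁅c, y'⁆ * ⁅y, ⁅c, y'⁆⁆) =
            x'⁻¹ * ((x⁻¹ * ⁅c, y⁆) * ⁅c, y'⁆) * ⁅y, ⁅c, y'⁆⁆ by group,
          ← (mem_ctr.mp e).2 _ hy1, ← mul_assoc]
        exact mul_mem (mul_mem e' e) hA⟩
      inv_mem' := fun {x} ⟨hx, y, hy, e⟩ => ⟨inv_mem hx, y⁻¹, inv_mem hy, by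
        have hy1 : ⁅c, y⁆ ∈ E := by rw [commutatorElement_def]; exact mul_mem (hcE y hy) (inv_mem hy)
        have e2 : ⁅c, y⁻¹⁆ = ⁅y⁻¹, ⁅c, y⁆⁻¹⁆ * ⁅c, y⁆⁻¹ := by simp [commutatorElement_def, mul_assoc]
        have hA := hm.comm_mem_ctr (inv_mem hy) (inv_mem hy1)
        rw [inv_inv, e2, ← mul_assoc, (mem_ctr.mp hA).2 x hx, mul_assoc]
        refine mul_mem hA ?_
        have h3 : x * ⁅c, y⁆⁻¹ = x * (x⁻¹ * ⁅c, y⁆)⁻¹ * x⁻¹ := by group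
        rw [h3, (mem_ctr.mp (inv_mem e)).2 x hx, mul_inv_cancel_right]
        exact inv_mem e⟩ }
  have hIE : I ≤ E := fun x hx => hx.1
  have hIK : ∀ x ∈ I, ⁅c, x⁆ ∈ ctr E := by
    rintro x ⟨hx, y, hy, e⟩
    have hy1 : ⁅c, y⁆ ∈ E := by rw [commutatorElement_def]; exact mul_mem (hcE y hy) (inv_mem hy)
    have h1 : ⁅c, ⁅c, y⁆⁆ ∈ ctr E := by
      have e2 : c * (c * y * c⁻¹) * c⁻¹ = y := by
        have := (hc2 y hy).eq
        rw [show c * (c * y * c⁻¹) * c⁻¹ = c ^ 2 * y * (c ^ 2)⁻¹ by rw [sq]; group, this, mul_inv_cancel_right]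
      have e3 : ⁅c, ⁅c, y⁆⁆ = (y * (c * y * c⁻¹)⁻¹) ^ 2 := by
        calc ⁅c, ⁅c, y⁆⁆ = c * (c * y * c⁻¹) * c⁻¹ * (c * y * c⁻¹)⁻¹ * (y * (c * y * c⁻¹)⁻¹) := by
              simp [commutatorElement_def, mul_assoc]
          _ = _ := by rw [e2, sq]
      rw [e3]
      exact hm.sq_mem_ctr (mul_mem hy (inv_mem (hcE y hy)))
    have e1 : x = ⁅c, y⁆ * (x⁻¹ * ⁅c, y⁆)⁻¹ := by group
    rw [e1, commutatorElement_mul_right_eq_mul_conj, mul_assoc _ ⁅c, y⁆,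
      (mem_ctr.mp (hepsC _ (inv_mem e))).2 _ hy1, ← mul_assoc, mul_inv_cancel_right]
    exact mul_mem h1 (hepsC _ (inv_mem e))
  have hIa : ∀ x ∈ I, a * x * a⁻¹ ∈ I := by
    rintro x ⟨hx, y, hy, e⟩
    refine ⟨(Subgroup.mem_normalizer_iff.mp hm.norm x).mp hx, a * y * a⁻¹,
      (Subgroup.mem_normalizer_iff.mp hm.norm y).mp hy, ?_⟩
    have e2 : ⁅c, a * y * a⁻¹⁆ = a * ⁅c, y⁆ * a⁻¹ := by
      calc ⁅c, a * y * a⁻¹⁆ = ⁅a * c * a⁻¹, a * y * a⁻¹⁆ := by rw [← hca.eq, mul_inv_cancel_right]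
        _ = _ := by simp [commutatorElement_def, mul_assoc]
    rw [e2, show (a * x * a⁻¹)⁻¹ * (a * ⁅c, y⁆ * a⁻¹) = a * (x⁻¹ * ⁅c, y⁆) * a⁻¹ by group, hm.comm_ctr e,
      mul_inv_cancel_right]
    exact e
  have hbitI : ∀ x ∈ E, ⁅c, x⁆ ∈ ctr E → ∀ i ∈ I, ∀ y ∈ E, i⁻¹ * ⁅c, y⁆ ∈ ctr E →
      ∀ χ : ctr E → K, piece ρ E χ ≠ ⊥ → bit χ ⁅x, i⁆ = bit χ (D x y) := by
    intro x hx hxc i hi y hy e χ hχ
    rw [← hK x hx hxc y hy χ hχ]
    have := comm_mul_ctr hx (hIE hi) (one_mem (ctr E)) e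
    rw [mul_one, mul_inv_cancel_left] at this
    rw [this]
  have hKI : ∀ x ∈ E, ⁅c, x⁆ ∈ ctr E → x ∈ I := by
    intro x hx hxc
    obtain ⟨χ, hχ⟩ := hm.exists_exc (hE.ne_bot h)
    have hne' := hχ.piece_ne
    have hsmall : ∀ t ∈ E, ⁅c, t⁆ ∈ ctr E → (∀ i ∈ I, bit χ ⁅t, i⁆ = 0) → t ∈ ctr E := by
      intro t ht htc hb
      refine hrad t ht fun y hy => hD1 t ht y hy χ hχ ?_
      have hyI : ⁅c, y⁆ ∈ I := ⟨by rw [commutatorElement_def]; exact mul_mem (hcE y hy) (inv_mem hy), y, hy,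
        by rw [inv_mul_cancel]; exact one_mem _⟩
      rw [← hbitI t ht htc _ hyI y hy (by rw [inv_mul_cancel]; exact one_mem _) χ hne']
      exact hb _ hyI
    have hnot : ¬ I ≤ rad ρ E χ := by
      intro hle
      have hzero : ∀ t ∈ E, ∀ i ∈ I, bit χ ⁅t, i⁆ = 0 := fun t ht i hi => by
        rw [hm.bit_comm_swap ht (hIE hi)]
        exact (hm.mem_rad_iff_bit hne' (hIE hi)).mp (hle hi) t ht
      have hIc : ∀ i ∈ I, i ∈ ctr E := fun i hi => hsmall i hi.1 (hIK i hi) (hzero i hi.1)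
      have hall : ∀ t ∈ E, ⁅c, t⁆ ∈ ctr E := fun t ht =>
        hIc _ ⟨by rw [commutatorElement_def]; exact mul_mem (hcE t ht) (inv_mem ht), t, ht,
          by rw [inv_mul_cancel]; exact one_mem _⟩
      refine hχ.ne (le_antisymm rad_le fun t ht => ctr_le_rad ?_)
      exact hsmall t ht (hall t ht) (hzero t ht)
    obtain ⟨i, hi, hr'⟩ := hχ.cover hm hIE hIa hnot hx
    set t := i⁻¹ * x with ht
    have htE : t ∈ E := rad_le hr'
    have htc : ⁅c, t⁆ ∈ ctr E := by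
      have h1 : ⁅c, i⁻¹⁆ ∈ ctr E := hIK _ (inv_mem hi)
      rw [ht, commutatorElement_mul_right_eq_mul_conj, mul_assoc _ i⁻¹,
        (mem_ctr.mp hxc).2 _ (inv_mem (hIE hi)), ← mul_assoc, mul_inv_cancel_right]
      exact mul_mem h1 hxc
    have htctr : t ∈ ctr E := hsmall t htE htc fun j hj =>
      (hm.mem_rad_iff_bit hne' htE).mp hr' j (hIE hj)
    have htI : t ∈ I := ⟨htE, 1, one_mem E, by rw [commutatorElement_one_right, mul_one]; exact inv_mem htctr⟩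
    have := mul_mem hi htI
    rwa [ht, mul_inv_cancel_left] at this
  refine ⟨fun x hx hxc => (hKI x hx hxc).2, fun x hx hxc x' hx' hxc' => ?_⟩
  obtain ⟨_, y, hy, e⟩ := hKI x' hx' hxc'
  have hval : ⁅x, x'⁆ = D x y := by
    have hz := hm.comm_mem_ctr hx hx'
    have h2 : ⁅x, x'⁆ * D x y = 1 := by
      refine hm.eq_one_of_pieces (mul_mem hz.1 (hDc x hx y hy).1.1) fun χ w hw => ?_
      rcases eq_or_ne w 0 with rfl | hw0
      · rw [map_zero]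
      have hne' : piece ρ E χ ≠ ⊥ := fun e0 => hw0 ((Submodule.mem_bot K).mp (e0 ▸ hw))
      have hzz : ⁅x, x'⁆ * D x y ∈ ctr E := mul_mem hz (hDc x hx y hy).1
      rw [mem_piece.mp hw ⟨_, hzz⟩, (bit_eq_zero_iff (χ := χ) hzz).mp ?_, one_smul]
      rw [hm.bit_mul hne' rfl hz (hDc x hx y hy).1, hbitI x hx hxc x' ⟨hx', y, hy, e⟩ y hy e χ hne',
        CharTwo.add_self_eq_zero]
    rw [← inv_eq_of_mul_eq_one_right (hm.ctr_sq (hDc x hx y hy).1)]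
    exact eq_inv_of_mul_eq_one_left h2
  rw [hval]
  exact (hDc x hx y hy).2

end Cfsg.Agent.Lib.ShultFlavell
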