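import Cfsg.Agent.Lib.ShultFlavell.CaseTwo
import Cfsg.Agent.Lib.ShultFlavell.Fixed
import Cfsg.Agent.Lib.ShultFlavell.Transvection

/-!
Conjugates of `PZ` from other points meet the stabiliser of `E` centrally.
-/

set_option autoImplicit false
set_option linter.style.haveILetI false
set_option linter.unusedSectionVars false

namespace Cfsg.Agent.Lib.ShultFlavell

open Module (End)
open scoped commutatorElement

variable {K : Type*} [Field K] {W : Type*} [AddCommGroup W] [Module K W]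
variable {Y : Type*} [Group Y] [Finite Y]
variable {ρ : Y →* End K W} {a : Y} {r p : ℕ} {G E : Subgroup Y} {g w : Y}
variable [IsAlgClosed K] [FiniteDimensional K W] [Nontrivial W] [CharP K p]

theorem conj_map_mem {g v : Y} {Q : Subgroup Y} :
    v ∈ Q.map ((MulAut.conj g : Y ≃* Y) : Y →* Y) ↔ g⁻¹ * v * g ∈ Q := by
  constructor
  · rintro ⟨x, hx, rfl⟩
    show g⁻¹ * (g * x * g⁻¹) * g ∈ Q
    rwa [show g⁻¹ * (g * x * g⁻¹) * g = x by group]
  · exact fun hv => ⟨_, hv, show g * (g⁻¹ * v * g) * g⁻¹ = v by group⟩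

theorem conj_PZ_map (h : Ctx ρ a r p G) {g z : Y} (hz : z ∈ PZ G E) :
    g * z * g⁻¹ ∈ PZ G (E.map ((MulAut.conj g : Y ≃* Y) : Y →* Y)) := by
  obtain ⟨u, hu, v, hv, rfl⟩ := (mem_PZ h).mp hz
  refine (mem_PZ h).mpr ⟨g * u * g⁻¹, mem_ctr.mpr ⟨⟨u, hu.1, rfl⟩, ?_⟩, v, hv, ?_⟩
  · rintro _ ⟨e, he, rfl⟩
    show g * e * g⁻¹ * (g * u * g⁻¹) = g * u * g⁻¹ * (g * e * g⁻¹)
    calc g * e * g⁻¹ * (g * u * g⁻¹) = g * (e * u) * g⁻¹ := by group
      _ = g * (u * e) * g⁻¹ := by rw [(mem_ctr.mp hu).2 e he]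
      _ = _ := by group
  · rw [show g * (u * v) * g⁻¹ = g * u * (v * g⁻¹) by group, ← h.comm_Zc hv g⁻¹]
    group

/-- Commuting with a conjugate modulo the centre puts a conjugate into the stabiliser. -/
theorem Ctx.far_cent (h : Ctx ρ a r p G) (hE : IsE a G E) (hg : g ∈ G) (hw : w ∈ PZ G E)
    (hwZ : w ∉ Zc G) {x : Y} (hx : x ∈ G) (hc : ⁅x, g * w * g⁻¹⁆ ∈ Zc G) : g⁻¹ * x * g ∈ ptH G E := by
  refine h.mem_ptH_of_comm hE (mul_mem (mul_mem (inv_mem hg) hx) hg) hw hwZ ?_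
  rw [show ⁅g⁻¹ * x * g, w⁆ = g⁻¹ * ⁅x, g * w * g⁻¹⁆ * g⁻¹⁻¹ by simp [commutatorElement_def, mul_assoc],
    h.conj_Zc hc]
  exact hc

theorem Ctx.not_mem_ptH_mul (_h : Ctx ρ a r p G) (hgH : g ∉ ptH G E) {x : Y} (hx : x ∈ ptH G E) :
    x * g ∉ ptH G E := fun e => hgH (by simpa using mul_mem (inv_mem hx) e)

/-- A conjugate at another point lying in the stabiliser does not commute with `a`. -/
theorem Ctx.good_far (h : Ctx ρ a r p G) (hE : IsE a G E) (hg : g ∈ G) (hgH : g ∉ ptH G E)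
    (hw : w ∈ PZ G E) (hwZ : w ∉ Zc G) (hu : g * w * g⁻¹ ∈ ptH G E) :
    ¬ Commute (g * w * g⁻¹) a := by
  intro hua
  obtain ⟨k, ⟨hkG, hkc⟩, hka⟩ := h.exists_fixed_conj hg (PZ_commute h hE hw).1.symm hua
  have hk : k * (g * w * g⁻¹) = g * w * g⁻¹ * k := Subgroup.mem_centralizer_singleton_iff.mp hkc
  have hkg : k * g ∈ G := mul_mem hkG hg
  have e : (k * g) * w * (k * g)⁻¹ = g * w * g⁻¹ := by
    rw [show k * g * w * (k * g)⁻¹ = k * (g * w * g⁻¹) * k⁻¹ by group, hk, mul_inv_cancel_right]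
  have hv := conj_PZ_map (E := E) h (g := k * g) hw
  rw [e] at hv
  have heq := h.fixed_far hE (hE.conj h hkg hka) hv hu (h.conj_not_Zc hwZ g)
  rw [heq] at hv
  exact hgH (h.point hE hw hwZ hg hv)

/-- A non-central element in two different `PZ`'s does not exist. -/
theorem Ctx.inter_central (h : Ctx ρ a r p G) (hE : IsE a G E) (hg : g ∈ G) (hgH : g ∉ ptH G E) {v : Y}
    (hv : v ∈ PZ G E) (hv' : g⁻¹ * v * g ∈ PZ G E) : v ∈ Zc G := by
  by_contra hvZ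
  refine hgH ?_
  have := h.point hE hv hvZ (inv_mem hg) (by rwa [inv_inv])
  simpa using inv_mem this

/-- Elements of two `PZ`'s, each fixing the other point, commute modulo the centre. -/
theorem Ctx.comm_inter (h : Ctx ρ a r p G) (hE : IsE a G E) (hg : g ∈ G) (hgH : g ∉ ptH G E) {y : Y}
    (hy : y ∈ PZ G E) (hyF : g⁻¹ * y * g ∈ ptH G E) (hw : w ∈ PZ G E) (hu : g * w * g⁻¹ ∈ ptH G E) :
    ⁅y, g * w * g⁻¹⁆ ∈ Zc G := by
  refine h.inter_central hE hg hgH ?_ ?_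
  · rw [commutatorElement_def, show y * (g * w * g⁻¹) * y⁻¹ * (g * w * g⁻¹)⁻¹ =
      y * ((g * w * g⁻¹) * y⁻¹ * (g * w * g⁻¹)⁻¹) by group]
    exact mul_mem hy (h.mem_PZ_conj hu.2 hE (inv_mem hy))
  · rw [show g⁻¹ * ⁅y, g * w * g⁻¹⁆ * g = (g⁻¹ * y * g) * w * (g⁻¹ * y * g)⁻¹ * w⁻¹ by
      simp [commutatorElement_def, mul_assoc]]
    exact mul_mem (h.mem_PZ_conj hyF.2 hE hw) (inv_mem hw)

/-- If `y` fixes the point `gH`, its commutators with the `PZ` of that point stabilise `E`. -/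
theorem Ctx.comm_conj_mem (h : Ctx ρ a r p G) (hE : IsE a G E) (hg : g ∈ G) {y : Y} (hy : y ∈ PZ G E)
    (hyF : g⁻¹ * y * g ∈ ptH G E) {v : Y} (hv : g⁻¹ * v * g ∈ PZ G E) :
    g⁻¹ * ⁅v, y⁆ * g ∈ PZ G E ∧ ⁅v, y⁆ ∈ ptH G E := by
  have hvG : v ∈ G := by
    have := mul_mem (mul_mem hg (ptH_le (PZ_le h hE hv))) (inv_mem hg)
    rwa [show g * (g⁻¹ * v * g) * g⁻¹ = v by group] at this
  have hyG : y ∈ G := ptH_le (PZ_le h hE hy)
  have h1 : g⁻¹ * ⁅v, y⁆ * g ∈ PZ G E := by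
    rw [show g⁻¹ * ⁅v, y⁆ * g = (g⁻¹ * v * g) * ((g⁻¹ * y * g) * (g⁻¹ * v * g)⁻¹ * (g⁻¹ * y * g)⁻¹) by
      simp [commutatorElement_def, mul_assoc]]
    exact mul_mem hv (h.mem_PZ_conj hyF.2 hE (inv_mem hv))
  refine ⟨h1, ?_⟩
  rcases em (y ∈ Zc G) with hyZ | hyZ
  · rw [commutatorElement_eq_one_iff_commute.mpr (h.center_commute hyZ v)]
    exact one_mem _
  set c := ⁅v, y⁆ with hc
  have hc2 : c ^ 2 ∈ Zc G := by
    have h2 := PZ_sq h hE h1
    rw [show (g⁻¹ * c * g) ^ 2 = g⁻¹ * c ^ 2 * g by rw [sq, sq]; group] at h2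
    have := h.conj_Zc h2 g
    rw [show g * (g⁻¹ * c ^ 2 * g) * g⁻¹ = c ^ 2 by group] at this
    exact this ▸ h2
  have hy2 := PZ_sq h hE hy
  have e1 : y * c * y⁻¹ = c⁻¹ := by
    have e : y * c * y⁻¹ = y * v * y * v⁻¹ * (y ^ 2)⁻¹ := by
      rw [hc, commutatorElement_def, sq]; group
    rw [e, mul_assoc _ v⁻¹, h.comm_Zc (inv_mem hy2) v⁻¹, hc, commutatorElement_inv, commutatorElement_def,
      show y * v * y * ((y ^ 2)⁻¹ * v⁻¹) = y * v * y⁻¹ * v⁻¹ by rw [sq]; group]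
  have hcG : c ∈ G := by
    rw [hc, commutatorElement_def]; exact mul_mem (mul_mem (mul_mem hvG hyG) (inv_mem hvG)) (inv_mem hyG)
  refine h.mem_ptH_of_comm hE hcG hy hyZ ?_
  rw [← commutatorElement_inv, commutatorElement_def y, e1, ← mul_inv_rev, inv_inv, ← sq]
  exact hc2

/-- If `PZ` fixes another point, the `PZ` of that point stabilises `E`. -/
theorem Ctx.all_of_all (h : Ctx ρ a r p G) (hE : IsE a G E) (hg : g ∈ G)
    (hall : ∀ y ∈ PZ G E, g⁻¹ * y * g ∈ ptH G E) : ∀ w ∈ PZ G E, g * w * g⁻¹ ∈ ptH G E := by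
  classical
  intro w₀ hw₀
  rcases em (g ∈ ptH G E) with hgH | hgH
  · exact mul_mem (mul_mem hgH (PZ_le h hE hw₀)) (inv_mem hgH)
  by_contra hcon
  set Q := (PZ G E).map ((MulAut.conj g : Y ≃* Y) : Y →* Y) with hQ
  set A := Q ⊓ ptH G E with hA
  set v0 := g * w₀ * g⁻¹ with hv0
  have hv0Q : g⁻¹ * v0 * g ∈ PZ G E := by rw [hv0]; simpa [mul_assoc] using hw₀
  have hw₀Z : w₀ ∉ Zc G := fun hz => hcon (by
    rw [hv0, h.conj_Zc hz]; exact PZ_le h hE hw₀)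
  set Z' := (Zc G).subgroupOf A with hZ'
  haveI : Z'.Normal := ⟨fun n hn x => by
    rw [Subgroup.mem_subgroupOf] at hn ⊢
    rw [Subgroup.coe_mul, Subgroup.coe_mul, Subgroup.coe_inv, h.conj_Zc hn]
    exact hn⟩
  have hmem : ∀ y ∈ PZ G E, ⁅v0, y⁆ ∈ A := fun y hy => by
    obtain ⟨h1, h2⟩ := h.comm_conj_mem hE hg hy (hall y hy) hv0Q
    exact ⟨conj_map_mem.mpr h1, h2⟩
  let f : PZ G E →* A ⧸ Z' := MonoidHom.mk' (fun y => QuotientGroup.mk ⟨⁅v0, (y : Y)⁆, hmem y y.2⟩)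
    fun y y' => by
      rw [← QuotientGroup.mk_mul]
      refine QuotientGroup.eq.mpr (Subgroup.mem_subgroupOf.mpr ?_)
      simp only [Subgroup.coe_mul, Subgroup.coe_inv, MulMemClass.mk_mul_mk]
      have h1 := hmem y' y'.2
      have h2 : ⁅(y : Y), ⁅v0, (y' : Y)⁆⁆ ∈ Zc G := by
        have := h.comm_inter hE hg hgH y.2 (hall y y.2) (conj_map_mem.mp h1.1)
          (by rw [show g * (g⁻¹ * ⁅v0, (y' : Y)⁆ * g) * g⁻¹ = ⁅v0, (y' : Y)⁆ by group]; exact h1.2)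
        rwa [show g * (g⁻¹ * ⁅v0, (y' : Y)⁆ * g) * g⁻¹ = ⁅v0, (y' : Y)⁆ by group] at this
      rw [show ⁅v0, (y : Y) * y'⁆⁻¹ * (⁅v0, (y : Y)⁆ * ⁅v0, (y' : Y)⁆) =
        ⁅(y : Y), ⁅v0, (y' : Y)⁆⁻¹⁆ by simp [commutatorElement_def, mul_assoc]]
      rw [show ⁅(y : Y), ⁅v0, (y' : Y)⁆⁻¹⁆ =
        ⁅v0, (y' : Y)⁆⁻¹ * ⁅(y : Y), ⁅v0, (y' : Y)⁆⁆⁻¹ * ⁅v0, (y' : Y)⁆⁻¹⁻¹ by
          simp [commutatorElement_def, mul_assoc], h.conj_Zc (inv_mem h2)]
      exact inv_mem h2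
  have hker : f.ker ≤ (Zc G).subgroupOf (PZ G E) := by
    intro y hy
    rw [Subgroup.mem_subgroupOf]
    by_contra hyZ
    have h1 : ⁅v0, (y : Y)⁆ ∈ Zc G :=
      Subgroup.mem_subgroupOf.mp ((QuotientGroup.eq_one_iff _).mp (MonoidHom.mem_ker.mp hy))
    exact hcon (h.mem_ptH_of_comm hE (mul_mem (mul_mem hg (ptH_le (PZ_le h hE hw₀))) (inv_mem hg)) y.2 hyZ h1)
  have hZA : Zc G ≤ A := fun z hz => ⟨conj_map_mem.mpr (by
    rw [show g⁻¹ * z * g = g⁻¹ * z * g⁻¹⁻¹ by group, h.conj_Zc hz]; exact Zc_le_PZ hz),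
    PZ_le h hE (Zc_le_PZ hz)⟩
  have h1 : Nat.card (PZ G E) = Nat.card f.range * Nat.card f.ker := by
    rw [Subgroup.card_eq_card_quotient_mul_card_subgroup f.ker,
      Nat.card_congr (QuotientGroup.quotientKerEquivRange f).toEquiv]
  have h2 : Nat.card f.ker ≤ Nat.card Z' := by
    refine (Subgroup.card_le_of_le hker).trans (le_of_eq ?_)
    rw [Nat.card_congr (Subgroup.subgroupOfEquivOfLe (Zc_le_PZ (G := G) (E := E))).toEquiv,
      Nat.card_congr (Subgroup.subgroupOfEquivOfLe hZA).toEquiv]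
  have h3 : Nat.card A = Nat.card (A ⧸ Z') * Nat.card Z' := Subgroup.card_eq_card_quotient_mul_card_subgroup Z'
  have h4 : Nat.card f.range ≤ Nat.card (A ⧸ Z') := Subgroup.card_le_card_group _
  have h5 : Nat.card Q ≤ Nat.card A := by
    rw [Subgroup.card_map_of_injective (MulEquiv.injective _), h1, h3]
    exact Nat.mul_le_mul h4 h2
  have h6 : A = Q := Subgroup.eq_of_le_of_card_ge inf_le_left h5
  exact hcon (h6 ▸ conj_map_mem.mpr hv0Q : v0 ∈ A).2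

/-- If `x ∈ E` fixes another point and `x ^ 2` is not central, that point's `PZ` stabilises `E`. -/
theorem Ctx.all_of_sq (h : Ctx ρ a r p G) (hE : IsE a G E) (hg : g ∈ G) {x : Y} (hx : x ∈ E)
    (hxF : g⁻¹ * x * g ∈ ptH G E) (hx2 : x ^ 2 ∉ Zc G) : ∀ w ∈ PZ G E, g * w * g⁻¹ ∈ ptH G E := by
  by_contra hcon
  push Not at hcon
  obtain ⟨w₀, hw₀, hw₀H⟩ := hcon
  set y := x ^ 2 with hy'
  have hy : y ∈ PZ G E := ctr_le_PZ ((hE.moved h).sq_mem_ctr hx)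
  have hyF : g⁻¹ * y * g ∈ ptH G E := by
    rw [hy', show g⁻¹ * x ^ 2 * g = (g⁻¹ * x * g) ^ 2 by rw [sq, sq]; group]
    exact pow_mem hxF 2
  have hQG : ∀ v, g⁻¹ * v * g ∈ PZ G E → v ∈ G := fun v hv => by
    have := mul_mem (mul_mem hg (ptH_le (PZ_le h hE hv))) (inv_mem hg)
    rwa [show g * (g⁻¹ * v * g) * g⁻¹ = v by group] at this
  have hQsq : ∀ v, g⁻¹ * v * g ∈ PZ G E → v ^ 2 ∈ Zc G := fun v hv => by
    have h2 := PZ_sq h hE hv
    rw [show (g⁻¹ * v * g) ^ 2 = g⁻¹ * v ^ 2 * g by rw [sq, sq]; group] at h2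
    have := h.conj_Zc h2 g
    rw [show g * (g⁻¹ * v ^ 2 * g) * g⁻¹ = v ^ 2 by group] at this
    exact this ▸ h2
  have hQx : ∀ v, g⁻¹ * v * g ∈ PZ G E → g⁻¹ * ⁅v, x⁆ * g ∈ PZ G E := fun v hv => by
    rw [show g⁻¹ * ⁅v, x⁆ * g = (g⁻¹ * v * g) * ((g⁻¹ * x * g) * (g⁻¹ * v * g)⁻¹ * (g⁻¹ * x * g)⁻¹) by
      simp [commutatorElement_def, mul_assoc]]
    exact mul_mem hv (h.mem_PZ_conj hxF.2 hE (inv_mem hv))
  -- the double commutator
  have key' : ∀ v, g⁻¹ * v * g ∈ PZ G E → ∃ z ∈ Zc G, ⁅⁅v, x⁆, x⁆ = z * ⁅v, y⁆ := fun v hv => by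
    have hb := inv_mem (hQsq _ (hQx v hv))
    refine ⟨(⁅v, x⁆ ^ 2)⁻¹, hb, ?_⟩
    have e : ⁅⁅v, x⁆, x⁆ = ⁅v, x⁆ * (x * ⁅v, x⁆ * x⁻¹) * (x * (⁅v, x⁆ ^ 2)⁻¹ * x⁻¹) := by
      rw [sq]; simp [commutatorElement_def, mul_assoc]
    have e2 : ⁅v, x⁆ * (x * ⁅v, x⁆ * x⁻¹) = ⁅v, y⁆ := by
      rw [hy', sq]; simp [commutatorElement_def, mul_assoc]
    rw [e, e2, h.conj_Zc hb, h.comm_Zc hb]
  -- an element with commutator in the stabiliser
  obtain ⟨v, hv, hvH, hb⟩ : ∃ v, g⁻¹ * v * g ∈ PZ G E ∧ v ∉ ptH G E ∧ ⁅v, x⁆ ∈ ptH G E := by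
    have hv : g⁻¹ * (g * w₀ * g⁻¹) * g ∈ PZ G E := by simpa [mul_assoc] using hw₀
    by_cases hb : ⁅g * w₀ * g⁻¹, x⁆ ∈ ptH G E
    · exact ⟨_, hv, hw₀H, hb⟩
    · obtain ⟨z, hz, e⟩ := key' _ hv
      refine ⟨_, hQx _ hv, hb, ?_⟩
      rw [e]
      exact mul_mem (PZ_le h hE (Zc_le_PZ hz)) (h.comm_conj_mem hE hg hy hyF hv).2
  set b := ⁅v, x⁆ with hb'
  obtain ⟨z, hz, e⟩ := key' v hv
  have hnc : ⁅b, x⁆ ∉ Zc G := fun hc => by
    rw [e] at hc
    have := mul_mem (inv_mem hz) hc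
    rw [inv_mul_cancel_left] at this
    exact hvH (h.mem_ptH_of_comm hE (hQG v hv) hy hx2 this)
  have hbQ : g⁻¹ * ⁅b, x⁆ * g ∈ PZ G E := hQx b (hQx v hv)
  have hall : ∀ φ ∈ PZ G E, g⁻¹ * φ * g ∈ ptH G E := fun φ hφ => by
    have hφ' : b⁻¹ * φ * b * φ⁻¹ ∈ PZ G E := by
      have := h.mem_PZ_conj (inv_mem hb.2) hE hφ
      rw [inv_inv] at this
      exact mul_mem this (inv_mem hφ)
    have hxφ : Commute x φ := (PZ_commute h hE hφ).2 x hx
    have hxφ' : Commute x (b⁻¹ * φ * b * φ⁻¹) := (PZ_commute h hE hφ').2 x hx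
    have e1 : φ * ⁅b, x⁆ * φ⁻¹ = ⁅b, x⁆ := by
      calc φ * ⁅b, x⁆ * φ⁻¹ = ⁅φ * b * φ⁻¹, φ * x * φ⁻¹⁆ := by simp [commutatorElement_def, mul_assoc]
        _ = ⁅b * (b⁻¹ * φ * b * φ⁻¹), x⁆ := by
          rw [hxφ.symm.eq, mul_inv_cancel_right]
          congr 1
          group
        _ = ⁅b, x⁆ := by
          rw [commutatorElement_mul_left_eq_conj_mul, commutatorElement_eq_one_iff_commute.mpr hxφ'.symm]
          group
    have e2 : g * (g⁻¹ * ⁅b, x⁆ * g) * g⁻¹ = ⁅b, x⁆ := by group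
    refine h.far_cent hE hg hbQ (fun hc => hnc ?_) (ptH_le (PZ_le h hE hφ)) ?_
    · have := h.conj_Zc hc g
      rw [e2] at this
      exact this ▸ hc
    · rw [e2, commutatorElement_def φ, e1, mul_inv_cancel]
      exact one_mem _
  refine hw₀H ?_
  exact h.all_of_all hE hg hall w₀ hw₀

/-- The decomposition `u = c e` of an involution of `H` modulo the centre. -/
theorem Ctx.split_invol (h : Ctx ρ a r p G) (hE : IsE a G E) {c e : Y} (hc : c ∈ ptH G E)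
    (hca : Commute c a) (he : e ∈ E) (h2 : (c * e) ^ 2 ∈ Zc G) :
    ⁅c, e⁆ ∈ ctr E ∧ ∀ x ∈ E, Commute (c ^ 2) x := by
  have hm := hE.moved h
  have hce : c⁻¹ * e * c ∈ E := (Subgroup.mem_normalizer_iff''.mp hc.2 e).mp he
  set t := c⁻¹ * e * c * e with ht
  have htE : t ∈ E := mul_mem hce he
  have e1 : t = (c ^ 2)⁻¹ * (c * e) ^ 2 := by rw [ht, sq, sq]; group
  have htc : t ∈ ctr E := (hm.mem_ctr_iff_fixed htE).mpr (by
    rw [e1]
    exact (((hca.pow_left 2).inv_left).mul_left (h.center_commute h2 a).symm).symm.eq)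
  refine ⟨?_, fun x hx => ?_⟩
  · have e2 : ⁅c, e⁆ = (c * (t * (e ^ 2)⁻¹) * c⁻¹)⁻¹ := by
      rw [ht, sq]; simp [commutatorElement_def, mul_assoc]
    rw [e2]
    exact inv_mem (hm.mem_ctr_conj hc.2 (mul_mem htc (inv_mem (hm.sq_mem_ctr he))))
  · have e3 : c ^ 2 = (c * e) ^ 2 * t⁻¹ := by
      rw [e1, mul_inv_rev, inv_inv, mul_inv_cancel_left]
    rw [e3]
    exact ((h.center_commute h2 x).symm).mul_left
      (show Commute x t from (mem_ctr.mp htc).2 x hx).symm.inv_left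

/-- An involution of `H` modulo the centre as a commuting product. -/
theorem Ctx.split_invol' (h : Ctx ρ a r p G) (hE : IsE a G E) {u : Y} (hu : u ∈ ptH G E)
    (h2 : u ^ 2 ∈ Zc G) : ∃ c ∈ ptH G E, ∃ e ∈ E, Commute c a ∧ Commute c e ∧ u = c * e ∧
      ∀ x ∈ E, Commute (c ^ 2) x := by
  have hm := hE.moved h
  obtain ⟨e, he, c, hc, hca, rfl⟩ := h.ptH_split hE hu
  obtain ⟨hce, -⟩ := h.split_invol hE hc hca he h2
  obtain ⟨e0, he0, hce0, hd⟩ := hm.ker_split hca he hce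
  set d := e0⁻¹ * e with hd'
  have hcd : c * d ∈ ptH G E := mul_mem hc (h.E_le_ptH hE hd.1)
  have hde : Commute d e0 := ((mem_ctr.mp hd).2 e0 he0 : e0 * d = d * e0).symm
  have hcda : Commute (c * d) a := hca.mul_left (show Commute a d from hm.comm_ctr hd).symm
  have e1 : c * e = c * d * e0 := by
    rw [mul_assoc, hde.eq, hd', mul_inv_cancel_left]
  exact ⟨c * d, hcd, e0, he0, hcda, hce0.mul_left hde, e1,
    (h.split_invol hE hcd hcda he0 (e1 ▸ h2)).2⟩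

theorem Ctx.conj_PZ_sq (h : Ctx ρ a r p G) (hE : IsE a G E) (g : Y) (hw : w ∈ PZ G E) :
    (g * w * g⁻¹) ^ 2 ∈ Zc G := by
  rw [show (g * w * g⁻¹) ^ 2 = g * w ^ 2 * g⁻¹ by rw [sq, sq]; group, h.conj_Zc (PZ_sq h hE hw)]
  exact PZ_sq h hE hw

/-- With central squares in the centraliser, the commutators with translates are central. -/
theorem Ctx.translates_central (h : Ctx ρ a r p G) (hE : IsE a G E) {c e : Y} (hca : Commute c a)
    (hce : Commute c e) (he : e ∈ E) (hsq : ∀ x ∈ E, Commute x (c * e) → x ^ 2 ∈ Zc G) :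
    ∀ i : ℕ, ⁅e, a ^ i * e * (a ^ i)⁻¹⁆ ∈ Zc G := by
  intro i
  obtain ⟨hp, m, hm1, hr⟩ := h.fermat
  have hodd : Odd r := by
    rw [hr]; exact (Nat.even_pow.mpr ⟨even_two, by omega⟩).add_one
  obtain ⟨j, hj⟩ := exists_pow_two_mul (a := a) h.fpf.pow hodd i
  obtain ⟨y, hy, hye, hy2, hyc⟩ := (hE.moved h).scaled he j
  rw [hj, ← hy2]
  exact hsq y hy ((hyc c hca hce).symm.mul_right hye)

theorem Moved.cover_comm {χ : ctr E → K} (he : Exc ρ a r E χ) (hm : Moved ρ a r E 2) {c : Y}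
    (hc : c ∈ Subgroup.normalizer (E : Set Y)) (hca : Commute c a)
    (hne : ∃ y ∈ E, ⁅c, y⁆ ∉ rad ρ E χ) {e : Y} (hee : e ∈ E) :
    ∃ y ∈ E, ⁅c, y⁆⁻¹ * e ∈ rad ρ E χ := by
  obtain ⟨-, m, hm1, hr, -⟩ := hm.exc_data he
  obtain ⟨C⟩ := hm.exists_coord he hr
  have hcy : ∀ y ∈ E, ⁅c, y⁆ ∈ E := fun y hy => by
    rw [commutatorElement_def]
    exact mul_mem ((Subgroup.mem_normalizer_iff.mp hc y).mp hy) (inv_mem hy)
  let U : AddSubgroup (Fl m) :=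
    { carrier := {u | ∃ y ∈ E, C.φ ⁅c, y⁆ = u}
      add_mem' := fun {u v} ⟨x, hx, ex⟩ ⟨y, hy, ey⟩ => ⟨x * y, mul_mem hx hy, by
        rw [commutatorElement_mul_right_eq_mul_conj, mul_assoc _ x, mul_assoc,
          C.add _ (hcy x hx) _ (mul_mem (mul_mem hx (hcy y hy)) (inv_mem hx)),
          C.add _ (mul_mem hx (hcy y hy)) _ (inv_mem hx), C.add _ hx _ (hcy y hy), C.phi_inv hx, ← ex, ← ey]
        ring_nf
        simp [CharTwo.two_eq_zero]⟩
      zero_mem' := ⟨1, one_mem E, by rw [commutatorElement_one_right, C.phi_one]⟩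
      neg_mem' := fun {u} hu => by rw [CharTwo.neg_eq]; exact hu }
  obtain ⟨y, hy, hyr⟩ := hne
  have htop := C.eq_top_of_omega (hr ▸ hm.fpf.prime) hm1 U (u := C.φ ⁅c, y⁆) ⟨y, hy, rfl⟩
    (fun e0 => hyr ((C.ker _ (hcy y hy)).mp e0))
    (fun v ⟨x, hx, ex⟩ => ⟨a * x * a⁻¹, (Subgroup.mem_normalizer_iff.mp hm.norm x).mp hx, by
      have e1 : ⁅c, a * x * a⁻¹⁆ = a * ⁅c, x⁆ * a⁻¹ := by
        calc ⁅c, a * x * a⁻¹⁆ = ⁅a * c * a⁻¹, a * x * a⁻¹⁆ := by rw [← hca.eq, mul_inv_cancel_right]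
          _ = _ := by simp [commutatorElement_def, mul_assoc]
      rw [e1, C.equiv _ (hcy x hx), ex]⟩)
  obtain ⟨x, hx, ex⟩ : C.φ e ∈ U := htop ▸ AddSubgroup.mem_top _
  refine ⟨x, hx, (C.ker _ (mul_mem (inv_mem (hcy x hx)) hee)).mp ?_⟩
  rw [C.add _ (inv_mem (hcy x hx)) _ hee, C.phi_inv (hcy x hx), ex, CharTwo.add_self_eq_zero]

/-- Each point's `PZ` meeting a stabiliser non-centrally lies in it. -/
theorem Ctx.pair (h : Ctx ρ a r p G) (hE : IsE a G E) (hg : g ∈ G) (hgH : g ∉ ptH G E)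
    (hw : w ∈ PZ G E) (hwZ : w ∉ Zc G) (hu : g * w * g⁻¹ ∈ ptH G E) :
    (∀ y ∈ PZ G E, g⁻¹ * y * g ∈ ptH G E) ∧ ∀ y ∈ PZ G E, g * y * g⁻¹ ∈ ptH G E := by
  have hm := hE.moved h
  by_cases hsq : ∃ x ∈ E, Commute x (g * w * g⁻¹) ∧ x ^ 2 ∉ Zc G
  · obtain ⟨x, hx, hxu, hx2⟩ := hsq
    have hxF := h.far_cent hE hg hw hwZ (hE.le h hx)
      (by rw [commutatorElement_eq_one_iff_commute.mpr hxu]; exact one_mem _)
    have h1 := h.all_of_sq hE hg hx hxF hx2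
    refine ⟨fun y hy => ?_, h1⟩
    have := h.all_of_all hE (inv_mem hg) (fun y hy => by rw [inv_inv]; exact h1 y hy) y hy
    rwa [inv_inv] at this
  push Not at hsq
  obtain ⟨c, hc, e, he, hca, hce, heq, hc2⟩ := h.split_invol' hE hu (h.conj_PZ_sq hE g hw)
  have hcE : ∀ x ∈ E, Commute c x := by
    have h1 : ∀ x ∈ E, ∀ χ : ctr E → K, Exc ρ a r E χ → ⁅c⁻¹, x⁆ ∈ rad ρ E χ := by
      intro x hx χ hχ
      by_contra hcon
      obtain ⟨y, hy, hyr⟩ := Moved.cover_comm hχ hm (inv_mem hc.2) hca.inv_left ⟨x, hx, hcon⟩ he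
      have hyH : y ∈ ptH G E := h.E_le_ptH hE hy
      set s := ⁅c⁻¹, y⁆ with hs
      have hsE : s ∈ E := by
        rw [hs, commutatorElement_def, inv_inv]
        exact mul_mem ((Subgroup.mem_normalizer_iff''.mp hc.2 y).mp hy) (inv_mem hy)
      set e' := s * (y * e * y⁻¹) with he'
      have he'E : e' ∈ E := mul_mem hsE (mul_mem (mul_mem hy he) (inv_mem hy))
      have hu' : (y * g) * w * (y * g)⁻¹ = c * e' := by
        rw [he', hs, show y * g * w * (y * g)⁻¹ = y * (g * w * g⁻¹) * y⁻¹ by group, heq]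
        simp [commutatorElement_def, mul_assoc]
      have hu'H : (y * g) * w * (y * g)⁻¹ ∈ ptH G E := by
        rw [show y * g * w * (y * g)⁻¹ = y * (g * w * g⁻¹) * y⁻¹ by group]
        exact mul_mem (mul_mem hyH hu) (inv_mem hyH)
      have hyg : y * g ∈ G := mul_mem (hE.le h hy) hg
      have hygH := h.not_mem_ptH_mul hgH hyH
      have hsq' : ∀ z ∈ E, Commute z (c * e') → z ^ 2 ∈ Zc G := by
        intro z hz hzc
        rw [← hu'] at hzc
        have h2 := hsq (y⁻¹ * z * y) (mul_mem (mul_mem (inv_mem hy) hz) hy) (by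
          show y⁻¹ * z * y * (g * w * g⁻¹) = g * w * g⁻¹ * (y⁻¹ * z * y)
          calc y⁻¹ * z * y * (g * w * g⁻¹) = y⁻¹ * (z * (y * g * w * (y * g)⁻¹)) * y := by group
            _ = y⁻¹ * ((y * g * w * (y * g)⁻¹) * z) * y := by rw [hzc.eq]
            _ = _ := by group)
        rw [show (y⁻¹ * z * y) ^ 2 = y⁻¹ * z ^ 2 * y by rw [sq, sq]; group] at h2
        have h3 := h.conj_Zc h2 y
        rw [show y * (y⁻¹ * z ^ 2 * y) * y⁻¹ = z ^ 2 by group] at h3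
        exact h3 ▸ h2
      obtain ⟨hce', -⟩ := h.split_invol hE hc hca he'E (hu' ▸ h.conj_PZ_sq hE (y * g) hw)
      obtain ⟨e0, he0, hce0, hd⟩ := hm.ker_split hca he'E hce'
      set d := e0⁻¹ * e' with hd'
      have hde : Commute d e0 := ((mem_ctr.mp hd).2 e0 he0 : e0 * d = d * e0).symm
      have e1 : c * e' = c * d * e0 := by rw [mul_assoc, hde.eq, hd', mul_inv_cancel_left]
      have hcda : Commute (c * d) a := hca.mul_left (show Commute a d from hm.comm_ctr hd).symm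
      have hT := h.translates_central hE hcda (hce0.mul_left hde) he0 (fun z hz hzc => hsq' z hz (e1 ▸ hzc))
      have hr0 : e0 ∈ rad ρ E χ := by
        have e2 : e0 = s ^ 2 * (s⁻¹ * e) * ⁅e⁻¹, y⁆ * d⁻¹ := by
          rw [hd', he', sq]; simp [commutatorElement_def, mul_assoc]
        rw [e2]
        exact mul_mem (mul_mem (mul_mem (ctr_le_rad (hm.sq_mem_ctr hsE)) hyr)
          (ctr_le_rad (hm.comm_mem_ctr (inv_mem he) hy))) (ctr_le_rad (inv_mem hd))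
      have h0 := h.mem_ctr_of_translates hm hχ he0 hr0 hT
      exact h.good_far hE hyg hygH hw hwZ hu'H (by
        rw [hu', e1]; exact hcda.mul_left (show Commute a e0 from hm.comm_ctr h0).symm)
    intro x hx
    have h2 : ∀ z ∈ E, ⁅c⁻¹, z⁆ ∈ ctr E := fun z hz => hm.mem_ctr_of_pieces (by
      rw [commutatorElement_def, inv_inv]
      exact mul_mem ((Subgroup.mem_normalizer_iff''.mp hc.2 z).mp hz) (inv_mem hz)) fun χ hχ => h1 z hz χ hχ
    simpa using (hm.commute_of_mod_ctr hca.inv_left h2 hx).inv_left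
  have hall : ∀ y ∈ PZ G E, g⁻¹ * y * g ∈ ptH G E := fun y hy => by
    have hcy : Commute c y := by
      obtain ⟨z, hz, v, hv, rfl⟩ := (mem_PZ h).mp hy
      exact (hcE z hz.1).mul_right (h.center_commute hv c)
    refine h.far_cent hE hg hw hwZ (ptH_le (PZ_le h hE hy)) ?_
    rw [commutatorElement_eq_one_iff_commute.mpr (heq ▸ hcy.symm.mul_right
      (show Commute e y from (PZ_commute h hE hy).2 e he).symm)]
    exact one_mem _
  exact ⟨hall, h.all_of_all hE hg hall⟩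

/-- Conjugates from another point in `H` centralise `PZ`. -/
theorem Ctx.comm_one (h : Ctx ρ a r p G) (hE : IsE a G E) (hg : g ∈ G) (hgH : g ∉ ptH G E)
    (hw : w ∈ PZ G E) (hwZ : w ∉ Zc G) (hu : g * w * g⁻¹ ∈ ptH G E) :
    ∀ y ∈ PZ G E, Commute y (g * w * g⁻¹) := by
  have hm := hE.moved h
  obtain ⟨hall, -⟩ := h.pair hE hg hgH hw hwZ hu
  obtain ⟨c, hc, e, he, hca, hce, heq, hc2⟩ := h.split_invol' hE hu (h.conj_PZ_sq hE g hw)
  have hu_comm : ∀ z ∈ ctr E, ⁅g * w * g⁻¹, z⁆ = ⁅c, z⁆ := fun z hz => by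
    rw [heq, commutatorElement_mul_left_eq_conj_mul,
      commutatorElement_eq_one_iff_commute.mpr (show Commute e z from (mem_ctr.mp hz).2 e he)]
    group
  suffices hcz : ∀ z ∈ ctr E, Commute c z by
    intro y hy
    obtain ⟨z, hz, v, hv, rfl⟩ := (mem_PZ h).mp hy
    refine Commute.mul_left ?_ (h.center_commute hv _).symm
    rw [heq]
    exact (hcz z hz).symm.mul_right (show Commute e z from (mem_ctr.mp hz).2 e he).symm
  by_contra hcon
  push Not at hcon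
  obtain ⟨z₀, hz₀, hne⟩ := hcon
  have hfix : ∀ z ∈ ctr E, ⁅c, z⁆ ∈ Zc G := fun z hz => by
    rw [← hu_comm z hz, ← commutatorElement_inv]
    exact inv_mem (h.comm_inter hE hg hgH (ctr_le_PZ hz) (hall z (ctr_le_PZ hz)) hw hu)
  obtain ⟨hI, -⟩ := h.transvection hE hc.2 hca hc2 hfix hz₀
    (fun e0 => hne (commutatorElement_eq_one_iff_commute.mp e0))
  obtain ⟨y, hy, ht⟩ := hI e he (by rw [commutatorElement_eq_one_iff_commute.mpr hce]; exact one_mem _)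
  have hcy : c⁻¹ * y * c = c * y * c⁻¹ := by
    have h1 := (hc2 y hy).eq
    calc c⁻¹ * y * c = c⁻¹ * (y * c ^ 2) * c⁻¹ := by rw [sq]; group
      _ = c⁻¹ * (c ^ 2 * y) * c⁻¹ := by rw [h1]
      _ = _ := by rw [sq]; group
  set t := e⁻¹ * ⁅c, y⁆ with ht'
  have hu' : y * (g * w * g⁻¹) * y⁻¹ = c * (e * t * ⁅y, e⁆ * e) := by
    have e1 : e * t = c⁻¹ * y * c * y⁻¹ := by
      rw [ht', mul_inv_cancel_left, commutatorElement_def, hcy]
    rw [heq, e1]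
    simp [commutatorElement_def, mul_assoc]
  have hyH : y ∈ ptH G E := h.E_le_ptH hE hy
  have hconj : (y * g) * w * (y * g)⁻¹ = y * (g * w * g⁻¹) * y⁻¹ := by group
  refine h.good_far hE (mul_mem (hE.le h hy) hg) (h.not_mem_ptH_mul hgH hyH) hw hwZ
    (hconj ▸ mul_mem (mul_mem hyH hu) (inv_mem hyH)) ?_
  rw [hconj, hu']
  have hctr : e * t * ⁅y, e⁆ * e ∈ ctr E := by
    have hk := hm.comm_mem_ctr hy he
    rw [mul_assoc e t, mul_assoc, ← (mem_ctr.mp (mul_mem ht hk)).2 e he, ← mul_assoc, ← sq]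
    exact mul_mem (hm.sq_mem_ctr he) (mul_mem ht hk)
  exact hca.mul_left (show Commute a _ from hm.comm_ctr hctr).symm

/-- The component in `C(a)` of such a conjugate centralises `E`. -/
theorem Ctx.pair_split (h : Ctx ρ a r p G) (hE : IsE a G E) (hg : g ∈ G) (hgH : g ∉ ptH G E)
    (hw : w ∈ PZ G E) (hwZ : w ∉ Zc G) (hu : g * w * g⁻¹ ∈ ptH G E) :
    ∃ c ∈ ptH G E, ∃ e ∈ E, Commute c a ∧ g * w * g⁻¹ = c * e ∧ ∀ x ∈ E, Commute c x := by
  obtain ⟨c, hc, e, he, hca, -, heq, -⟩ := h.split_invol' hE hu (h.conj_PZ_sq hE g hw)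
  have hcz : ∀ z ∈ ctr E, c * z = z * c := fun z hz => by
    have hz' : Commute e z := (mem_ctr.mp hz).2 e he
    have h1 : Commute (c * e) z := heq ▸ (h.comm_one hE hg hgH hw hwZ hu z (ctr_le_PZ hz)).symm
    have h2 := h1.mul_left hz'.inv_left
    rwa [mul_inv_cancel_right] at h2
  exact ⟨c, hc, e, he, hca, heq, (hE.moved h).centralizes_of_ctr hc.2 hca (h.order_coprime (ptH_le hc)) hcz⟩

/-- A conjugate `c e` from another point cannot have central commutators of `e` with its translates. -/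
theorem Ctx.no_translates (h : Ctx ρ a r p G) (hE : IsE a G E) (hg : g ∈ G) (hgH : g ∉ ptH G E)
    (hw : w ∈ PZ G E) (hwZ : w ∉ Zc G) {c e : Y} (hc : c ∈ ptH G E) (hca : Commute c a) (he : e ∈ E)
    (heq : g * w * g⁻¹ = c * e) (hcE : ∀ x ∈ E, Commute c x)
    (hT : ∀ i : ℕ, ⁅e, a ^ i * e * (a ^ i)⁻¹⁆ ∈ Zc G) : False := by
  have hm := hE.moved h
  have hu : g * w * g⁻¹ ∈ ptH G E := heq ▸ mul_mem hc (h.E_le_ptH hE he)
  have heG : e ∈ G := hE.le h he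
  -- the elements `e_i` fix the point `g H`
  have hFe : ∀ i : ℕ, g⁻¹ * (a ^ i * e * (a ^ i)⁻¹) * g ∈ ptH G E := fun i => by
    refine h.far_cent hE hg hw hwZ (hE.le h (hm.conj_a_mem i he)) ?_
    rw [heq, commutatorElement_mul_right_eq_mul_conj,
      commutatorElement_eq_one_iff_commute.mpr (hcE _ (hm.conj_a_mem i he)).symm, one_mul,
      ← commutatorElement_inv, h.conj_Zc (inv_mem (hT i))]
    exact inv_mem (hT i)
  have hFc : g⁻¹ * c * g ∈ ptH G E := by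
    have h0 : g⁻¹ * e * g ∈ ptH G E := by simpa using hFe 0
    rw [show g⁻¹ * c * g = w * (g⁻¹ * e * g)⁻¹ by
      rw [show c = g * w * g⁻¹ * e⁻¹ by rw [heq, mul_inv_cancel_right]]; group]
    exact mul_mem (PZ_le h hE hw) (inv_mem h0)
  have h1 : ∀ i : ℕ, ⁅e, a ^ i * e * (a ^ i)⁻¹⁆ = 1 := by
    intro i
    set ei := a ^ i * e * (a ^ i)⁻¹ with hei
    have heiE : ei ∈ E := hm.conj_a_mem i he
    set gi := a ^ i * g * (a ^ i)⁻¹ with hgi
    have hgiG : gi ∈ G := (Subgroup.mem_normalizer_iff.mp (Subgroup.pow_mem _ h.a_norm i) g).mp hg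
    have hwa : Commute w a := (PZ_commute h hE hw).1.symm
    have hui : gi * w * gi⁻¹ = c * ei := by
      have e1 : gi * w * gi⁻¹ = a ^ i * (g * w * g⁻¹) * (a ^ i)⁻¹ := by
        calc gi * w * gi⁻¹ = a ^ i * g * ((a ^ i)⁻¹ * w * a ^ i) * g⁻¹ * (a ^ i)⁻¹ := by rw [hgi]; group
          _ = _ := by rw [mul_assoc _ w, (hwa.pow_right i).eq, inv_mul_cancel_left]; group
      rw [e1, heq, hei, show a ^ i * (c * e) * (a ^ i)⁻¹ = a ^ i * c * (a ^ i)⁻¹ * (a ^ i * e * (a ^ i)⁻¹) by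
        group, ← (hca.pow_right i).eq, mul_inv_cancel_right]
    -- the two conjugates commute
    have hk : Commute (c * ei) (c * e) := by
      set w' := g⁻¹ * (c * ei) * g with hw'
      have hw'H : w' ∈ ptH G E := by
        rw [hw', show g⁻¹ * (c * ei) * g = g⁻¹ * c * g * (g⁻¹ * ei * g) by group]
        exact mul_mem hFc (hFe i)
      set k := g⁻¹ * gi with hk'
      have hkw : k * w * k⁻¹ = w' := by rw [hk', hw', ← hui]; group
      have hww' : Commute w w' := by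
        rcases em (k ∈ ptH G E) with hkH | hkH
        · have h2 : w' ∈ PZ G E := hkw ▸ h.mem_PZ_conj hkH.2 hE hw
          obtain ⟨z, hz, v, hv, rfl⟩ := (mem_PZ h).mp hw
          exact Commute.mul_left ((PZ_commute h hE h2).2 z hz.1) (h.center_commute hv _).symm
        · have h2 := h.comm_one hE (mul_mem (inv_mem hg) hgiG) hkH hw hwZ (hkw ▸ hw'H) w hw
          rwa [hkw] at h2
      have h3 := hww'.symm.map ((MulAut.conj g : Y ≃* Y) : Y →* Y)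
      have e2 : g * w' * g⁻¹ = c * ei := by rw [hw']; group
      have h4 : Commute (g * w' * g⁻¹) (g * w * g⁻¹) := h3
      rwa [e2, heq] at h4
    rw [commutatorElement_eq_one_iff_commute]
    show e * ei = ei * e
    have h2 := hk.eq
    rw [mul_assoc c ei, ← mul_assoc ei c e, ← (hcE ei heiE).eq, mul_assoc c ei e, mul_assoc c e,
      ← mul_assoc e c ei, ← (hcE e he).eq, mul_assoc c e ei] at h2
    exact (mul_left_cancel (mul_left_cancel h2)).symm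
  have hctr : e ∈ ctr E := hm.mem_ctr_of_pieces he fun χ hχ => hχ.mem_rad_of_translates hm he fun i => by
    rw [h1 i]; exact Moved.bit_one (ρ := ρ) hχ.piece_ne
  exact h.good_far hE hg hgH hw hwZ hu (heq ▸ hca.mul_left (show Commute a e from hm.comm_ctr hctr).symm)

/-- `PZ` meets no other stabiliser non-centrally. -/
theorem Ctx.ti (h : Ctx ρ a r p G) (hE : IsE a G E) (hnc : ¬ ctr E ≤ Zc G) : TI G E := by
  refine ⟨hnc, fun g hg hgH w hw hu => ?_⟩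
  by_contra hwZ
  have hm := hE.moved h
  obtain ⟨hall, hall'⟩ := h.pair hE hg hgH hw hwZ hu
  obtain ⟨c, hc, e, he, hca, heq, hcE⟩ := h.pair_split hE hg hgH hw hwZ hu
  refine h.no_translates hE hg hgH hw hwZ hc hca he heq hcE
    (h.translates_central hE hca (hcE e he) he fun x hx hxu => ?_)
  by_contra hx2
  rw [← heq] at hxu
  have hxF := h.far_cent hE hg hw hwZ (hE.le h hx)
    (by rw [commutatorElement_eq_one_iff_commute.mpr hxu]; exact one_mem _)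
  set y := x ^ 2 with hy'
  have hy : y ∈ PZ G E := ctr_le_PZ (hm.sq_mem_ctr hx)
  have hg' : g⁻¹ ∈ G := inv_mem hg
  have hgH' : g⁻¹ ∉ ptH G E := fun h' => hgH (by simpa using inv_mem h')
  have hu2H : g⁻¹ * y * g⁻¹⁻¹ ∈ ptH G E := by rw [inv_inv]; exact hall y hy
  have hu2 : g⁻¹ * y * g⁻¹⁻¹ = (g⁻¹ * x * g) ^ 2 := by rw [hy', sq, sq]; group
  obtain ⟨e1, he1, c1, hc1, hc1a, hx1⟩ := h.ptH_split hE hxF
  have hfix : ∀ z ∈ ctr E, ⁅c1, z⁆ ∈ Zc G := by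
    intro z hz
    have hz' := ctr_le_PZ (G := G) hz
    have h1 : ⁅x, g * z * g⁻¹⁆ ∈ Zc G := by
      rcases em (z ∈ Zc G) with hzZ | hzZ
      · rw [h.conj_Zc hzZ, commutatorElement_eq_one_iff_commute.mpr (h.center_commute hzZ x)]
        exact one_mem _
      obtain ⟨c', -, e', he', -, heq', hcE'⟩ := h.pair_split hE hg hgH hz' hzZ (hall' z hz')
      refine h.inter_central hE hg hgH ?_ ?_
      · rw [heq', commutatorElement_mul_right_eq_mul_conj,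
          commutatorElement_eq_one_iff_commute.mpr (hcE' x hx).symm, one_mul,
          (hcE' _ (hm.comm_mem_ctr hx he').1).eq, mul_inv_cancel_right]
        exact ctr_le_PZ (hm.comm_mem_ctr hx he')
      · rw [show g⁻¹ * ⁅x, g * z * g⁻¹⁆ * g = (g⁻¹ * x * g) * z * (g⁻¹ * x * g)⁻¹ * z⁻¹ by
          simp [commutatorElement_def, mul_assoc]]
        exact mul_mem (h.mem_PZ_conj hxF.2 hE hz') (inv_mem hz')
    have e2 : ⁅c1, z⁆ = g⁻¹ * ⁅x, g * z * g⁻¹⁆ * g⁻¹⁻¹ := by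
      rw [show g⁻¹ * ⁅x, g * z * g⁻¹⁆ * g⁻¹⁻¹ = ⁅g⁻¹ * x * g, z⁆ by simp [commutatorElement_def, mul_assoc],
        hx1, commutatorElement_mul_left_eq_conj_mul,
        commutatorElement_eq_one_iff_commute.mpr (show Commute e1 z from (mem_ctr.mp hz).2 e1 he1)]
      group
    rw [e2, h.conj_Zc h1]
    exact h1
  have hc1e : c1⁻¹ * e1 * c1 ∈ E := (Subgroup.mem_normalizer_iff''.mp hc1.2 e1).mp he1
  have heq2 : g⁻¹ * y * g⁻¹⁻¹ = c1 ^ 2 * (c1⁻¹ * e1 * c1 * e1) := by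
    rw [hu2, hx1, sq, sq]; group
  by_cases hcz : ∀ z ∈ ctr E, c1 * z = z * c1
  · have hc1E := hm.centralizes_of_ctr hc1.2 hc1a (h.order_coprime (ptH_le hc1)) hcz
    refine h.good_far hE hg' hgH' hy hx2 hu2H ?_
    rw [heq2, mul_assoc c1⁻¹ e1 c1, ← hc1E e1 he1, inv_mul_cancel_left, ← sq]
    exact (hc1a.pow_left 2).mul_left (show Commute a _ from hm.comm_ctr (hm.sq_mem_ctr he1)).symm
  push Not at hcz
  obtain ⟨z₀, hz₀, hne⟩ := hcz
  have hE2 : c1⁻¹ * e1 * c1 * e1 ∈ E := mul_mem hc1e he1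
  have hc12 : ∀ z ∈ ctr E, c1 ^ 2 * z = z * c1 ^ 2 := fun z hz => by
    have hcom : Commute (c1⁻¹ * e1 * c1 * e1) z := (mem_ctr.mp hz).2 _ hE2
    have h2 : Commute (g⁻¹ * y * g⁻¹⁻¹) z := (h.comm_one hE hg' hgH' hy hx2 hu2H z (ctr_le_PZ hz)).symm
    rw [heq2] at h2
    have h3 := h2.mul_left hcom.inv_left
    rwa [mul_inv_cancel_right] at h3
  have hc1sq := hm.centralizes_of_ctr (pow_mem hc1.2 2) (hc1a.pow_left 2)
    (h.order_coprime (pow_mem (ptH_le hc1) 2)) hc12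
  obtain ⟨-, hKK⟩ := h.transvection hE hc1.2 hc1a (fun z hz => hc1sq z hz) hfix hz₀
    (fun e0 => hne (commutatorElement_eq_one_iff_mul_comm.mp e0))
  set e2 := c1⁻¹ * e1 * c1 * e1 with he2
  have hK2 : ⁅c1, e2⁆ ∈ ctr E := by
    have e3 : c1 * e1 * c1⁻¹ = c1⁻¹ * e1 * c1 := by
      calc c1 * e1 * c1⁻¹ = c1⁻¹ * (c1 ^ 2 * e1) * c1⁻¹ := by rw [sq]; group
        _ = c1⁻¹ * (e1 * c1 ^ 2) * c1⁻¹ := by rw [hc1sq e1 he1]
        _ = _ := by rw [sq]; group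
    have e4 : c1 * e2 * c1⁻¹ = e1 * (c1⁻¹ * e1 * c1) := by
      conv_rhs => rw [← e3]
      rw [he2]; group
    rw [commutatorElement_def, e4, he2, mul_inv_rev, ← mul_assoc, ← commutatorElement_def]
    exact hm.comm_mem_ctr he1 hc1e
  refine h.no_translates hE hg' hgH' hy hx2 (pow_mem hc1 2) (hc1a.pow_left 2) hE2 heq2
    (fun z hz => hc1sq z hz) fun i => hKK _ hE2 hK2 _ (hm.conj_a_mem i hE2) ?_
  have e5 : ⁅c1, a ^ i * e2 * (a ^ i)⁻¹⁆ = a ^ i * ⁅c1, e2⁆ * (a ^ i)⁻¹ := by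
    calc ⁅c1, a ^ i * e2 * (a ^ i)⁻¹⁆ = ⁅a ^ i * c1 * (a ^ i)⁻¹, a ^ i * e2 * (a ^ i)⁻¹⁆ := by
          rw [← (hc1a.pow_right i).eq, mul_inv_cancel_right]
      _ = _ := by simp [commutatorElement_def, mul_assoc]
  rw [e5, hm.conj_pow_ctr i hK2]
  exact hK2

end Cfsg.Agent.Lib.ShultFlavell
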