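import Cfsg.Agent.Lib.ShultFlavell.Swaps
import Cfsg.Agent.Lib.ZStar.Main

/-!
What the exchanging involutions give on `E`: there are at least two non-trivial elements of `PZ` modulo the
centre, the commutators with the images under `a` of an element squaring into the centre are central, and a
group of elements commuting with `a` and of odd order modulo the kernel of the action is transitive on them.
-/

set_option autoImplicit false
set_option linter.style.haveILetI false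
set_option linter.unusedSectionVars false

namespace Cfsg.Agent.Lib.ShultFlavell

open Module (End)
open scoped commutatorElement

variable {K : Type*} [Field K] {W : Type*} [AddCommGroup W] [Module K W]
variable {Y : Type*} [Group Y] [Finite Y]
variable {ρ : Y →* End K W} {a : Y} {r p : ℕ} {G E : Subgroup Y} [G.Normal]

theorem IsT.conj {x l : Y} (hx : IsT G E x) (hl : l ∈ G) : IsT G E (l * x * l⁻¹) := by
  obtain ⟨w, hw, hwZ, m, hm, e⟩ := hx
  refine ⟨w, hw, hwZ, l * m, mul_mem hl hm, ?_⟩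
  simp only [map_mul, map_inv] at e ⊢
  rw [e]
  group

variable [IsAlgClosed K] [FiniteDimensional K W] [Nontrivial W] [CharP K p]

theorem IsT.sq (h : Ctx ρ a r p G) (hE : IsE a G E) {x : Y} (hx : IsT G E x) : qZ G x * qZ G x = 1 := by
  obtain ⟨w, hw, -, m, -, e⟩ := hx
  rw [e, map_mul, map_mul, map_inv]
  calc qZ G m * qZ G w * (qZ G m)⁻¹ * (qZ G m * qZ G w * (qZ G m)⁻¹)
      = qZ G m * (qZ G w * qZ G w) * (qZ G m)⁻¹ := by group
    _ = 1 := by rw [PZ_qZ_sq h hE hw]; group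

theorem isT_of_eq_conj {x y l : Y} (hy : y ∈ PZ G E) (hyZ : y ∉ Zc G) (hl : l ∈ G) (e : x = l * y * l⁻¹) :
    IsT G E x := ⟨y, hy, hyZ, l, hl, by rw [e]⟩

/-- There are two non-central elements of `PZ` which differ modulo the centre. -/
theorem Ctx.prelim_two (h : Ctx ρ a r p G) (hE : IsE a G E) (hT : TI G E) :
    ∃ y ∈ PZ G E, ∃ y' ∈ PZ G E, y ∉ Zc G ∧ y' ∉ Zc G ∧ y * y'⁻¹ ∉ Zc G := by
  by_contra hcon
  push Not at hcon
  obtain ⟨y, hy, hyZ⟩ := h.exists_PZ_not_Zc hT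
  have hyG : y ∈ G := ptH_le (PZ_le h hE hy)
  set Gb : Subgroup (Y ⧸ Zc G) := G.map (qZ G) with hGb
  haveI : Gb.Normal := Subgroup.Normal.map ‹_› _ (QuotientGroup.mk'_surjective _)
  have hiso : Cfsg.IsIsolatedInvolution (⟨qZ G y, y, hyG, rfl⟩ : Gb) := by
    refine ⟨?_, fun k hk => ?_⟩
    · rw [← Subgroup.orderOf_coe]
      exact orderOf_eq_prime (by rw [pow_two]; exact PZ_qZ_sq h hE hy) fun e => hyZ (qZ_eq_one.mp e)
    obtain ⟨l, hl, hle⟩ := k.2
    have hlyG : l * y * l⁻¹ ∈ G := mul_mem (mul_mem hl hyG) (inv_mem hl)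
    have hc : Commute (qZ G y) (qZ G (l * y * l⁻¹)) := by
      rw [map_mul, map_mul, map_inv, hle]
      exact congrArg Subtype.val hk.eq
    have hlyH := h.comm_mem hE hy hyZ hlyG hc.symm
    have hlH : l ∈ ptH G E := by
      by_contra hn
      exact hyZ (hT.ti l hl hn y hy hlyH)
    refine Subtype.ext ?_
    show (k : Y ⧸ Zc G) * qZ G y * (k : Y ⧸ Zc G)⁻¹ = qZ G y
    rw [← hle, ← map_inv, ← map_mul, ← map_mul]
    exact (qZ_eq.mpr (hcon y hy _ (h.mem_PZ_conj hlH.2 hE hy) hyZ (h.conj_not_Zc hyZ l))).symm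
  set O := (Cfsg.oddCore Gb).map Gb.subtype with hO
  set N := O.comap (qZ G) with hN
  have hle : N ≤ G := by
    intro x hx
    obtain ⟨z, -, hz⟩ := hx
    obtain ⟨l, hl, hle⟩ := z.2
    exact mem_of_qZ_eq Zc_le (hz.symm.trans hle.symm) hl
  haveI : O.Normal := by
    haveI := InvChar.Core.pPrimeCore_characteristic (G := Gb) 2
    rw [hO]
    infer_instance
  haveI : N.Normal := Subgroup.Normal.comap ‹_› _
  have hlt : N < G := by
    refine hle.lt_of_ne fun e => ?_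
    obtain ⟨z, hz, hze⟩ := (show qZ G y ∈ O from (e.ge hyG : y ∈ N))
    have h1 : orderOf z ∣ Nat.card (Cfsg.oddCore Gb) := Subgroup.orderOf_dvd_natCard _ hz
    rw [← Subgroup.orderOf_coe, show (z : Y ⧸ Zc G) = qZ G y from hze,
      orderOf_eq_prime (by rw [pow_two, PZ_qZ_sq h hE hy]) fun e => hyZ (qZ_eq_one.mp e)] at h1
    exact Nat.not_even_iff_odd.mpr InvChar.Core.odd_card_oddCore (even_iff_two_dvd.mpr h1)
  have hNZ : N ≤ Zc G := h.normal_lt_central hlt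
  refine hyZ (h.mem_Zc_of_commutator hyG fun g hg => ?_)
  refine hNZ ?_
  show qZ G ⁅y, g⁆ ∈ O
  refine ⟨_, ZStar.Main.commutator_mem_oddCore hiso ⟨qZ G g, g, hg, rfl⟩, ?_⟩
  rw [map_commutatorElement, commutatorElement_def]
  rfl

/-- The commutators of an element of `E` squaring into the centre with its images under `a` are central. -/
theorem Ctx.prelim_scale (h : Ctx ρ a r p G) (hE : IsE a G E) (hT : TI G E) (hS : Swaps a G E) {x : Y}
    (hx : x ∈ E) (hx2 : x ^ 2 ∈ Zc G) (i : ℕ) : ⁅x, a ^ i * x * (a ^ i)⁻¹⁆ ∈ Zc G := by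
  have hM := hE.moved h
  by_cases hxc : x ∈ ctr E
  · have hc : Commute (a ^ i) x := (show Commute a x from hM.comm_ctr hxc).pow_left i
    rw [hc.eq, mul_inv_cancel_right, commutatorElement_self]
    exact one_mem _
  have hxP : x ∉ PZ G E := fun hp => hxc ((hM.mem_ctr_iff_fixed hx).mpr (PZ_commute h hE hp).1)
  have hxH : x ∈ ptH G E := h.E_le_ptH hE hx
  obtain ⟨z, hz, g, hg, hgx, hgH⟩ : ∃ z ∈ PZ G E, ∃ g ∈ G, g⁻¹ * (x * z) * g ∈ ptH G E ∧ g ∉ ptH G E := by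
    by_contra hcon
    push Not at hcon
    exact hS.trick x hxH hxP hx2 hcon
  have hxz : Commute x z := (PZ_commute h hE hz).2 x hx
  have hxz2 : (x * z) ^ 2 ∈ Zc G := by
    rw [hxz.mul_pow]
    exact mul_mem hx2 (PZ_sq h hE hz)
  have hxzP : ∀ w ∈ PZ G E, ⁅x * z, w⁆ ∈ Zc G := fun w hw => by
    rw [commutatorElement_eq_one_iff_commute.mpr
      (Commute.mul_left ((PZ_commute h hE hw).2 x hx) (PZ_comm h hE hz hw))]
    exact one_mem _
  have hai : a ^ i ∈ Subgroup.normalizer (E : Set Y) := pow_mem hE.norm i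
  set b := a ^ i * x * (a ^ i)⁻¹ with hb
  have hbE : b ∈ E := (Subgroup.mem_normalizer_iff.mp hai x).mp hx
  have hwP : (x * b) ^ 2 ∈ PZ G E := ctr_le_PZ (hM.sq_mem_ctr (mul_mem hx hbE))
  have hwZ : (x * b) ^ 2 ∈ Zc G := by
    by_contra hwZ
    obtain ⟨y1, hy1, y2, hy2, h1, h2, h12⟩ := h.prelim_two hE hT
    obtain ⟨y', hy', hy'Z, hne⟩ : ∃ y' ∈ PZ G E, y' ∉ Zc G ∧ (x * b) ^ 2 * y'⁻¹ ∉ Zc G := by
      by_contra hcon
      push Not at hcon
      refine h12 (qZ_eq.mp ?_)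
      rw [← qZ_eq.mpr (hcon y1 hy1 h1), qZ_eq.mpr (hcon y2 hy2 h2)]
    obtain ⟨k, hkH, hkx, hky⟩ := hS.fix_trans (x * z) (mul_mem hxH (PZ_le h hE hz)) hxz2 hxzP g hg hgH hgx
      _ hwP hwZ y' hy' hy'Z
    obtain ⟨e, he, c, hcH, hca, rfl⟩ := h.ptH_split hE hkH
    have hcE : c ∈ Subgroup.normalizer (E : Set Y) := hcH.2
    -- `c` fixes `x` modulo `PZ`
    obtain ⟨p₁, hp₁, hp₁e⟩ : ∃ p₁ ∈ PZ G E, qZ G (c * x * c⁻¹) = qZ G (x * p₁) := by
      have hcz : c * e * z * (c * e)⁻¹ ∈ PZ G E := h.mem_PZ_conj hkH.2 hE hz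
      have hce : ⁅e, x⁆ ∈ PZ G E :=
        ctr_le_PZ (hM.commutator_le_ctr (Subgroup.commutator_mem_commutator he hx))
      have hce' : c * ⁅e, x⁆ * c⁻¹ ∈ PZ G E := h.mem_PZ_conj hcE hE hce
      refine ⟨z * (c * e * z * (c * e)⁻¹)⁻¹ * (c * ⁅e, x⁆ * c⁻¹)⁻¹,
        mul_mem (mul_mem hz (inv_mem hcz)) (inv_mem hce'), ?_⟩
      have hk := qZ_comm.mpr hkx
      have hcx : c * x * c⁻¹ ∈ E := (Subgroup.mem_normalizer_iff.mp hcE x).mp hx
      have e1 : qZ G (c * e * (x * z) * (c * e)⁻¹) = qZ G (x * z) := by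
        rw [map_mul, map_mul (qZ G) (c * e) (x * z), map_inv, ← hk.eq, mul_inv_cancel_right]
      have e2 : c * e * (x * z) * (c * e)⁻¹ =
          (c * x * c⁻¹) * ((c * ⁅e, x⁆ * c⁻¹) * (c * e * z * (c * e)⁻¹)) := by
        calc c * e * (x * z) * (c * e)⁻¹
            = (c * ⁅e, x⁆ * c⁻¹) * (c * x * c⁻¹) * (c * e * z * (c * e)⁻¹) := by
              rw [commutatorElement_def]; group
          _ = _ := by rw [← (PZ_commute h hE hce').2 _ hcx, mul_assoc]
      rw [e2] at e1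
      have e3 := congrArg (· * (qZ G ((c * ⁅e, x⁆ * c⁻¹) * (c * e * z * (c * e)⁻¹)))⁻¹) e1
      simp only [map_mul, mul_inv_cancel_right] at e3 ⊢
      rw [e3]
      simp only [map_inv, map_mul]
      group
    -- so it fixes the square of `x * b`
    have hey : Commute e ((x * b) ^ 2) := (PZ_commute h hE hwP).2 e he
    have hcw : qZ G (c * (x * b) ^ 2 * c⁻¹) = qZ G ((x * b) ^ 2) := by
      have hcai : Commute c (a ^ i) := hca.pow_right i
      have hcb : qZ G (c * b * c⁻¹) = qZ G (b * p₁) := by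
        have e1 : c * b * c⁻¹ = a ^ i * (c * x * c⁻¹) * (a ^ i)⁻¹ := by
          calc c * b * c⁻¹ = (c * a ^ i) * x * (c * a ^ i)⁻¹ := by rw [hb]; group
            _ = (a ^ i * c) * x * (a ^ i * c)⁻¹ := by rw [hcai.eq]
            _ = _ := by group
        have e2 : b * p₁ = a ^ i * (x * p₁) * (a ^ i)⁻¹ := by
          have hap : Commute (a ^ i) p₁ := (show Commute a p₁ from (PZ_commute h hE hp₁).1).pow_left i
          calc b * p₁ = a ^ i * x * ((a ^ i)⁻¹ * p₁) := by rw [hb]; group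
            _ = a ^ i * x * (p₁ * (a ^ i)⁻¹) := by rw [hap.inv_left.eq]
            _ = _ := by group
        rw [e1, e2, map_mul, map_mul (qZ G) (a ^ i), hp₁e, ← map_mul, ← map_mul]
      have hxp : Commute (qZ G x) (qZ G p₁) := (show Commute x p₁ from (PZ_commute h hE hp₁).2 x hx).map _
      have hbp : Commute (qZ G b) (qZ G p₁) := (show Commute b p₁ from (PZ_commute h hE hp₁).2 b hbE).map _
      calc qZ G (c * (x * b) ^ 2 * c⁻¹)
          = (qZ G (c * x * c⁻¹) * qZ G (c * b * c⁻¹)) ^ 2 := by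
            rw [← map_mul, ← map_pow]; congr 1; simp [sq, mul_assoc]
        _ = (qZ G x * qZ G p₁ * (qZ G b * qZ G p₁)) ^ 2 := by rw [hp₁e, hcb, map_mul, map_mul]
        _ = (qZ G x * qZ G b * (qZ G p₁ * qZ G p₁)) ^ 2 := by
            congr 1
            calc qZ G x * qZ G p₁ * (qZ G b * qZ G p₁) = qZ G x * (qZ G p₁ * qZ G b) * qZ G p₁ := by group
              _ = qZ G x * (qZ G b * qZ G p₁) * qZ G p₁ := by rw [hbp.eq]
              _ = _ := by group
        _ = qZ G ((x * b) ^ 2) := by rw [PZ_qZ_sq h hE hp₁, mul_one, map_pow, map_mul (qZ G) x b]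
    refine hne (qZ_eq.mp ?_)
    have := qZ_eq.mpr hky
    rw [← this, ← hcw]
    congr 1
    calc c * (x * b) ^ 2 * c⁻¹ = c * (e * (x * b) ^ 2 * e⁻¹) * c⁻¹ := by
          rw [hey.eq, mul_inv_cancel_right]
      _ = _ := by group
  have hX : qZ G x * qZ G x = 1 := by rw [← map_mul, ← sq, qZ_eq_one]; exact hx2
  have hB : qZ G b * qZ G b = 1 := by
    rw [← map_mul, qZ_eq_one, hb,
      show a ^ i * x * (a ^ i)⁻¹ * (a ^ i * x * (a ^ i)⁻¹) = a ^ i * x ^ 2 * (a ^ i)⁻¹ by rw [sq]; group,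
      h.conj_Zc hx2]
    exact hx2
  rw [← qZ_eq_one, map_commutatorElement, commutatorElement_def, inv_eq_of_mul_eq_one_right hX,
    inv_eq_of_mul_eq_one_right hB, ← map_mul, mul_assoc, ← map_mul, ← map_mul, ← sq, qZ_eq_one]
  exact hwZ

/-- A group of elements commuting with `a`, of odd order modulo the kernel of its action, is transitive. -/
theorem Ctx.prelim_act (h : Ctx ρ a r p G) (hE : IsE a G E) (hT : TI G E) :
    ∃ A : Subgroup Y, A ≤ ptH G E ∧ (∀ c ∈ A, Commute c a) ∧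
    (∀ c ∈ A, ∃ k : ℕ, Odd k ∧ ∀ z ∈ ctr E, Commute (c ^ k) z) ∧
    ∀ y ∈ PZ G E, y ∉ Zc G → ∀ y' ∈ PZ G E, y' ∉ Zc G → ∃ c ∈ A, c * y * c⁻¹ * y'⁻¹ ∈ Zc G := by
  obtain ⟨g, hg, hgH⟩ := h.exists_not_ptH hE
  set S : Set (Y ⧸ Zc G) := {T | ∃ t ∈ G, IsT G E t ∧ g⁻¹ * t ∈ ptH G E ∧ qZ G t = T} with hSdef
  have hsq : ∀ T ∈ S, T * T = 1 := by
    rintro _ ⟨t, -, ht, -, rfl⟩
    exact ht.sq h hE
  -- the set is invariant
  have hgen : ∀ T₁ ∈ S, ∀ T ∈ S, T₁ * T * T₁⁻¹ ∈ S := by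
    rintro _ ⟨t₁, ht₁G, ht₁, ht₁H, rfl⟩ _ ⟨t, htG, ht, htH, rfl⟩
    refine ⟨t₁ * t * t₁⁻¹, mul_mem (mul_mem ht₁G htG) (inv_mem ht₁G), ht.conj ht₁G, ?_,
      by rw [map_mul, map_mul, map_inv]⟩
    have hsqH : ∀ u : Y, IsT G E u → u * u ∈ ptH G E := fun u hu =>
      h.Zc_le_ptH hE (qZ_eq_one.mp (by rw [map_mul]; exact hu.sq h hE))
    have e : g⁻¹ * (t₁ * t * t₁⁻¹) =
        (g⁻¹ * t₁) * ((t * t) * (g⁻¹ * t)⁻¹) * ((g⁻¹ * t₁) * (t₁ * t₁)⁻¹) := by group
    rw [e]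
    exact mul_mem (mul_mem ht₁H (mul_mem (hsqH t ht) (inv_mem htH))) (mul_mem ht₁H (inv_mem (hsqH t₁ ht₁)))
  set D := Subgroup.closure S with hD
  have hconj : ∀ d ∈ D, ∀ T ∈ S, d * T * d⁻¹ ∈ S ∧ d⁻¹ * T * d ∈ S := by
    intro d hd
    induction hd using Subgroup.closure_induction with
    | mem T₁ hT₁ =>
      intro T hT
      refine ⟨hgen T₁ hT₁ T hT, ?_⟩
      have hi : T₁⁻¹ = T₁ := inv_eq_of_mul_eq_one_right (hsq T₁ hT₁)
      have := hgen T₁ hT₁ T hT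
      rw [hi] at this ⊢
      exact this
    | one => intro T hT; simpa using hT
    | mul d e _ _ h1 h2 =>
      intro T hT
      refine ⟨?_, ?_⟩
      · rw [show d * e * T * (d * e)⁻¹ = d * (e * T * e⁻¹) * d⁻¹ by group]
        exact (h1 _ (h2 T hT).1).1
      · rw [show (d * e)⁻¹ * T * (d * e) = e⁻¹ * (d⁻¹ * T * d) * e by group]
        exact (h2 _ (h1 T hT).2).2
    | inv d _ h1 =>
      intro T hT
      rw [inv_inv]
      exact ⟨(h1 T hT).2, (h1 T hT).1⟩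
  -- two commuting ones are equal
  have huniq : ∀ T ∈ S, ∀ T' ∈ S, Commute T T' → T = T' := by
    rintro _ ⟨t, htG, ⟨w, hw, hwZ, l, hl, e⟩, htH, rfl⟩ _ ⟨t', ht'G, ht'T, ht'H, rfl⟩ hc
    by_contra hne
    have hc' : Commute (qZ G (l⁻¹ * t' * l)) (qZ G w) := by
      have h1 := hc.map (MulAut.conj (qZ G l)⁻¹)
      rw [e] at h1
      simp only [map_mul, map_inv, MulAut.conj_apply] at h1 ⊢
      simpa [mul_assoc] using h1.symm
    have hmH : l⁻¹ * t' * l ∈ ptH G E :=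
      h.comm_mem hE hw hwZ (mul_mem (mul_mem (inv_mem hl) ht'G) hl) hc'
    have hmP : l⁻¹ * t' * l ∈ PZ G E :=
      h.isT_mem hE hT hmH (by simpa using ht'T.conj (inv_mem hl))
    have hd : t⁻¹ * t' ∈ ptH G E := by simpa [mul_assoc] using mul_mem (inv_mem htH) ht'H
    have hdP : l⁻¹ * (t⁻¹ * t') * l ∈ PZ G E := by
      refine mem_of_qZ_eq Zc_le_PZ ?_ (mul_mem (inv_mem hw) hmP)
      simp only [map_mul, map_inv] at e ⊢
      rw [e]
      group
    have hdZ : l⁻¹ * (t⁻¹ * t') * l ∉ Zc G := fun hz => by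
      have := h.conj_Zc hz l
      rw [show l * (l⁻¹ * (t⁻¹ * t') * l) * l⁻¹ = t⁻¹ * t' by group] at this
      have h1 := qZ_eq_one.mpr (this.symm ▸ hz)
      rw [map_mul, map_inv, inv_mul_eq_one] at h1
      exact hne h1
    have hlH : l ∈ ptH G E := by
      by_contra hn
      exact hdZ (hT.ti l hl hn _ hdP (by rwa [show l * (l⁻¹ * (t⁻¹ * t') * l) * l⁻¹ = t⁻¹ * t' by group]))
    have htP : t ∈ ptH G E := PZ_le h hE (mem_of_qZ_eq Zc_le_PZ e (h.mem_PZ_conj hlH.2 hE hw))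
    refine hgH ?_
    simpa using inv_mem (mul_mem htH (inv_mem htP))
  have hiso : ∀ T (hT' : T ∈ S), Cfsg.IsIsolatedInvolution (⟨T, Subgroup.subset_closure hT'⟩ : D) := by
    intro T hT'
    refine ⟨?_, fun d hd => ?_⟩
    · rw [Subgroup.orderOf_mk]
      refine orderOf_eq_prime (by rw [pow_two, hsq T hT']) fun e => ?_
      obtain ⟨t, -, ⟨w, -, hwZ, l, -, hl⟩, -, rfl⟩ := hT'
      rw [hl, map_mul, map_mul, map_inv, conj_eq_one_iff] at e
      exact hwZ (qZ_eq_one.mp e)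
    · exact Subtype.ext ((huniq T hT' _ (hconj d d.2 T hT').1 (congrArg Subtype.val hd.eq)).symm)
  set O := (Cfsg.oddCore D).map D.subtype with hO
  have hprod : ∀ T ∈ S, ∀ T' ∈ S, T * T' ∈ O := by
    intro T hT₁ T' hT₂
    have hTD := Subgroup.subset_closure (k := S) hT₁
    have hT'D := Subgroup.subset_closure (k := S) hT₂
    have hW : T * T' ∈ D := mul_mem hTD hT'D
    rcases Nat.even_or_odd (orderOf (T * T')) with he | ho
    · exfalso
      obtain ⟨l, hne, -, hcT, -, n, hcase⟩ := exists_middle_inv (hsq T hT₁) (hsq T' hT₂) he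
      have hdD : ((T * T') ^ n)⁻¹ ∈ D := inv_mem (pow_mem hW n)
      have hmem : T * (T * T') ^ l ∈ S := by
        rcases hcase with ⟨⟨d, rfl, e⟩, -⟩ | ⟨⟨d, rfl, e⟩, -⟩
        · rw [e]; exact (hconj _ hdD T hT₁).1
        · rw [e]; exact (hconj _ hdD T' hT₂).1
      exact hne (left_eq_mul.mp (huniq T hT₁ _ hmem ((Commute.refl T).mul_right hcT.symm)))
    · obtain ⟨n, T₂, hT₂def, hT₂e⟩ := exists_exchange (hsq T hT₁) (hsq T' hT₂) ho
      have hT₂D : T₂ ∈ D := hT₂def ▸ mul_mem (mul_mem (inv_mem (pow_mem hW n)) hTD) (pow_mem hW n)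
      refine ⟨_, ZStar.Main.commutator_mem_oddCore (hiso T hT₁) ⟨T₂, hT₂D⟩, ?_⟩
      show T * T₂ * T⁻¹ * T₂⁻¹ = T * T'
      calc T * T₂ * T⁻¹ * T₂⁻¹ = T * (T₂ * T * T₂⁻¹)⁻¹ := by group
        _ = T * T' := by rw [hT₂e, inv_eq_of_mul_eq_one_right (hsq T' hT₂)]
  have hodd : ∀ x ∈ O, Odd (orderOf x) := by
    rintro _ ⟨x, hx, rfl⟩
    refine (InvChar.Core.odd_card_oddCore (G := D)).of_dvd_nat ?_
    rw [show (D.subtype x) = ((x : D) : Y ⧸ Zc G) from rfl, Subgroup.orderOf_coe]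
    exact Subgroup.orderOf_dvd_natCard _ hx
  let A : Subgroup Y :=
    { carrier := {c | c ∈ ptH G E ∧ Commute c a ∧ ∃ e ∈ E, qZ G (c * e) ∈ O}
      one_mem' := ⟨one_mem _, Commute.one_left a, 1, one_mem _, by rw [mul_one, map_one]; exact one_mem _⟩
      mul_mem' := by
        rintro c d ⟨hc, hca, e, he, hce⟩ ⟨hd, hda, f, hf, hdf⟩
        refine ⟨mul_mem hc hd, hca.mul_left hda, d⁻¹ * e * d * f,
          mul_mem ((Subgroup.mem_normalizer_iff''.mp hd.2 e).mp he) hf, ?_⟩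
        rw [show c * d * (d⁻¹ * e * d * f) = (c * e) * (d * f) by group, map_mul]
        exact mul_mem hce hdf
      inv_mem' := by
        rintro c ⟨hc, hca, e, he, hce⟩
        refine ⟨inv_mem hc, hca.inv_left, c * e⁻¹ * c⁻¹,
          (Subgroup.mem_normalizer_iff.mp hc.2 e⁻¹).mp (inv_mem he), ?_⟩
        rw [show c⁻¹ * (c * e⁻¹ * c⁻¹) = (c * e)⁻¹ by group, map_inv]
        exact inv_mem hce }
  refine ⟨A, fun c hc => hc.1, fun c hc => hc.2.1, fun c hc => ?_, fun y hy hyZ y' hy' hy'Z => ?_⟩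
  · obtain ⟨hcH, -, e, he, hce⟩ := hc
    refine ⟨orderOf (qZ G (c * e)), hodd _ hce, fun z hz => ?_⟩
    have hpow : ∀ k : ℕ, (c ^ k)⁻¹ * (c * e) ^ k ∈ E := by
      intro k
      induction k with
      | zero => simpa using one_mem E
      | succ k ih =>
        rw [pow_succ, pow_succ, show (c ^ k * c)⁻¹ * ((c * e) ^ k * (c * e)) =
          c⁻¹ * ((c ^ k)⁻¹ * (c * e) ^ k) * c * e by group]
        exact mul_mem ((Subgroup.mem_normalizer_iff''.mp hcH.2 _).mp ih) he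
    set k := orderOf (qZ G (c * e)) with hk
    have hZ : (c * e) ^ k ∈ Zc G := by rw [← qZ_eq_one, map_pow, hk, pow_orderOf_eq_one]
    have h1 : Commute ((c ^ k)⁻¹ * (c * e) ^ k) z := (mem_ctr.mp hz).2 _ (hpow k)
    have h2 : Commute ((c * e) ^ k) z := (h.center_commute hZ z).symm
    have := h2.mul_left h1.inv_left
    rwa [mul_inv_rev, inv_inv, mul_inv_cancel_left] at this
  · obtain ⟨t, t', ⟨l, hl, ht⟩, ⟨l', hl', ht'⟩, htH, ht'H, hk, hkH, -⟩ :=
      h.exists_transfer hE hT hy hyZ hy' hy'Z hy hyZ hg hgH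
    have hmem : ∀ {u w m : Y}, u = m * w * m⁻¹ → w ∈ PZ G E → w ∉ Zc G → m ∈ G → g⁻¹ * u ∈ ptH G E →
        qZ G u ∈ S := fun {u w m} e hw hwZ hm hu =>
      ⟨u, e ▸ mul_mem (mul_mem hm (ptH_le (PZ_le h hE hw))) (inv_mem hm), isT_of_eq_conj hw hwZ hm e, hu, rfl⟩
    have hT1 := hmem ht hy hyZ hl htH
    have hT2 := hmem ht' hy' hy'Z hl' ht'H
    have hkO : qZ G (t'⁻¹ * t) ∈ O := by
      rw [map_mul, map_inv, inv_eq_of_mul_eq_one_right (hsq _ hT2)]
      exact hprod _ hT2 _ hT1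
    obtain ⟨e, he, c, hcH, hca, hce⟩ := h.ptH_split hE hkH
    refine ⟨c, ⟨hcH, hca, e, he, hce ▸ hkO⟩, qZ_eq.mp ?_⟩
    rw [hce] at hk
    rw [← hk]
    simp only [map_mul, map_inv]
    have hey : Commute (qZ G e) (qZ G y) := (show Commute e y from (PZ_commute h hE hy).2 e he).map _
    calc qZ G c * qZ G y * (qZ G c)⁻¹ = qZ G c * (qZ G e * qZ G y * (qZ G e)⁻¹) * (qZ G c)⁻¹ := by
          rw [hey.eq, mul_inv_cancel_right]
      _ = _ := by group

omit [G.Normal] in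
/-- **The consequences.** -/
theorem Ctx.prelim (h : Ctx ρ a r p G) (hE : IsE a G E) (hT : TI G E) (hS : Swaps a G E) :
    Prelim a G E :=
  haveI := h.normal
  ⟨fun _ hx hx2 i => h.prelim_scale hE hT hS hx hx2 i, h.prelim_two hE hT, h.prelim_act hE hT⟩

end Cfsg.Agent.Lib.ShultFlavell
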