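import Cfsg.Agent.Lib.ShultFlavell.Conj

/-!
Automorphisms of a moved group commuting with `a`, and the projections on its pieces.
-/

set_option autoImplicit false
set_option linter.style.haveILetI false
set_option linter.unusedSectionVars false

namespace Cfsg.Agent.Lib.ShultFlavell

open Module (End)
open scoped commutatorElement

variable {K : Type*} [Field K] {W : Type*} [AddCommGroup W] [Module K W]
variable {Y : Type*} [Group Y]
variable {ρ : Y →* End K W} {a : Y} {r q : ℕ} {E : Subgroup Y} {χ ψ : ctr E → K}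

theorem map_cancel (ρ : Y →* End K W) (g : Y) (w : W) : ρ g⁻¹ (ρ g w) = w := by
  rw [← Module.End.mul_apply, ← map_mul, inv_mul_cancel, map_one, Module.End.one_apply]

theorem map_cancel' (ρ : Y →* End K W) (g : Y) (w : W) : ρ g (ρ g⁻¹ w) = w := by
  rw [← Module.End.mul_apply, ← map_mul, mul_inv_cancel, map_one, Module.End.one_apply]

theorem map_ne_zero' (ρ : Y →* End K W) (g : Y) {w : W} (hw : w ≠ 0) : ρ g w ≠ 0 := fun e => hw (by
  rw [← map_cancel ρ g w, e, map_zero])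

/-- `E` acts trivially on the piece. -/
def Trivp (ρ : Y →* End K W) (E : Subgroup Y) (χ : ctr E → K) : Prop :=
  ∀ e ∈ E, ∀ w ∈ piece ρ E χ, ρ e w = w

theorem Trivp.chi_eq_one (h : Trivp ρ E χ) (hne : piece ρ E χ ≠ ⊥) (z : ctr E) : χ z = 1 := by
  obtain ⟨w, hw, hw0⟩ := Submodule.exists_mem_ne_zero_of_ne_bot hne
  refine smul_left_injective K hw0 ?_
  show χ z • w = (1 : K) • w
  rw [← mem_piece.mp hw z, one_smul]
  exact h _ z.2.1 w hw

variable [IsAlgClosed K] [FiniteDimensional K W] [Finite Y]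

/-- A homomorphism on `E` invariant under `a` is trivial. -/
theorem Moved.hom_eq_one (h : Moved ρ a r E q) {A : Type*} [Group A] (f : E →* A)
    (hf : ∀ (x : Y) (hx : x ∈ E), f ⟨a * x * a⁻¹, (Subgroup.mem_normalizer_iff.mp h.norm x).mp hx⟩ = f ⟨x, hx⟩)
    (x : E) : f x = 1 := by
  have hconj : ∀ (b : Y), b ∈ Subgroup.zpowers a → ∀ (x : Y) (hx : x ∈ E),
      ∃ hx' : b * x * b⁻¹ ∈ E, f ⟨b * x * b⁻¹, hx'⟩ = f ⟨x, hx⟩ := by
    intro b hb
    classical
    obtain ⟨i, -, rfl⟩ := Finset.mem_image.mp ((mem_zpowers_iff_mem_range_orderOf).mp hb)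
    induction i with
    | zero => intro x hx; exact ⟨by simpa using hx, by simp⟩
    | succ i ih =>
      intro x hx
      obtain ⟨hx', he⟩ := ih (Subgroup.pow_mem _ (Subgroup.mem_zpowers a) i) x hx
      have e : a ^ (i + 1) * x * (a ^ (i + 1))⁻¹ = a * (a ^ i * x * (a ^ i)⁻¹) * a⁻¹ := by
        rw [pow_succ']; group
      refine ⟨e ▸ (Subgroup.mem_normalizer_iff.mp h.norm _).mp hx', ?_⟩
      rw [← he, ← hf _ hx']
      exact congrArg f (Subtype.ext e)
  let N : Subgroup Y :=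
    { carrier := {y | ∃ hy : y ∈ E, f ⟨y, hy⟩ = 1}
      one_mem' := ⟨one_mem E, map_one f⟩
      mul_mem' := fun {u v} ⟨hu, eu⟩ ⟨hv, ev⟩ => ⟨mul_mem hu hv, by
        rw [show (⟨u * v, mul_mem hu hv⟩ : E) = ⟨u, hu⟩ * ⟨v, hv⟩ from rfl, map_mul, eu, ev, one_mul]⟩
      inv_mem' := fun {u} ⟨hu, eu⟩ => ⟨inv_mem hu, by
        rw [show (⟨u⁻¹, inv_mem hu⟩ : E) = ⟨u, hu⟩⁻¹ from rfl, map_inv, eu, inv_one]⟩ }
  have hle : E ≤ N := by
    refine h.gen.symm.le.trans (Subgroup.commutator_le.mpr fun y hy b hb => ?_)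
    obtain ⟨hy', he⟩ := hconj b hb y⁻¹ (inv_mem hy)
    have e : ⁅y, b⁆ = y * (b * y⁻¹ * b⁻¹) := by rw [commutatorElement_def]; group
    refine ⟨e ▸ mul_mem hy hy', ?_⟩
    rw [show (⟨⁅y, b⁆, e ▸ mul_mem hy hy'⟩ : E) = ⟨y, hy⟩ * ⟨b * y⁻¹ * b⁻¹, hy'⟩ from Subtype.ext e,
      map_mul, he, show (⟨y⁻¹, inv_mem hy⟩ : E) = ⟨y, hy⟩⁻¹ from rfl, map_inv, mul_inv_cancel]
  obtain ⟨hx, e⟩ := hle x.2
  exact e

theorem Moved.mem_ctr_of_pieces (h : Moved ρ a r E q) {x : Y} (hx : x ∈ E)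
    (hp : ∀ χ : ctr E → K, Exc ρ a r E χ → x ∈ rad ρ E χ) : x ∈ ctr E := by
  refine mem_ctr.mpr ⟨hx, fun y hy => ?_⟩
  have hd : ⁅y, x⁆ ∈ E := by
    rw [commutatorElement_def]
    exact mul_mem (mul_mem (mul_mem hy hx) (inv_mem hy)) (inv_mem hx)
  refine commutatorElement_eq_one_iff_mul_comm.mp (h.eq_one_of_pieces hd fun χ w hw => ?_)
  rcases h.piece_cases χ with ht | he
  · exact ht _ hd w hw
  · obtain ⟨-, hc⟩ := hp χ he
    have hx' := piece_mem_E (mul_mem (inv_mem hy) (inv_mem hx)) w hw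
    have h3 := hc y hy _ hx'
    rw [map_mul, Module.End.mul_apply] at h3
    rw [commutatorElement_def, map_mul, map_mul, map_mul, Module.End.mul_apply, Module.End.mul_apply,
      Module.End.mul_apply, ← h3, map_cancel', map_cancel']

/-- An element commuting with `a`, of order prime to `r`, centralising the centre, centralises `E`. -/
theorem Moved.centralizes_of_ctr (h : Moved ρ a r E q) {c : Y}
    (hc : c ∈ Subgroup.normalizer (E : Set Y)) (hca : Commute c a) (hord : (orderOf c).Coprime r)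
    (hz : ∀ z ∈ ctr E, c * z = z * c) : ∀ x ∈ E, c * x = x * c := by
  have hconj : ∀ x ∈ E, c * x * c⁻¹ ∈ E := fun x hx => (Subgroup.mem_normalizer_iff.mp hc x).mp hx
  have hmem : ∀ x ∈ E, x⁻¹ * (c * x * c⁻¹) ∈ ctr E := by
    intro x hx
    refine h.mem_ctr_of_pieces (mul_mem (inv_mem hx) (hconj x hx)) fun χ he => ?_
    obtain ⟨-, m, hm, hr, -⟩ := h.exc_data he
    obtain ⟨C⟩ := h.exists_coord he hr
    exact (C.conj_eq h he.piece_ne hr hm hc hca.eq (fun z hz' => by rw [hz z hz', mul_inv_cancel_right]) hord hx).2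
  let f : E →* ctr E := MonoidHom.mk' (fun x => ⟨_, hmem x x.2⟩) fun x y => Subtype.ext (by
    show ((x : Y) * y)⁻¹ * (c * ((x : Y) * y) * c⁻¹) =
      (x : Y)⁻¹ * (c * (x : Y) * c⁻¹) * ((y : Y)⁻¹ * (c * (y : Y) * c⁻¹))
    calc ((x : Y) * y)⁻¹ * (c * ((x : Y) * y) * c⁻¹)
        = (y : Y)⁻¹ * ((x : Y)⁻¹ * (c * (x : Y) * c⁻¹)) * (c * (y : Y) * c⁻¹) := by group
      _ = (x : Y)⁻¹ * (c * (x : Y) * c⁻¹) * (y : Y)⁻¹ * (c * (y : Y) * c⁻¹) := by
          rw [(mem_ctr.mp (hmem x x.2)).2 _ (inv_mem y.2)]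
      _ = _ := by group)
  have hf := h.hom_eq_one f fun x hx => Subtype.ext (by
    show (a * x * a⁻¹)⁻¹ * (c * (a * x * a⁻¹) * c⁻¹) = x⁻¹ * (c * x * c⁻¹)
    have e : c * (a * x * a⁻¹) * c⁻¹ = a * (c * x * c⁻¹) * a⁻¹ := by
      calc c * (a * x * a⁻¹) * c⁻¹ = (c * a) * x * (c * a)⁻¹ := by group
        _ = _ := by rw [hca.eq]; group
    rw [e, show (a * x * a⁻¹)⁻¹ * (a * (c * x * c⁻¹) * a⁻¹) = a * (x⁻¹ * (c * x * c⁻¹)) * a⁻¹ by group,
      h.comm_ctr (hmem x hx), mul_inv_cancel_right])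
  intro x hx
  have h1 := congrArg Subtype.val (hf ⟨x, hx⟩)
  exact mul_inv_eq_iff_eq_mul.mp (inv_mul_eq_one.mp h1).symm

/-- A moved group has an exceptional piece. -/
theorem Moved.exists_exc (h : Moved ρ a r E q) (hE : E ≠ ⊥) : ∃ χ : ctr E → K, Exc ρ a r E χ := by
  by_contra hcon
  push Not at hcon
  exact hE ((Subgroup.eq_bot_iff_forall E).mpr fun x hx => h.eq_one_of_pieces hx fun χ w hw =>
    ((h.piece_cases χ).resolve_right (hcon χ)) x hx w hw)

omit [IsAlgClosed K] [FiniteDimensional K W] [Finite Y] in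
theorem piece_conj {c : Y} (hcc : ∀ z ∈ ctr E, c⁻¹ * z * c ∈ ctr E) {w : W} (hw : w ∈ piece ρ E χ) :
    ρ c w ∈ piece ρ E fun z => χ ⟨c⁻¹ * z * c, hcc z z.2⟩ := by
  refine mem_piece.mpr fun z => ?_
  rw [← Module.End.mul_apply, ← map_mul, show (z : Y) * c = c * (c⁻¹ * z * c) by group, map_mul,
    Module.End.mul_apply]
  have := mem_piece.mp hw ⟨c⁻¹ * z * c, hcc z z.2⟩
  rw [this, map_smul]

theorem Moved.conj_ctr (h : Moved ρ a r E q) {c : Y} (hc : c ∈ Subgroup.normalizer (E : Set Y)) :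
    ∀ z ∈ ctr E, c⁻¹ * z * c ∈ ctr E := fun z hz => by
  have := h.mem_ctr_conj (inv_mem hc) hz
  rwa [inv_inv] at this

/-- Conjugation preserves triviality of pieces. -/
theorem Trivp.conj {c : Y} (hc : c ∈ Subgroup.normalizer (E : Set Y))
    (hcc : ∀ z ∈ ctr E, c⁻¹ * z * c ∈ ctr E)
    (h : Trivp ρ E fun z => χ ⟨c⁻¹ * z * c, hcc z z.2⟩) : Trivp ρ E χ := by
  intro e he w hw
  have h1 := h (c * e * c⁻¹) ((Subgroup.mem_normalizer_iff.mp hc e).mp he) _ (piece_conj hcc hw)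
  rw [map_mul, map_mul, Module.End.mul_apply, Module.End.mul_apply, map_cancel] at h1
  have h2 := congrArg (ρ c⁻¹) h1
  rwa [map_cancel, map_cancel] at h2

/-- The sum defining the projection to a piece, up to a factor. -/
noncomputable def pieceProj (ρ : Y →* End K W) (E : Subgroup Y) (χ : ctr E → K) : End K W :=
  letI := Fintype.ofFinite (ctr E)
  ∑ z : ctr E, χ z • ρ (z : Y)

theorem Moved.pieceProj_self (h : Moved ρ a r E q) {w : W} (hw : w ∈ piece ρ E χ) (hne : piece ρ E χ ≠ ⊥) :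
    pieceProj ρ E χ w = (Nat.card (ctr E) : K) • w := by
  letI := Fintype.ofFinite (ctr E)
  rw [pieceProj, LinearMap.sum_apply, Finset.sum_congr rfl fun z _ => show (χ z • ρ (z : Y)) w = w from ?_,
    Finset.sum_const, Finset.card_univ, ← Nat.card_eq_fintype_card, Nat.cast_smul_eq_nsmul]
  rw [LinearMap.smul_apply, mem_piece.mp hw z, smul_smul]
  rcases h.chi_sign hne z.2 with e | e <;> simp [e]

theorem Moved.pieceProj_orth (h : Moved ρ a r E q) {w : W} (hw : w ∈ piece ρ E ψ)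
    (hne : piece ρ E χ ≠ ⊥) (hχψ : χ ≠ ψ) : pieceProj ρ E χ w = 0 := by
  classical
  rcases eq_or_ne w 0 with rfl | hw0
  · rw [map_zero]
  have hne' : piece ρ E ψ ≠ ⊥ := fun e => hw0 ((Submodule.mem_bot K).mp (e ▸ hw))
  letI := Fintype.ofFinite (ctr E)
  obtain ⟨u, hu⟩ := Function.ne_iff.mp hχψ
  rw [pieceProj, LinearMap.sum_apply]
  have key : ∀ z : ctr E, (χ z • ρ (z : Y)) w = (χ z * ψ z) • w := fun z => by
    rw [LinearMap.smul_apply, mem_piece.mp hw z, smul_smul]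
  rw [Finset.sum_congr rfl fun z _ => key z, ← Finset.sum_smul]
  set S := ∑ z : ctr E, χ z * ψ z
  have h2 : (χ u * ψ u) * S = S := by
    rw [Finset.mul_sum]
    refine Fintype.sum_equiv (Equiv.mulLeft u) _ _ fun z => ?_
    show χ u * ψ u * (χ z * ψ z) = χ ⟨(u : Y) * z, mul_mem u.2 z.2⟩ * ψ ⟨(u : Y) * z, mul_mem u.2 z.2⟩
    rw [chi_mul hne u.2 z.2, chi_mul hne' u.2 z.2]
    ring
  have h3 : χ u * ψ u ≠ 1 := fun e => hu (by
    rcases h.chi_sign hne u.2 with e1 | e1 <;> rcases h.chi_sign hne' u.2 with e2 | e2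
    · exact e1.trans e2.symm
    · rw [e1, e2, one_mul] at e; exact e1.trans (e.symm.trans e2.symm)
    · rw [e1, e2, mul_one] at e; exact e1.trans (e.trans e2.symm)
    · exact e1.trans e2.symm)
  rw [(mul_left_eq_self₀.mp h2).resolve_left h3, zero_smul]

theorem Moved.card_ctr_ne_zero (h : Moved ρ a r E q) : (Nat.card (ctr E) : K) ≠ 0 :=
  h.card_ne_zero inf_le_left

end Cfsg.Agent.Lib.ShultFlavell
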