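import Cfsg.Agent.Lib.ShultFlavell.Two
import Cfsg.Agent.Lib.Coprime.Sylow
import Cfsg.Agent.Lib.Coprime.Commutator
import Cfsg.Agent.Lib.PLocal.Cores

/-!
The setting of a minimal counterexample, and the first reductions.
-/

set_option autoImplicit false
set_option linter.style.haveILetI false
set_option linter.unusedSectionVars false

namespace Cfsg.Agent.Lib.ShultFlavell

open Module (End)
open scoped commutatorElement

variable {K : Type*} [Field K] {W : Type*} [AddCommGroup W] [Module K W]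
variable {Y : Type*} [Group Y]

/-- A normal `p`-subgroup with a `2`-group as quotient. -/
def Nice (p : ℕ) (T : Subgroup Y) : Prop :=
  ∃ N : Subgroup Y, N ≤ T ∧ T ≤ Subgroup.normalizer (N : Set Y) ∧ IsPGroup p N ∧
    ∀ x ∈ T, ∃ k : ℕ, x ^ 2 ^ k ∈ N

/-- A minimal counterexample. -/
structure Ctx (ρ : Y →* End K W) (a : Y) (r p : ℕ) (G : Subgroup Y) : Prop where
  fpf : Fpf ρ a r
  pprime : p.Prime
  normal : G.Normal
  top : G ⊔ Subgroup.zpowers a = ⊤
  cop : ¬ r ∣ Nat.card G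
  faith : ∀ x ∈ G, ρ x = 1 → x = 1
  irr : ∀ U : Submodule K W, (∀ y : Y, ∀ w ∈ U, ρ y w ∈ U) → U = ⊥ ∨ U = ⊤
  gen : ⁅G, Subgroup.zpowers a⁆ = G
  ih : ∀ X : Subgroup Y, X < G → a ∈ Subgroup.normalizer (X : Set Y) →
    Nice p ⁅X, Subgroup.zpowers a⁆
  not_two : ¬ IsPGroup 2 G

theorem zpowers_le_normalizer {a : Y} {X : Subgroup Y} (h : a ∈ Subgroup.normalizer (X : Set Y)) :
    Subgroup.zpowers a ≤ Subgroup.normalizer (X : Set Y) := (Subgroup.zpowers_le).mpr h

theorem comm_zpowers_eq_bot {a : Y} {X : Subgroup Y} (h : ∀ x ∈ X, a * x = x * a) :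
    ⁅X, Subgroup.zpowers a⁆ = ⊥ := by
  rw [Coprime.commutator_eq_bot_iff_le_centralizer', Subgroup.zpowers_le, Subgroup.mem_centralizer_iff]
  exact fun x hx => (h x hx).symm

theorem comm_of_zpowers_eq_bot {a : Y} {X : Subgroup Y} (h : ⁅X, Subgroup.zpowers a⁆ = ⊥) :
    ∀ x ∈ X, a * x = x * a := by
  rw [Coprime.commutator_eq_bot_iff_le_centralizer', Subgroup.zpowers_le, Subgroup.mem_centralizer_iff] at h
  exact fun x hx => (h x hx).symm

variable {ρ : Y →* End K W} {a : Y} {r p : ℕ} {G : Subgroup Y}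

theorem Ctx.a_norm (h : Ctx ρ a r p G) : a ∈ Subgroup.normalizer (G : Set Y) := by
  haveI := h.normal
  rw [Subgroup.normalizer_eq_top]
  exact Subgroup.mem_top a

theorem Ctx.A_norm (h : Ctx ρ a r p G) : Subgroup.zpowers a ≤ Subgroup.normalizer (G : Set Y) :=
  zpowers_le_normalizer h.a_norm

theorem Ctx.normal_of (h : Ctx ρ a r p G) {X : Subgroup Y} (hg : G ≤ Subgroup.normalizer (X : Set Y))
    (ha : a ∈ Subgroup.normalizer (X : Set Y)) : X.Normal := by
  rw [← Subgroup.normalizer_eq_top_iff, eq_top_iff, ← h.top]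
  exact sup_le hg (zpowers_le_normalizer ha)

variable [Finite Y]

theorem Fpf.order_dvd (h : Fpf ρ a r) : Nat.card (Subgroup.zpowers a) ∣ r := by
  rw [Nat.card_zpowers]
  exact orderOf_dvd_of_pow_eq_one h.pow

theorem Fpf.coprime (h : Fpf ρ a r) {X : Subgroup Y} (hX : ¬ r ∣ Nat.card X) :
    (Nat.card (Subgroup.zpowers a)).Coprime (Nat.card X) :=
  ((h.prime.coprime_iff_not_dvd).mpr hX).coprime_dvd_left h.order_dvd

theorem Fpf.zpowers_solvable (a : Y) : Group.IsSolvable (Subgroup.zpowers a) :=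
  Coprime.isSolvable_of_isMulCommutative _

theorem Ctx.not_dvd (h : Ctx ρ a r p G) {X : Subgroup Y} (hX : X ≤ G) : ¬ r ∣ Nat.card X :=
  fun e => h.cop (e.trans (Subgroup.card_dvd_of_le hX))

theorem Ctx.coprime (h : Ctx ρ a r p G) {X : Subgroup Y} (hX : X ≤ G) :
    (Nat.card (Subgroup.zpowers a)).Coprime (Nat.card X) := h.fpf.coprime (h.not_dvd hX)

theorem Ctx.comm_idem (h : Ctx ρ a r p G) {X : Subgroup Y} (hX : X ≤ G)
    (ha : a ∈ Subgroup.normalizer (X : Set Y)) :
    ⁅⁅X, Subgroup.zpowers a⁆, Subgroup.zpowers a⁆ = ⁅X, Subgroup.zpowers a⁆ :=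
  Coprime.commutator_commutator_eq (zpowers_le_normalizer ha) (h.coprime hX)
    (Or.inl (Fpf.zpowers_solvable a))

theorem Ctx.comm_norm {X : Subgroup Y} (_ha : a ∈ Subgroup.normalizer (X : Set Y)) :
    a ∈ Subgroup.normalizer ((⁅X, Subgroup.zpowers a⁆ : Subgroup Y) : Set Y) :=
  Subgroup.normalizer_commutator_ge_right X (Subgroup.zpowers a) (Subgroup.mem_zpowers a)

variable [IsAlgClosed K] [FiniteDimensional K W] [Nontrivial W] [CharP K p]

/-- A normal `p`-subgroup of a minimal counterexample is trivial. -/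
theorem Ctx.pgroup_eq_bot (h : Ctx ρ a r p G) {N : Subgroup Y} [hNn : N.Normal] (hN : N ≤ G)
    (hp : IsPGroup p N) : N = ⊥ := by
  haveI := Fact.mk h.pprime
  let U : Submodule K W :=
    { carrier := {w | ∀ x ∈ N, ρ x w = w}
      add_mem' := fun h1 h2 x hx => by rw [map_add, h1 x hx, h2 x hx]
      zero_mem' := fun x _ => map_zero _
      smul_mem' := fun c w hw x hx => by rw [map_smul, hw x hx] }
  have hUinv : ∀ y : Y, ∀ w ∈ U, ρ y w ∈ U := by
    intro y w hw x hx
    rw [← Module.End.mul_apply, ← map_mul, show x * y = y * (y⁻¹ * x * y) by group, map_mul,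
      Module.End.mul_apply, hw _ (hNn.conj_mem' x hx y)]
  have hUne : U ≠ ⊥ := by
    obtain ⟨v, hv⟩ := exists_ne (0 : W)
    letI : Algebra (ZMod p) K := ZMod.algebra K p
    letI : Module (ZMod p) W := Module.compHom W (algebraMap (ZMod p) K)
    let S : Submodule (ZMod p) W := Submodule.span (ZMod p) (Set.range fun y : N => ρ y v)
    haveI : Module.Finite (ZMod p) S := Module.Finite.span_of_finite (ZMod p) (Set.finite_range _)
    haveI : Finite S := Module.finite_of_finite (ZMod p)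
    have hinv : ∀ (y : N), ∀ w ∈ S, ρ y w ∈ S := by
      intro y w hw
      induction hw using Submodule.span_induction with
      | mem w hw =>
        obtain ⟨z, rfl⟩ := hw
        exact Submodule.subset_span ⟨y * z, by simp⟩
      | zero => rw [map_zero]; exact zero_mem _
      | add u w _ _ hu hw => rw [map_add]; exact add_mem hu hw
      | smul c u _ hu =>
        show ρ y (algebraMap (ZMod p) K c • u) ∈ S
        rw [map_smul]
        exact S.smul_mem c hu
    letI : MulAction N S :=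
      { smul := fun y w => ⟨ρ y w, hinv y w w.2⟩
        one_smul := fun w => Subtype.ext (by show ρ ((1 : N) : Y) (w : W) = w; simp)
        mul_smul := fun x y w => Subtype.ext (by
          show ρ ((x * y : N) : Y) (w : W) = ρ x (ρ y w); simp) }
    have hdvd : p ∣ Nat.card S := by
      haveI : Nontrivial S := ⟨⟨⟨v, Submodule.subset_span ⟨1, by simp⟩⟩, 0, fun e => hv (congrArg Subtype.val e)⟩⟩
      obtain ⟨n, hn⟩ := IsPGroup.iff_card.mp (IsPGroup.of_card (p := p) (G := Multiplicative S)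
        (n := Module.finrank (ZMod p) S) (by
          show Nat.card S = _
          rw [Module.natCard_eq_pow_finrank (K := ZMod p), Nat.card_zmod]))
      have h1 : 1 < Nat.card S := Finite.one_lt_card
      rw [show Nat.card (Multiplicative S) = Nat.card S from rfl] at hn
      refine hn ▸ dvd_pow_self p ?_
      rintro rfl
      rw [hn, pow_zero] at h1
      exact lt_irrefl _ h1
    have h0 : (0 : S) ∈ MulAction.fixedPoints N S := fun y => Subtype.ext (map_zero _)
    obtain ⟨w, hw, hw0⟩ := hp.exists_fixed_point_of_prime_dvd_card_of_fixed_point S hdvd h0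
    intro e
    have hwU : (w : W) ∈ U := fun x hx => congrArg Subtype.val (hw ⟨x, hx⟩)
    rw [e, Submodule.mem_bot] at hwU
    exact hw0 (Subtype.ext hwU.symm)
  have htop := (h.irr U hUinv).resolve_left hUne
  refine (Subgroup.eq_bot_iff_forall N).mpr fun x hx => h.faith x (hN hx) (LinearMap.ext fun w => ?_)
  have hw : w ∈ U := htop ▸ Submodule.mem_top
  rw [hw x hx, Module.End.one_apply]

/-- A `Nice` subgroup invariant under a normal situation is a `2`-group. -/
theorem Ctx.nice_two (h : Ctx ρ a r p G) {T : Subgroup Y} [T.Normal] (hT : T ≤ G) (hn : Nice p T) :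
    IsPGroup 2 T := by
  obtain ⟨N, hNT, hTN, hNp, hq⟩ := hn
  haveI := Fact.mk h.pprime
  haveI : (N.subgroupOf T).Normal := (Subgroup.normal_subgroupOf_iff_le_normalizer hNT).mpr hTN
  have hle : N.subgroupOf T ≤ Cfsg.pCore p T := PLocal.Cores.le_pCore (hNp.comap_subtype)
  haveI := PLocal.Cores.map_subtype_pCore_normal (p := p) T
  have hbot : (Cfsg.pCore p T).map T.subtype = ⊥ :=
    h.pgroup_eq_bot ((Subgroup.map_subtype_le _).trans hT) (PLocal.Cores.isPGroup_pCore.map _)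
  intro x
  obtain ⟨k, hk⟩ := hq x x.2
  refine ⟨k, ?_⟩
  have h1 : (x : Y) ^ 2 ^ k ∈ (Cfsg.pCore p T).map T.subtype :=
    ⟨⟨_, hNT hk⟩, hle (Subgroup.mem_subgroupOf.mpr hk), rfl⟩
  rw [hbot, Subgroup.mem_bot] at h1
  exact Subtype.ext (by rw [Subgroup.coe_pow, h1, Subgroup.coe_one])

/-- If `a` centralises a Sylow subgroup for every prime but `q`, then `G` is a `q`-group. -/
theorem Ctx.isPGroup_of_centralized (h : Ctx ρ a r p G) {q : ℕ} [Fact q.Prime]
    (hc : ∀ l : ℕ, l.Prime → l ≠ q → ∃ S : Sylow l G, ∀ x ∈ (S : Subgroup G), a * (x : Y) = x * a) :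
    IsPGroup q G := by
  classical
  haveI := h.normal
  obtain ⟨Q, hQ⟩ := Coprime.exists_invariant_sylow q h.A_norm (h.coprime le_rfl)
    (Or.inl (Fpf.zpowers_solvable a))
  set Q0 := (Q : Subgroup G).map G.subtype with hQ0
  have haQ : a ∈ Subgroup.normalizer (Q0 : Set Y) := hQ (Subgroup.mem_zpowers a)
  let C : Subgroup G := (Subgroup.centralizer {a}).comap G.subtype
  have hQidx : ¬ q ∣ (Q : Subgroup G).index := Q.not_dvd_index
  have hCidx : ∀ l : ℕ, l.Prime → l ≠ q → ¬ l ∣ C.index := by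
    intro l hl hlq hd
    haveI := Fact.mk hl
    obtain ⟨S, hS⟩ := hc l hl hlq
    refine S.not_dvd_index (hd.trans (Subgroup.index_dvd_of_le fun x hx => ?_))
    exact Subgroup.mem_centralizer_singleton_iff.mpr (hS x hx).symm
  have hcopCQ : ∀ M : Subgroup G, (Q : Subgroup G) ≤ M → C.index.Coprime M.index := by
    intro M hM
    refine Nat.coprime_of_dvd fun l hl h1 h2 => ?_
    rcases eq_or_ne l q with rfl | hlq
    · exact hQidx (h2.trans (Subgroup.index_dvd_of_le hM))
    · exact hCidx l hl hlq h1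
  set N : Subgroup G := Subgroup.normalizer ((Q : Subgroup G) : Set G) with hN
  have hinf : (C ⊓ N).index = C.index * N.index :=
    le_antisymm (Subgroup.index_inf_le) (Nat.le_of_dvd (Nat.pos_of_ne_zero Subgroup.index_ne_zero_of_finite)
      ((hcopCQ N Subgroup.le_normalizer).mul_dvd_of_dvd_of_dvd
        (Subgroup.index_dvd_of_le inf_le_left) (Subgroup.index_dvd_of_le inf_le_right)))
  have hrel : N.relIndex C = N.index := by
    have h1 := Subgroup.relIndex_mul_index (inf_le_left : C ⊓ N ≤ C)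
    rw [Subgroup.inf_relIndex_left, hinf, mul_comm C.index] at h1
    exact mul_right_cancel₀ Subgroup.index_ne_zero_of_finite h1
  have hsurj : Function.Surjective fun c : C ⧸ N.subgroupOf C =>
      Quotient.liftOn' c (fun c : C => ((c : G) : G ⧸ N)) fun c d hcd => by
        rw [QuotientGroup.leftRel_apply, Subgroup.mem_subgroupOf] at hcd
        exact QuotientGroup.eq.mpr (by simpa using hcd) := by
    refine ((Nat.bijective_iff_injective_and_card _).mpr ⟨?_, ?_⟩).2
    · rintro ⟨c⟩ ⟨d⟩ e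
      refine QuotientGroup.eq.mpr (Subgroup.mem_subgroupOf.mpr ?_)
      simpa using QuotientGroup.eq.mp e
    · exact hrel
  have hprod : ∀ g : G, ∃ c ∈ C, c⁻¹ * g ∈ N := by
    intro g
    obtain ⟨⟨c⟩, hcg⟩ := hsurj (g : G ⧸ N)
    exact ⟨c, c.2, QuotientGroup.eq.mp hcg⟩
  have hnormQ : ∀ n : G, n ∈ N → (n : Y) ∈ Subgroup.normalizer (Q0 : Set Y) := fun n hn =>
    (Subgroup.le_normalizer_map (H := (Q : Subgroup G)) G.subtype) ⟨n, hn, rfl⟩
  have hall : G ≤ Subgroup.normalizer (Q0 : Set Y) := by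
    refine h.gen.symm.le.trans (Subgroup.commutator_le.mpr fun g hg b hb => ?_)
    obtain ⟨c, hcC, hcn⟩ := hprod ⟨g⁻¹, inv_mem hg⟩
    have hca : Commute (c : Y) b := by
      obtain ⟨i, rfl⟩ := Subgroup.mem_zpowers_iff.mp hb
      exact (show Commute (c : Y) a from Subgroup.mem_centralizer_singleton_iff.mp hcC).zpow_right i
    have hn' := hnormQ _ hcn
    simp only [Subgroup.coe_mul, Subgroup.coe_inv] at hn'
    have e : ⁅g, b⁆ = ((c : Y)⁻¹ * g⁻¹)⁻¹ * (b * ((c : Y)⁻¹ * g⁻¹) * b⁻¹) := by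
      rw [commutatorElement_def]
      have : (c : Y) * b = b * c := hca
      calc g * b * g⁻¹ * b⁻¹ = g * ((c : Y) * b) * (c : Y)⁻¹ * g⁻¹ * b⁻¹ := by rw [this]; group
        _ = _ := by group
    have hb' := zpowers_le_normalizer haQ hb
    rw [e]
    exact mul_mem (inv_mem hn') (mul_mem (mul_mem hb' hn') (inv_mem hb'))
  haveI hQn : (Q : Subgroup G).Normal := ⟨fun n hn g => by
    have h1 := (Subgroup.mem_normalizer_iff.mp (hall g.2) (n : Y)).mp ⟨n, hn, rfl⟩
    obtain ⟨z, hz, e⟩ := h1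
    rwa [show g * n * g⁻¹ = z from Subtype.ext e.symm]⟩
  have hsup : C ⊔ (Q : Subgroup G) = ⊤ := by
    refine Subgroup.index_eq_one.mp (Nat.eq_one_of_dvd_coprimes (hcopCQ _ le_rfl)
      (Subgroup.index_dvd_of_le le_sup_left) (Subgroup.index_dvd_of_le le_sup_right))
  have hGQ : G ≤ Q0 := by
    refine h.gen.symm.le.trans (Subgroup.commutator_le.mpr fun g hg b hb => ?_)
    have hg' : (⟨g, hg⟩ : G) ∈ ((C ⊔ (Q : Subgroup G) : Subgroup G) : Set G) := by
      rw [hsup]; trivial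
    rw [Subgroup.mul_normal C] at hg'
    obtain ⟨c, hcC, x, hx, hcx⟩ := hg'
    have hca : Commute (c : Y) b := by
      obtain ⟨i, rfl⟩ := Subgroup.mem_zpowers_iff.mp hb
      exact (show Commute (c : Y) a from Subgroup.mem_centralizer_singleton_iff.mp hcC).zpow_right i
    have hgy : g = (c : Y) * x := (congrArg Subtype.val hcx).symm
    have hxQ : (x : Y) ∈ Q0 := ⟨x, hx, rfl⟩
    have hbx : b * (x : Y)⁻¹ * b⁻¹ ∈ Q0 :=
      (Subgroup.mem_normalizer_iff.mp (zpowers_le_normalizer haQ hb) _).mp (inv_mem hxQ)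
    have e : ⁅g, b⁆ = (c : Y) * ((x : Y) * (b * (x : Y)⁻¹ * b⁻¹)) * (c : Y)⁻¹ := by
      rw [hgy, commutatorElement_def]
      calc (c : Y) * x * b * ((c : Y) * x)⁻¹ * b⁻¹
          = (c : Y) * x * b * (x : Y)⁻¹ * ((c : Y)⁻¹ * b⁻¹) := by group
        _ = _ := by rw [(hca.inv_inv).eq]; group
    rw [e]
    exact (Subgroup.mem_normalizer_iff.mp (hall c.2) _).mp (mul_mem hxQ hbx)
  exact (Q.isPGroup'.map G.subtype).to_le hGQ

theorem Ctx.ne_r (h : Ctx ρ a r p G) : p ≠ r := fun e =>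
  h.fpf.cast_ne_zero (K := K) (by rw [← e]; exact CharP.cast_eq_zero K p)

/-- The moved part of an invariant `q`-subgroup, for a prime `q` different from the characteristic. -/
theorem Ctx.moved (h : Ctx ρ a r p G) {q : ℕ} (hq : q.Prime) (hqp : q ≠ p) {Q : Subgroup Y} (hQG : Q ≤ G)
    (hQ : IsPGroup q Q) (haQ : a ∈ Subgroup.normalizer (Q : Set Y)) :
    Moved ρ a r ⁅Q, Subgroup.zpowers a⁆ q ∨ ⁅Q, Subgroup.zpowers a⁆ = ⊥ := by
  haveI := Fact.mk hq
  have hle : ⁅Q, Subgroup.zpowers a⁆ ≤ Q :=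
    Coprime.commutator_le_of_le_normalizer (zpowers_le_normalizer haQ)
  refine or_iff_not_imp_right.mpr fun hne => ⟨h.fpf, hq, hQ.to_le hle, ?_, ?_, Ctx.comm_norm haQ,
    fun x hx => h.faith x (hQG (hle hx)), h.comm_idem hQG haQ⟩
  · intro e
    exact hqp ((Nat.prime_dvd_prime_iff_eq h.pprime hq).mp ((CharP.cast_eq_zero_iff K p q).mp e)).symm
  · rintro rfl
    obtain ⟨n, hn⟩ := IsPGroup.iff_card.mp hQ
    rcases n with _ | n
    · rw [pow_zero] at hn
      refine hne (le_bot_iff.mp (hle.trans (le_of_eq ?_)))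
      exact Subgroup.card_eq_one.mp hn
    · exact h.not_dvd hQG (hn ▸ dvd_pow_self _ (Nat.succ_ne_zero n))

theorem Ctx.centralized (h : Ctx ρ a r p G) {q : ℕ} (hq : q.Prime) (hqp : q ≠ p)
    (hE : q ≠ 2 ∨ ¬ ∃ m, 1 ≤ m ∧ r = 2 ^ m + 1) {Q : Subgroup Y} (hQG : Q ≤ G)
    (hQ : IsPGroup q Q) (haQ : a ∈ Subgroup.normalizer (Q : Set Y)) : ∀ x ∈ Q, a * x = x * a := by
  refine comm_of_zpowers_eq_bot ?_
  rcases h.moved hq hqp hQG hQ haQ with hM | hM
  · by_contra hne
    obtain ⟨e, hm⟩ := hM.two hne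
    rcases hE with e' | e'
    · exact e' e
    · exact e' hm
  · exact hM

/-- The prime `r` is a Fermat prime and the characteristic is odd. -/
theorem Ctx.fermat (h : Ctx ρ a r p G) : p ≠ 2 ∧ ∃ m, 1 ≤ m ∧ r = 2 ^ m + 1 := by
  haveI := Fact.mk h.pprime
  by_contra hcon
  rw [not_and_or] at hcon
  have hG : IsPGroup p G := h.isPGroup_of_centralized fun l hl hlp => by
    haveI := Fact.mk hl
    obtain ⟨S, hS⟩ := Coprime.exists_invariant_sylow l h.A_norm (h.coprime le_rfl)
      (Or.inl (Fpf.zpowers_solvable a))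
    have hc := h.centralized hl hlp ?_ (Subgroup.map_subtype_le _) (S.isPGroup'.map _)
      (hS (Subgroup.mem_zpowers a))
    · exact ⟨S, fun x hx => hc x ⟨x, hx, rfl⟩⟩
    · rcases hcon with e | e
      · left; rintro rfl; exact e hlp.symm
      · exact Or.inr e
  haveI := h.normal
  refine h.not_two ?_
  rw [h.pgroup_eq_bot le_rfl hG]
  exact IsPGroup.of_bot

/-- Some invariant Sylow `p`-subgroup is moved. -/
theorem Ctx.exists_movedP (h : Ctx ρ a r p G) : ∃ P : Subgroup Y, P ≤ G ∧ IsPGroup p P ∧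
    a ∈ Subgroup.normalizer (P : Set Y) ∧ ⁅P, Subgroup.zpowers a⁆ = P ∧ P ≠ ⊥ := by
  haveI := Fact.mk h.pprime
  obtain ⟨S, hS⟩ := Coprime.exists_invariant_sylow p h.A_norm (h.coprime le_rfl)
    (Or.inl (Fpf.zpowers_solvable a))
  set P0 := (S : Subgroup G).map G.subtype
  have haP : a ∈ Subgroup.normalizer (P0 : Set Y) := hS (Subgroup.mem_zpowers a)
  have hle : ⁅P0, Subgroup.zpowers a⁆ ≤ P0 :=
    Coprime.commutator_le_of_le_normalizer (zpowers_le_normalizer haP)
  refine ⟨_, hle.trans (Subgroup.map_subtype_le _), (S.isPGroup'.map _).to_le hle, Ctx.comm_norm haP,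
    h.comm_idem (Subgroup.map_subtype_le _) haP, fun hbot => ?_⟩
  haveI : Fact (Nat.Prime 2) := ⟨Nat.prime_two⟩
  refine h.not_two (h.isPGroup_of_centralized fun l hl hl2 => ?_)
  rcases eq_or_ne l p with rfl | hlp
  · exact ⟨S, fun x hx => comm_of_zpowers_eq_bot hbot x ⟨x, hx, rfl⟩⟩
  · haveI := Fact.mk hl
    obtain ⟨S', hS'⟩ := Coprime.exists_invariant_sylow l h.A_norm (h.coprime le_rfl)
      (Or.inl (Fpf.zpowers_solvable a))
    exact ⟨S', fun x hx => h.centralized hl hlp (Or.inl hl2) (Subgroup.map_subtype_le _)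
      (S'.isPGroup'.map _) (hS' (Subgroup.mem_zpowers a)) x ⟨x, hx, rfl⟩⟩

end Cfsg.Agent.Lib.ShultFlavell
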