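import Cfsg.Agent.Lib.ShultFlavell.Stable

/-!
The normaliser of `E`, and the points of the action on its conjugates.
-/

set_option autoImplicit false
set_option linter.style.haveILetI false
set_option linter.unusedSectionVars false

namespace Cfsg.Agent.Lib.ShultFlavell

open Module (End)
open scoped commutatorElement Pointwise

variable {K : Type*} [Field K] {W : Type*} [AddCommGroup W] [Module K W]
variable {Y : Type*} [Group Y]

/-- The stabiliser of `E` in `G`. -/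
def ptH (G E : Subgroup Y) : Subgroup Y := G ⊓ Subgroup.normalizer (E : Set Y)

/-- The centre of `E` extended by the centre of `G`. -/
def PZ (G E : Subgroup Y) : Subgroup Y := ctr E ⊔ Zc G

theorem ptH_le {G E : Subgroup Y} : ptH G E ≤ G := inf_le_left

theorem ctr_le_PZ {G E : Subgroup Y} : ctr E ≤ PZ G E := le_sup_left

theorem Zc_le_PZ {G E : Subgroup Y} : Zc G ≤ PZ G E := le_sup_right

variable [Finite Y]
variable {ρ : Y →* End K W} {a : Y} {r p : ℕ} {G E : Subgroup Y}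
variable [IsAlgClosed K] [FiniteDimensional K W] [Nontrivial W] [CharP K p]

theorem Ctx.comm_Zc (h : Ctx ρ a r p G) {z : Y} (hz : z ∈ Zc G) (y : Y) : y * z = z * y :=
  (h.center_commute hz y).eq

theorem IsE.not_le_PZ (h : Ctx ρ a r p G) (hE : IsE a G E) : ¬ E ≤ PZ G E := by
  intro hle
  refine hE.ne_bot h ?_
  rw [← hE.gen h, comm_zpowers_eq_bot fun x hx => ?_]
  have hc : PZ G E ≤ Subgroup.centralizer {a} := sup_le
    (fun z hz => Subgroup.mem_centralizer_singleton_iff.mpr ((hE.moved h).comm_ctr hz).symm)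
    (fun z hz => Subgroup.mem_centralizer_singleton_iff.mpr (h.comm_Zc hz a).symm)
  exact (Subgroup.mem_centralizer_singleton_iff.mp (hc (hle hx))).symm

theorem mem_PZ {z : Y} (h : Ctx ρ a r p G) :
    z ∈ PZ G E ↔ ∃ u ∈ ctr E, ∃ v ∈ Zc G, z = u * v := by
  haveI := h.normal
  have e : ((PZ G E : Subgroup Y) : Set Y) = (ctr E : Set Y) * (Zc G : Set Y) := Subgroup.mul_normal _ _
  rw [← SetLike.mem_coe, e, Set.mem_mul]
  exact ⟨fun ⟨u, hu, v, hv, e'⟩ => ⟨u, hu, v, hv, e'.symm⟩, fun ⟨u, hu, v, hv, e'⟩ => ⟨u, hu, v, hv, e'.symm⟩⟩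

theorem PZ_le (h : Ctx ρ a r p G) (hE : IsE a G E) : PZ G E ≤ ptH G E :=
  sup_le (le_inf (inf_le_left.trans (hE.le h)) (inf_le_left.trans Subgroup.le_normalizer))
    (le_inf Zc_le fun z hz => Subgroup.centralizer_le_normalizer _
      (Subgroup.mem_centralizer_iff.mpr fun u _ => h.comm_Zc hz u))

theorem PZ_commute (h : Ctx ρ a r p G) (hE : IsE a G E) {z : Y} (hz : z ∈ PZ G E) :
    a * z = z * a ∧ ∀ e ∈ E, e * z = z * e := by
  obtain ⟨u, hu, v, hv, rfl⟩ := (mem_PZ h).mp hz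
  refine ⟨?_, fun e he => ?_⟩
  · exact ((show Commute a u from (hE.moved h).comm_ctr hu).mul_right (h.center_commute hv a)).eq
  · exact ((show Commute e u from (mem_ctr.mp hu).2 e he).mul_right (h.center_commute hv e)).eq

theorem PZ_sq (h : Ctx ρ a r p G) (hE : IsE a G E) {z : Y} (hz : z ∈ PZ G E) : z ^ 2 ∈ Zc G := by
  obtain ⟨u, hu, v, hv, rfl⟩ := (mem_PZ h).mp hz
  rw [(show Commute u v from h.center_commute hv u).mul_pow, sq u, (hE.moved h).ctr_sq hu, one_mul]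
  exact pow_mem hv 2

theorem Ctx.E_le_ptH (h : Ctx ρ a r p G) (hE : IsE a G E) : E ≤ ptH G E :=
  le_inf (hE.le h) Subgroup.le_normalizer

theorem Ctx.norm_ptH (h : Ctx ρ a r p G) (hE : IsE a G E) :
    a ∈ Subgroup.normalizer (ptH G E : Set Y) :=
  mem_normalizer_inf h.a_norm (Subgroup.le_normalizer hE.norm)

theorem Ctx.ptH_lt (h : Ctx ρ a r p G) (hE : IsE a G E) : ptH G E < G := by
  refine inf_le_left.lt_of_ne fun e => ?_
  haveI : E.Normal := h.normal_of
    (fun g hg => (e.symm ▸ hg : g ∈ G ⊓ Subgroup.normalizer (E : Set Y)).2) hE.norm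
  have hlt : E < G := (hE.le h).lt_of_ne fun e' => h.not_two (e' ▸ hE.isP h)
  exact hE.not_le_PZ h ((h.normal_lt_central hlt).trans Zc_le_PZ)

theorem Ctx.comm_ptH (h : Ctx ρ a r p G) (hE : IsE a G E) : ⁅ptH G E, Subgroup.zpowers a⁆ = E :=
  h.stable (h.ptH_lt hE) (h.norm_ptH hE) hE (h.E_le_ptH hE)

/-- `H = E C_H(a)`. -/
theorem Ctx.ptH_split (h : Ctx ρ a r p G) (hE : IsE a G E) {x : Y} (hx : x ∈ ptH G E) :
    ∃ e ∈ E, ∃ c ∈ ptH G E, Commute c a ∧ x = c * e := by
  have h1 := Coprime.commutator_sup_inf_centralizer (zpowers_le_normalizer (h.norm_ptH hE))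
    (h.coprime ptH_le) (Or.inl (Fpf.zpowers_solvable a))
  rw [h.comm_ptH hE] at h1
  have hn : (ptH G E ⊓ Subgroup.centralizer ((Subgroup.zpowers a : Subgroup Y) : Set Y)) ≤
      Subgroup.normalizer (E : Set Y) := inf_le_left.trans inf_le_right
  have h2 : x ∈ ((E ⊔ (ptH G E ⊓ Subgroup.centralizer ((Subgroup.zpowers a : Subgroup Y) : Set Y))
      : Subgroup Y) : Set Y) := by rw [h1]; exact hx
  rw [sup_comm, Subgroup.coe_mul_of_left_le_normalizer_right _ _ hn] at h2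
  obtain ⟨c, ⟨hc, hca⟩, e, he, e'⟩ := Set.mem_mul.mp h2
  exact ⟨e, he, c, hc, mem_centralizer_zpowers.mp hca, e'.symm⟩

/-- A proper invariant subgroup containing `E` stabilises it. -/
theorem Ctx.le_ptH (h : Ctx ρ a r p G) (hE : IsE a G E) {X : Subgroup Y} (hX : X < G)
    (haX : a ∈ Subgroup.normalizer (X : Set Y)) (hEX : E ≤ X) : X ≤ ptH G E := by
  refine le_inf hX.le ?_
  rw [← h.stable hX haX hE hEX]
  exact Subgroup.normalizer_commutator_ge_left X _

/-- What commutes with a non-central element of `PZ` stabilises `E`. -/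
theorem Ctx.centralizer_le_ptH (h : Ctx ρ a r p G) (hE : IsE a G E) {y g : Y} (hy : y ∈ PZ G E)
    (hyZ : y ∉ Zc G) (hg : g ∈ G) (hgy : g * y = y * g) : g ∈ ptH G E := by
  have hyG : y ∈ G := ptH_le (PZ_le h hE hy)
  refine h.le_ptH hE (h.centralizer_lt hyG hyZ) (h.a_norm_centralizer (PZ_commute h hE hy).1) ?_
    ⟨hg, Subgroup.mem_centralizer_singleton_iff.mpr hgy⟩
  exact le_inf (hE.le h) fun e he =>
    Subgroup.mem_centralizer_singleton_iff.mpr ((PZ_commute h hE hy).2 e he)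

theorem Ctx.mem_PZ_conj (h : Ctx ρ a r p G) {c : Y} (hc : c ∈ Subgroup.normalizer (E : Set Y))
    (hE : IsE a G E) {y : Y} (hy : y ∈ PZ G E) : c * y * c⁻¹ ∈ PZ G E := by
  obtain ⟨u, hu, v, hv, rfl⟩ := (mem_PZ h).mp hy
  refine (mem_PZ h).mpr ⟨c * u * c⁻¹, (hE.moved h).mem_ctr_conj hc hu, v, hv, ?_⟩
  rw [show c * (u * v) * c⁻¹ = c * u * (v * c⁻¹) by group, ← h.comm_Zc hv c⁻¹]
  group

theorem Ctx.conj_Zc (h : Ctx ρ a r p G) {y : Y} (hy : y ∈ Zc G) (g : Y) : g * y * g⁻¹ = y := by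
  rw [h.comm_Zc hy g, mul_inv_cancel_right]

theorem Ctx.conj_not_Zc (h : Ctx ρ a r p G) {y : Y} (hy : y ∉ Zc G) (g : Y) : g * y * g⁻¹ ∉ Zc G := by
  intro hz
  have := h.conj_Zc hz g⁻¹
  rw [show g⁻¹ * (g * y * g⁻¹) * g⁻¹⁻¹ = y by group] at this
  exact hy (this ▸ hz)

/-- Two fixed elements fusing in `G` fuse by an element commuting with `a`. -/
theorem Ctx.exists_fixed_conj (h : Ctx ρ a r p G) {y g : Y} (hg : g ∈ G) (hya : Commute y a)
    (hy'a : Commute (g * y * g⁻¹) a) :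
    ∃ k ∈ G ⊓ Subgroup.centralizer {g * y * g⁻¹}, Commute (k * g) a := by
  haveI := Fact.mk h.fpf.prime
  haveI := h.normal
  have hord : (Nat.card (Subgroup.zpowers a)) = r := by
    rw [Nat.card_zpowers]
    exact orderOf_eq_prime h.fpf.pow fun e => by
      obtain ⟨w, hw⟩ := exists_ne (0 : W)
      exact hw (h.fpf.fix w (by rw [e, map_one, Module.End.one_apply]))
  set M : Subgroup Y := Subgroup.centralizer {g * y * g⁻¹} with hM
  have haM : a ∈ M := Subgroup.mem_centralizer_singleton_iff.mpr hy'a.symm.eq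
  have hgaM : g * a * g⁻¹ ∈ M := by
    rw [hM, Subgroup.mem_centralizer_singleton_iff]
    calc g * a * g⁻¹ * (g * y * g⁻¹) = g * (a * y) * g⁻¹ := by group
      _ = g * (y * a) * g⁻¹ := by rw [hya.symm.eq]
      _ = g * y * g⁻¹ * (g * a * g⁻¹) := by group
  let π := QuotientGroup.mk' G
  have hdec : ∀ x : Y, ∃ i : ℤ, x * (a ^ i)⁻¹ ∈ G := by
    intro x
    have hx : x ∈ ((G ⊔ Subgroup.zpowers a : Subgroup Y) : Set Y) := by rw [h.top]; trivial
    rw [Subgroup.normal_mul] at hx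
    obtain ⟨g', hg', _, ⟨i, rfl⟩, rfl⟩ := Set.mem_mul.mp hx
    exact ⟨i, by simpa using hg'⟩
  have hra : ∀ i : ℤ, a ^ i ∈ G → (r : ℤ) ∣ i := by
    intro i hi
    by_contra hnd
    have h1 : orderOf (a ^ i) = r := by
      refine orderOf_eq_prime (by rw [← zpow_natCast, ← zpow_mul, mul_comm, zpow_mul, zpow_natCast,
        h.fpf.pow, one_zpow]) fun e => hnd ?_
      have := orderOf_dvd_iff_zpow_eq_one.mpr e
      rwa [← Nat.card_zpowers, hord] at this
    exact h.cop (h1 ▸ Subgroup.orderOf_dvd_natCard G hi)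
  -- `⟨a⟩` is a Sylow subgroup of `M`, so the two are conjugate under `M`
  let A1 : Subgroup M := (Subgroup.zpowers a).subgroupOf M
  let A2 : Subgroup M := (Subgroup.zpowers (g * a * g⁻¹)).subgroupOf M
  have hc1 : Nat.card A1 = r := by
    rw [Nat.card_congr (Subgroup.subgroupOfEquivOfLe (Subgroup.zpowers_le.mpr haM)).toEquiv, hord]
  have hc2 : Nat.card A2 = r := by
    rw [Nat.card_congr (Subgroup.subgroupOfEquivOfLe (Subgroup.zpowers_le.mpr hgaM)).toEquiv,
      Nat.card_zpowers, ← MulAut.conj_apply, MulEquiv.orderOf_eq, ← Nat.card_zpowers, hord]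
  have hidx : ¬ r ∣ A1.index := by
    intro hd
    have h1 : Nat.card M = r * A1.index := by rw [← A1.card_mul_index, hc1]
    obtain ⟨R, hR⟩ : ∃ R : Subgroup M, Nat.card R = r ^ 2 := Sylow.exists_subgroup_card_pow_prime r (by
      rw [h1, sq]; exact mul_dvd_mul_left r hd)
    have hinj : Function.Injective (fun x : R => π ((x : M) : Y)) := by
      intro x z e
      have h2 : ((x : M) : Y)⁻¹ * ((z : M) : Y) ∈ G := QuotientGroup.eq.mp e
      have h3 := h.order_coprime h2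
      have h4 : orderOf (((x : M) : Y)⁻¹ * ((z : M) : Y)) ∣ r ^ 2 := by
        have := orderOf_dvd_natCard (x⁻¹ * z : R)
        rw [hR, ← Subgroup.orderOf_coe, ← Subgroup.orderOf_coe] at this
        exact this
      exact Subtype.ext (Subtype.ext (inv_mul_eq_one.mp (orderOf_eq_one_iff.mp
        ((h3.pow_right 2).eq_one_of_dvd h4))))
    have hcardQ : Nat.card (Y ⧸ G) ≤ r := by
      have hs : Function.Surjective (fun x : Subgroup.zpowers a => π (x : Y)) := by
        intro u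
        obtain ⟨x, rfl⟩ := QuotientGroup.mk'_surjective _ u
        obtain ⟨i, hi⟩ := hdec x
        refine ⟨⟨a ^ i, Subgroup.zpow_mem_zpowers _ _⟩, QuotientGroup.eq.mpr ?_⟩
        have := (inferInstance : G.Normal).conj_mem' _ hi (a ^ i)
        simpa [mul_assoc] using this
      exact hord ▸ Nat.card_le_card_of_surjective _ hs
    have h5 := (Nat.card_le_card_of_injective _ hinj).trans hcardQ
    rw [hR, sq] at h5
    have := h.fpf.prime.two_le
    nlinarith
  let P1 : Sylow r M := (IsPGroup.of_card (n := 1) (by rw [hc1, pow_one])).toSylow hidx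
  have hidx2 : ¬ r ∣ A2.index := by
    intro hd
    refine hidx ?_
    have h1 : A1.index = A2.index := by
      have e1 := A1.card_mul_index
      rw [← A2.card_mul_index, hc1, hc2] at e1
      exact mul_left_cancel₀ h.fpf.prime.ne_zero e1
    rwa [h1]
  let P2 : Sylow r M := (IsPGroup.of_card (n := 1) (by rw [hc2, pow_one])).toSylow hidx2
  obtain ⟨u, hu⟩ := MulAction.exists_smul_eq M P2 P1
  have hmem : (u : Y) * (g * a * g⁻¹) * (u : Y)⁻¹ ∈ Subgroup.zpowers a := by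
    have h1 : u * ⟨_, hgaM⟩ * u⁻¹ ∈ ((u • P2 : Sylow r M) : Subgroup M) := by
      rw [Sylow.coe_subgroup_smul]
      exact ⟨⟨_, hgaM⟩, Subgroup.mem_zpowers _, rfl⟩
    rw [hu] at h1
    exact h1
  obtain ⟨i, hi⟩ := hdec (u : Y)
  set k := (u : Y) * (a ^ i)⁻¹ with hk
  have haiM : a ^ i ∈ M := zpow_mem haM i
  have hkM : k ∈ M := mul_mem u.2 (inv_mem haiM)
  have hkg : k * g ∈ G := mul_mem hi hg
  -- conjugating by `k' := a ^ (-i) u` keeps the image of `a`
  set k' := (a ^ i)⁻¹ * (u : Y) with hk'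
  have hk'G : k' ∈ G := by
    have := (inferInstance : G.Normal).conj_mem' _ hi (a ^ i)
    rw [hk', show (a ^ i)⁻¹ * (u : Y) = (a ^ i)⁻¹ * ((u : Y) * (a ^ i)⁻¹) * a ^ i by group]
    exact this
  refine ⟨k', Subgroup.mem_inf.mpr ⟨hk'G, M.mul_mem (M.inv_mem haiM) u.2⟩, ?_⟩
  obtain ⟨j, hj⟩ := Subgroup.mem_zpowers_iff.mp hmem
  have hconj : (k' * g) * a * (k' * g)⁻¹ = a ^ j := by
    rw [hk', show (a ^ i)⁻¹ * (u : Y) * g * a * ((a ^ i)⁻¹ * (u : Y) * g)⁻¹ =
      (a ^ i)⁻¹ * ((u : Y) * (g * a * g⁻¹) * (u : Y)⁻¹) * a ^ i by group, ← hj]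
    group
  have hj1 : a ^ (j - 1) ∈ G := by
    have e : a ^ (j - 1) = ⁅k' * g, a⁆ := by
      rw [commutatorElement_def, hconj, zpow_sub_one]
    rw [e, commutatorElement_def, show k' * g * a * (k' * g)⁻¹ * a⁻¹ =
      k' * g * (a * (k' * g)⁻¹ * a⁻¹) by group]
    exact mul_mem (mul_mem hk'G hg) ((Subgroup.mem_normalizer_iff.mp h.a_norm _).mp
      (inv_mem (mul_mem hk'G hg)))
  obtain ⟨t, ht⟩ := hra _ hj1
  have hja : a ^ j = a := by
    rw [show j = 1 + (r : ℤ) * t by omega, zpow_add, zpow_one, zpow_mul, zpow_natCast, h.fpf.pow,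
      one_zpow, mul_one]
  rw [hja] at hconj
  exact mul_inv_eq_iff_eq_mul.mp hconj

/-- Non-central elements of `PZ` fusing in `G` fuse in the stabiliser of `E`. -/
theorem Ctx.point (h : Ctx ρ a r p G) (hE : IsE a G E) {y g : Y} (hy : y ∈ PZ G E) (hyZ : y ∉ Zc G)
    (hg : g ∈ G) (hgy : g * y * g⁻¹ ∈ PZ G E) : g ∈ ptH G E := by
  set y' := g * y * g⁻¹ with hy'
  have hy'Z : y' ∉ Zc G := h.conj_not_Zc hyZ g
  obtain ⟨k, hk, hka⟩ := h.exists_fixed_conj hg (PZ_commute h hE hy).1.symm (PZ_commute h hE hgy).1.symm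
  have hkH : k ∈ ptH G E :=
    h.centralizer_le_ptH hE hgy hy'Z hk.1 (Subgroup.mem_centralizer_singleton_iff.mp hk.2)
  have hkgG : k * g ∈ G := mul_mem hk.1 hg
  set E' := E.map ((MulAut.conj (k * g) : Y ≃* Y) : Y →* Y) with hE'
  have hE'E : IsE a G E' := hE.conj h hkgG hka
  have hle : E' ≤ G ⊓ Subgroup.centralizer {y'} := by
    rintro _ ⟨e, he, rfl⟩
    refine ⟨hE'E.le h ⟨e, he, rfl⟩, Subgroup.mem_centralizer_singleton_iff.mpr ?_⟩
    have hky : k * y' = y' * k := Subgroup.mem_centralizer_singleton_iff.mp hk.2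
    have e1 : y' = (k * g) * y * (k * g)⁻¹ := by
      rw [show k * g * y * (k * g)⁻¹ = k * y' * k⁻¹ by rw [hy']; group, hky, mul_inv_cancel_right]
    show (k * g) * e * (k * g)⁻¹ * y' = y' * ((k * g) * e * (k * g)⁻¹)
    rw [e1]
    calc k * g * e * (k * g)⁻¹ * (k * g * y * (k * g)⁻¹) = k * g * (e * y) * (k * g)⁻¹ := by group
      _ = k * g * (y * e) * (k * g)⁻¹ := by rw [(PZ_commute h hE hy).2 e he]
      _ = _ := by group
  have hH : E' ≤ ptH G E := hle.trans fun x hx =>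
    h.centralizer_le_ptH hE hgy hy'Z hx.1 (Subgroup.mem_centralizer_singleton_iff.mp hx.2)
  have hE'le : E' ≤ E := (hE'E.gen h).symm.le.trans ((Subgroup.commutator_mono hH le_rfl).trans
    (h.comm_ptH hE).le)
  have heq : E' = E := Subgroup.eq_of_le_of_card_ge hE'le (hE.card_eq h hE'E).ge
  have hkgH : k * g ∈ ptH G E :=
    ⟨hkgG, Subgroup.mem_normalizer_iff_map_conj_eq.mpr (hE' ▸ heq)⟩
  simpa using mul_mem (inv_mem hkH) hkgH

end Cfsg.Agent.Lib.ShultFlavell
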