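import Mathlib

/-!
The field with `4 ^ m` elements, its involution and the two trace functionals.
-/

set_option autoImplicit false
set_option linter.style.haveILetI false

namespace Cfsg.Agent.Lib.ShultFlavell

/-- The field with `4 ^ m` elements. -/
abbrev Fl (m : ℕ) : Type := GaloisField 2 (2 * m)

noncomputable instance (m : ℕ) : Fintype (Fl m) := Fintype.ofFinite _

/-- The involution `x ↦ x ^ 2 ^ m`. -/
noncomputable def conj (m : ℕ) : Fl m →+* Fl m := iterateFrobenius (Fl m) 2 m

theorem conj_apply (m : ℕ) (x : Fl m) : conj m x = x ^ 2 ^ m := iterateFrobenius_def 2 m x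

variable {m : ℕ}

theorem card_Fl (hm : 1 ≤ m) : Nat.card (Fl m) = 2 ^ (2 * m) := GaloisField.card 2 _ (by omega)

theorem conj_conj (hm : 1 ≤ m) (x : Fl m) : conj m (conj m x) = x := by
  rw [conj_apply, conj_apply, ← pow_mul, ← pow_add, ← two_mul]
  conv_lhs => rw [show 2 ^ (2 * m) = Fintype.card (Fl m) by rw [← Nat.card_eq_fintype_card, card_Fl hm]]
  exact FiniteField.pow_card x

/-- The trace to the prime field. -/
noncomputable def trF (m : ℕ) : Fl m →+ ZMod 2 := (Algebra.trace (ZMod 2) (Fl m)).toAddMonoidHom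

theorem trF_sq (x : Fl m) : trF m (x * x) = trF m x := by
  have hb : Function.Bijective (frobenius (Fl m) 2) :=
    Finite.injective_iff_bijective.mp (frobenius (Fl m) 2).injective
  let e : Fl m ≃ₐ[ZMod 2] Fl m := AlgEquiv.ofRingEquiv (f := RingEquiv.ofBijective (frobenius (Fl m) 2) hb)
    fun c => by
      show (algebraMap (ZMod 2) (Fl m) c) ^ 2 = algebraMap (ZMod 2) (Fl m) c
      rw [← map_pow, ZMod.pow_card c]
  have h := Algebra.trace_eq_of_algEquiv e x
  rw [← sq]
  exact h

theorem trF_conj (x : Fl m) : trF m (conj m x) = trF m x := by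
  rw [conj_apply]
  have key : ∀ n : ℕ, trF m (x ^ 2 ^ n) = trF m x := by
    intro n
    induction n with
    | zero => simp
    | succ n ih => rw [pow_succ, pow_mul, sq, trF_sq, ih]
  exact key m

theorem eq_zero_of_trF {κ : Fl m} (h : ∀ u, trF m (κ * u) = 0) : κ = 0 :=
  (traceForm_nondegenerate (ZMod 2) (Fl m)).1 κ fun u => h u

theorem exists_trF_repr (f : Fl m →+ ZMod 2) : ∃ κ, ∀ u, f u = trF m (κ * u) := by
  classical
  let L : Fl m →ₗ[ZMod 2] (Fl m →ₗ[ZMod 2] ZMod 2) := Algebra.traceForm (ZMod 2) (Fl m)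
  have hinj : Function.Injective L := (injective_iff_map_eq_zero L).mpr fun κ hκ =>
    eq_zero_of_trF fun u => LinearMap.congr_fun hκ u
  have hfr : Module.finrank (ZMod 2) (Fl m) = Module.finrank (ZMod 2) (Fl m →ₗ[ZMod 2] ZMod 2) :=
    (Subspace.dual_finrank_eq).symm
  obtain ⟨κ, hκ⟩ := ((LinearMap.injective_iff_surjective_of_finrank_eq_finrank hfr).mp hinj)
    (f.toZModLinearMap 2)
  exact ⟨κ, fun u => (LinearMap.congr_fun hκ u).symm⟩

theorem exists_conj_add (hm : 1 ≤ m) : ∃ w : Fl m, w + conj m w = 1 := by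
  classical
  obtain ⟨z, hz⟩ : ∃ z : Fl m, conj m z ≠ z := by
    by_contra hall
    push Not at hall
    have hdeg : (Polynomial.X ^ 2 ^ m - Polynomial.X : Polynomial (Fl m)).natDegree = 2 ^ m :=
      FiniteField.X_pow_card_sub_X_natDegree_eq _ (Nat.one_lt_two_pow (by omega))
    have hne : (Polynomial.X ^ 2 ^ m - Polynomial.X : Polynomial (Fl m)) ≠ 0 :=
      fun e => by rw [e, Polynomial.natDegree_zero] at hdeg; exact absurd hdeg.symm (by positivity)
    have hsub : (Finset.univ : Finset (Fl m)).val ⊆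
        (Polynomial.X ^ 2 ^ m - Polynomial.X : Polynomial (Fl m)).roots := fun z _ => by
      rw [Polynomial.mem_roots hne, Polynomial.IsRoot, Polynomial.eval_sub, Polynomial.eval_pow,
        Polynomial.eval_X, ← conj_apply, hall z, sub_self]
    have h1 := (Multiset.card_le_card (Finset.val_le_iff_val_subset.mpr hsub)).trans
      (Polynomial.card_roots' _)
    rw [hdeg] at h1
    have h2 : (Finset.univ : Finset (Fl m)).val.card = 2 ^ (2 * m) := by
      rw [← card_Fl hm, Nat.card_eq_fintype_card]; rfl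
    rw [h2] at h1
    exact absurd h1 (not_le.mpr (Nat.pow_lt_pow_right (by norm_num) (by omega)))
  have hu : z + conj m z ≠ 0 := fun e => hz (by
    rw [add_eq_zero_iff_eq_neg, CharTwo.neg_eq] at e; exact e.symm)
  refine ⟨z / (z + conj m z), ?_⟩
  rw [map_div₀, map_add, conj_conj hm, add_comm (conj m z) z, ← add_div, div_self hu]

/-- An element with `w + conj w = 1`. -/
noncomputable def halfW (m : ℕ) : Fl m :=
  if hm : 1 ≤ m then (exists_conj_add hm).choose else 0

theorem halfW_spec (hm : 1 ≤ m) : halfW m + conj m (halfW m) = 1 := by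
  rw [halfW, dif_pos hm]; exact (exists_conj_add hm).choose_spec

/-- The trace of the fixed field. -/
noncomputable def t0 (m : ℕ) : Fl m →+ ZMod 2 := (trF m).comp (AddMonoidHom.mulLeft (halfW m))

theorem t0_apply (z : Fl m) : t0 m z = trF m (halfW m * z) := rfl

theorem t0_polar (hm : 1 ≤ m) {κ : Fl m} (hκ : conj m κ = κ) (z : Fl m) :
    t0 m (κ * (z + conj m z)) = trF m (κ * z) := by
  have h1 : trF m (halfW m * (κ * conj m z)) = trF m (conj m (halfW m) * (κ * z)) := by
    rw [← trF_conj (halfW m * (κ * conj m z))]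
    simp only [map_mul, hκ, conj_conj hm]
  rw [t0_apply, mul_add, mul_add, map_add, h1, ← map_add, ← add_mul, halfW_spec hm, one_mul]

/-- The fixed field pairs perfectly with itself. -/
theorem eq_zero_of_t0 (hm : 1 ≤ m) {κ : Fl m} (hκ : conj m κ = κ)
    (h : ∀ z, conj m z = z → t0 m (κ * z) = 0) : κ = 0 :=
  eq_zero_of_trF fun u => by
    rw [← t0_polar hm hκ u]
    exact h _ (by rw [map_add, conj_conj hm, add_comm])

end Cfsg.Agent.Lib.ShultFlavell
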