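import Cfsg.Agent.Lib.ShultFlavell.Basic
import Cfsg.Agent.Lib.ShultFlavell.Field

/-!
Interfaces between the steps of the case where `ctr E` is not central.
-/

set_option autoImplicit false
set_option linter.style.haveILetI false
set_option linter.unusedSectionVars false

namespace Cfsg.Agent.Lib.ShultFlavell

open scoped commutatorElement

variable {Y : Type*} [Group Y]

/-- `ctr E` is not central and a conjugate of it by an element outside `H` meets `H` centrally. -/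
structure TI (G E : Subgroup Y) : Prop where
  noncentral : ¬ ctr E ≤ Zc G
  ti : ∀ g ∈ G, g ∉ ptH G E → ∀ y ∈ PZ G E, g * y * g⁻¹ ∈ ptH G E → y ∈ Zc G

/-- The involutions exchanging two points, and their consequences. -/
structure Swaps (a : Y) (G E : Subgroup Y) : Prop where
  /-- transitivity of `C_H(a)` -/
  trans : ∀ y ∈ PZ G E, y ∉ Zc G → ∀ y' ∈ PZ G E, y' ∉ Zc G →
    ∃ c ∈ ptH G E, Commute c a ∧ c * y * c⁻¹ * y'⁻¹ ∈ Zc G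
  /-- the involution exchanging `y` with `g y' g⁻¹` -/
  swap : ∀ y ∈ PZ G E, y ∉ Zc G → ∀ y' ∈ PZ G E, y' ∉ Zc G → ∀ g ∈ G, g ∉ ptH G E →
    ∃ t, (∃ u ∈ PZ G E, u ∉ Zc G ∧ ∃ l ∈ G, t = l * u * l⁻¹) ∧
      t * y * t⁻¹ * (g * y' * g⁻¹)⁻¹ ∈ Zc G ∧
      ∀ x ∈ G, ⁅x, y⁆ ∈ Zc G → ⁅x, g * y' * g⁻¹⁆ ∈ Zc G → ⁅x, t⁆ ∈ Zc G
  /-- no coset of involutions all fixing only one point -/
  trick : ∀ x ∈ ptH G E, x ∉ PZ G E → x ^ 2 ∈ Zc G →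
    (∀ z ∈ PZ G E, ∀ g ∈ G, g⁻¹ * (x * z) * g ∈ ptH G E → g ∈ ptH G E) → False
  /-- an involution fixing two points has a transitive centraliser -/
  fix_trans : ∀ x ∈ ptH G E, x ^ 2 ∈ Zc G → (∀ z ∈ PZ G E, ⁅x, z⁆ ∈ Zc G) →
    ∀ g ∈ G, g ∉ ptH G E → g⁻¹ * x * g ∈ ptH G E →
      ∀ y ∈ PZ G E, y ∉ Zc G → ∀ y' ∈ PZ G E, y' ∉ Zc G →
        ∃ k ∈ ptH G E, ⁅x, k⁆ ∈ Zc G ∧ k * y * k⁻¹ * y'⁻¹ ∈ Zc G

/-- What the exchanging involutions give on `E`. -/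
structure Prelim (a : Y) (G E : Subgroup Y) : Prop where
  scale : ∀ x ∈ E, x ^ 2 ∈ Zc G → ∀ i : ℕ, ⁅x, a ^ i * x * (a ^ i)⁻¹⁆ ∈ Zc G
  two : ∃ y ∈ PZ G E, ∃ y' ∈ PZ G E, y ∉ Zc G ∧ y' ∉ Zc G ∧ y * y'⁻¹ ∉ Zc G
  act : ∃ A : Subgroup Y, A ≤ ptH G E ∧ (∀ c ∈ A, Commute c a) ∧
    (∀ c ∈ A, ∃ k : ℕ, Odd k ∧ ∀ z ∈ ctr E, Commute (c ^ k) z) ∧
    ∀ y ∈ PZ G E, y ∉ Zc G → ∀ y' ∈ PZ G E, y' ∉ Zc G → ∃ c ∈ A, c * y * c⁻¹ * y'⁻¹ ∈ Zc G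

/-- `E / ctr E` is the field with `4 ^ m` elements and the squaring map is the norm. -/
structure Norm (a : Y) (m : ℕ) (G E : Subgroup Y) where
  φ : Y → Fl m
  ω : Fl m
  two_le : 2 ≤ m
  omega_ne : ω ≠ 1
  omega_pow : ω ^ (2 ^ m + 1) = 1
  add : ∀ x ∈ E, ∀ y ∈ E, φ (x * y) = φ x + φ y
  ker : ∀ x ∈ E, φ x = 0 ↔ x ∈ ctr E
  surj : ∀ u, ∃ x ∈ E, φ x = u
  equiv : ∀ x ∈ E, φ (a * x * a⁻¹) = ω * φ x
  sq : ∀ x ∈ E, ∀ y ∈ E, x ^ 2 * (y ^ 2)⁻¹ ∈ Zc G ↔ φ x * conj m (φ x) = φ y * conj m (φ y)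
  sq_surj : ∀ z ∈ PZ G E, ∃ x ∈ E, z * (x ^ 2)⁻¹ ∈ Zc G

/-- A family of hermitian forms of rank one, indexed by the non-zero elements of `Δ`. -/
structure Family (m : ℕ) (Δ : Type*) [AddCommGroup Δ] (V : Type*) [AddCommGroup V] where
  T : V →+ V
  ω : Fl m
  κ : Fl m
  ψ : Δ → V →+ Fl m
  one_le : 1 ≤ m
  prime : (2 ^ m + 1).Prime
  omega_ne : ω ≠ 1
  omega_pow : ω ^ (2 ^ m + 1) = 1
  kappa_ne : κ ≠ 0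
  kappa_conj : conj m κ = κ
  torsion : ∀ d : Δ, d + d = 0
  card : 4 ≤ Nat.card Δ
  small : m = 1 → Nat.card Δ ≠ 4
  equiv : ∀ d, d ≠ 0 → ∀ x, ψ d (T x) = ω * ψ d x
  surj : ∀ d, d ≠ 0 → Function.Surjective (ψ d)
  sep : ∀ x, (∀ d, d ≠ 0 → ψ d x = 0) → x = 0
  distinct : ∀ d e, d ≠ 0 → e ≠ 0 → d ≠ e →
    ∃ x y, κ * ψ d x * conj m (ψ d y) ≠ κ * ψ e x * conj m (ψ e y)
  line : ∀ d e d' e', d ≠ 0 → e ≠ 0 → d ≠ e → d' ≠ 0 → e' ≠ 0 → d' ≠ e' → ∀ x y,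
    κ * ψ d x * conj m (ψ d y) + κ * ψ e x * conj m (ψ e y) +
        κ * ψ (d + e) x * conj m (ψ (d + e) y) =
      κ * ψ d' x * conj m (ψ d' y) + κ * ψ e' x * conj m (ψ e' y) +
        κ * ψ (d' + e') x * conj m (ψ (d' + e') y)
  scale : ∀ x, (∀ d e, d ≠ 0 → e ≠ 0 →
      t0 m (κ * ψ d x * conj m (ψ d x)) = t0 m (κ * ψ e x * conj m (ψ e x))) →
    ∀ d e, d ≠ 0 → e ≠ 0 → κ * ψ d x * conj m (ψ d x) = κ * ψ e x * conj m (ψ e x)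
  blocks : ∀ d e, d ≠ 0 → e ≠ 0 → (ψ d).ker ≠ (ψ e).ker →
    ∃ f, f ≠ 0 ∧ (ψ f).ker ≠ (ψ d).ker ∧ (ψ f).ker ≠ (ψ e).ker

end Cfsg.Agent.Lib.ShultFlavell
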