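import Cfsg.Agent.Lib.ShultFlavell.Solvable

/-!
In a minimal counterexample every proper normal subgroup is central, and no proper invariant
subgroup contains both kinds of moved Sylow parts.
-/

set_option autoImplicit false
set_option linter.style.haveILetI false
set_option linter.unusedSectionVars false

namespace Cfsg.Agent.Lib.ShultFlavell

open Module (End finrank)
open scoped commutatorElement

variable {K : Type*} [Field K] {W : Type*} [AddCommGroup W] [Module K W]
variable {Y : Type*} [Group Y]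

/-- The centre of `G`, as a subgroup of the ambient group. -/
def Zc (G : Subgroup Y) : Subgroup Y := G ⊓ Subgroup.centralizer (G : Set Y)

theorem mem_Zc {G : Subgroup Y} {x : Y} : x ∈ Zc G ↔ x ∈ G ∧ ∀ g ∈ G, g * x = x * g :=
  Iff.rfl.trans (and_congr_right fun _ => Subgroup.mem_centralizer_iff)

theorem Zc_le {G : Subgroup Y} : Zc G ≤ G := inf_le_left

instance Zc_normal {G : Subgroup Y} [G.Normal] : (Zc G).Normal := Subgroup.normal_inf_normal _ _

/-- The moved part of some invariant Sylow `2`-subgroup of `G`. -/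
def IsE (a : Y) (G E : Subgroup Y) : Prop :=
  ∃ S : Sylow 2 G, a ∈ Subgroup.normalizer ((S : Subgroup G).map G.subtype : Set Y) ∧
    E = ⁅(S : Subgroup G).map G.subtype, Subgroup.zpowers a⁆

theorem commute_zpowers {a c b : Y} (h : Commute c a) (hb : b ∈ Subgroup.zpowers a) : Commute c b := by
  obtain ⟨i, rfl⟩ := Subgroup.mem_zpowers_iff.mp hb
  exact h.zpow_right i

theorem map_conj_zpowers {a c : Y} (h : Commute c a) :
    (Subgroup.zpowers a).map ((MulAut.conj c : Y ≃* Y) : Y →* Y) = Subgroup.zpowers a := by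
  rw [MonoidHom.map_zpowers]
  congr 1
  show c * a * c⁻¹ = a
  rw [h.eq, mul_inv_cancel_right]

theorem mem_centralizer_zpowers {a c : Y} :
    c ∈ Subgroup.centralizer ((Subgroup.zpowers a : Subgroup Y) : Set Y) ↔ Commute c a :=
  ⟨fun h => (Subgroup.mem_centralizer_iff.mp h a (Subgroup.mem_zpowers a)).symm,
    fun h => Subgroup.mem_centralizer_iff.mpr fun _ hb => (commute_zpowers h hb).eq.symm⟩

variable [Finite Y]
variable {ρ : Y →* End K W} {a : Y} {r p : ℕ} {G : Subgroup Y}
variable [IsAlgClosed K] [FiniteDimensional K W] [Nontrivial W] [CharP K p]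

/-- A `p`-group fixes a non-zero vector in every invariant subspace. -/
theorem exists_fixed_vector [Fact p.Prime] {N : Subgroup Y} (hN : IsPGroup p N) {U : Submodule K W}
    (hU : U ≠ ⊥) (hinv : ∀ x ∈ N, ∀ w ∈ U, ρ x w ∈ U) :
    ∃ w ∈ U, w ≠ 0 ∧ ∀ x ∈ N, ρ x w = w := by
  obtain ⟨v, hvU, hv⟩ := Submodule.exists_mem_ne_zero_of_ne_bot hU
  letI : Algebra (ZMod p) K := ZMod.algebra K p
  letI : Module (ZMod p) W := Module.compHom W (algebraMap (ZMod p) K)
  let S : Submodule (ZMod p) W := Submodule.span (ZMod p) (Set.range fun y : N => ρ y v)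
  haveI : Module.Finite (ZMod p) S := Module.Finite.span_of_finite (ZMod p) (Set.finite_range _)
  haveI : Finite S := Module.finite_of_finite (ZMod p)
  have hSU : ∀ w ∈ S, w ∈ U := by
    intro w hw
    induction hw using Submodule.span_induction with
    | mem w hw => obtain ⟨z, rfl⟩ := hw; exact hinv z z.2 v hvU
    | zero => exact zero_mem _
    | add u w _ _ hu hw => exact add_mem hu hw
    | smul c u _ hu => exact U.smul_mem (algebraMap (ZMod p) K c) hu
  have hinvS : ∀ (y : N), ∀ w ∈ S, ρ y w ∈ S := by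
    intro y w hw
    induction hw using Submodule.span_induction with
    | mem w hw =>
      obtain ⟨z, rfl⟩ := hw
      exact Submodule.subset_span ⟨y * z, by simp⟩
    | zero => rw [map_zero]; exact zero_mem _
    | add u w _ _ hu hw => rw [map_add]; exact add_mem hu hw
    | smul c u _ hu =>
      show ρ y (algebraMap (ZMod p) K c • u) ∈ S
      rw [map_smul]
      exact S.smul_mem c hu
  letI : MulAction N S :=
    { smul := fun y w => ⟨ρ y w, hinvS y w w.2⟩
      one_smul := fun w => Subtype.ext (by show ρ ((1 : N) : Y) (w : W) = w; simp)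
      mul_smul := fun x y w => Subtype.ext (by
        show ρ ((x * y : N) : Y) (w : W) = ρ x (ρ y w); simp) }
  haveI : Nontrivial S :=
    ⟨⟨⟨v, Submodule.subset_span ⟨1, by simp⟩⟩, 0, fun e => hv (congrArg Subtype.val e)⟩⟩
  have hdvd : p ∣ Nat.card S := by
    have h2 : Nat.card S = p ^ finrank (ZMod p) S := by
      rw [Module.natCard_eq_pow_finrank (K := ZMod p), Nat.card_zmod]
    rw [h2]
    exact dvd_pow_self p Module.finrank_pos.ne'
  have h0 : (0 : S) ∈ MulAction.fixedPoints N S := fun y => Subtype.ext (map_zero _)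
  obtain ⟨w, hw, hw0⟩ := hN.exists_fixed_point_of_prime_dvd_card_of_fixed_point S hdvd h0
  exact ⟨(w : W), hSU _ w.2, fun e => hw0 (Subtype.ext e.symm), fun x hx => congrArg Subtype.val (hw ⟨x, hx⟩)⟩

theorem Ctx.mem_norm_G (h : Ctx ρ a r p G) (y : Y) : y ∈ Subgroup.normalizer (G : Set Y) := by
  haveI := h.normal
  rw [Subgroup.normalizer_eq_top]; trivial

theorem Ctx.order_coprime (h : Ctx ρ a r p G) {x : Y} (hx : x ∈ G) : (orderOf x).Coprime r :=
  (((h.fpf.prime).coprime_iff_not_dvd).mpr fun e =>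
    h.cop (e.trans (Subgroup.orderOf_dvd_natCard G hx))).symm

theorem Ctx.abelian_centralized (h : Ctx ρ a r p G) {A : Subgroup Y} (hA : A ≤ G) (hpA : IsPGroup 2 A)
    (hab : ∀ x ∈ A, ∀ y ∈ A, x * y = y * x) (hn : a ∈ Subgroup.normalizer (A : Set Y)) :
    ∀ x ∈ A, a * x = x * a := by
  intro x hx
  haveI : Fact (Nat.Prime 2) := ⟨Nat.prime_two⟩
  have hqA : ((Nat.card A : ℕ) : K) ≠ 0 := by
    obtain ⟨n, hn'⟩ := IsPGroup.iff_card.mp hpA
    rw [hn', Nat.cast_pow]
    refine pow_ne_zero _ fun e2 => h.fermat.1 ?_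
    exact (Nat.prime_dvd_prime_iff_eq h.pprime Nat.prime_two).mp ((CharP.cast_eq_zero_iff K p 2).mp e2)
  have h2 := h.fpf.centralized A hqA hn (fun x hx y hy => by
    rw [Commute, SemiconjBy, ← map_mul, ← map_mul, hab x hx y hy]) hx
  have hmem : a * x * a⁻¹ * x⁻¹ ∈ G :=
    mul_mem ((Subgroup.mem_normalizer_iff.mp h.a_norm x).mp (hA hx)) (inv_mem (hA hx))
  exact mul_inv_eq_iff_eq_mul.mp (mul_inv_eq_one.mp (h.faith _ hmem
    (by rw [map_mul, h2, ← map_mul, mul_inv_cancel, map_one])))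

/-- The `2`-core of a normal subgroup commutes with every moved `p`-subgroup, hence with `G`. -/
theorem Ctx.two_normal_central (h : Ctx ρ a r p G) {D : Subgroup Y} [D.Normal] (hDG : D ≤ G)
    (hD : IsPGroup 2 D) : D ≤ Zc G := by
  obtain ⟨P, hPG, hP, hPa, hgen, hPne⟩ := h.exists_movedP
  haveI := h.normal
  have hnD : ∀ y : Y, y ∈ Subgroup.normalizer (D : Set Y) := fun y => by
    rw [Subgroup.normalizer_eq_top]; trivial
  have hc := h.centralizes_two hDG hD hPG hP hPa hgen (hnD a) (fun y _ => hnD y)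
  set C := G ⊓ Subgroup.centralizer (D : Set Y) with hC
  haveI : C.Normal := Subgroup.normal_inf_normal _ _
  have hPC : P ≤ C := le_inf hPG hc
  have hCG : C = G := by
    by_contra hne
    have hlt : C < G := inf_le_left.lt_of_ne hne
    have haC : a ∈ Subgroup.normalizer (C : Set Y) := by rw [Subgroup.normalizer_eq_top]; trivial
    obtain ⟨N, hNT, hTN, hNp, hq⟩ := h.ih C hlt haC
    set T := ⁅C, Subgroup.zpowers a⁆
    have hTC : T ≤ C := Coprime.commutator_le_of_le_normalizer (zpowers_le_normalizer haC)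
    haveI := Fact.mk h.pprime
    -- the `p`-part lies in the `p`-core of `C`, hence is trivial
    have hCT : C ≤ Subgroup.normalizer (T : Set Y) := Subgroup.normalizer_commutator_ge_left C _
    haveI := PLocal.Cores.pCore_characteristic (G := T) (p := p)
    set O := (Cfsg.pCore p T).map T.subtype
    have hCO : C ≤ Subgroup.normalizer (O : Set Y) :=
      hCT.trans (Coprime.OmegaDetect.normalizer_le_normalizer_char T _)
    have hNO : N ≤ O := PLocal.Cores.le_map_pCore_of_le_normalizer hNp hNT hTN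
    set O' := (Cfsg.pCore p C).map C.subtype
    have hOO' : O ≤ O' := PLocal.Cores.le_map_pCore_of_le_normalizer
      (PLocal.Cores.isPGroup_pCore.map _) ((Subgroup.map_subtype_le _).trans hTC) hCO
    haveI := PLocal.Cores.map_subtype_pCore_normal (p := p) C
    have hO' : O' = ⊥ := h.pgroup_eq_bot ((Subgroup.map_subtype_le _).trans hlt.le)
      (PLocal.Cores.isPGroup_pCore.map _)
    have hN : N = ⊥ := le_bot_iff.mp ((hNO.trans hOO').trans hO'.le)
    refine hPne ((Subgroup.eq_bot_iff_forall P).mpr fun x hx => ?_)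
    have hxT : x ∈ T := (hgen.symm.le.trans (Subgroup.commutator_mono hPC le_rfl)) hx
    obtain ⟨k, hk⟩ := hq x hxT
    rw [hN, Subgroup.mem_bot] at hk
    obtain ⟨n, hn⟩ := hP ⟨x, hx⟩
    have hn' : x ^ p ^ n = 1 := by simpa using congrArg Subtype.val hn
    refine orderOf_eq_one_iff.mp (Nat.dvd_one.mp ?_)
    have := Nat.dvd_gcd (orderOf_dvd_of_pow_eq_one hk) (orderOf_dvd_of_pow_eq_one hn')
    rwa [(((Nat.coprime_primes Nat.prime_two h.pprime).mpr (Ne.symm h.fermat.1)).pow k n).gcd_eq_one] at this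
  refine fun d hd => ⟨hDG hd, Subgroup.mem_centralizer_iff.mpr fun g hg => ?_⟩
  have hg' : g ∈ C := hCG.symm ▸ hg
  exact ((Subgroup.mem_centralizer_iff.mp hg'.2) d hd).symm

/-- Every proper normal subgroup is central. -/
theorem Ctx.normal_lt_central (h : Ctx ρ a r p G) {X : Subgroup Y} [hXn : X.Normal] (hX : X < G) :
    X ≤ Zc G := by
  haveI := h.normal
  haveI : Fact (Nat.Prime 2) := ⟨Nat.prime_two⟩
  haveI := Fact.mk h.pprime
  have haX : a ∈ Subgroup.normalizer (X : Set Y) := by rw [Subgroup.normalizer_eq_top]; trivial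
  obtain ⟨N, hNT, hTN, hNp, hq⟩ := h.ih X hX haX
  set T := ⁅X, Subgroup.zpowers a⁆ with hTdef
  have hTX : T ≤ X := Coprime.commutator_le_of_le_normalizer (zpowers_le_normalizer haX)
  have hXT : X ≤ Subgroup.normalizer (T : Set Y) := Subgroup.normalizer_commutator_ge_left X _
  haveI := PLocal.Cores.pCore_characteristic (G := T) (p := p)
  set O := (Cfsg.pCore p T).map T.subtype
  have hXO : X ≤ Subgroup.normalizer (O : Set Y) :=
    hXT.trans (Coprime.OmegaDetect.normalizer_le_normalizer_char T _)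
  haveI := PLocal.Cores.map_subtype_pCore_normal (p := p) X
  have hN : N = ⊥ := le_bot_iff.mp ((PLocal.Cores.le_map_pCore_of_le_normalizer hNp hNT hTN).trans
    ((PLocal.Cores.le_map_pCore_of_le_normalizer (PLocal.Cores.isPGroup_pCore.map _)
      ((Subgroup.map_subtype_le _).trans hTX) hXO).trans
      (h.pgroup_eq_bot ((Subgroup.map_subtype_le _).trans hX.le) (PLocal.Cores.isPGroup_pCore.map _)).le))
  have hT2 : IsPGroup 2 T := fun x => by
    obtain ⟨k, hk⟩ := hq x x.2
    rw [hN, Subgroup.mem_bot] at hk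
    exact ⟨k, Subtype.ext (by rw [Subgroup.coe_pow, hk, Subgroup.coe_one])⟩
  haveI := PLocal.Cores.map_subtype_pCore_normal (p := 2) X
  have hTZ : T ≤ Zc G := (PLocal.Cores.le_map_pCore_of_le_normalizer hT2 hTX hXT).trans
    (h.two_normal_central ((Subgroup.map_subtype_le _).trans hX.le) (PLocal.Cores.isPGroup_pCore.map _))
  have hTfix : ⁅T, Subgroup.zpowers a⁆ = ⊥ := comm_zpowers_eq_bot (h.abelian_centralized (hTX.trans hX.le) hT2
    (fun x hx y hy => (mem_Zc.mp (hTZ hy)).2 x (hTX.trans hX.le hx)) (Ctx.comm_norm haX))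
  have hXa : ⁅X, Subgroup.zpowers a⁆ = ⊥ := by rw [← h.comm_idem hX.le haX]; exact hTfix
  have h1 : ⁅⁅Subgroup.zpowers a, X⁆, G⁆ = ⊥ := by
    rw [Subgroup.commutator_comm (Subgroup.zpowers a), hXa, Subgroup.commutator_bot_left]
  have h2 : ⁅⁅X, G⁆, Subgroup.zpowers a⁆ = ⊥ :=
    le_bot_iff.mp (hXa ▸ Subgroup.commutator_mono (Subgroup.le_normalizer_iff_commutator_le_left.mp
      (fun y _ => by rw [Subgroup.normalizer_eq_top]; trivial)) le_rfl)
  have h3 := Subgroup.commutator_commutator_eq_bot_of_rotate (H₁ := G) (H₂ := Subgroup.zpowers a) (H₃ := X) h1 h2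
  rw [h.gen, Subgroup.commutator_eq_bot_iff_le_centralizer] at h3
  exact fun x hx => ⟨hX.le hx, Subgroup.mem_centralizer_iff.mpr fun g hg =>
    ((Subgroup.mem_centralizer_iff.mp (h3 hg)) x hx).symm⟩

theorem Ctx.perfect (h : Ctx ρ a r p G) : ⁅G, G⁆ = G := by
  haveI := h.normal
  by_contra hne
  have hlt : ⁅G, G⁆ < G := (Subgroup.commutator_le_self G).lt_of_ne hne
  have hc := h.normal_lt_central hlt
  obtain ⟨P, hPG, hP, hPa, hgen, hPne⟩ := h.exists_movedP
  set X := ⁅G, G⁆ ⊔ P
  haveI : X.Normal := h.normal_of (fun g hg => Subgroup.mem_normalizer_iff_map_conj_eq.mpr (by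
      apply Subgroup.eq_of_le_of_card_ge ?_ (Subgroup.card_map_of_injective (MulEquiv.injective _)).ge
      rintro _ ⟨x, hx, rfl⟩
      show g * x * g⁻¹ ∈ X
      have hxG : x ∈ G := (sup_le hlt.le hPG) hx
      rw [show g * x * g⁻¹ = ⁅g, x⁆ * x by rw [commutatorElement_def]; group]
      exact mul_mem (Subgroup.mem_sup_left (Subgroup.commutator_mem_commutator hg hxG)) hx))
    (mem_normalizer_sup (by rw [Subgroup.normalizer_eq_top]; trivial) hPa)
  have hPc : ∀ x ∈ P, ∀ c ∈ ⁅G, G⁆, x * c = c * x := fun x hx c hc' => (mem_Zc.mp (hc hc')).2 x (hPG hx)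
  haveI : P.Normal := by
    rcases (sup_le hlt.le hPG : X ≤ G).lt_or_eq with hXlt | hXe
    · refine h.normal_of (fun g hg => ?_) hPa
      refine (Subgroup.centralizer_le_normalizer _) (Subgroup.mem_centralizer_iff.mpr fun x hx => ?_)
      exact ((mem_Zc.mp (h.normal_lt_central hXlt (Subgroup.mem_sup_right hx))).2 g hg).symm
    · refine h.normal_of (hXe ▸ sup_le ?_ Subgroup.le_normalizer) hPa
      exact fun c hc' => (Subgroup.centralizer_le_normalizer _)
        (Subgroup.mem_centralizer_iff.mpr fun x hx => hPc x hx c hc')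
  exact hPne (h.pgroup_eq_bot hPG hP)

theorem Ctx.Zc_lt (h : Ctx ρ a r p G) : Zc G < G := by
  refine Zc_le.lt_of_ne fun e => h.not_two ?_
  have hbot : ⁅G, G⁆ = ⊥ := by
    rw [Subgroup.commutator_eq_bot_iff_le_centralizer]
    exact fun x hx => (show x ∈ Zc G from e.symm ▸ hx).2
  rw [h.perfect] at hbot
  rw [hbot]
  exact IsPGroup.of_bot

theorem Ctx.not_central (h : Ctx ρ a r p G) : ¬ G ≤ Zc G := fun e => h.Zc_lt.not_ge e

theorem Ctx.center_commute_a (h : Ctx ρ a r p G) {z : Y} (hz : z ∈ Zc G) : a * z = z * a := by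
  haveI := h.normal
  haveI := Fact.mk h.pprime
  have hZa : a ∈ Subgroup.normalizer (Zc G : Set Y) := by rw [Subgroup.normalizer_eq_top]; trivial
  have hbot : ⁅Zc G, Subgroup.zpowers a⁆ = ⊥ := by
    obtain ⟨N, hNT, hTN, hNp, hq⟩ := h.ih (Zc G) h.Zc_lt hZa
    set T := ⁅Zc G, Subgroup.zpowers a⁆
    have hTZ : T ≤ Zc G := Coprime.commutator_le_of_le_normalizer (zpowers_le_normalizer hZa)
    haveI := PLocal.Cores.map_subtype_pCore_normal (p := p) (Zc G)
    have hN : N = ⊥ := le_bot_iff.mp ((PLocal.Cores.le_map_pCore_of_le_normalizer hNp (hNT.trans hTZ) fun u hu =>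
      (Subgroup.centralizer_le_normalizer _) (Subgroup.mem_centralizer_iff.mpr fun v hv =>
        ((mem_Zc.mp (hTZ (hNT hv))).2 u (Zc_le hu)).symm)).trans
      (h.pgroup_eq_bot ((Subgroup.map_subtype_le _).trans Zc_le) (PLocal.Cores.isPGroup_pCore.map _)).le)
    have hT2 : IsPGroup 2 T := fun x => by
      obtain ⟨k, hk⟩ := hq x x.2
      rw [hN, Subgroup.mem_bot] at hk
      exact ⟨k, Subtype.ext (by rw [Subgroup.coe_pow, hk, Subgroup.coe_one])⟩
    refine (h.comm_idem Zc_le hZa).symm.trans ?_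
    exact comm_zpowers_eq_bot (h.abelian_centralized (hTZ.trans Zc_le) hT2
      (fun x hx y hy => (mem_Zc.mp (hTZ hy)).2 x (Zc_le (hTZ hx))) (Ctx.comm_norm hZa))
  exact comm_of_zpowers_eq_bot hbot z hz

theorem Ctx.center_commute (h : Ctx ρ a r p G) {z : Y} (hz : z ∈ Zc G) (y : Y) : Commute y z := by
  have hy : y ∈ (G ⊔ Subgroup.zpowers a : Subgroup Y) := h.top ▸ Subgroup.mem_top y
  have hle : G ⊔ Subgroup.zpowers a ≤ Subgroup.centralizer {z} :=
    sup_le (fun g hg => Subgroup.mem_centralizer_singleton_iff.mpr ((mem_Zc.mp hz).2 g hg))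
      (Subgroup.zpowers_le.mpr (Subgroup.mem_centralizer_singleton_iff.mpr (h.center_commute_a hz)))
  exact Subgroup.mem_centralizer_singleton_iff.mp (hle hy)

theorem Ctx.center_scalar (h : Ctx ρ a r p G) {z : Y} (hz : z ∈ Zc G) :
    ∃ c : K, ∀ w : W, ρ z w = c • w := by
  obtain ⟨c, hc⟩ := Module.End.exists_eigenvalue (ρ z)
  refine ⟨c, fun w => ?_⟩
  have htop := (h.irr (Module.End.eigenspace (ρ z) c) fun y u hu => by
    rw [Module.End.mem_eigenspace_iff] at hu ⊢
    rw [← Module.End.mul_apply, ← map_mul, ← (h.center_commute hz y).eq, map_mul, Module.End.mul_apply, hu,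
      map_smul]).resolve_left hc
  exact Module.End.mem_eigenspace_iff.mp (htop ▸ Submodule.mem_top)

/-- The second centre is the centre. -/
theorem Ctx.mem_Zc_of_commutator (h : Ctx ρ a r p G) {x : Y} (hx : x ∈ G)
    (hc : ∀ g ∈ G, ⁅x, g⁆ ∈ Zc G) : x ∈ Zc G := by
  let f : G →* Zc G := MonoidHom.mk' (fun g => ⟨⁅x, (g : Y)⁆, hc g g.2⟩) fun g g' => Subtype.ext (by
    show ⁅x, (g : Y) * g'⁆ = ⁅x, (g : Y)⁆ * ⁅x, (g' : Y)⁆
    rw [commutatorElement_mul_right_eq_mul_conj, mul_assoc _ (g : Y), (mem_Zc.mp (hc g' g'.2)).2 g g.2]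
    group)
  have hle : commutator G ≤ f.ker := by
    rw [commutator_def, Subgroup.commutator_le]
    intro u _ v _
    rw [MonoidHom.mem_ker, map_commutatorElement, commutatorElement_eq_one_iff_mul_comm]
    exact Subtype.ext ((mem_Zc.mp (f v).2).2 _ (Zc_le (f u).2))
  refine mem_Zc.mpr ⟨hx, fun g hg => ?_⟩
  have hg' : (⟨g, hg⟩ : G) ∈ commutator G := by
    have hmap : (commutator G).map G.subtype = G := by rw [Subgroup.map_subtype_commutator, h.perfect]
    have hg2 : g ∈ (commutator G).map G.subtype := hmap.symm ▸ hg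
    obtain ⟨⟨y, hy⟩, hy', rfl⟩ := hg2
    exact hy'
  have := congrArg Subtype.val (MonoidHom.mem_ker.mp (hle hg'))
  exact (commutatorElement_eq_one_iff_mul_comm.mp this).symm

/-- The centraliser of a non-central element is proper. -/
theorem Ctx.centralizer_lt (h : Ctx ρ a r p G) {y : Y} (hy : y ∈ G) (hyZ : y ∉ Zc G) :
    G ⊓ Subgroup.centralizer {y} < G := by
  refine inf_le_left.lt_of_ne fun e => hyZ (mem_Zc.mpr ⟨hy, fun g hg => ?_⟩)
  have hg' : g ∈ G ⊓ Subgroup.centralizer {y} := e.symm ▸ hg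
  exact Subgroup.mem_centralizer_singleton_iff.mp hg'.2

theorem Ctx.a_norm_centralizer (h : Ctx ρ a r p G) {y : Y} (hya : a * y = y * a) :
    a ∈ Subgroup.normalizer ((G ⊓ Subgroup.centralizer {y} : Subgroup Y) : Set Y) :=
  mem_normalizer_inf h.a_norm (Subgroup.le_normalizer (Subgroup.mem_centralizer_singleton_iff.mpr hya))

section moved

theorem IsE.le {E : Subgroup Y} (h : Ctx ρ a r p G) (hE : IsE a G E) : E ≤ G := by
  obtain ⟨S, hS, rfl⟩ := hE
  exact (Coprime.commutator_le_of_le_normalizer (zpowers_le_normalizer hS)).trans (Subgroup.map_subtype_le _)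

theorem Ctx.exists_IsE (h : Ctx ρ a r p G) : ∃ E, IsE a G E := by
  haveI : Fact (Nat.Prime 2) := ⟨Nat.prime_two⟩
  obtain ⟨S, hS⟩ := Coprime.exists_invariant_sylow 2 h.A_norm (h.coprime le_rfl)
    (Or.inl (Fpf.zpowers_solvable a))
  exact ⟨_, S, hS (Subgroup.mem_zpowers a), rfl⟩

theorem IsE.norm {E : Subgroup Y} (hE : IsE a G E) : a ∈ Subgroup.normalizer (E : Set Y) := by
  obtain ⟨S, hS, rfl⟩ := hE
  exact Ctx.comm_norm hS

theorem IsE.gen {E : Subgroup Y} (h : Ctx ρ a r p G) (hE : IsE a G E) :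
    ⁅E, Subgroup.zpowers a⁆ = E := by
  obtain ⟨S, hS, rfl⟩ := hE
  exact h.comm_idem (Subgroup.map_subtype_le _) hS

theorem IsE.isP {E : Subgroup Y} (h : Ctx ρ a r p G) (hE : IsE a G E) : IsPGroup 2 E := by
  obtain ⟨S, hS, rfl⟩ := hE
  exact (S.isPGroup'.map _).to_le (Coprime.commutator_le_of_le_normalizer (zpowers_le_normalizer hS))

theorem IsE.conj (h : Ctx ρ a r p G) {E : Subgroup Y} (hE : IsE a G E) {c : Y} (hc : c ∈ G)
    (hca : Commute c a) : IsE a G (E.map ((MulAut.conj c : Y ≃* Y) : Y →* Y)) := by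
  haveI : Fact (Nat.Prime 2) := ⟨Nat.prime_two⟩
  obtain ⟨S, hS, rfl⟩ := hE
  have hm : ((MulAut.conj (⟨c, hc⟩ : G) • S : Sylow 2 G) : Subgroup G).map G.subtype =
      ((S : Subgroup G).map G.subtype).map ((MulAut.conj c : Y ≃* Y) : Y →* Y) := by
    rw [Coprime.sylow_map_smul, Coprime.conj_smul_eq_map]
    rfl
  refine ⟨MulAut.conj (⟨c, hc⟩ : G) • S, ?_, ?_⟩
  · rw [hm, Subgroup.mem_normalizer_iff_map_conj_eq, Subgroup.map_map]
    have hS' := Subgroup.mem_normalizer_iff_map_conj_eq.mp hS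
    conv_rhs => rw [← hS', Subgroup.map_map]
    congr 1
    refine MonoidHom.ext fun x => ?_
    show a * (c * x * c⁻¹) * a⁻¹ = c * (a * x * a⁻¹) * c⁻¹
    calc a * (c * x * c⁻¹) * a⁻¹ = (a * c) * x * (a * c)⁻¹ := by group
      _ = _ := by rw [← hca.eq]; group
  · rw [hm, Subgroup.map_commutator, map_conj_zpowers hca]

theorem IsE.exists_conj (h : Ctx ρ a r p G) {E E' : Subgroup Y} (hE : IsE a G E) (hE' : IsE a G E') :
    ∃ c ∈ G, Commute c a ∧ E' = E.map ((MulAut.conj c : Y ≃* Y) : Y →* Y) := by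
  haveI : Fact (Nat.Prime 2) := ⟨Nat.prime_two⟩
  obtain ⟨S, hS, rfl⟩ := hE
  obtain ⟨S', hS', rfl⟩ := hE'
  obtain ⟨c, hca, hcS⟩ := Coprime.exists_centralizer_conj_sylow h.A_norm (h.coprime le_rfl)
    (Or.inl (Fpf.zpowers_solvable a)) S S' (zpowers_le_normalizer hS) (zpowers_le_normalizer hS')
  refine ⟨(c : Y), c.2, mem_centralizer_zpowers.mp hca, ?_⟩
  rw [← hcS, Coprime.sylow_map_smul, Coprime.conj_smul_eq_map, Subgroup.map_commutator,
    map_conj_zpowers (mem_centralizer_zpowers.mp hca)]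
  rfl

theorem IsE.card_eq (h : Ctx ρ a r p G) {E E' : Subgroup Y} (hE : IsE a G E) (hE' : IsE a G E') :
    Nat.card E' = Nat.card E := by
  obtain ⟨c, -, -, rfl⟩ := hE.exists_conj h hE'
  exact Subgroup.card_map_of_injective (MulEquiv.injective _)

/-- An invariant `2`-subgroup equal to its moved part lies in some `E`. -/
theorem Ctx.exists_IsE_ge (h : Ctx ρ a r p G) {Q : Subgroup Y} (hQ : Q ≤ G) (hQ2 : IsPGroup 2 Q)
    (hQa : a ∈ Subgroup.normalizer (Q : Set Y)) :
    ∃ E, IsE a G E ∧ ⁅Q, Subgroup.zpowers a⁆ ≤ E := by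
  haveI : Fact (Nat.Prime 2) := ⟨Nat.prime_two⟩
  obtain ⟨S, hQS, hS⟩ := Coprime.exists_invariant_sylow_ge h.A_norm (h.coprime le_rfl)
    (Or.inl (Fpf.zpowers_solvable a)) hQ hQ2 (zpowers_le_normalizer hQa)
  exact ⟨_, ⟨S, hS (Subgroup.mem_zpowers a), rfl⟩, Subgroup.commutator_mono hQS le_rfl⟩

/-- An invariant `2`-subgroup containing some `E` has that `E` as its moved part. -/
theorem IsE.eq_comm_of_le (h : Ctx ρ a r p G) {E Q : Subgroup Y} (hE : IsE a G E) (hEQ : E ≤ Q)
    (hQ : Q ≤ G) (hQ2 : IsPGroup 2 Q) (hQa : a ∈ Subgroup.normalizer (Q : Set Y)) :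
    ⁅Q, Subgroup.zpowers a⁆ = E := by
  obtain ⟨E', hE', hle⟩ := h.exists_IsE_ge hQ hQ2 hQa
  have h1 : E ≤ ⁅Q, Subgroup.zpowers a⁆ := (hE.gen h).symm.le.trans (Subgroup.commutator_mono hEQ le_rfl)
  have h2 : E = E' := Subgroup.eq_of_le_of_card_ge (h1.trans hle) (hE.card_eq h hE').le
  exact le_antisymm (h2 ▸ hle) h1

theorem IsE.ne_bot (h : Ctx ρ a r p G) {E : Subgroup Y} (hE : IsE a G E) : E ≠ ⊥ := by
  intro e
  haveI : Fact (Nat.Prime 2) := ⟨Nat.prime_two⟩
  haveI := Fact.mk h.pprime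
  obtain ⟨S, hS, rfl⟩ := hE
  have hc2 : ∀ x ∈ (S : Subgroup G), a * (x : Y) = x * a :=
    fun x hx => comm_of_zpowers_eq_bot e x ⟨x, hx, rfl⟩
  refine h.perfect.symm.trans_lt ?_ |>.ne rfl
  have hG : IsPGroup p G := h.isPGroup_of_centralized fun l hl hlp => by
    haveI := Fact.mk hl
    obtain ⟨T, hT⟩ := Coprime.exists_invariant_sylow l h.A_norm (h.coprime le_rfl)
      (Or.inl (Fpf.zpowers_solvable a))
    rcases eq_or_ne l 2 with rfl | hl2
    · exact ⟨S, hc2⟩
    · exact ⟨T, fun x hx => h.centralized hl hlp (Or.inl hl2) (Subgroup.map_subtype_le _)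
        (T.isPGroup'.map _) (hT (Subgroup.mem_zpowers a)) x ⟨x, hx, rfl⟩⟩
  haveI := h.normal
  exact absurd (h.pgroup_eq_bot le_rfl hG) fun e0 => h.not_two (e0 ▸ IsPGroup.of_bot)

theorem IsE.moved (h : Ctx ρ a r p G) {E : Subgroup Y} (hE : IsE a G E) : Moved ρ a r E 2 := by
  have hm := h.moved (Q := E) Nat.prime_two (Ne.symm h.fermat.1) (hE.le h) (hE.isP h) hE.norm
  rw [hE.gen h] at hm
  exact hm.resolve_right (hE.ne_bot h)

/-- No proper invariant subgroup contains an `E` and the moved part of an invariant Sylow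
`p`-subgroup. -/
theorem Ctx.not_both (h : Ctx ρ a r p G) {X : Subgroup Y} (hX : X < G)
    (haX : a ∈ Subgroup.normalizer (X : Set Y)) {E : Subgroup Y} (hE : IsE a G E) (hEX : E ≤ X)
    (P : Sylow p G) (haP : a ∈ Subgroup.normalizer ((P : Subgroup G).map G.subtype : Set Y))
    (hPX : ⁅(P : Subgroup G).map G.subtype, Subgroup.zpowers a⁆ ≤ X) : False := by
  classical
  haveI := Fact.mk h.pprime
  haveI : Fact (Nat.Prime 2) := ⟨Nat.prime_two⟩
  set C := G ⊓ Subgroup.centralizer ((Subgroup.zpowers a : Subgroup Y) : Set Y) with hC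
  have hcopX := h.coprime hX.le
  -- for every prime an invariant Sylow subgroup has its moved part in `X`
  have hall : ∀ l : ℕ, l.Prime → ∃ R : Subgroup Y, R ≤ G ∧ IsPGroup l R ∧
      a ∈ Subgroup.normalizer (R : Set Y) ∧ ¬ l ∣ R.relIndex G ∧ ⁅R, Subgroup.zpowers a⁆ ≤ X := by
    intro l hl
    haveI := Fact.mk hl
    have hrel : ∀ T : Sylow l G, ¬ l ∣ ((T : Subgroup G).map G.subtype).relIndex G := fun T => by
      rw [Subgroup.relIndex, Subgroup.subgroupOf, Subgroup.comap_map_eq_self_of_injective G.subtype_injective]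
      exact T.not_dvd_index
    rcases eq_or_ne l p with rfl | hlp
    · exact ⟨_, Subgroup.map_subtype_le _, P.isPGroup'.map _, haP, hrel P, hPX⟩
    rcases eq_or_ne l 2 with rfl | hl2
    · obtain ⟨S, hS, rfl⟩ := hE
      exact ⟨_, Subgroup.map_subtype_le _, S.isPGroup'.map _, hS, hrel S, hEX⟩
    · obtain ⟨T, hT⟩ := Coprime.exists_invariant_sylow l h.A_norm (h.coprime le_rfl)
        (Or.inl (Fpf.zpowers_solvable a))
      refine ⟨_, Subgroup.map_subtype_le _, T.isPGroup'.map _, hT (Subgroup.mem_zpowers a), hrel T, ?_⟩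
      rw [comm_zpowers_eq_bot (h.centralized hl hlp (Or.inl hl2) (Subgroup.map_subtype_le _)
        (T.isPGroup'.map _) (hT (Subgroup.mem_zpowers a)))]
      exact bot_le
  -- `|G : X|` divides `|C : C ∩ X|`
  have hdvd : Nat.card G * Nat.card (X ⊓ C : Subgroup Y) ∣ Nat.card C * Nat.card X := by
    refine (Nat.dvd_iff_prime_pow_dvd_dvd _ _).mpr fun l k hl hk => ?_
    haveI := Fact.mk hl
    obtain ⟨R, hRG, hR, haR, hRi, hRX⟩ := hall l hl
    obtain ⟨Q, hQ⟩ := Coprime.exists_invariant_sylow l (zpowers_le_normalizer haX) hcopX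
      (Or.inl (Fpf.zpowers_solvable a))
    obtain ⟨QX, hQXge, hQX⟩ := Coprime.exists_invariant_sylow_ge (U := ⁅R, Subgroup.zpowers a⁆)
      (zpowers_le_normalizer haX) hcopX (Or.inl (Fpf.zpowers_solvable a)) hRX
      (hR.to_le (Coprime.commutator_le_of_le_normalizer (zpowers_le_normalizer haR)))
      (zpowers_le_normalizer (Ctx.comm_norm haR))
    set Q' := (QX : Subgroup X).map X.subtype with hQ'
    obtain ⟨T, hT1, hT2⟩ := Coprime.exists_invariant_sylow_ge (U := Q') h.A_norm (h.coprime le_rfl)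
      (Or.inl (Fpf.zpowers_solvable a)) ((Subgroup.map_subtype_le _).trans hX.le) (QX.isPGroup'.map _) hQX
    set T' := (T : Subgroup G).map G.subtype with hT'
    have hT'G : T' ≤ G := Subgroup.map_subtype_le _
    set M := ⁅R, Subgroup.zpowers a⁆
    -- the moved part of `T'` is `M`
    have hMT : M ≤ ⁅T', Subgroup.zpowers a⁆ :=
      (h.comm_idem hRG haR).symm.le.trans (Subgroup.commutator_mono (hQXge.trans hT1) le_rfl)
    have hTM : ⁅T', Subgroup.zpowers a⁆ = M := by
      refine (Subgroup.eq_of_le_of_card_ge hMT (le_of_eq ?_)).symm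
      let R' : Sylow l G := (hR.comap_subtype (K := G)).toSylow hRi
      have hR' : ((R' : Subgroup G)).map G.subtype = R := Subgroup.map_subgroupOf_eq_of_le hRG
      obtain ⟨c, hca, hcS⟩ := Coprime.exists_centralizer_conj_sylow h.A_norm (h.coprime le_rfl)
        (Or.inl (Fpf.zpowers_solvable a)) R' T (by rw [hR']; exact zpowers_le_normalizer haR) hT2
      have hTR : T' = R.map ((MulAut.conj (c : Y) : Y ≃* Y) : Y →* Y) := by
        rw [hT', ← hcS, Coprime.sylow_map_smul, hR', Coprime.conj_smul_eq_map]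
        rfl
      have hzc := map_conj_zpowers (mem_centralizer_zpowers.mp hca)
      rw [hTR]
      conv_lhs => rw [← hzc, ← Subgroup.map_commutator]
      exact Subgroup.card_map_of_injective (MulEquiv.injective _)
    -- cosets of `C` in `T'` meet `Q'`
    have hrel2 : C.relIndex T' ≤ C.relIndex Q' := by
      rw [Subgroup.relIndex, Subgroup.relIndex, Subgroup.index, Subgroup.index]
      have hQT : Q' ≤ T' := hT1
      refine Nat.card_le_card_of_surjective
        (fun u : Q' ⧸ C.subgroupOf Q' => Quotient.liftOn' u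
          (fun x : Q' => ((⟨x, hQT x.2⟩ : T') : T' ⧸ C.subgroupOf T')) fun x y hxy => ?_) ?_
      · rw [QuotientGroup.leftRel_apply, Subgroup.mem_subgroupOf] at hxy
        exact QuotientGroup.eq.mpr (by simpa [Subgroup.mem_subgroupOf] using hxy)
      · intro u
        obtain ⟨t, rfl⟩ := QuotientGroup.mk_surjective u
        obtain ⟨c, hc, x, hx, hcx⟩ := Coprime.exists_eq_centralizer_mul_commutator hT2 (h.coprime hT'G)
          (Or.inl (Fpf.zpowers_solvable a)) t.2
        have hnorm : c * x * c⁻¹ ∈ M := by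
          rw [hTM] at hx
          have := Subgroup.normalizer_commutator_ge_left T' (Subgroup.zpowers a) hc.1
          rw [hTM] at this
          exact (Subgroup.mem_normalizer_iff.mp this x).mp hx
        refine ⟨((⟨c * x * c⁻¹, hQXge hnorm⟩ : Q') : Q' ⧸ _), ?_⟩
        refine QuotientGroup.eq.mpr ?_
        rw [Subgroup.mem_subgroupOf]
        show (c * x * c⁻¹)⁻¹ * (t : Y) ∈ C
        rw [hcx, show (c * x * c⁻¹)⁻¹ * (c * x) = c by group]
        exact ⟨hT'G hc.1, hc.2⟩
    -- Sylow subgroups of `X ⊓ C`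
    have hXC : ¬ l ∣ (Q' ⊓ C).relIndex (X ⊓ C) := by
      set D := X ⊓ C with hD
      haveI : Finite D := inferInstance
      obtain ⟨U0⟩ : Nonempty (Sylow l D) := inferInstance
      have hU0 : (U0 : Subgroup D).map D.subtype ≤ X := (Subgroup.map_subtype_le _).trans inf_le_left
      have haU : Subgroup.zpowers a ≤ Subgroup.normalizer ((U0 : Subgroup D).map D.subtype : Set Y) :=
        fun b hb => (Subgroup.centralizer_le_normalizer _) (Subgroup.mem_centralizer_iff.mpr fun x hx => by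
          have hxD : x ∈ D := Subgroup.map_subtype_le _ hx
          exact ((Subgroup.mem_centralizer_iff.mp hxD.2.2) b hb).symm)
      obtain ⟨U1, hU1, hU1n⟩ := Coprime.exists_invariant_sylow_ge (zpowers_le_normalizer haX) hcopX
        (Or.inl (Fpf.zpowers_solvable a)) hU0 (U0.isPGroup'.map _) haU
      obtain ⟨c, hca, hcU⟩ := Coprime.exists_centralizer_conj_sylow (zpowers_le_normalizer haX) hcopX
        (Or.inl (Fpf.zpowers_solvable a)) U1 QX hU1n hQX
      have hcard : Nat.card U0 ≤ Nat.card (Q' ⊓ C : Subgroup Y) := by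
        have hQ'eq : Q' = ((U1 : Subgroup X).map X.subtype).map ((MulAut.conj (c : Y) : Y ≃* Y) : Y →* Y) := by
          rw [hQ', ← hcU, Coprime.sylow_map_smul, Coprime.conj_smul_eq_map]
          rfl
        have hle : ((U0 : Subgroup D).map D.subtype).map ((MulAut.conj (c : Y) : Y ≃* Y) : Y →* Y) ≤ Q' ⊓ C := by
          refine le_inf (hQ'eq ▸ Subgroup.map_mono hU1) ?_
          rintro _ ⟨x, hx, rfl⟩
          have hxD : x ∈ D := Subgroup.map_subtype_le _ hx
          have hcC : (c : Y) ∈ C := ⟨hX.le c.2, hca⟩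
          exact mul_mem (mul_mem hcC hxD.2) (inv_mem hcC)
        have := Subgroup.card_le_of_le hle
        rwa [Subgroup.card_map_of_injective (MulEquiv.injective _),
          Subgroup.card_map_of_injective D.subtype_injective] at this
      have hQD : Q' ⊓ C ≤ D := inf_le_inf_right _ (Subgroup.map_subtype_le _)
      obtain ⟨U2, hU2⟩ := ((QX.isPGroup'.map X.subtype).to_le (inf_le_left : Q' ⊓ C ≤ Q')).comap_subtype
        |>.exists_le_sylow (G := D)
      have heq : (Q' ⊓ C).subgroupOf D = U2 := by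
        refine Subgroup.eq_of_le_of_card_ge hU2 ?_
        rw [Nat.card_congr (Subgroup.subgroupOfEquivOfLe hQD).toEquiv]
        exact le_trans (le_of_eq (U2.card_eq_multiplicity.trans U0.card_eq_multiplicity.symm)) hcard
      rw [Subgroup.relIndex, heq]
      exact U2.not_dvd_index
    have hTi : ¬ l ∣ T'.relIndex G := by
      rw [Subgroup.relIndex, hT', Subgroup.subgroupOf, Subgroup.comap_map_eq_self_of_injective G.subtype_injective]
      exact T.not_dvd_index
    have hQX2 : ¬ l ∣ Q'.relIndex X := by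
      rw [Subgroup.relIndex, hQ', Subgroup.subgroupOf, Subgroup.comap_map_eq_self_of_injective X.subtype_injective]
      exact QX.not_dvd_index
    have hlag : ∀ {A B : Subgroup Y}, A ≤ B → Nat.card B = Nat.card A * A.relIndex B := fun {A B} hAB => by
      rw [← Nat.card_congr (Subgroup.subgroupOfEquivOfLe hAB).toEquiv, Subgroup.relIndex,
        Subgroup.card_mul_index]
    have hpart : ∀ {A : Subgroup Y}, A ≤ T' → ∃ j, Nat.card A = l ^ j := fun hA =>
      IsPGroup.iff_card.mp ((T.isPGroup'.map G.subtype).to_le hA)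
    have e1 : Nat.card T' = Nat.card (T' ⊓ C : Subgroup Y) * C.relIndex T' := by
      rw [hlag (inf_le_left : T' ⊓ C ≤ T'), Subgroup.inf_relIndex_left]
    have e2 : Nat.card Q' = Nat.card (Q' ⊓ C : Subgroup Y) * C.relIndex Q' := by
      rw [hlag (inf_le_left : Q' ⊓ C ≤ Q'), Subgroup.inf_relIndex_left]
    have hk' : l ^ k ∣ Nat.card T' * Nat.card (Q' ⊓ C : Subgroup Y) := by
      rw [hlag hT'G, hlag (inf_le_inf_right C (Subgroup.map_subtype_le _) : Q' ⊓ C ≤ X ⊓ C)] at hk
      refine ((Nat.Coprime.pow_left k ((hl.coprime_iff_not_dvd).mpr ?_)).dvd_of_dvd_mul_right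
        (n := T'.relIndex G * (Q' ⊓ C).relIndex (X ⊓ C)) (by rwa [mul_mul_mul_comm] at hk))
      exact fun e => (hl.dvd_mul.mp e).elim hTi hXC
    refine hk'.trans ?_
    refine dvd_trans ?_ (mul_dvd_mul (Subgroup.card_dvd_of_le (inf_le_right : T' ⊓ C ≤ C))
      (Subgroup.card_dvd_of_le (Subgroup.map_subtype_le _ : Q' ≤ X)))
    -- both sides are powers of `l`
    obtain ⟨j1, hj1⟩ := hpart (le_refl T')
    obtain ⟨j2, hj2⟩ := hpart (A := Q' ⊓ C) (inf_le_left.trans hT1)
    obtain ⟨j3, hj3⟩ := hpart (A := T' ⊓ C) inf_le_left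
    obtain ⟨j4, hj4⟩ := hpart (A := Q') hT1
    rw [hj1, hj2, hj3, hj4, ← pow_add, ← pow_add]
    refine pow_dvd_pow l ((Nat.pow_le_pow_iff_right hl.one_lt).mp ?_)
    rw [pow_add, pow_add, ← hj1, ← hj2, ← hj3, ← hj4, e1, e2]
    calc Nat.card (T' ⊓ C : Subgroup Y) * C.relIndex T' * Nat.card (Q' ⊓ C : Subgroup Y)
        = Nat.card (T' ⊓ C : Subgroup Y) * (Nat.card (Q' ⊓ C : Subgroup Y) * C.relIndex T') := by ring
      _ ≤ _ := Nat.mul_le_mul_left _ (Nat.mul_le_mul_left _ hrel2)
  -- hence `G = C X`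
  have hCX : ∀ g ∈ G, ∃ c ∈ C, c⁻¹ * g ∈ X := by
    have hCG : C ≤ G := inf_le_left
    let f : C ⧸ X.subgroupOf C → G ⧸ X.subgroupOf G := fun u => Quotient.liftOn' u
      (fun c : C => ((⟨c, hCG c.2⟩ : G) : G ⧸ X.subgroupOf G)) fun c d hcd => by
        rw [QuotientGroup.leftRel_apply, Subgroup.mem_subgroupOf] at hcd
        exact QuotientGroup.eq.mpr (by simpa [Subgroup.mem_subgroupOf] using hcd)
    have hinj : Function.Injective f := by
      rintro ⟨c⟩ ⟨d⟩ e
      refine QuotientGroup.eq.mpr (Subgroup.mem_subgroupOf.mpr ?_)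
      simpa [Subgroup.mem_subgroupOf] using QuotientGroup.eq.mp e
    have hcard : Nat.card (G ⧸ X.subgroupOf G) ≤ Nat.card (C ⧸ X.subgroupOf C) := by
      have h1 : Nat.card G = Nat.card X * X.relIndex G := by
        rw [← Nat.card_congr (Subgroup.subgroupOfEquivOfLe hX.le).toEquiv, Subgroup.relIndex,
          Subgroup.card_mul_index]
      have h2 : Nat.card C = Nat.card (X ⊓ C : Subgroup Y) * X.relIndex C := by
        rw [← Subgroup.inf_relIndex_right, ← Nat.card_congr (Subgroup.subgroupOfEquivOfLe (inf_le_right : X ⊓ C ≤ C)).toEquiv,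
          Subgroup.relIndex, Subgroup.card_mul_index]
      show X.relIndex G ≤ X.relIndex C
      rw [h1, h2] at hdvd
      have hpos : 0 < Nat.card (X ⊓ C : Subgroup Y) * X.relIndex C * Nat.card X :=
        Nat.mul_pos (Nat.mul_pos Nat.card_pos (Nat.pos_of_ne_zero Subgroup.index_ne_zero_of_finite)) Nat.card_pos
      have h3 := Nat.le_of_dvd hpos hdvd
      have h4 : Nat.card X * Nat.card (X ⊓ C : Subgroup Y) * X.relIndex G ≤
          Nat.card X * Nat.card (X ⊓ C : Subgroup Y) * X.relIndex C := by linarith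
      exact Nat.le_of_mul_le_mul_left h4 (Nat.mul_pos Nat.card_pos Nat.card_pos)
    have hsurj : Function.Surjective f :=
      ((Nat.bijective_iff_injective_and_card f).mpr
        ⟨hinj, le_antisymm (Nat.card_le_card_of_injective f hinj) hcard⟩).2
    intro g hg
    obtain ⟨⟨c⟩, hc⟩ := hsurj (⟨g, hg⟩ : G)
    exact ⟨c, c.2, by simpa [Subgroup.mem_subgroupOf] using QuotientGroup.eq.mp hc⟩
  refine hX.not_ge (h.gen.symm.le.trans (Subgroup.commutator_le.mpr fun g hg b hb => ?_))
  obtain ⟨c, hc, hcg⟩ := hCX g⁻¹ (inv_mem hg)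
  set x := c⁻¹ * g⁻¹ with hx
  have hcb : Commute c b := commute_zpowers (mem_centralizer_zpowers.mp hc.2) hb
  have e : ⁅g, b⁆ = x⁻¹ * (b * x * b⁻¹) := by
    rw [hx, commutatorElement_def]
    calc g * b * g⁻¹ * b⁻¹ = g * (b * c) * (c⁻¹ * g⁻¹) * b⁻¹ := by group
      _ = g * (c * b) * (c⁻¹ * g⁻¹) * b⁻¹ := by rw [hcb.eq]
      _ = _ := by group
  rw [e]
  exact mul_mem (inv_mem hcg) ((Subgroup.mem_normalizer_iff.mp (zpowers_le_normalizer haX hb) x).mp hcg)

end moved

end Cfsg.Agent.Lib.ShultFlavell
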