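import Cfsg.Agent.Lib.ShultFlavell.Coord

/-!
An element commuting with `a` and fixing the character of a piece acts trivially on its coordinates.
-/

set_option autoImplicit false
set_option linter.style.haveILetI false
set_option linter.unusedSectionVars false

namespace Cfsg.Agent.Lib.ShultFlavell

open Module (End)
open scoped commutatorElement

variable {K : Type*} [Field K] {W : Type*} [AddCommGroup W] [Module K W]
variable {Y : Type*} [Group Y]
variable {ρ : Y →* End K W} {a : Y} {r q m : ℕ} {E : Subgroup Y} {χ : ctr E → K}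
variable [IsAlgClosed K] [FiniteDimensional K W] [Finite Y]

theorem Coord.phi_one (C : Coord ρ a m E χ) : C.φ 1 = 0 := by
  have := C.add 1 (one_mem E) 1 (one_mem E)
  rw [one_mul] at this
  exact left_eq_add.mp this

theorem Coord.phi_inv (C : Coord ρ a m E χ) {x : Y} (hx : x ∈ E) : C.φ x⁻¹ = C.φ x := by
  have h1 := C.add x hx x⁻¹ (inv_mem hx)
  rw [mul_inv_cancel, C.phi_one, eq_comm, add_eq_zero_iff_eq_neg, CharTwo.neg_eq] at h1
  exact h1.symm

theorem Coord.omega_pow (C : Coord ρ a m E χ) : C.ω ^ (2 ^ m + 1) = 1 := by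
  rw [pow_succ, ← conj_apply, C.omega_conj]

/-- No proper non-trivial subgroup is closed under multiplication by `ω`. -/
theorem Coord.eq_top_of_omega (C : Coord ρ a m E χ) (hp : (2 ^ m + 1).Prime) (hm : 1 ≤ m)
    (U : AddSubgroup (Fl m)) {u : Fl m} (hu : u ∈ U) (hu0 : u ≠ 0)
    (hU : ∀ v ∈ U, C.ω * v ∈ U) : U = ⊤ := by
  classical
  haveI := Fact.mk hp
  haveI := Fintype.ofFinite U
  let f : Function.End U := fun v => ⟨C.ω * v, hU v v.2⟩
  have hfk : ∀ (k : ℕ) (v : U), ((f^[k] v : U) : Fl m) = C.ω ^ k * (v : Fl m) := by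
    intro k v
    induction k with
    | zero => rw [Function.iterate_zero_apply, pow_zero, one_mul]
    | succ k ih =>
      rw [Function.iterate_succ_apply', pow_succ', mul_assoc, ← ih]
  have hfr : f^[(2 ^ m + 1) ^ 1] = id :=
    funext fun v => Subtype.ext (by rw [pow_one, hfk, C.omega_pow, one_mul]; rfl)
  have hone : Fintype.card (Function.fixedPoints f) = 1 := by
    rw [Fintype.card_eq_one_iff]
    refine ⟨⟨0, Subtype.ext (mul_zero _)⟩, fun ⟨v, hv⟩ => Subtype.ext (Subtype.ext ?_)⟩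
    have h1 : C.ω * (v : Fl m) = v := congrArg Subtype.val hv
    show (v : Fl m) = 0
    by_contra h0
    exact C.omega_ne ((mul_eq_right₀ h0).mp h1)
  have hmod := Equiv.Perm.card_fixedPoints_modEq (f := f) (p := 2 ^ m + 1) (n := 1) hfr
  rw [show Fintype.card (Function.fixedPoints f) = 1 by convert hone, ← Nat.card_eq_fintype_card] at hmod
  have hdvd : Nat.card U ∣ 2 ^ (2 * m) := card_Fl hm ▸ AddSubgroup.card_addSubgroup_dvd_card U
  obtain ⟨j, hj, hjc⟩ := (Nat.dvd_prime_pow Nat.prime_two).mp hdvd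
  have hj1 : 1 ≤ j := by
    by_contra h0
    obtain rfl : j = 0 := by omega
    rw [pow_zero] at hjc
    exact hu0 (congrArg Subtype.val ((Nat.card_eq_one_iff_unique.mp hjc).1.elim (⟨u, hu⟩ : U) 0))
  rw [hjc] at hmod
  have hjj : j = 2 * m := le_antisymm hj (two_pow_order hj1 hmod)
  exact AddSubgroup.eq_top_of_card_eq _ (by rw [hjc, hjj, card_Fl hm])

/-- An additive map commuting with multiplication by `ω` is a multiplication. -/
theorem Coord.eq_mul (C : Coord ρ a m E χ) (hp : (2 ^ m + 1).Prime) (hm : 1 ≤ m) (f : Fl m →+ Fl m)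
    (hf : ∀ v, f (C.ω * v) = C.ω * f v) (v : Fl m) : f v = f 1 * v := by
  let U : AddSubgroup (Fl m) :=
    { carrier := {v | f v = f 1 * v}
      add_mem' := fun {x y} (hx : f x = f 1 * x) (hy : f y = f 1 * y) => by
        show f (x + y) = f 1 * (x + y)
        rw [map_add, hx, hy, mul_add]
      zero_mem' := by show f 0 = f 1 * 0; rw [map_zero, mul_zero]
      neg_mem' := fun {x} (hx : f x = f 1 * x) => by show f (-x) = f 1 * -x; rwa [CharTwo.neg_eq] }
  have h := C.eq_top_of_omega hp hm U (u := 1) (by show f 1 = f 1 * 1; rw [mul_one]) one_ne_zero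
    (fun v (hv : f v = f 1 * v) => by
      show f (C.ω * v) = f 1 * (C.ω * v)
      rw [hf, hv]; ring)
  have h2 : v ∈ U := h ▸ AddSubgroup.mem_top v
  exact h2

theorem Moved.mem_ctr_conj (h : Moved ρ a r E q) {c : Y} (hc : c ∈ Subgroup.normalizer (E : Set Y))
    {z : Y} (hz : z ∈ ctr E) : c * z * c⁻¹ ∈ ctr E := by
  obtain ⟨hzE, hzc⟩ := mem_ctr.mp hz
  refine mem_ctr.mpr ⟨(Subgroup.mem_normalizer_iff.mp hc z).mp hzE, fun y hy => ?_⟩
  have h1 := hzc (c⁻¹ * y * c) ((Subgroup.mem_normalizer_iff'' (H := E)).mp hc y |>.mp hy)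
  calc y * (c * z * c⁻¹) = c * (c⁻¹ * y * c * z) * c⁻¹ := by group
    _ = c * z * c⁻¹ * y := by rw [h1]; group

theorem rad_conj_of_fix (h : Moved ρ a r E q) (hne : piece ρ E χ ≠ ⊥) {c : Y}
    (hc : c ∈ Subgroup.normalizer (E : Set Y))
    (hχ : ∀ z ∈ ctr E, bit χ (c * z * c⁻¹) = bit χ z) {x : Y} (hx : x ∈ rad ρ E χ) :
    c * x * c⁻¹ ∈ rad ρ E χ := by
  have hxE := rad_le hx
  have hcx : c * x * c⁻¹ ∈ E := (Subgroup.mem_normalizer_iff.mp hc x).mp hxE
  refine (h.mem_rad_iff_bit hne hcx).mpr fun y hy => ?_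
  have hy' : c⁻¹ * y * c ∈ E := (Subgroup.mem_normalizer_iff''.mp hc y).mp hy
  rw [show ⁅c * x * c⁻¹, y⁆ = c * ⁅x, c⁻¹ * y * c⁆ * c⁻¹ by simp [commutatorElement_def, mul_assoc],
    hχ _ (h.comm_mem_ctr hxE hy')]
  exact (h.mem_rad_iff_bit hne hxE).mp hx _ hy'

/-- An element commuting with `a` and fixing the character acts on the coordinates as a scalar of norm one. -/
theorem Coord.exists_scalar (C : Coord ρ a m E χ) (h : Moved ρ a r E q) (hne : piece ρ E χ ≠ ⊥)
    (hr : r = 2 ^ m + 1) (hm : 1 ≤ m) {c : Y} (hc : c ∈ Subgroup.normalizer (E : Set Y))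
    (hca : c * a = a * c) (hχ : ∀ z ∈ ctr E, bit χ (c * z * c⁻¹) = bit χ z) :
    ∃ s : Fl m, s ^ r = 1 ∧ ∀ x ∈ E, C.φ (c * x * c⁻¹) = s * C.φ x := by
  have hp : (2 ^ m + 1).Prime := hr ▸ h.fpf.prime
  have hcE : ∀ x ∈ E, c * x * c⁻¹ ∈ E := fun x hx => (Subgroup.mem_normalizer_iff.mp hc x).mp hx
  choose pre hpreE hpre using C.surj
  have key : ∀ x ∈ E, ∀ x' ∈ E, C.φ x = C.φ x' → C.φ (c * x * c⁻¹) = C.φ (c * x' * c⁻¹) := by
    intro x hx x' hx' e
    have hd : x'⁻¹ * x ∈ rad ρ E χ := (C.ker _ (mul_mem (inv_mem hx') hx)).mp (by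
      rw [C.add _ (inv_mem hx') _ hx, C.phi_inv hx', e, CharTwo.add_self_eq_zero])
    have hd' := rad_conj_of_fix h hne hc hχ hd
    have h2 := C.add _ (hcE x' hx') _ (rad_le hd')
    rw [(C.ker _ (rad_le hd')).mpr hd', add_zero] at h2
    rw [← h2]
    congr 1
    group
  let f : Fl m →+ Fl m :=
    { toFun := fun v => C.φ (c * pre v * c⁻¹)
      map_zero' := by
        rw [key _ (hpreE 0) 1 (one_mem E) (by rw [hpre, C.phi_one]), mul_one, mul_inv_cancel, C.phi_one]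
      map_add' := fun v w => by
        rw [key _ (hpreE _) _ (mul_mem (hpreE v) (hpreE w)) (by rw [hpre, C.add _ (hpreE v) _ (hpreE w), hpre, hpre]),
          show c * (pre v * pre w) * c⁻¹ = c * pre v * c⁻¹ * (c * pre w * c⁻¹) by group,
          C.add _ (hcE _ (hpreE v)) _ (hcE _ (hpreE w))] }
  have ha : ∀ x ∈ E, a * x * a⁻¹ ∈ E := fun x hx => (Subgroup.mem_normalizer_iff.mp h.norm x).mp hx
  have hfω : ∀ v, f (C.ω * v) = C.ω * f v := by
    intro v
    show C.φ (c * pre (C.ω * v) * c⁻¹) = C.ω * C.φ (c * pre v * c⁻¹)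
    rw [key _ (hpreE _) _ (ha _ (hpreE v)) (by rw [hpre, C.equiv _ (hpreE v), hpre]),
      ← C.equiv _ (hcE _ (hpreE v))]
    congr 1
    calc c * (a * pre v * a⁻¹) * c⁻¹ = (c * a) * pre v * (c * a)⁻¹ := by group
      _ = _ := by rw [hca]; group
  have hs : ∀ x ∈ E, C.φ (c * x * c⁻¹) = f 1 * C.φ x := fun x hx => by
    rw [← C.eq_mul hp hm f hfω, key x hx _ (hpreE _) (hpre _).symm]; rfl
  have hnorm : ∀ u v, trF m (C.κ * u * conj m v) = trF m (C.κ * (f 1 * u) * conj m (f 1 * v)) := by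
    intro u v
    have e1 := C.comm _ (hpreE u) _ (hpreE v)
    have e2 := C.comm _ (hcE _ (hpreE u)) _ (hcE _ (hpreE v))
    rw [hpre, hpre] at e1
    rw [hs _ (hpreE u), hs _ (hpreE v), hpre, hpre,
      show ⁅c * pre u * c⁻¹, c * pre v * c⁻¹⁆ = c * ⁅pre u, pre v⁆ * c⁻¹ by simp [commutatorElement_def, mul_assoc],
      hχ _ (h.comm_mem_ctr (hpreE u) (hpreE v)), e1] at e2
    exact e2
  have h0 : C.κ * (1 + f 1 * conj m (f 1)) = 0 := eq_zero_of_trF fun u => by
    have := hnorm u 1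
    rw [map_one, mul_one, mul_one] at this
    rw [show C.κ * (1 + f 1 * conj m (f 1)) * u = C.κ * u + C.κ * (f 1 * u) * conj m (f 1) by ring, map_add,
      ← this, CharTwo.add_self_eq_zero]
  rcases mul_eq_zero.mp h0 with e | e
  · exact absurd e C.kappa_ne
  · refine ⟨f 1, ?_, hs⟩
    rw [add_eq_zero_iff_eq_neg, CharTwo.neg_eq] at e
    rw [hr, pow_succ', ← conj_apply, ← e]

/-- An element of order prime to `r` commuting with `a` and fixing the character is trivial modulo the radical. -/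
theorem Coord.conj_eq (C : Coord ρ a m E χ) (h : Moved ρ a r E q) (hne : piece ρ E χ ≠ ⊥)
    (hr : r = 2 ^ m + 1) (hm : 1 ≤ m) {c : Y} (hc : c ∈ Subgroup.normalizer (E : Set Y))
    (hca : c * a = a * c) (hχ : ∀ z ∈ ctr E, bit χ (c * z * c⁻¹) = bit χ z)
    (hord : (orderOf c).Coprime r) {x : Y} (hx : x ∈ E) :
    C.φ (c * x * c⁻¹) = C.φ x ∧ x⁻¹ * (c * x * c⁻¹) ∈ rad ρ E χ := by
  obtain ⟨s, hsr, hs⟩ := C.exists_scalar h hne hr hm hc hca hχ
  have hpow : ∀ (k : ℕ) (y : Y), y ∈ E → C.φ (c ^ k * y * (c ^ k)⁻¹) = s ^ k * C.φ y := by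
    intro k
    induction k with
    | zero => intro y _; simp
    | succ k ih =>
      intro y hy
      have hcy := (Subgroup.mem_normalizer_iff.mp hc y).mp hy
      rw [show c ^ (k + 1) * y * (c ^ (k + 1))⁻¹ = c ^ k * (c * y * c⁻¹) * (c ^ k)⁻¹ by
        rw [pow_succ]; group, ih _ hcy, hs y hy, pow_succ]
      ring
  obtain ⟨y, hy, hy1⟩ := C.surj 1
  have h1 := hpow (orderOf c) y hy
  rw [pow_orderOf_eq_one, inv_one, one_mul, mul_one, hy1, mul_one] at h1
  have hs1 : s = 1 := orderOf_eq_one_iff.mp (Nat.dvd_one.mp (hord ▸ Nat.dvd_gcd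
    (orderOf_dvd_of_pow_eq_one h1.symm) (orderOf_dvd_of_pow_eq_one hsr)))
  have hcx := (Subgroup.mem_normalizer_iff.mp hc x).mp hx
  have e : C.φ (c * x * c⁻¹) = C.φ x := by rw [hs x hx, hs1, one_mul]
  exact ⟨e, (C.ker _ (mul_mem (inv_mem hx) hcx)).mp
    (by rw [C.add _ (inv_mem hx) _ hcx, C.phi_inv hx, e, CharTwo.add_self_eq_zero])⟩

end Cfsg.Agent.Lib.ShultFlavell
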