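import Cfsg.Agent.Lib.ShultFlavell.Field

/-!
An irreducible operator on a space with `4 ^ m` vectors over the prime field is multiplication by an
element of the field with `4 ^ m` elements.
-/

set_option autoImplicit false
set_option linter.style.haveILetI false

namespace Cfsg.Agent.Lib.ShultFlavell

open Polynomial

theorem exists_field_coord {m : ℕ} (hm : 1 ≤ m) {V : Type*} [AddCommGroup V] [Module (ZMod 2) V]
    [Finite V] (hcard : Nat.card V = 2 ^ (2 * m)) (A : Module.End (ZMod 2) V)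
    (hsimp : ∀ U : Submodule (ZMod 2) V, (∀ v ∈ U, A v ∈ U) → U = ⊥ ∨ U = ⊤) :
    ∃ (ψ : V ≃+ Fl m) (ω : Fl m), ∀ v, ψ (A v) = ω * ψ v := by
  classical
  haveI : Nontrivial V := by
    rw [← Finite.one_lt_card_iff_nontrivial, hcard]
    exact Nat.one_lt_two_pow (by omega)
  let ev : (ZMod 2)[X] →ₐ[ZMod 2] Module.End (ZMod 2) V := Polynomial.aeval A
  have hcomm : ∀ (P : (ZMod 2)[X]) (v : V), A (ev P v) = ev P (A v) := fun P v => by
    have h : ev (X * P) = ev (P * X) := by rw [mul_comm]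
    have := LinearMap.congr_fun h v
    simpa [ev, map_mul] using this
  -- a non-zero polynomial in `A` is bijective
  have hbij : ∀ P, ev P ≠ 0 → Function.Bijective (ev P) := by
    intro P hP
    have hr : LinearMap.range (ev P) = ⊤ := (hsimp _ (by
      rintro _ ⟨v, rfl⟩; exact ⟨A v, (hcomm P v).symm⟩)).resolve_left (fun e => hP (LinearMap.range_eq_bot.mp e))
    have hs : Function.Surjective (ev P) := LinearMap.range_eq_top.mp hr
    exact ⟨Finite.injective_iff_surjective.mpr hs, hs⟩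
  obtain ⟨x₀, hx₀⟩ := exists_ne (0 : V)
  let Φ : (ZMod 2)[X] →ₗ[ZMod 2] V :=
    { toFun := fun P => ev P x₀
      map_add' := fun P Q => by simp
      map_smul' := fun c P => by simp }
  have hΦ : Function.Surjective Φ := by
    rw [← LinearMap.range_eq_top]
    refine (hsimp _ ?_).resolve_left (fun e => hx₀ ?_)
    · rintro _ ⟨P, rfl⟩
      exact ⟨X * P, by show ev (X * P) x₀ = A (ev P x₀); simp [ev, map_mul]⟩
    · have h1 : x₀ ∈ LinearMap.range Φ := ⟨1, by show ev 1 x₀ = x₀; simp⟩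
      rwa [e, Submodule.mem_bot] at h1
  set p := minpoly (ZMod 2) A with hp
  have hint : IsIntegral (ZMod 2) A := Algebra.IsIntegral.isIntegral A
  have hker : ∀ P, Φ P = 0 ↔ p ∣ P := by
    intro P
    rw [hp, minpoly.dvd_iff]
    refine ⟨fun h => ?_, fun h => by show ev P x₀ = 0; rw [show ev P = 0 from h]; rfl⟩
    by_contra hne
    exact hx₀ ((hbij P hne).1 (h.trans (map_zero _).symm))
  have hirr : Irreducible p := by
    refine ⟨minpoly.not_isUnit (ZMod 2) A, fun P Q hPQ => ?_⟩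
    have h0 : ev P * ev Q = 0 := by
      rw [← map_mul, ← hPQ]; exact minpoly.aeval _ A
    have hp0 : p ≠ 0 := minpoly.ne_zero hint
    by_cases hP : ev P = 0
    · right
      have hd : p ∣ P := minpoly.dvd _ _ hP
      have hdeg := Polynomial.natDegree_le_of_dvd hd (left_ne_zero_of_mul (hPQ ▸ hp0))
      rw [hPQ, Polynomial.natDegree_mul (left_ne_zero_of_mul (hPQ ▸ hp0)) (right_ne_zero_of_mul (hPQ ▸ hp0))]
        at hdeg
      exact Polynomial.isUnit_iff_degree_eq_zero.mpr (by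
        rw [Polynomial.degree_eq_natDegree (right_ne_zero_of_mul (hPQ ▸ hp0)),
          show Q.natDegree = 0 by omega]; rfl)
    · left
      have hQ : ev Q = 0 := LinearMap.ext fun v => (hbij P hP).1 (by
        rw [← Module.End.mul_apply, h0]; simp)
      have hd : p ∣ Q := minpoly.dvd _ _ hQ
      have hdeg := Polynomial.natDegree_le_of_dvd hd (right_ne_zero_of_mul (hPQ ▸ hp0))
      rw [hPQ, Polynomial.natDegree_mul (left_ne_zero_of_mul (hPQ ▸ hp0)) (right_ne_zero_of_mul (hPQ ▸ hp0))]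
        at hdeg
      exact Polynomial.isUnit_iff_degree_eq_zero.mpr (by
        rw [Polynomial.degree_eq_natDegree (left_ne_zero_of_mul (hPQ ▸ hp0)),
          show P.natDegree = 0 by omega]; rfl)
  haveI := Fact.mk hirr
  let Ψ : AdjoinRoot p →+ V := QuotientAddGroup.lift _ Φ.toAddMonoidHom (fun P hP => by
    show Φ P = 0
    rw [hker]
    exact Ideal.mem_span_singleton.mp hP)
  have hΨmk : ∀ P, Ψ (AdjoinRoot.mk p P) = Φ P := fun P => rfl
  have hΨb : Function.Bijective Ψ := by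
    refine ⟨(injective_iff_map_eq_zero Ψ).mpr fun u hu => ?_, fun v => ?_⟩
    · obtain ⟨P, rfl⟩ := AdjoinRoot.mk_surjective u
      rw [hΨmk, hker] at hu
      exact AdjoinRoot.mk_eq_zero.mpr hu
    · obtain ⟨P, rfl⟩ := hΦ v
      exact ⟨_, hΨmk P⟩
  have hc : Nat.card (AdjoinRoot p) = 2 ^ (2 * m) := by
    rw [Nat.card_eq_of_bijective Ψ hΨb, hcard]
  let e : AdjoinRoot p ≃ₐ[ZMod 2] Fl m := GaloisField.algEquivGaloisField 2 (2 * m) hc
  refine ⟨(AddEquiv.ofBijective Ψ hΨb).symm.trans e.toAddEquiv, e (AdjoinRoot.root p), fun v => ?_⟩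
  obtain ⟨u, rfl⟩ := hΨb.2 v
  obtain ⟨P, rfl⟩ := AdjoinRoot.mk_surjective u
  have hA : A (Ψ (AdjoinRoot.mk p P)) = Ψ (AdjoinRoot.root p * AdjoinRoot.mk p P) := by
    rw [← AdjoinRoot.mk_X, ← map_mul, hΨmk, hΨmk]
    show A (ev P x₀) = ev (X * P) x₀
    simp [ev, map_mul]
  show e ((AddEquiv.ofBijective Ψ hΨb).symm (A (Ψ _))) = _ * e ((AddEquiv.ofBijective Ψ hΨb).symm (Ψ _))
  have hsymm : ∀ u, (AddEquiv.ofBijective Ψ hΨb).symm (Ψ u) = u := fun u =>
    (AddEquiv.ofBijective Ψ hΨb).symm_apply_apply u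
  rw [hA, hsymm, hsymm, map_mul]

end Cfsg.Agent.Lib.ShultFlavell
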