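import Cfsg.Agent.Lib.ShultFlavell.Two
import Cfsg.Agent.Lib.ShultFlavell.Simple

/-!
Coordinates on a piece: `E` modulo the radical is the field with `4 ^ m` elements, the commutator and
the squaring map are given by a hermitian form of rank one.
-/

set_option autoImplicit false
set_option linter.style.haveILetI false
set_option linter.unusedSectionVars false

namespace Cfsg.Agent.Lib.ShultFlavell

open Module (End)
open scoped commutatorElement

variable {K : Type*} [Field K] {W : Type*} [AddCommGroup W] [Module K W]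
variable {Y : Type*} [Group Y]
variable {ρ : Y →* End K W} {a : Y} {r q : ℕ} {E : Subgroup Y} {χ : ctr E → K}
variable [IsAlgClosed K] [FiniteDimensional K W] [Finite Y]

open Classical in
/-- The sign of `χ z` as an element of the prime field. -/
noncomputable def bit (χ : ctr E → K) (z : Y) : ZMod 2 :=
  if h : z ∈ ctr E then (if χ ⟨z, h⟩ = 1 then 0 else 1) else 0

/-- Coordinates of a piece. -/
structure Coord (ρ : Y →* End K W) (a : Y) (m : ℕ) (E : Subgroup Y) (χ : ctr E → K) where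
  φ : Y → Fl m
  ω : Fl m
  κ : Fl m
  add : ∀ x ∈ E, ∀ y ∈ E, φ (x * y) = φ x + φ y
  ker : ∀ x ∈ E, φ x = 0 ↔ x ∈ rad ρ E χ
  surj : ∀ u, ∃ x ∈ E, φ x = u
  equiv : ∀ x ∈ E, φ (a * x * a⁻¹) = ω * φ x
  omega_ne : ω ≠ 1
  omega_conj : conj m ω * ω = 1
  kappa_ne : κ ≠ 0
  kappa_conj : conj m κ = κ
  comm : ∀ x ∈ E, ∀ y ∈ E, bit χ ⁅x, y⁆ = trF m (κ * φ x * conj m (φ y))
  sq : ∀ x ∈ E, bit χ (x ^ 2) = t0 m (κ * φ x * conj m (φ x))

/-- `χ` is multiplicative when its piece is non-zero. -/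
theorem chi_mul (hne : piece ρ E χ ≠ ⊥) {x y : Y} (hx : x ∈ ctr E) (hy : y ∈ ctr E) :
    χ ⟨x * y, mul_mem hx hy⟩ = χ ⟨x, hx⟩ * χ ⟨y, hy⟩ := by
  obtain ⟨w, hw, hw0⟩ := Submodule.exists_mem_ne_zero_of_ne_bot hne
  refine smul_left_injective K hw0 ?_
  show χ ⟨x * y, mul_mem hx hy⟩ • w = (χ ⟨x, hx⟩ * χ ⟨y, hy⟩) • w
  rw [← mem_piece.mp hw ⟨x * y, mul_mem hx hy⟩]
  show ρ (x * y) w = _
  rw [map_mul, Module.End.mul_apply, mem_piece.mp hw ⟨y, hy⟩, map_smul, mem_piece.mp hw ⟨x, hx⟩, smul_smul,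
    mul_comm]

theorem chi_one (hne : piece ρ E χ ≠ ⊥) : χ ⟨1, one_mem _⟩ = 1 := by
  obtain ⟨w, hw, hw0⟩ := Submodule.exists_mem_ne_zero_of_ne_bot hne
  refine smul_left_injective K hw0 ?_
  show χ ⟨1, one_mem _⟩ • w = (1 : K) • w
  rw [← mem_piece.mp hw ⟨1, one_mem _⟩, one_smul]
  simp

theorem Moved.chi_sign (h : Moved ρ a r E q) (hne : piece ρ E χ ≠ ⊥) {x : Y} (hx : x ∈ ctr E) :
    χ ⟨x, hx⟩ = 1 ∨ χ ⟨x, hx⟩ = -1 := by
  refine mul_self_eq_one_iff.mp ?_
  rw [← chi_mul hne hx hx]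
  exact (congrArg χ (Subtype.ext (h.ctr_sq hx))).trans (chi_one hne)

theorem Moved.bit_mul (h : Moved ρ a r E q) (hne : piece ρ E χ ≠ ⊥) (hq : q = 2) {x y : Y}
    (hx : x ∈ ctr E) (hy : y ∈ ctr E) : bit χ (x * y) = bit χ x + bit χ y := by
  classical
  have h2 : (-1 : K) ≠ 1 := by
    intro e
    refine h.qne ?_
    subst hq
    have : (1 : K) + 1 = 0 := by nth_rw 1 [← e]; rw [neg_add_cancel]
    rw [show ((2 : ℕ) : K) = 1 + 1 by norm_num, this]
  rw [bit, bit, bit, dif_pos (mul_mem hx hy), dif_pos hx, dif_pos hy, chi_mul hne hx hy]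
  rcases h.chi_sign hne hx with e1 | e1 <;> rcases h.chi_sign hne hy with e2 | e2 <;>
    simp [e1, e2, h2] <;> decide

theorem Moved.bit_one (hne : piece ρ E χ ≠ ⊥) : bit χ (1 : Y) = 0 := by
  rw [bit, dif_pos (one_mem _), chi_one hne, if_pos rfl]

theorem bit_eq_zero_iff {z : Y} (hz : z ∈ ctr E) : bit χ z = 0 ↔ χ ⟨z, hz⟩ = 1 := by
  classical
  rw [bit, dif_pos hz]
  split_ifs with h1
  · simp [h1]
  · simp [h1]

theorem Exc.piece_ne (he : Exc ρ a r E χ) : piece ρ E χ ≠ ⊥ := by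
  intro e
  refine he.ne (le_antisymm rad_le fun x hx => ⟨hx, fun y _ w hw => ?_⟩)
  rw [e, Submodule.mem_bot] at hw
  simp [hw]

theorem Moved.comm_mem_ctr (h : Moved ρ a r E q) {x y : Y} (hx : x ∈ E) (hy : y ∈ E) : ⁅x, y⁆ ∈ ctr E :=
  h.commutator_le_ctr (Subgroup.commutator_mem_commutator hx hy)

theorem Moved.mem_rad_iff_bit (h : Moved ρ a r E q) (hne : piece ρ E χ ≠ ⊥) {x : Y} (hx : x ∈ E) :
    x ∈ rad ρ E χ ↔ ∀ y ∈ E, bit χ ⁅x, y⁆ = 0 := by
  have e : ∀ y, ρ (x * y) = ρ ⁅x, y⁆ * ρ (y * x) := fun y => by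
    rw [← map_mul]; congr 1; simp [commutatorElement_def]
  constructor
  · intro hr y hy
    rw [bit_eq_zero_iff (h.comm_mem_ctr hx hy)]
    obtain ⟨w, hw, hw0⟩ := Submodule.exists_mem_ne_zero_of_ne_bot hne
    have h1 := hr.2 y hy w hw
    rw [← Module.End.mul_apply, ← map_mul, ← Module.End.mul_apply, ← map_mul, e, Module.End.mul_apply] at h1
    have hv : ρ (y * x) w ∈ piece ρ E χ := piece_mem_E (mul_mem hy hx) w hw
    rw [mem_piece.mp hv ⟨_, h.comm_mem_ctr hx hy⟩] at h1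
    have hne' : ρ (y * x) w ≠ 0 := fun e0 => hw0 (by
      have := congrArg (ρ (y * x)⁻¹) e0
      rwa [← Module.End.mul_apply, ← map_mul, inv_mul_cancel, map_one, Module.End.one_apply, map_zero] at this)
    exact smul_left_injective K hne' (h1.trans (one_smul K _).symm)
  · intro hb
    refine ⟨hx, fun y hy w hw => ?_⟩
    have hv : ρ (y * x) w ∈ piece ρ E χ := piece_mem_E (mul_mem hy hx) w hw
    rw [← Module.End.mul_apply, ← map_mul, ← Module.End.mul_apply, ← map_mul, e, Module.End.mul_apply,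
      mem_piece.mp hv ⟨_, h.comm_mem_ctr hx hy⟩, (bit_eq_zero_iff _).mp (hb y hy), one_smul]

theorem Moved.bit_comm_left (h : Moved ρ a r E q) (hne : piece ρ E χ ≠ ⊥) (hq : q = 2) {x y z : Y}
    (hx : x ∈ E) (hy : y ∈ E) (hz : z ∈ E) : bit χ ⁅x * y, z⁆ = bit χ ⁅x, z⁆ + bit χ ⁅y, z⁆ := by
  rw [commutatorElement_mul_left_eq_conj_mul, (mem_ctr.mp (h.comm_mem_ctr hy hz)).2 x hx, mul_inv_cancel_right,
    h.bit_mul hne hq (h.comm_mem_ctr hy hz) (h.comm_mem_ctr hx hz), add_comm]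

theorem Moved.bit_comm_swap (h : Moved ρ a r E q) {x y : Y} (hx : x ∈ E) (hy : y ∈ E) :
    bit χ ⁅x, y⁆ = bit χ ⁅y, x⁆ := by
  congr 1
  rw [← commutatorElement_inv y x]
  exact inv_eq_of_mul_eq_one_right (h.commutator_sq hy hx)

theorem Moved.bit_comm_right (h : Moved ρ a r E q) (hne : piece ρ E χ ≠ ⊥) (hq : q = 2) {x y z : Y}
    (hx : x ∈ E) (hy : y ∈ E) (hz : z ∈ E) : bit χ ⁅x, y * z⁆ = bit χ ⁅x, y⁆ + bit χ ⁅x, z⁆ := by
  rw [h.bit_comm_swap hx (mul_mem hy hz), h.bit_comm_left hne hq hy hz hx, h.bit_comm_swap hy hx,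
    h.bit_comm_swap hz hx]

/-- Coordinates exist on every piece where `E` acts non-trivially. -/
theorem Moved.exists_coord (h : Moved ρ a r E q) (he : Exc ρ a r E χ) {m : ℕ} (hr : r = 2 ^ m + 1) :
    Nonempty (Coord ρ a m E χ) := by
  classical
  obtain ⟨hq, m', hm', hr', hidx⟩ := h.exc_data he
  obtain rfl : m' = m := Nat.pow_right_injective le_rfl (by omega : 2 ^ m' = 2 ^ m)
  have hne := he.piece_ne
  set S := rad ρ E χ with hS
  haveI hSn : (S.subgroupOf E).Normal :=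
    (Subgroup.normal_subgroupOf_iff_le_normalizer rad_le).mpr h.le_normalizer_rad
  let Q := E ⧸ S.subgroupOf E
  let π : E →* Q := QuotientGroup.mk' _
  have hπ : ∀ x : E, π x = 1 ↔ (x : Y) ∈ S := fun x => by
    rw [QuotientGroup.mk'_apply, QuotientGroup.eq_one_iff, Subgroup.mem_subgroupOf]
  have hsq : ∀ u : Q, u * u = 1 := by
    intro u
    obtain ⟨x, rfl⟩ := QuotientGroup.mk'_surjective _ u
    rw [← map_mul, hπ, Subgroup.coe_mul, ← sq]
    exact h.sq_mem_rad he x.2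
  have hinv : ∀ u : Q, u⁻¹ = u := fun u => inv_eq_of_mul_eq_one_right (hsq u)
  have hcomm : ∀ u v : Q, u * v = v * u := fun u v => by
    have := hinv (u * v)
    rwa [mul_inv_rev, hinv, hinv, eq_comm] at this
  letI : CommGroup Q := { (inferInstance : Group Q) with mul_comm := hcomm }
  let V := Additive Q
  letI : Module (ZMod 2) V := AddCommGroup.zmodModule fun v => by
    rw [two_nsmul]; exact hsq v.toMul
  let c : E →* E :=
    { toFun := fun y => ⟨a * y * a⁻¹, (Subgroup.mem_normalizer_iff.mp h.norm y).mp y.2⟩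
      map_one' := Subtype.ext (by simp)
      map_mul' := fun y z => Subtype.ext (by simp [mul_assoc]) }
  let cQ : Q →* Q := QuotientGroup.map _ _ c fun y hy =>
    (Subgroup.mem_normalizer_iff.mp h.le_normalizer_rad_a (y : Y)).mp hy
  let A : Module.End (ZMod 2) V := (MonoidHom.toAdditive cQ).toZModLinearMap 2
  have hA : ∀ x : E, A (Additive.ofMul (π x)) = Additive.ofMul (π (c x)) := fun x => rfl
  have hcard : Nat.card V = 2 ^ (2 * m') := by rw [← hidx]; rfl
  have hfix : ∀ v : V, A v = v → v = 0 := by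
    intro v hv
    obtain ⟨x, hx⟩ := QuotientGroup.mk'_surjective _ v.toMul
    have hv' : v = Additive.ofMul (π x) := by rw [hx]; rfl
    rw [hv', hA] at hv
    rw [hv', show π x = 1 from (hπ x).mpr (he.fixed 1 (fun e => h.fpf.prime.not_dvd_one e) _ x.2 ?_)]
    · rfl
    · have h1 : π (c x) = π x := Additive.ofMul.injective hv
      have h2 := (hπ ((c x)⁻¹ * x)).mp (by rw [map_mul, map_inv, h1, inv_mul_cancel])
      have := inv_mem h2
      simpa [c, pow_one, mul_assoc] using this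
  have hAr : ∀ (k : ℕ) (x : E), (A ^ k) (Additive.ofMul (π x)) = Additive.ofMul (π (c^[k] x)) := by
    intro k x
    induction k with
    | zero => rfl
    | succ k ih => rw [pow_succ', Module.End.mul_apply, ih, hA, Function.iterate_succ_apply']
  have hck : ∀ (k : ℕ) (x : E), ((c^[k] x : E) : Y) = a ^ k * x * (a ^ k)⁻¹ := by
    intro k x
    induction k with
    | zero => simp
    | succ k ih =>
      rw [Function.iterate_succ_apply', pow_succ']
      show a * _ * a⁻¹ = _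
      rw [ih]; group
  have hAR : A ^ r = 1 := LinearMap.ext fun v => by
    obtain ⟨x, hx⟩ := QuotientGroup.mk'_surjective _ v.toMul
    rw [show v = Additive.ofMul (π x) by rw [hx]; rfl, hAr, Module.End.one_apply]
    congr 2
    exact Subtype.ext (by rw [hck, h.fpf.pow]; simp)
  haveI : Finite V := inferInstanceAs (Finite Q)
  have hsimp : ∀ U : Submodule (ZMod 2) V, (∀ v ∈ U, A v ∈ U) → U = ⊥ ∨ U = ⊤ := by
    intro U hU
    refine or_iff_not_imp_left.mpr fun hU0 => ?_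
    haveI := Fintype.ofFinite U
    haveI := Fact.mk h.fpf.prime
    let f : Function.End U := fun v => ⟨A v, hU v v.2⟩
    have hfk : ∀ (k : ℕ) (v : U), ((f^[k] v : U) : V) = (A ^ k) (v : V) := by
      intro k v
      induction k with
      | zero => rfl
      | succ k ih => rw [Function.iterate_succ_apply', pow_succ', Module.End.mul_apply, ← ih]
    have hfr : f^[r ^ 1] = id := funext fun v => Subtype.ext (by rw [pow_one, hfk, hAR]; rfl)
    have hone : Fintype.card (Function.fixedPoints f) = 1 := by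
      rw [Fintype.card_eq_one_iff]
      exact ⟨⟨0, Subtype.ext (map_zero A)⟩, fun ⟨v, hv⟩ =>
        Subtype.ext (Subtype.ext (hfix _ (congrArg Subtype.val hv)))⟩
    have hmod := Equiv.Perm.card_fixedPoints_modEq (f := f) (p := r) (n := 1) hfr
    rw [show Fintype.card (Function.fixedPoints f) = 1 by convert hone, ← Nat.card_eq_fintype_card] at hmod
    have hdvd : Nat.card U ∣ 2 ^ (2 * m') := hcard ▸ AddSubgroup.card_addSubgroup_dvd_card U.toAddSubgroup
    obtain ⟨j, hj, hjc⟩ := (Nat.dvd_prime_pow Nat.prime_two).mp hdvd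
    have hj1 : 1 ≤ j := by
      by_contra h0
      obtain rfl : j = 0 := by omega
      rw [pow_zero] at hjc
      exact hU0 ((Submodule.eq_bot_iff U).mpr fun v hv =>
        congrArg Subtype.val ((Nat.card_eq_one_iff_unique.mp hjc).1.elim (⟨v, hv⟩ : U) 0))
    rw [hjc, hr] at hmod
    have hjj : j = 2 * m' := le_antisymm hj (two_pow_order hj1 hmod)
    have htop : U.toAddSubgroup = ⊤ :=
      AddSubgroup.eq_top_of_card_eq _ (by
        show Nat.card U = _
        rw [hjc, hjj, hcard])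
    exact Submodule.toAddSubgroup_injective (htop.trans Submodule.top_toAddSubgroup.symm)
  obtain ⟨ψ, ω, hψ⟩ := exists_field_coord hm' hcard A hsimp
  let φ : Y → Fl m' := fun x => if hx : x ∈ E then ψ (Additive.ofMul (π ⟨x, hx⟩)) else 0
  have hφ : ∀ x (hx : x ∈ E), φ x = ψ (Additive.ofMul (π ⟨x, hx⟩)) := fun x hx => dif_pos hx
  have hadd : ∀ x ∈ E, ∀ y ∈ E, φ (x * y) = φ x + φ y := fun x hx y hy => by
    rw [hφ _ (mul_mem hx hy), hφ x hx, hφ y hy, ← map_add]
    congr 1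
  have hker : ∀ x ∈ E, φ x = 0 ↔ x ∈ S := fun x hx => by
    rw [hφ x hx, EmbeddingLike.map_eq_zero_iff, ← hπ ⟨x, hx⟩]; rfl
  have hsurj : ∀ u, ∃ x ∈ E, φ x = u := fun u => by
    obtain ⟨x, hx⟩ := QuotientGroup.mk'_surjective _ (ψ.symm u).toMul
    exact ⟨x, x.2, by rw [hφ x x.2]; exact (congrArg (fun v => ψ (Additive.ofMul v)) hx).trans (ψ.apply_symm_apply u)⟩
  have hmemc : ∀ x ∈ E, a * x * a⁻¹ ∈ E := fun x hx => (Subgroup.mem_normalizer_iff.mp h.norm x).mp hx
  have heq : ∀ x ∈ E, φ (a * x * a⁻¹) = ω * φ x := fun x hx => by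
    rw [hφ _ (hmemc x hx), hφ x hx, ← hψ]
    rfl
  have hω1 : ω ≠ 1 := by
    intro e
    obtain ⟨v, hv⟩ : ∃ v : V, v ≠ 0 := ⟨ψ.symm 1, fun e0 => one_ne_zero ((ψ.apply_symm_apply 1).symm.trans (by rw [e0, map_zero]))⟩
    exact hv (hfix v (ψ.injective (by rw [hψ, e, one_mul])))
  have hωr : ω ^ r = 1 := by
    have key : ∀ (k : ℕ) v, ψ ((A ^ k) v) = ω ^ k * ψ v := by
      intro k v
      induction k with
      | zero => simp
      | succ k ih => rw [pow_succ', Module.End.mul_apply, hψ, ih, pow_succ', mul_assoc]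
    have := key r (ψ.symm 1)
    rw [hAR, Module.End.one_apply, ψ.apply_symm_apply, mul_one] at this
    exact this.symm
  have hωc : conj m' ω * ω = 1 := by rw [conj_apply, ← pow_succ, ← hr, hωr]
  have hω0 : ω ≠ 0 := fun e => by rw [e, mul_zero] at hωc; exact zero_ne_one hωc
  choose pre hpreE hpre using hsurj
  let b : Fl m' → Fl m' → ZMod 2 := fun u v => bit χ ⁅pre u, pre v⁆
  have hbφ : ∀ x ∈ E, ∀ y ∈ E, bit χ ⁅x, y⁆ = b (φ x) (φ y) := by
    intro x hx y hy
    have key : ∀ x ∈ E, ∀ x' ∈ E, φ x = φ x' → ∀ y ∈ E, bit χ ⁅x, y⁆ = bit χ ⁅x', y⁆ := by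
      intro x hx x' hx' e y hy
      have hd : x'⁻¹ * x ∈ S := (hker _ (mul_mem (inv_mem hx') hx)).mp (by
        have h2 := hadd x' hx' (x'⁻¹ * x) (mul_mem (inv_mem hx') hx)
        rw [mul_inv_cancel_left, e] at h2
        exact (add_eq_left.mp h2.symm))
      conv_lhs => rw [show x = x' * (x'⁻¹ * x) by group]
      rw [h.bit_comm_left hne hq hx' (rad_le hd) hy, ((h.mem_rad_iff_bit hne (rad_le hd)).mp hd) y hy,
        add_zero]
    show _ = bit χ ⁅pre (φ x), pre (φ y)⁆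
    rw [key x hx _ (hpreE _) (hpre _).symm y hy, h.bit_comm_swap (hpreE _) hy,
      key y hy _ (hpreE _) (hpre _).symm _ (hpreE _), h.bit_comm_swap (hpreE _) (hpreE _)]
  have hbadd : ∀ u u' v, b (u + u') v = b u v + b u' v := fun u u' v => by
    have e : b (u + u') v = bit χ ⁅pre u * pre u', pre v⁆ := by
      rw [hbφ _ (mul_mem (hpreE u) (hpreE u')) _ (hpreE v), hadd _ (hpreE u) _ (hpreE u'), hpre, hpre, hpre]
    rw [e, h.bit_comm_left hne hq (hpreE u) (hpreE u') (hpreE v)]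
  have hbsymm : ∀ u v, b u v = b v u := fun u v => h.bit_comm_swap (hpreE u) (hpreE v)
  have hbω : ∀ u v, b (ω * u) (ω * v) = b u v := by
    intro u v
    have e : b (ω * u) (ω * v) = bit χ ⁅a * pre u * a⁻¹, a * pre v * a⁻¹⁆ := by
      rw [hbφ _ (hmemc _ (hpreE u)) _ (hmemc _ (hpreE v)), heq _ (hpreE u), heq _ (hpreE v), hpre, hpre]
    rw [e]
    show bit χ _ = bit χ ⁅pre u, pre v⁆
    congr 1
    rw [show ⁅a * pre u * a⁻¹, a * pre v * a⁻¹⁆ = a * ⁅pre u, pre v⁆ * a⁻¹ by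
      simp [commutatorElement_def, mul_assoc], h.comm_ctr (h.comm_mem_ctr (hpreE u) (hpreE v)), mul_inv_cancel_right]
  obtain ⟨κ, hκ⟩ := exists_trF_repr ⟨⟨fun u => b u 1, by
    have := hbadd 0 0 1; rw [add_zero] at this; exact left_eq_add.mp this⟩, fun u u' => hbadd u u' 1⟩
  have hbκ : ∀ v u, b u v = trF m' (κ * u * conj m' v) := by
    let U : AddSubgroup (Fl m') :=
      { carrier := {v | ∀ u, b u v = trF m' (κ * u * conj m' v)}
        add_mem' := fun {v v'} h1 h2 u => by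
          rw [hbsymm, hbadd, hbsymm, h1, hbsymm v' u, h2, map_add, mul_add, map_add]
        zero_mem' := fun u => by
          have := hbadd 0 0 u
          rw [add_zero] at this
          rw [hbsymm, left_eq_add.mp this, map_zero, mul_zero, map_zero]
        neg_mem' := fun {v} hv => by rw [CharTwo.neg_eq]; exact hv }
    have hU1 : (1 : Fl m') ∈ U := fun u => by rw [map_one, mul_one]; exact hκ u
    have hUω : ∀ v ∈ U, ω * v ∈ U := fun v hv u => by
      have e : u = ω * (conj m' ω * u) := by rw [← mul_assoc, mul_comm ω, hωc, one_mul]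
      conv_lhs => rw [e]
      rw [hbω, hv, map_mul (conj m')]
      ring_nf
    have htop : (U.toZModSubmodule 2).comap ((ψ : V →+ Fl m').toZModLinearMap 2) = ⊤ := by
      refine (hsimp _ (fun v hv => ?_)).resolve_left (fun e => ?_)
      · show ψ (A v) ∈ U
        rw [hψ]; exact hUω _ hv
      · have h1 : ψ.symm 1 ∈ (U.toZModSubmodule 2).comap ((ψ : V →+ Fl m').toZModLinearMap 2) := by
          show ψ (ψ.symm 1) ∈ U
          rw [ψ.apply_symm_apply]; exact hU1
        rw [e, Submodule.mem_bot] at h1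
        exact one_ne_zero ((ψ.apply_symm_apply 1).symm.trans (by rw [h1, map_zero]))
    intro v u
    have h1 : ψ.symm v ∈ (U.toZModSubmodule 2).comap ((ψ : V →+ Fl m').toZModLinearMap 2) := htop ▸ trivial
    have h2 : ψ (ψ.symm v) ∈ U := h1
    rw [ψ.apply_symm_apply] at h2
    exact h2 u
  have hκc : conj m' κ = κ := by
    have h1 : κ + conj m' κ = 0 := eq_zero_of_trF fun u => by
      have e1 := hbκ 1 u
      have e2 := hbκ u 1
      rw [hbsymm, e1, map_one, mul_one, mul_one, ← trF_conj (κ * conj m' u), map_mul (conj m'), conj_conj hm'] at e2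
      rw [add_mul, map_add, e2, CharTwo.add_self_eq_zero]
    rw [add_eq_zero_iff_eq_neg, CharTwo.neg_eq] at h1
    exact h1.symm
  have hκ0 : κ ≠ 0 := fun e => he.ne (le_antisymm rad_le fun x hx =>
    (h.mem_rad_iff_bit hne hx).mpr fun y hy => by rw [hbφ x hx y hy, hbκ, e, zero_mul, zero_mul, map_zero])
  have hsqctr : ∀ x ∈ E, x ^ 2 ∈ ctr E := fun x hx => h.sq_mem_ctr hx
  let δ : Y → ZMod 2 := fun x => bit χ (x ^ 2) + t0 m' (κ * φ x * conj m' (φ x))
  have hδadd : ∀ x ∈ E, ∀ y ∈ E, δ (x * y) = δ x + δ y := by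
    intro x hx y hy
    have e : (x * y) ^ 2 = x ^ 2 * (⁅x⁻¹, y⁆ * y ^ 2) := by
      simp [commutatorElement_def, sq, mul_assoc]
    have hc : bit χ ⁅x⁻¹, y⁆ = trF m' (κ * φ x * conj m' (φ y)) := by
      have h0 : φ x⁻¹ = φ x := by
        have h1 := hadd x hx x⁻¹ (inv_mem hx)
        rw [mul_inv_cancel, (hker 1 (one_mem E)).mpr (one_mem S)] at h1
        rw [eq_comm, add_eq_zero_iff_eq_neg, CharTwo.neg_eq] at h1
        exact h1.symm
      rw [hbφ _ (inv_mem hx) y hy, h0, hbκ]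
    show bit χ _ + _ = _
    rw [e, h.bit_mul hne hq (hsqctr x hx) (mul_mem (h.comm_mem_ctr (inv_mem hx) hy) (hsqctr y hy)),
      h.bit_mul hne hq (h.comm_mem_ctr (inv_mem hx) hy) (hsqctr y hy), hc, hadd x hx y hy,
      show κ * (φ x + φ y) * conj m' (φ x + φ y) = κ * φ x * conj m' (φ x) + κ * φ y * conj m' (φ y) +
        κ * (φ x * conj m' (φ y) + conj m' (φ x * conj m' (φ y))) by
        rw [map_add, map_mul, conj_conj hm']; ring,
      map_add, map_add, t0_polar hm' hκc, ← mul_assoc]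
    show bit χ _ + _ + (_ + _ + _) = (bit χ _ + _) + (bit χ _ + _)
    have h2 : ∀ p q s u v : ZMod 2, p + (s + q) + (u + v + s) = (p + u) + (q + v) := by decide
    exact h2 _ _ _ _ _
  have hδω : ∀ x ∈ E, δ (a * x * a⁻¹) = δ x := by
    intro x hx
    show bit χ _ + _ = bit χ _ + _
    rw [show (a * x * a⁻¹) ^ 2 = a * x ^ 2 * a⁻¹ by simp [sq, mul_assoc], h.comm_ctr (hsqctr x hx),
      mul_inv_cancel_right, heq x hx, map_mul (conj m'),
      show κ * (ω * φ x) * (conj m' ω * conj m' (φ x)) = κ * φ x * conj m' (φ x) * (conj m' ω * ω) by ring,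
      hωc, mul_one]
  have hδrad : ∀ x ∈ S, δ x = 0 := by
    intro x hx
    obtain ⟨z, hz⟩ := he.scalar x hx
    show bit χ _ + _ = 0
    rw [(hker x (rad_le hx)).mpr hx, mul_zero, zero_mul, map_zero, add_zero,
      bit_eq_zero_iff (hsqctr x (rad_le hx))]
    obtain ⟨w, hw, hw0⟩ := Submodule.exists_mem_ne_zero_of_ne_bot hne
    refine smul_left_injective K hw0 ?_
    show χ _ • w = (1 : K) • w
    rw [← mem_piece.mp hw ⟨x ^ 2, hsqctr x (rad_le hx)⟩]
    show ρ (x ^ 2) w = _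
    rw [sq, map_mul, Module.End.mul_apply, hz w hw, map_smul, hz w hw, smul_smul, one_smul]
    rcases h.chi_sign hne z.2 with e | e <;> simp [e]
  have hδ : ∀ x ∈ E, δ x = 0 := by
    intro x hx
    obtain ⟨y, hy, hxy⟩ : ∃ y ∈ E, (ω + 1) * φ y = φ x := by
      refine ⟨pre ((ω + 1)⁻¹ * φ x), hpreE _, ?_⟩
      have hne0 : ω + 1 ≠ 0 := fun e => hω1 (by rwa [add_eq_zero_iff_eq_neg, CharTwo.neg_eq] at e)
      rw [hpre, mul_inv_cancel_left₀ hne0]
    have hm0 := mul_mem (hmemc y hy) hy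
    have h1 : δ (a * y * a⁻¹ * y) = 0 := by rw [hδadd _ (hmemc y hy) y hy, hδω y hy, CharTwo.add_self_eq_zero]
    have hd : (a * y * a⁻¹ * y)⁻¹ * x ∈ S := (hker _ (mul_mem (inv_mem hm0) hx)).mp (by
      have h2 := hadd _ hm0 _ (mul_mem (inv_mem hm0) hx)
      rw [mul_inv_cancel_left, hadd _ (hmemc y hy) y hy, heq y hy, show ω * φ y + φ y = (ω + 1) * φ y by ring,
        hxy] at h2
      exact add_eq_left.mp h2.symm)
    have h3 := hδadd _ hm0 _ (rad_le hd)
    rwa [mul_inv_cancel_left, h1, hδrad _ hd, add_zero] at h3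
  exact ⟨⟨φ, ω, κ, hadd, hker, fun u => ⟨pre u, hpreE u, hpre u⟩, heq, hω1, hωc, hκ0, hκc,
    fun x hx y hy => by rw [hbφ x hx y hy, hbκ], fun x hx => CharTwo.add_eq_zero.mp (hδ x hx)⟩⟩

end Cfsg.Agent.Lib.ShultFlavell
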