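import Cfsg.Agent.Lib.ShultFlavell.Auto

/-!
Elements centralising a moved group, and elements fixing the character of a piece.
-/

set_option autoImplicit false
set_option linter.style.haveILetI false
set_option linter.unusedSectionVars false

namespace Cfsg.Agent.Lib.ShultFlavell

open Module (End)
open scoped commutatorElement

variable {K : Type*} [Field K] {W : Type*} [AddCommGroup W] [Module K W]
variable {Y : Type*} [Group Y]
variable {ρ : Y →* End K W} {a : Y} {r q : ℕ} {E : Subgroup Y} {χ : ctr E → K}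
variable [IsAlgClosed K] [FiniteDimensional K W] [Finite Y]

/-- What commutes with `E` commutes with `a` on an exceptional piece. -/
theorem Exc.commute_a (he : Exc ρ a r E χ) {u : Y} (hu : ∀ e ∈ E, u * e = e * u) :
    ∀ w ∈ piece ρ E χ, ρ u (ρ a w) = ρ a (ρ u w) :=
  he.span (ρ u) (piece_invariant_of_comm fun z => (hu _ z.2.1).symm) fun e hee w _ => by
    rw [← Module.End.mul_apply, ← map_mul, hu e hee, map_mul, Module.End.mul_apply]

/-- A group equal to its moved part which centralises `E` is trivial on every exceptional piece. -/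
theorem Exc.fixed_of_centralized (he : Exc ρ a r E χ) (h : Moved ρ a r E q) {P : Subgroup Y}
    (hgen : ⁅P, Subgroup.zpowers a⁆ = P) (hc : ∀ u ∈ P, ∀ e ∈ E, u * e = e * u) :
    ∀ u ∈ P, ∀ w ∈ piece ρ E χ, ρ u w = w := by
  classical
  let N : Subgroup Y :=
    { carrier := {u | u ∈ P ∧ ∀ w ∈ piece ρ E χ, ρ u w = w}
      one_mem' := ⟨one_mem P, fun w _ => by simp⟩
      mul_mem' := fun {x y} hx hy => ⟨mul_mem hx.1 hy.1, fun w hw => by
        rw [map_mul, Module.End.mul_apply, hy.2 w hw, hx.2 w hw]⟩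
      inv_mem' := fun {x} hx => ⟨inv_mem hx.1, fun w hw => by
        conv_lhs => rw [← hx.2 w hw]
        rw [map_cancel]⟩ }
  suffices hle : P ≤ N from fun u hu => (hle hu).2
  refine hgen.symm.le.trans (Subgroup.commutator_le.mpr fun u hu b hb => ⟨hgen.le
    (Subgroup.commutator_mem_commutator hu hb), fun w hw => ?_⟩)
  obtain ⟨i, -, rfl⟩ := Finset.mem_image.mp ((mem_zpowers_iff_mem_range_orderOf).mp hb)
  have hpc : ∀ g ∈ Subgroup.zpowers a, ∀ v ∈ piece ρ E χ, ρ g v ∈ piece ρ E χ := fun g hg =>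
    piece_invariant_of_comm fun z => by
      obtain ⟨j, rfl⟩ := Subgroup.mem_zpowers_iff.mp hg
      exact ((show Commute (z : Y) a from (h.comm_ctr z.2).symm).zpow_right j).eq
  have hk : ∀ (i : ℕ), ∀ v ∈ piece ρ E χ, ρ u (ρ (a ^ i) v) = ρ (a ^ i) (ρ u v) := by
    intro i
    induction i with
    | zero => intro v _; simp
    | succ i ih =>
      intro v hv
      rw [pow_succ', map_mul, Module.End.mul_apply, Module.End.mul_apply,
        he.commute_a (hc u hu) _ (hpc _ (Subgroup.pow_mem _ (Subgroup.mem_zpowers a) i) v hv), ih v hv]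
  have h1 : ρ (a ^ i)⁻¹ w ∈ piece ρ E χ :=
    hpc _ (inv_mem (Subgroup.pow_mem _ (Subgroup.mem_zpowers a) i)) w hw
  have h2 : ρ u⁻¹ (ρ (a ^ i)⁻¹ w) ∈ piece ρ E χ :=
    piece_invariant_of_comm (fun z => (hc _ (inv_mem hu) _ z.2.1).symm) _ h1
  rw [commutatorElement_def, map_mul, map_mul, map_mul, Module.End.mul_apply, Module.End.mul_apply,
    Module.End.mul_apply, hk i _ h2, map_cancel' ρ u, map_cancel']

/-- An element commuting with `a`, of order prime to `r`, fixing the character, commutes with `E` on the piece. -/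
theorem Exc.commute_of_fix (he : Exc ρ a r E χ) (h : Moved ρ a r E q) {c : Y}
    (hc : c ∈ Subgroup.normalizer (E : Set Y)) (hca : Commute c a) (hord : (orderOf c).Coprime r)
    (hfix : ∀ z : ctr E, χ ⟨c⁻¹ * z * c, h.conj_ctr hc z z.2⟩ = χ z) :
    ∀ e ∈ E, ∀ w ∈ piece ρ E χ, ρ c (ρ e w) = ρ e (ρ c w) := by
  classical
  obtain ⟨-, m, hm, hr, -⟩ := h.exc_data he
  obtain ⟨C⟩ := h.exists_coord he hr
  have hpw : ∀ v ∈ piece ρ E χ, ρ c v ∈ piece ρ E χ :=
    piece_invariant fun z => ⟨⟨c⁻¹ * z * c, h.conj_ctr hc z z.2⟩, by simp [mul_assoc], hfix z⟩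
  have hfix' : ∀ z ∈ ctr E, bit χ (c * z * c⁻¹) = bit χ z := by
    intro z hz
    have hz' : c * z * c⁻¹ ∈ ctr E := h.mem_ctr_conj hc hz
    have h1 := hfix ⟨_, hz'⟩
    have e : (⟨c⁻¹ * (c * z * c⁻¹) * c, h.conj_ctr hc _ hz'⟩ : ctr E) = ⟨z, hz⟩ :=
      Subtype.ext (by show c⁻¹ * (c * z * c⁻¹) * c = z; group)
    rw [e] at h1
    rw [bit, bit, dif_pos hz', dif_pos hz, h1]
  have hsc : ∀ e ∈ E, ∃ s : K, s ≠ 0 ∧ ∀ w ∈ piece ρ E χ, ρ c (ρ e w) = s • ρ e (ρ c w) := by
    intro e hee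
    have hd := (C.conj_eq h he.piece_ne hr hm hc hca.eq hfix' hord hee).2
    obtain ⟨z, hz⟩ := he.scalar _ hd
    refine ⟨χ z, fun e0 => ?_, fun w hw => ?_⟩
    · rcases h.chi_sign he.piece_ne z.2 with e1 | e1
      · exact one_ne_zero (e1.symm.trans e0)
      · exact one_ne_zero (neg_eq_zero.mp (e1.symm.trans e0))
    · rw [← Module.End.mul_apply, ← map_mul,
        show c * e = e * (e⁻¹ * (c * e * c⁻¹)) * c by simp [mul_assoc], map_mul, map_mul,
        Module.End.mul_apply, Module.End.mul_apply, hz _ (hpw w hw), map_smul]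
  let N : Subgroup Y :=
    { carrier := {e | e ∈ E ∧ ∀ w ∈ piece ρ E χ, ρ c (ρ e w) = ρ e (ρ c w)}
      one_mem' := ⟨one_mem E, fun w _ => by simp⟩
      mul_mem' := fun {x y} hx hy => ⟨mul_mem hx.1 hy.1, fun w hw => by
        rw [map_mul, Module.End.mul_apply, Module.End.mul_apply, hx.2 _ (piece_mem_E hy.1 w hw), hy.2 w hw]⟩
      inv_mem' := fun {x} hx => ⟨inv_mem hx.1, fun w hw => by
        have h1 := hx.2 _ (piece_mem_E (inv_mem hx.1) w hw)
        rw [map_cancel'] at h1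
        rw [h1, map_cancel]⟩ }
  suffices hle : E ≤ N from fun e hee => (hle hee).2
  refine h.gen.symm.le.trans (Subgroup.commutator_le.mpr fun y hy b hb => ?_)
  obtain ⟨s, hs0, hs⟩ := hsc y hy
  have hbn := h.zpowers_le hb
  have hy' : b * y⁻¹ * b⁻¹ ∈ E := (Subgroup.mem_normalizer_iff.mp hbn _).mp (inv_mem hy)
  have hcb : Commute c b := by
    obtain ⟨i, rfl⟩ := Subgroup.mem_zpowers_iff.mp hb
    exact hca.zpow_right i
  have hpb : ∀ g, g = b ∨ g = b⁻¹ → ∀ v ∈ piece ρ E χ, ρ g v ∈ piece ρ E χ := fun g hg =>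
    piece_invariant_of_comm fun z => by
      obtain ⟨i, rfl⟩ := Subgroup.mem_zpowers_iff.mp hb
      have h3 : Commute (z : Y) (a ^ i) := (show Commute (z : Y) a from (h.comm_ctr z.2).symm).zpow_right i
      rcases hg with rfl | rfl
      · exact h3.eq
      · exact h3.inv_right.eq
  have e0 : ⁅y, b⁆ = y * (b * y⁻¹ * b⁻¹) := by rw [commutatorElement_def]; group
  refine ⟨e0 ▸ mul_mem hy hy', fun w hw => ?_⟩
  have h1 : ∀ v ∈ piece ρ E χ, ρ c (ρ y⁻¹ v) = s⁻¹ • ρ y⁻¹ (ρ c v) := fun v hv => by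
    have h2 := hs _ (piece_mem_E (inv_mem hy) v hv)
    rw [map_cancel'] at h2
    rw [h2, map_smul, map_cancel, smul_smul, inv_mul_cancel₀ hs0, one_smul]
  have hcb' : ∀ g, g = b ∨ g = b⁻¹ → ∀ v, ρ c (ρ g v) = ρ g (ρ c v) := fun g hg v => by
    have h3 : Commute c g := by
      rcases hg with rfl | rfl
      · exact hcb
      · exact hcb.inv_right
    rw [← Module.End.mul_apply, ← map_mul, h3.eq, map_mul, Module.End.mul_apply]
  have hw1 : ρ b⁻¹ w ∈ piece ρ E χ := hpb _ (Or.inr rfl) w hw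
  have hw2 : ρ b (ρ y⁻¹ (ρ b⁻¹ w)) ∈ piece ρ E χ :=
    hpb _ (Or.inl rfl) _ (piece_mem_E (inv_mem hy) _ hw1)
  rw [e0]
  simp only [map_mul, Module.End.mul_apply]
  rw [hs _ hw2, hcb' b (Or.inl rfl), h1 _ hw1, hcb' _ (Or.inr rfl)]
  simp only [map_smul, smul_smul, mul_inv_cancel₀ hs0, one_smul]

end Cfsg.Agent.Lib.ShultFlavell
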