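import Cfsg.Agent.Lib.ShultFlavell.CaseTwo
import Cfsg.Agent.Lib.ShultFlavell.ExcFix

/-!
The characters of the centre of `E` that are trivial on `Zc G`, and their orbits under an odd group
acting transitively on the non-central elements.
-/

set_option autoImplicit false
set_option linter.style.haveILetI false
set_option linter.unusedSectionVars false

namespace Cfsg.Agent.Lib.ShultFlavell

open Module (End)
open scoped commutatorElement

variable {Y : Type*} [Group Y]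

/-- An additive character of `ctr E`, extended by zero. -/
structure IsBit (E : Subgroup Y) (f : Y → ZMod 2) : Prop where
  out : ∀ z, z ∉ ctr E → f z = 0
  add : ∀ x ∈ ctr E, ∀ y ∈ ctr E, f (x * y) = f x + f y

theorem IsBit.one {E : Subgroup Y} {f : Y → ZMod 2} (hf : IsBit E f) : f 1 = 0 := by
  have h := hf.add 1 (one_mem _) 1 (one_mem _)
  rw [one_mul] at h
  exact left_eq_add.mp h

theorem IsBit.add' {E : Subgroup Y} {f g : Y → ZMod 2} (hf : IsBit E f) (hg : IsBit E g) :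
    IsBit E (f + g) :=
  ⟨fun z hz => by simp [hf.out z hz, hg.out z hz], fun x hx y hy => by
    simp only [Pi.add_apply, hf.add x hx y hy, hg.add x hx y hy]
    abel⟩

theorem IsBit.sum {E : Subgroup Y} {ι : Type*} (s : Finset ι) {F : ι → Y → ZMod 2}
    (h : ∀ i ∈ s, IsBit E (F i)) : IsBit E (∑ i ∈ s, F i) :=
  ⟨fun z hz => by rw [Finset.sum_apply]; exact Finset.sum_eq_zero fun i hi => (h i hi).out z hz,
    fun x hx y hy => by
      simp only [Finset.sum_apply]
      rw [← Finset.sum_add_distrib]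
      exact Finset.sum_congr rfl fun i hi => (h i hi).add x hx y hy⟩

/-- The characters of `ctr E` trivial on `Zc G`. -/
def dualZ (G E : Subgroup Y) : AddSubgroup (Y → ZMod 2) where
  carrier := {f | IsBit E f ∧ ∀ z ∈ ctr E, z ∈ Zc G → f z = 0}
  add_mem' {f g} hf hg := ⟨hf.1.add' hg.1, fun z hz hzZ => by simp [hf.2 z hz hzZ, hg.2 z hz hzZ]⟩
  zero_mem' := ⟨⟨fun _ _ => rfl, fun _ _ _ _ => (add_zero _).symm⟩, fun _ _ _ => rfl⟩
  neg_mem' {f} hf := by
    have e : -f = f := funext fun z => ZMod.neg_eq_self_mod_two (f z)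
    show -f ∈ {f | IsBit E f ∧ ∀ z ∈ ctr E, z ∈ Zc G → f z = 0}
    rw [e]; exact hf

theorem mem_dualZ {G E : Subgroup Y} {f : Y → ZMod 2} :
    f ∈ dualZ G E ↔ IsBit E f ∧ ∀ z ∈ ctr E, z ∈ Zc G → f z = 0 := Iff.rfl

theorem add_self_fun (f : Y → ZMod 2) : f + f = 0 := funext fun z => CharTwo.add_self_eq_zero (f z)

theorem eq_of_add_eq_zero_fun {f g : Y → ZMod 2} (h : f + g = 0) : f = g := by
  calc f = f + (g + g) := by rw [add_self_fun, add_zero]
    _ = g := by rw [← add_assoc, h, zero_add]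

/-- Composition with a conjugation. -/
def cj (c : Y) (f : Y → ZMod 2) : Y → ZMod 2 := fun z => f (c * z * c⁻¹)

theorem cj_apply (c : Y) (f : Y → ZMod 2) (z : Y) : cj c f z = f (c * z * c⁻¹) := rfl

theorem cj_one (f : Y → ZMod 2) : cj 1 f = f := funext fun z => by simp [cj]

theorem cj_cj (c g : Y) (f : Y → ZMod 2) : cj c (cj g f) = cj (g * c) f :=
  funext fun z => by simp only [cj]; congr 1; group

theorem cj_add (c : Y) (f g : Y → ZMod 2) : cj c (f + g) = cj c f + cj c g := rfl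

theorem cj_zero (c : Y) : cj c (0 : Y → ZMod 2) = 0 := rfl

theorem cj_cancel (c : Y) (f : Y → ZMod 2) : cj c⁻¹ (cj c f) = f := by
  rw [cj_cj, mul_inv_cancel, cj_one]

theorem cj_cancel' (c : Y) (f : Y → ZMod 2) : cj c (cj c⁻¹ f) = f := by
  rw [cj_cj, inv_mul_cancel, cj_one]

variable [Finite Y]

/-- The size of an orbit. -/
theorem card_cj_orbit (A : Subgroup Y) (f : Y → ZMod 2) :
    Nat.card (Set.range fun c : A => cj (c : Y) f) ∣ Nat.card A ∧
      ((∀ c ∈ A, ∀ n : ℕ, c ^ 2 ^ n = 1 → cj c f = f) →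
        Odd (Nat.card (Set.range fun c : A => cj (c : Y) f))) := by
  letI : MulAction A (Y → ZMod 2) :=
    { smul := fun c g => cj (c : Y)⁻¹ g
      one_smul := fun g => by
        show cj ((1 : A) : Y)⁻¹ g = g
        rw [Subgroup.coe_one, inv_one, cj_one]
      mul_smul := fun c d g => by
        show cj ((c * d : A) : Y)⁻¹ g = cj (c : Y)⁻¹ (cj (d : Y)⁻¹ g)
        rw [cj_cj, Subgroup.coe_mul, mul_inv_rev] }
  have e : (Set.range fun c : A => cj (c : Y) f) = MulAction.orbit A f := by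
    ext g
    constructor
    · rintro ⟨c, rfl⟩
      exact ⟨c⁻¹, show cj ((c⁻¹ : A) : Y)⁻¹ f = cj (c : Y) f by rw [Subgroup.coe_inv, inv_inv]⟩
    · rintro ⟨c, rfl⟩
      exact ⟨c⁻¹, show cj ((c⁻¹ : A) : Y) f = cj (c : Y)⁻¹ f by rw [Subgroup.coe_inv]⟩
  have hidx : Nat.card (Set.range fun c : A => cj (c : Y) f) = (MulAction.stabilizer A f).index := by
    rw [e]
    exact Nat.card_congr (MulAction.orbitEquivQuotientStabilizer A f)
  rw [hidx]
  refine ⟨Subgroup.index_dvd_card _, fun hfix => ?_⟩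
  haveI : Fact (Nat.Prime 2) := ⟨Nat.prime_two⟩
  obtain ⟨T⟩ : Nonempty (Sylow 2 A) := inferInstance
  have hT : (T : Subgroup A) ≤ MulAction.stabilizer A f := by
    intro c hc
    obtain ⟨n, hn⟩ := T.isPGroup' ⟨c, hc⟩
    have hn' : c ^ 2 ^ n = 1 := congrArg Subtype.val hn
    show cj (c : Y)⁻¹ f = f
    refine hfix _ (inv_mem c.2) n ?_
    rw [inv_pow, ← Subgroup.coe_pow, hn', Subgroup.coe_one, inv_one]
  rw [← Nat.not_even_iff_odd, even_iff_two_dvd]
  exact fun h2 => T.not_dvd_index (h2.trans (Subgroup.index_dvd_of_le hT))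

/-- The sign of a bit. -/
def bsgn (t : ZMod 2) : ℤ := if t = 0 then 1 else -1

theorem bsgn_add : ∀ s t : ZMod 2, bsgn (s + t) = bsgn s * bsgn t := by decide

/-- A non-zero character sums to zero. -/
theorem sum_bsgn [Fintype Y] {E : Subgroup Y} [DecidablePred (· ∈ ctr E)] {f : Y → ZMod 2}
    (hf : IsBit E f) :
    ∑ z ∈ Finset.univ.filter (· ∈ ctr E), bsgn (f z) =
      if f = 0 then ((Finset.univ.filter (· ∈ ctr E)).card : ℤ) else 0 := by
  split_ifs with h0
  · rw [h0, Finset.card_eq_sum_ones, Nat.cast_sum]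
    exact Finset.sum_congr rfl fun z _ => by simp [bsgn]
  · obtain ⟨z0, hz0⟩ := Function.ne_iff.mp h0
    have hz0c : z0 ∈ ctr E := by
      by_contra h; exact hz0 (hf.out z0 h)
    have hz1 : f z0 = 1 := Fin.eq_one_of_ne_zero (f z0) hz0
    have hS : ∑ z ∈ Finset.univ.filter (· ∈ ctr E), bsgn (f z) =
        ∑ z ∈ Finset.univ.filter (· ∈ ctr E), - bsgn (f z) := by
      refine Finset.sum_nbij' (fun z => z0 * z) (fun z => z0⁻¹ * z) (fun z hz => ?_) (fun z hz => ?_)
        (fun z _ => inv_mul_cancel_left z0 z) (fun z _ => mul_inv_cancel_left z0 z) (fun z hz => ?_)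
      · simp only [Finset.mem_filter, Finset.mem_univ, true_and] at hz ⊢
        exact mul_mem hz0c hz
      · simp only [Finset.mem_filter, Finset.mem_univ, true_and] at hz ⊢
        exact mul_mem (inv_mem hz0c) hz
      · simp only [Finset.mem_filter, Finset.mem_univ, true_and] at hz
        rw [hf.add z0 hz0c z hz, bsgn_add, hz1, show bsgn 1 = -1 from rfl]
        ring
    rw [Finset.sum_neg_distrib] at hS
    omega

/-- A transitive group is transitive on the non-zero characters. -/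
theorem dualZ_orbit {G E A : Subgroup Y} (hcj : ∀ c ∈ A, ∀ z ∈ ctr E, c * z * c⁻¹ ∈ ctr E)
    (htr : ∀ z ∈ ctr E, z ∉ Zc G → ∀ z' ∈ ctr E, z' ∉ Zc G → ∃ c ∈ A, c * z * c⁻¹ * z'⁻¹ ∈ Zc G)
    (O : Finset (Y → ZMod 2)) (hO : ∀ d ∈ O, d ∈ dualZ G E) (hcl : ∀ c ∈ A, ∀ d ∈ O, cj c d ∈ O)
    {d1 : Y → ZMod 2} (h1 : d1 ∈ O) (h10 : d1 ≠ 0) {e : Y → ZMod 2} (he : e ∈ dualZ G E) (he0 : e ≠ 0) :
    e ∈ O := by
  classical
  haveI := Fintype.ofFinite Y
  set N := Finset.univ.filter (· ∈ ctr E) with hN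
  have hmemN : ∀ {z}, z ∈ N ↔ z ∈ ctr E := fun {z} => by simp [hN]
  let f : Y → ℤ := fun z => ∑ d ∈ O, bsgn (d z)
  have hinv : ∀ c ∈ A, ∀ z, f (c * z * c⁻¹) = f z := fun c hc z =>
    Finset.sum_nbij' (fun d => cj c d) (fun d => cj c⁻¹ d) (fun d hd => hcl c hc d hd)
      (fun d hd => hcl _ (inv_mem hc) d hd) (fun d _ => cj_cancel c d) (fun d _ => cj_cancel' c d)
      (fun d _ => rfl)
  obtain ⟨cc, hcc⟩ : ∃ cc : ℤ, ∀ z ∈ ctr E, z ∉ Zc G → f z = cc := by
    by_cases hz : ∃ z0 ∈ ctr E, z0 ∉ Zc G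
    · obtain ⟨z0, hz0, hz0Z⟩ := hz
      refine ⟨f z0, fun z hz hzZ => ?_⟩
      obtain ⟨c, hc, hw⟩ := htr z0 hz0 hz0Z z hz hzZ
      rw [← hinv c hc z0]
      refine Finset.sum_congr rfl fun d hd => congrArg bsgn ?_
      have hwc := mul_mem (hcj c hc z0 hz0) (inv_mem hz)
      have := (hO d hd).1.add _ hwc z hz
      rwa [inv_mul_cancel_right, (hO d hd).2 _ hwc hw, zero_add, eq_comm] at this
    · exact ⟨0, fun z hz' hzZ => absurd ⟨z, hz', hzZ⟩ hz⟩
  have key : ∀ e ∈ dualZ G E, e ≠ 0 → ((if e ∈ O then (N.card : ℤ) else 0) =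
      ((O.card : ℤ) - cc) * (N.filter (· ∈ Zc G)).card) := by
    intro e he he0
    have h2 : ∑ z ∈ N, f z * bsgn (e z) = if e ∈ O then (N.card : ℤ) else 0 := by
      simp only [f, Finset.sum_mul]
      rw [Finset.sum_comm]
      have hd : ∀ d ∈ O, ∑ z ∈ N, bsgn (d z) * bsgn (e z) = if d = e then (N.card : ℤ) else 0 := by
        intro d hd
        simp only [← bsgn_add]
        refine (sum_bsgn ((hO d hd).1.add' he.1)).trans ?_
        by_cases hde : d = e
        · rw [if_pos hde, if_pos (hde ▸ add_self_fun d)]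
        · rw [if_neg hde, if_neg fun h0 => hde (eq_of_add_eq_zero_fun h0)]
      rw [Finset.sum_congr rfl hd, Finset.sum_ite_eq']
    rw [← h2]
    have h3 : ∀ z ∈ N, f z * bsgn (e z) =
        cc * bsgn (e z) + if z ∈ Zc G then ((O.card : ℤ) - cc) else 0 := by
      intro z hz
      by_cases hzZ : z ∈ Zc G
      · have hb : bsgn 0 = 1 := rfl
        have hf : f z = O.card := by
          show ∑ d ∈ O, bsgn (d z) = _
          rw [Finset.sum_congr rfl fun d hd => by rw [(hO d hd).2 z (hmemN.mp hz) hzZ, hb],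
            Finset.sum_const, nsmul_eq_mul, mul_one]
        rw [if_pos hzZ, hf, he.2 z (hmemN.mp hz) hzZ, hb]
        ring
      · rw [if_neg hzZ, hcc z (hmemN.mp hz) hzZ, add_zero]
    rw [Finset.sum_congr rfl h3, Finset.sum_add_distrib, ← Finset.mul_sum, sum_bsgn he.1, if_neg he0,
      mul_zero, zero_add, ← Finset.sum_filter, Finset.sum_const, nsmul_eq_mul, mul_comm]
  by_contra hne
  have h4 := (key d1 (hO d1 h1) h10).trans (key e he he0).symm
  rw [if_pos h1, if_neg hne] at h4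
  have : 0 < N.card := Finset.card_pos.mpr ⟨1, hmemN.mpr (one_mem _)⟩
  omega

variable {K : Type*} [Field K] {W : Type*} [AddCommGroup W] [Module K W]
variable [IsAlgClosed K] [FiniteDimensional K W]
variable {ρ : Y →* End K W} {a : Y} {r p q : ℕ} {G E : Subgroup Y}

theorem Moved.isBit_bit (h : Moved ρ a r E q) (hq : q = 2) {χ : ctr E → K} (hne : piece ρ E χ ≠ ⊥) :
    IsBit E (bit χ) :=
  ⟨fun z hz => by classical rw [bit, dif_neg hz], fun _ hx _ hy => h.bit_mul hne hq hx hy⟩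

theorem Moved.chi_eq_of_bit (h : Moved ρ a r E q) {χ χ' : ctr E → K}
    (hne : piece ρ E χ ≠ ⊥) (hne' : piece ρ E χ' ≠ ⊥) {z : Y} (hz : z ∈ ctr E)
    (e : bit χ z = bit χ' z) : χ ⟨z, hz⟩ = χ' ⟨z, hz⟩ := by
  rcases h.chi_sign hne hz with e1 | e1 <;> rcases h.chi_sign hne' hz with e2 | e2
  · rw [e1, e2]
  · exact e1.trans ((bit_eq_zero_iff hz).mp (e ▸ (bit_eq_zero_iff hz).mpr e1)).symm
  · exact ((bit_eq_zero_iff hz).mp (e.symm ▸ (bit_eq_zero_iff hz).mpr e2)).trans e2.symm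
  · rw [e1, e2]

variable [Nontrivial W] [CharP K p]

/-- Non-zero pieces differ by a character trivial on `Zc G`. -/
theorem Ctx.bit_add_mem (h : Ctx ρ a r p G) (hE : IsE a G E) {χ χ' : ctr E → K}
    (hne : piece ρ E χ ≠ ⊥) (hne' : piece ρ E χ' ≠ ⊥) : bit χ + bit χ' ∈ dualZ G E := by
  have hM := hE.moved h
  refine ⟨(hM.isBit_bit rfl hne).add' (hM.isBit_bit rfl hne'), fun z hz hzZ => ?_⟩
  obtain ⟨s, hs⟩ := h.center_scalar hzZ
  have key : ∀ φ : ctr E → K, piece ρ E φ ≠ ⊥ → φ ⟨z, hz⟩ = s := by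
    intro φ hφ
    obtain ⟨w, hw, hw0⟩ := Submodule.exists_mem_ne_zero_of_ne_bot hφ
    refine smul_left_injective K hw0 ?_
    show φ ⟨z, hz⟩ • w = s • w
    rw [← mem_piece.mp hw ⟨z, hz⟩]
    exact hs w
  classical
  have e : bit χ z = bit χ' z := by rw [bit, bit, dif_pos hz, dif_pos hz, key χ hne, key χ' hne']
  rw [Pi.add_apply, e, CharTwo.add_self_eq_zero]

/-- The characters trivial on `Zc G` separate modulo `Zc G`. -/
theorem Ctx.mem_Zc_of_dual (h : Ctx ρ a r p G) (hE : IsE a G E) {z : Y} (hz : z ∈ ctr E)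
    (hd : ∀ d ∈ dualZ G E, d z = 0) : z ∈ Zc G := by
  have hM := hE.moved h
  obtain ⟨χ0, he0⟩ := hM.exists_exc (hE.ne_bot h)
  have hne0 := he0.piece_ne
  set s := χ0 ⟨z, hz⟩ with hs
  have hss : s * s = 1 := by rcases hM.chi_sign hne0 hz with e | e <;> simp [hs, e]
  have hsame : ∀ χ : ctr E → K, piece ρ E χ ≠ ⊥ → χ ⟨z, hz⟩ = s := fun χ hne =>
    hM.chi_eq_of_bit hne hne0 hz (CharTwo.add_eq_zero.mp (hd _ (h.bit_add_mem hE hne hne0)))
  have hz2 : z * z = 1 := hM.ctr_sq hz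
  have hop : (s • ρ z : End K W) = 1 := by
    refine Cfsg.Agent.GenA.ShultGross.Two.eq_one_of_joint (fun u : ctr E => ρ (u : Y)) (fun u v => ?_)
      _ (fun u => ?_) (N := 2) ?_ ?_ (fun χ w hw => ?_)
    · rw [Commute, SemiconjBy, ← map_mul, ← map_mul, (mem_ctr.mp v.2).2 _ (mem_ctr.mp u.2).1]
    · refine Commute.smul_left ?_ s
      rw [Commute, SemiconjBy, ← map_mul, ← map_mul, (mem_ctr.mp u.2).2 z hz.1]
    · exact hM.qne
    · rw [sq, smul_mul_smul_comm, hss, ← map_mul, hz2, map_one, one_smul]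
    · rcases eq_or_ne w 0 with rfl | hw0
      · exact map_zero _
      have hne : piece ρ E χ ≠ ⊥ := fun e => hw0 ((Submodule.mem_bot K).mp (e ▸ hw))
      rw [LinearMap.smul_apply, mem_piece.mp hw ⟨z, hz⟩, smul_smul, hsame χ hne, hss, one_smul]
  have hrz : ρ z = s • (1 : End K W) := by rw [← hop, smul_smul, hss, one_smul]
  have hzG : z ∈ G := hE.le h hz.1
  refine mem_Zc.mpr ⟨hzG, fun g hg => ?_⟩
  refine commutatorElement_eq_one_iff_mul_comm.mp (h.faith _ ?_ ?_)
  · rw [commutatorElement_def]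
    exact mul_mem (mul_mem (mul_mem hg hzG) (inv_mem hg)) (inv_mem hzG)
  · rw [commutatorElement_def, map_mul, map_mul, map_mul, hrz, mul_smul_comm, mul_one, smul_mul_assoc,
      ← map_mul, mul_inv_cancel, map_one, ← hrz, ← map_mul, mul_inv_cancel, map_one]

end Cfsg.Agent.Lib.ShultFlavell
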