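import Cfsg.Agent.Lib.ShultFlavell.CaseTwo

/-!
The last step, first part: the action of the stabiliser of a point on `E / ctr E` and on `PZ / Zc`.
-/

set_option autoImplicit false
set_option linter.style.haveILetI false
set_option linter.unusedSectionVars false

namespace Cfsg.Agent.Lib.ShultFlavell

open Module (End)
open scoped commutatorElement

variable {K : Type*} [Field K] {W : Type*} [AddCommGroup W] [Module K W]
variable {Y : Type*} [Group Y] [Finite Y]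
variable {ρ : Y →* End K W} {a : Y} {r p m : ℕ} {G E : Subgroup Y}
variable [IsAlgClosed K] [FiniteDimensional K W] [Nontrivial W] [CharP K p]

theorem Fl.add_self (x : Fl m) : x + x = 0 := CharTwo.add_self_eq_zero x

theorem Fl.sq_inj {u v : Fl m} (h : u * u = v * v) : u = v := by
  have h2 : (u + v) * (u + v) = 0 := by
    rw [show (u + v) * (u + v) = (u * u + v * v) + (u * v + u * v) by ring, h, Fl.add_self, Fl.add_self,
      add_zero]
  exact CharTwo.add_eq_zero.mp (mul_self_eq_zero.mp h2)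

theorem Fl.conj_fix_sqrt {u s : Fl m} (hu : conj m u = u) (hs : s * s = u) : conj m s = s :=
  Fl.sq_inj (by rw [← map_mul, hs, hu])

theorem Fl.exists_sqrt (u : Fl m) : ∃ s : Fl m, s * s = u := by
  obtain ⟨s, hs⟩ := (FiniteField.isSquare_of_char_two (ringChar.eq (Fl m) 2) u)
  exact ⟨s, hs.symm⟩

theorem Fl.norm_eq_zero {u : Fl m} : u * conj m u = 0 ↔ u = 0 := by
  rw [mul_eq_zero, or_iff_left_of_imp]
  exact fun h => (conj m).injective (by rw [h, map_zero])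

/-- An additive map commuting with multiplication by an element of order `2 ^ m + 1` is a multiplication. -/
theorem Fl.eq_mul_of_omega (hp : (2 ^ m + 1).Prime) (hm : 1 ≤ m) {ω : Fl m} (hω : ω ≠ 1)
    (hωp : ω ^ (2 ^ m + 1) = 1) (f : Fl m →+ Fl m) (hf : ∀ v, f (ω * v) = ω * f v) (v : Fl m) :
    f v = f 1 * v := by
  classical
  haveI := Fact.mk hp
  let U : AddSubgroup (Fl m) :=
    { carrier := {v | f v = f 1 * v}
      add_mem' := fun {x y} (hx : f x = f 1 * x) (hy : f y = f 1 * y) => by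
        show f (x + y) = f 1 * (x + y)
        rw [map_add, hx, hy, mul_add]
      zero_mem' := by show f 0 = f 1 * 0; rw [map_zero, mul_zero]
      neg_mem' := fun {x} (hx : f x = f 1 * x) => by show f (-x) = f 1 * -x; rwa [CharTwo.neg_eq] }
  have hUω : ∀ v ∈ U, ω * v ∈ U := fun v (hv : f v = f 1 * v) => by
    show f (ω * v) = f 1 * (ω * v)
    rw [hf, hv]; ring
  have h1U : (1 : Fl m) ∈ U := by show f 1 = f 1 * 1; rw [mul_one]
  haveI := Fintype.ofFinite U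
  let g : Function.End U := fun v => ⟨ω * v, hUω v v.2⟩
  have hgk : ∀ (k : ℕ) (v : U), ((g^[k] v : U) : Fl m) = ω ^ k * (v : Fl m) := by
    intro k v
    induction k with
    | zero => rw [Function.iterate_zero_apply, pow_zero, one_mul]
    | succ k ih =>
      rw [Function.iterate_succ_apply', pow_succ', mul_assoc, ← ih]
  have hgr : g^[(2 ^ m + 1) ^ 1] = id :=
    funext fun v => Subtype.ext (by rw [pow_one, hgk, hωp, one_mul]; rfl)
  have hone : Fintype.card (Function.fixedPoints g) = 1 := by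
    rw [Fintype.card_eq_one_iff]
    refine ⟨⟨0, Subtype.ext (mul_zero _)⟩, fun ⟨v, hv⟩ => Subtype.ext (Subtype.ext ?_)⟩
    have h1 : ω * (v : Fl m) = v := congrArg Subtype.val hv
    show (v : Fl m) = 0
    by_contra h0
    exact hω ((mul_eq_right₀ h0).mp h1)
  have hmod := Equiv.Perm.card_fixedPoints_modEq (f := g) (p := 2 ^ m + 1) (n := 1) hgr
  rw [show Fintype.card (Function.fixedPoints g) = 1 by convert hone, ← Nat.card_eq_fintype_card] at hmod
  have hdvd : Nat.card U ∣ 2 ^ (2 * m) := card_Fl hm ▸ AddSubgroup.card_addSubgroup_dvd_card U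
  obtain ⟨j, hj, hjc⟩ := (Nat.dvd_prime_pow Nat.prime_two).mp hdvd
  have hj1 : 1 ≤ j := by
    by_contra h0
    obtain rfl : j = 0 := by omega
    rw [pow_zero] at hjc
    exact one_ne_zero (congrArg Subtype.val ((Nat.card_eq_one_iff_unique.mp hjc).1.elim (⟨1, h1U⟩ : U) 0))
  rw [hjc] at hmod
  have hjj : j = 2 * m := le_antisymm hj (two_pow_order hj1 hmod)
  have htop : U = ⊤ := AddSubgroup.eq_top_of_card_eq _ (by rw [hjc, hjj, card_Fl hm])
  have hv : v ∈ U := htop ▸ AddSubgroup.mem_top v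
  exact hv

/-- The hypotheses of the last step. -/
structure FinalData (ρ : Y →* End K W) (a : Y) (r p m : ℕ) (G E : Subgroup Y) where
  ctx : Ctx ρ a r p G
  isE : IsE a G E
  ti : TI G E
  sw : Swaps a G E
  hr : r = 2 ^ m + 1
  nd : Norm a m G E

namespace FinalData

variable (D : FinalData ρ a r p m G E)

theorem one_le (D : FinalData ρ a r p m G E) : 1 ≤ m := le_trans one_le_two D.nd.two_le

theorem mv (D : FinalData ρ a r p m G E) : Moved ρ a r E 2 := D.isE.moved D.ctx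

theorem conjE {h x : Y} (hh : h ∈ ptH G E) (hx : x ∈ E) : h * x * h⁻¹ ∈ E :=
  (Subgroup.mem_normalizer_iff.mp hh.2 x).mp hx

/-! #### Modulo the centre -/

theorem z_conj (D : FinalData ρ a r p m G E) {z : Y} (hz : z ∈ Zc G) (g : Y) : g * z * g⁻¹ = z :=
  D.ctx.conj_Zc hz g

theorem conj_mem_Z_iff (D : FinalData ρ a r p m G E) {z : Y} (g : Y) :
    g * z * g⁻¹ ∈ Zc G ↔ z ∈ Zc G := by
  refine ⟨fun h => ?_, fun h => by rwa [D.z_conj h g]⟩
  by_contra hz
  exact D.ctx.conj_not_Zc hz g h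

theorem conj_mem_Z_iff' (D : FinalData ρ a r p m G E) {z : Y} (g : Y) :
    g⁻¹ * z * g ∈ Zc G ↔ z ∈ Zc G := by
  simpa using D.conj_mem_Z_iff (z := z) g⁻¹

theorem Z_le_H (D : FinalData ρ a r p m G E) : Zc G ≤ ptH G E :=
  Zc_le_PZ.trans (PZ_le D.ctx D.isE)

theorem P_le_G (D : FinalData ρ a r p m G E) : PZ G E ≤ G := (PZ_le D.ctx D.isE).trans ptH_le

/-! #### The scalar of an element of `H` -/

theorem phi_one : D.nd.φ 1 = 0 := by
  have := D.nd.add 1 (one_mem E) 1 (one_mem E)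
  rw [one_mul] at this
  exact left_eq_add.mp this

theorem phi_inv {x : Y} (hx : x ∈ E) : D.nd.φ x⁻¹ = D.nd.φ x := by
  have h1 := D.nd.add x hx x⁻¹ (inv_mem hx)
  rw [mul_inv_cancel, D.phi_one, eq_comm, add_eq_zero_iff_eq_neg, CharTwo.neg_eq] at h1
  exact h1.symm

theorem phi_eq_iff {x y : Y} (hx : x ∈ E) (hy : y ∈ E) : D.nd.φ x = D.nd.φ y ↔ y⁻¹ * x ∈ ctr E := by
  rw [← D.nd.ker _ (mul_mem (inv_mem hy) hx), D.nd.add _ (inv_mem hy) _ hx, D.phi_inv hy,
    CharTwo.add_eq_zero, eq_comm]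

theorem phi_conj_E {e x : Y} (he : e ∈ E) (hx : x ∈ E) : D.nd.φ (e * x * e⁻¹) = D.nd.φ x := by
  rw [D.nd.add _ (mul_mem he hx) _ (inv_mem he), D.nd.add _ he _ hx, D.phi_inv he,
    add_comm (D.nd.φ e) (D.nd.φ x), add_assoc, Fl.add_self, add_zero]

/-- A fixed preimage of an element of the field. -/
noncomputable def pre (u : Fl m) : Y := (D.nd.surj u).choose

theorem pre_mem (u : Fl m) : D.pre u ∈ E := (D.nd.surj u).choose_spec.1

theorem phi_pre (u : Fl m) : D.nd.φ (D.pre u) = u := (D.nd.surj u).choose_spec.2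

/-- The scalar by which an element of `H` acts on `E / ctr E`. -/
noncomputable def sc (h : Y) : Fl m := D.nd.φ (h * D.pre 1 * h⁻¹)

theorem phi_conj {h x : Y} (hh : h ∈ ptH G E) (hx : x ∈ E) :
    D.nd.φ (h * x * h⁻¹) = D.sc h * D.nd.φ x := by
  have hp : (2 ^ m + 1).Prime := D.hr ▸ D.ctx.fpf.prime
  -- it is enough to treat an element commuting with `a`
  suffices key : ∀ c ∈ ptH G E, Commute c a → ∃ s, ∀ y ∈ E, D.nd.φ (c * y * c⁻¹) = s * D.nd.φ y by
    obtain ⟨e, he, c, hc, hca, rfl⟩ := D.ctx.ptH_split D.isE hh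
    obtain ⟨s, hs⟩ := key c hc hca
    have h1 : ∀ y ∈ E, D.nd.φ (c * e * y * (c * e)⁻¹) = s * D.nd.φ y := fun y hy => by
      rw [show c * e * y * (c * e)⁻¹ = c * (e * y * e⁻¹) * c⁻¹ by group,
        hs _ (mul_mem (mul_mem he hy) (inv_mem he)), D.phi_conj_E he hy]
    rw [sc, h1 x hx, h1 _ (D.pre_mem 1), D.phi_pre, mul_one]
  intro c hc hca
  have hwd : ∀ y ∈ E, ∀ y' ∈ E, D.nd.φ y = D.nd.φ y' → D.nd.φ (c * y * c⁻¹) = D.nd.φ (c * y' * c⁻¹) := by
    intro y hy y' hy' e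
    rw [D.phi_eq_iff (conjE hc hy) (conjE hc hy')]
    have := D.mv.mem_ctr_conj hc.2 ((D.phi_eq_iff hy hy').mp e)
    rwa [show c * (y'⁻¹ * y) * c⁻¹ = (c * y' * c⁻¹)⁻¹ * (c * y * c⁻¹) by group] at this
  let f : Fl m →+ Fl m :=
    { toFun := fun v => D.nd.φ (c * D.pre v * c⁻¹)
      map_zero' := by
        rw [hwd _ (D.pre_mem 0) 1 (one_mem E) (by rw [D.phi_pre, D.phi_one]), mul_one, mul_inv_cancel,
          D.phi_one]
      map_add' := fun v w => by
        rw [hwd _ (D.pre_mem _) _ (mul_mem (D.pre_mem v) (D.pre_mem w))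
            (by rw [D.phi_pre, D.nd.add _ (D.pre_mem v) _ (D.pre_mem w), D.phi_pre, D.phi_pre]),
          show c * (D.pre v * D.pre w) * c⁻¹ = c * D.pre v * c⁻¹ * (c * D.pre w * c⁻¹) by group,
          D.nd.add _ (conjE hc (D.pre_mem v)) _ (conjE hc (D.pre_mem w))] }
  have ha : ∀ y ∈ E, a * y * a⁻¹ ∈ E := fun y hy => (Subgroup.mem_normalizer_iff.mp D.isE.norm y).mp hy
  have hfω : ∀ v, f (D.nd.ω * v) = D.nd.ω * f v := by
    intro v
    show D.nd.φ (c * D.pre (D.nd.ω * v) * c⁻¹) = D.nd.ω * D.nd.φ (c * D.pre v * c⁻¹)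
    rw [hwd _ (D.pre_mem _) _ (ha _ (D.pre_mem v)) (by rw [D.phi_pre, D.nd.equiv _ (D.pre_mem v), D.phi_pre]),
      ← D.nd.equiv _ (conjE hc (D.pre_mem v))]
    congr 1
    calc c * (a * D.pre v * a⁻¹) * c⁻¹ = (c * a) * D.pre v * (c * a)⁻¹ := by group
      _ = _ := by rw [hca.eq]; group
  refine ⟨f 1, fun y hy => ?_⟩
  rw [← Fl.eq_mul_of_omega hp D.one_le D.nd.omega_ne D.nd.omega_pow f hfω]
  exact hwd _ hy _ (D.pre_mem _) (D.phi_pre _).symm

theorem sc_mul {h h' : Y} (hh : h ∈ ptH G E) (hh' : h' ∈ ptH G E) : D.sc (h * h') = D.sc h * D.sc h' := by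
  have e := D.phi_conj hh (conjE hh' (D.pre_mem 1))
  rw [show D.sc (h * h') = D.nd.φ (h * (h' * D.pre 1 * h'⁻¹) * h⁻¹) by unfold sc; congr 1; group, e]
  rfl

theorem sc_of_mem_E {e : Y} (he : e ∈ E) : D.sc e = 1 := by
  rw [sc, D.phi_conj_E he (D.pre_mem 1), D.phi_pre]

theorem sc_one : D.sc 1 = 1 := D.sc_of_mem_E (one_mem E)

theorem sc_Z {z : Y} (hz : z ∈ Zc G) : D.sc z = 1 := by
  rw [sc, ← D.ctx.comm_Zc hz, mul_inv_cancel_right, D.phi_pre]

theorem sc_inv {h : Y} (hh : h ∈ ptH G E) : D.sc h * D.sc h⁻¹ = 1 := by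
  rw [← D.sc_mul hh (inv_mem hh), mul_inv_cancel, D.sc_one]

theorem sc_ne {h : Y} (hh : h ∈ ptH G E) : D.sc h ≠ 0 := left_ne_zero_of_mul_eq_one (D.sc_inv hh)

theorem sc_conj {h g : Y} (hh : h ∈ ptH G E) (hg : g ∈ ptH G E) : D.sc (g⁻¹ * h * g) = D.sc h := by
  rw [D.sc_mul (mul_mem (inv_mem hg) hh) hg, D.sc_mul (inv_mem hg) hh, mul_comm, ← mul_assoc, D.sc_inv hg,
    one_mul]

theorem sc_pow {h : Y} (hh : h ∈ ptH G E) (k : ℕ) : D.sc (h ^ k) = D.sc h ^ k := by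
  induction k with
  | zero => simp [D.sc_one]
  | succ k ih => rw [pow_succ, D.sc_mul (pow_mem hh k) hh, ih, pow_succ]

/-- The scalars lie in the fixed field. -/
theorem sc_conj_eq {h : Y} (hh : h ∈ ptH G E) : conj m (D.sc h) = D.sc h := by
  have h1 : orderOf (D.sc h) ∣ orderOf h :=
    orderOf_dvd_of_pow_eq_one (by rw [← D.sc_pow hh, pow_orderOf_eq_one, D.sc_one])
  have h2 : orderOf (D.sc h) ∣ (2 ^ m - 1) * r := by
    refine orderOf_dvd_of_pow_eq_one ?_
    have hc := card_Fl D.one_le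
    rw [Nat.card_eq_fintype_card] at hc
    have := FiniteField.pow_card_sub_one_eq_one _ (D.sc_ne hh)
    rw [hc] at this
    rw [show (2 ^ m - 1) * r = 2 ^ (2 * m) - 1 by
      rw [D.hr, mul_comm, ← Nat.sq_sub_sq, one_pow, ← pow_mul, mul_comm]]
    exact this
  have h3 : orderOf (D.sc h) ∣ 2 ^ m - 1 :=
    (((D.ctx.order_coprime (ptH_le hh)).coprime_dvd_left h1).dvd_of_dvd_mul_right h2)
  have h4 : D.sc h ^ (2 ^ m - 1) = 1 := orderOf_dvd_iff_pow_eq_one.mp h3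
  rw [conj_apply, show 2 ^ m = (2 ^ m - 1) + 1 from (Nat.sub_add_cancel Nat.one_le_two_pow).symm, pow_succ,
    h4, one_mul]

theorem exists_split {h : Y} (hh : h ∈ ptH G E) :
    ∃ c e, c ∈ ptH G E ∧ Commute c a ∧ e ∈ E ∧ h = c * e ∧ D.sc c = D.sc h := by
  obtain ⟨e, he, c, hc, hca, rfl⟩ := D.ctx.ptH_split D.isE hh
  exact ⟨c, e, hc, hca, he, rfl, by rw [D.sc_mul hc (D.ctx.E_le_ptH D.isE he), D.sc_of_mem_E he, mul_one]⟩

/-- An element commuting with `a` with trivial scalar centralises `E`. -/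
theorem centralizes {c : Y} (hc : c ∈ ptH G E) (hca : Commute c a) (hs : D.sc c = 1) :
    ∀ x ∈ E, c * x = x * c := by
  refine D.mv.centralizes_of_ctr hc.2 hca (D.ctx.order_coprime (ptH_le hc)) fun z hz => ?_
  have hle : ⁅E, E⁆ ≤ Subgroup.centralizer {c} := by
    rw [Subgroup.commutator_le]
    intro x hx y hy
    have hu : ∀ w ∈ E, w⁻¹ * (c * w * c⁻¹) ∈ ctr E := fun w hw =>
      (D.phi_eq_iff (conjE hc hw) hw).mp (by rw [D.phi_conj hc hw, hs, one_mul])
    have e1 : c * ⁅x, y⁆ * c⁻¹ = ⁅x * (x⁻¹ * (c * x * c⁻¹)), y * (y⁻¹ * (c * y * c⁻¹))⁆ := by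
      simp [commutatorElement_def, mul_assoc]
    have e2 : ⁅x * (x⁻¹ * (c * x * c⁻¹)), y * (y⁻¹ * (c * y * c⁻¹))⁆ = ⁅x, y⁆ := by
      have hy' : y * (y⁻¹ * (c * y * c⁻¹)) ∈ E := mul_mem hy (hu y hy).1
      rw [commutatorElement_mul_left_eq_conj_mul,
        commutatorElement_eq_one_iff_commute.mpr ((mem_ctr.mp (hu x hx)).2 _ hy').symm, mul_one,
        mul_inv_cancel, one_mul, commutatorElement_mul_right_eq_mul_conj,
        commutatorElement_eq_one_iff_commute.mpr ((mem_ctr.mp (hu y hy)).2 _ hx), mul_one,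
        mul_inv_cancel_right]
    rw [Subgroup.mem_centralizer_singleton_iff]
    exact (mul_inv_eq_iff_eq_mul.mp (e1.trans e2)).symm
  rw [D.mv.ctr_eq] at hz
  exact (Subgroup.mem_centralizer_singleton_iff.mp (hle hz)).symm

/-- An element with trivial scalar centralises `PZ`. -/
theorem commute_P {h : Y} (hh : h ∈ ptH G E) (hs : D.sc h = 1) {z : Y} (hz : z ∈ PZ G E) : Commute h z := by
  obtain ⟨c, e, hc, hca, he, rfl, hsc⟩ := D.exists_split hh
  obtain ⟨u, hu, v, hv, rfl⟩ := (mem_PZ D.ctx).mp hz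
  refine Commute.mul_right ?_ (D.ctx.center_commute hv _)
  exact (show Commute c u from D.centralizes hc hca (hsc.trans hs) u (mem_ctr.mp hu).1).mul_left
    ((mem_ctr.mp hu).2 e he)

/-- A fourth power of an element with trivial scalar centralises `E` and commutes with `a`. -/
theorem pow_four {h : Y} (hh : h ∈ ptH G E) (hs : D.sc h = 1) :
    Commute (h ^ 4) a ∧ ∀ x ∈ E, h ^ 4 * x = x * h ^ 4 := by
  obtain ⟨c, e, hc, hca, he, rfl, hsc⟩ := D.exists_split hh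
  have hcE := D.centralizes hc hca (hsc.trans hs)
  have he4 : e ^ 4 = 1 := by
    rw [show e ^ 4 = e ^ 2 * e ^ 2 by rw [← pow_add]]
    exact D.mv.ctr_sq (D.mv.sq_mem_ctr he)
  rw [(show Commute c e from hcE e he).mul_pow, he4, mul_one]
  exact ⟨hca.pow_left 4, fun x hx => (show Commute c x from hcE x hx).pow_left 4⟩

/-! #### The norm on `PZ` -/

/-- The norm of a square root. -/
noncomputable def nu (z : Y) : Fl m :=
  open Classical in
  if hz : z ∈ PZ G E then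
    D.nd.φ (D.nd.sq_surj z hz).choose * conj m (D.nd.φ (D.nd.sq_surj z hz).choose) else 0

theorem nu_eq {z x : Y} (hz : z ∈ PZ G E) (hx : x ∈ E) (e : z * (x ^ 2)⁻¹ ∈ Zc G) :
    D.nu z = D.nd.φ x * conj m (D.nd.φ x) := by
  rw [nu, dif_pos hz]
  obtain ⟨h1, h2⟩ := (D.nd.sq_surj z hz).choose_spec
  refine (D.nd.sq _ h1 _ hx).mp ?_
  have := mul_mem (inv_mem h2) e
  rwa [mul_inv_rev, inv_inv, mul_assoc, inv_mul_cancel_left] at this

theorem nu_eq_iff {z z' : Y} (hz : z ∈ PZ G E) (hz' : z' ∈ PZ G E) :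
    D.nu z = D.nu z' ↔ z * z'⁻¹ ∈ Zc G := by
  obtain ⟨x, hx, e⟩ := D.nd.sq_surj z hz
  obtain ⟨x', hx', e'⟩ := D.nd.sq_surj z' hz'
  rw [D.nu_eq hz hx e, D.nu_eq hz' hx' e', ← D.nd.sq x hx x' hx']
  have key : z * z'⁻¹ = (z * (x ^ 2)⁻¹) * (x ^ 2 * (x' ^ 2)⁻¹) * (z' * (x' ^ 2)⁻¹)⁻¹ := by group
  rw [key, Subgroup.mul_mem_cancel_right _ (inv_mem e'), Subgroup.mul_mem_cancel_left _ e]

theorem nu_one : D.nu 1 = 0 := by
  rw [D.nu_eq (one_mem _) (one_mem E) (by simp), D.phi_one, zero_mul]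

theorem nu_eq_zero_iff {z : Y} (hz : z ∈ PZ G E) : D.nu z = 0 ↔ z ∈ Zc G := by
  rw [← D.nu_one, D.nu_eq_iff hz (one_mem _), inv_one, mul_one]

theorem nu_fix {z : Y} (hz : z ∈ PZ G E) : conj m (D.nu z) = D.nu z := by
  obtain ⟨x, hx, e⟩ := D.nd.sq_surj z hz
  rw [D.nu_eq hz hx e, map_mul, conj_conj D.one_le, mul_comm]

theorem nu_conj {h z : Y} (hh : h ∈ ptH G E) (hz : z ∈ PZ G E) :
    D.nu (h * z * h⁻¹) = D.sc h * D.sc h * D.nu z := by
  obtain ⟨x, hx, e⟩ := D.nd.sq_surj z hz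
  rw [D.nu_eq hz hx e, D.nu_eq (D.ctx.mem_PZ_conj hh.2 D.isE hz) (conjE hh hx), D.phi_conj hh hx,
    map_mul, D.sc_conj_eq hh]
  · ring
  · rw [show h * z * h⁻¹ * ((h * x * h⁻¹) ^ 2)⁻¹ = h * (z * (x ^ 2)⁻¹) * h⁻¹ by rw [conj_pow]; group]
    rwa [D.conj_mem_Z_iff]

theorem exists_nu {s : Fl m} (hs : conj m s = s) : ∃ z ∈ PZ G E, D.nu z = s * s := by
  obtain ⟨x, hx, rfl⟩ := D.nd.surj s
  have hz : x ^ 2 ∈ PZ G E := ctr_le_PZ (D.mv.sq_mem_ctr hx)
  exact ⟨x ^ 2, hz, by rw [D.nu_eq hz hx (by simp), hs]⟩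

theorem exists_noncentral : ∃ y ∈ PZ G E, y ∉ Zc G ∧ D.nu y = 1 := by
  obtain ⟨y, hy, e⟩ := D.exists_nu (s := 1) (map_one _)
  rw [one_mul] at e
  exact ⟨y, hy, fun hZ => one_ne_zero (e.symm.trans ((D.nu_eq_zero_iff hy).mpr hZ)), e⟩

theorem exists_scalar_ne (D : FinalData ρ a r p m G E) : ∃ s : Fl m, conj m s = s ∧ s ≠ 0 ∧ s ≠ 1 := by
  have hm := D.one_le
  let f : Fl m →+ Fl m := AddMonoidHom.id _ + (conj m).toAddMonoidHom
  by_contra hcon
  push Not at hcon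
  have hker : ∀ u, f u = 0 → u = 0 ∨ u = 1 := by
    intro u hu
    have hu' : u + conj m u = 0 := hu
    by_cases h0 : u = 0
    · exact Or.inl h0
    · exact Or.inr (hcon u (CharTwo.add_eq_zero.mp hu').symm h0)
  have hrange : ∀ u, f u = 0 ∨ f u = 1 := by
    intro u
    by_cases h0 : f u = 0
    · exact Or.inl h0
    · refine Or.inr (hcon _ ?_ h0)
      show conj m (u + conj m u) = u + conj m u
      rw [map_add, conj_conj hm, add_comm]
  have hsmall : ∀ S : AddSubgroup (Fl m), (∀ u ∈ S, u = 0 ∨ u = 1) → Nat.card S ≤ 2 := by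
    intro S hS
    calc Nat.card S ≤ ({0, 1} : Set (Fl m)).ncard := by
          rw [← SetLike.coe_sort_coe, Nat.card_coe_set_eq]
          exact Set.ncard_le_ncard (fun u hu => by simpa using hS u hu) (Set.toFinite _)
      _ ≤ 2 := (Set.ncard_insert_le _ _).trans (by simp)
  have h1 : Nat.card f.range * Nat.card f.ker = Nat.card (Fl m) := by
    rw [← AddSubgroup.card_mul_index f.ker, AddSubgroup.index_ker, mul_comm]
  have h2 := hsmall f.ker fun u hu => hker u hu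
  have h3 := hsmall f.range fun u hu => by obtain ⟨v, rfl⟩ := hu; exact hrange v
  have h4 : 2 ^ 4 ≤ 2 ^ (2 * m) := Nat.pow_le_pow_right (by norm_num) (by have := D.nd.two_le; omega)
  rw [card_Fl hm] at h1
  nlinarith

end FinalData

end Cfsg.Agent.Lib.ShultFlavell
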