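import Cfsg.Agent.Lib.ShultFlavell.FinalBasic

/-!
The last step, second part: involutions, and the stabilisers of two points.
-/

set_option autoImplicit false
set_option linter.style.haveILetI false
set_option linter.unusedSectionVars false

namespace Cfsg.Agent.Lib.ShultFlavell

open Module (End)
open scoped commutatorElement

variable {K : Type*} [Field K] {W : Type*} [AddCommGroup W] [Module K W]
variable {Y : Type*} [Group Y] [Finite Y]
variable {ρ : Y →* End K W} {a : Y} {r p m : ℕ} {G E : Subgroup Y}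
variable [IsAlgClosed K] [FiniteDimensional K W] [Nontrivial W] [CharP K p]

namespace FinalData

variable (D : FinalData ρ a r p m G E)
include D

/-- Every element of `H` with square in the centre of `G` lies in `PZ`. -/
theorem mem_P_of_sq {h : Y} (hh : h ∈ ptH G E) (h2 : h ^ 2 ∈ Zc G) : h ∈ PZ G E := by
  have hsc : ∀ k : Y, k ∈ ptH G E → k ^ 2 ∈ Zc G → D.sc k = 1 := fun k hk hk2 =>
    Fl.sq_inj (by rw [one_mul, ← D.sc_mul hk hk, ← sq, D.sc_Z hk2])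
  by_contra hP
  refine D.sw.trick h hh hP h2 fun z hz g hg hgH => ?_
  by_contra hgout
  set h' := h * z with hh'def
  have hh' : h' ∈ ptH G E := mul_mem hh (PZ_le D.ctx D.isE hz)
  have hs : D.sc h = 1 := hsc h hh h2
  have h'2 : h' ^ 2 ∈ Zc G := by
    rw [hh'def, (D.commute_P hh hs hz).mul_pow]
    exact mul_mem h2 (PZ_sq D.ctx D.isE hz)
  have hs' : D.sc h' = 1 := hsc h' hh' h'2
  obtain ⟨y, hy, hyZ, hy1⟩ := D.exists_noncentral
  obtain ⟨s, hs0, hs1, hs2⟩ := D.exists_scalar_ne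
  obtain ⟨y', hy', hy'1⟩ := D.exists_nu hs0
  have hy'Z : y' ∉ Zc G := fun e => hs1 (mul_self_eq_zero.mp (hy'1.symm.trans ((D.nu_eq_zero_iff hy').mpr e)))
  obtain ⟨k, hk, hkh, hky⟩ := D.sw.fix_trans h' hh' h'2
    (fun w hw => by rw [commutatorElement_eq_one_iff_commute.mpr (D.commute_P hh' hs' hw)]; exact one_mem _)
    g hg hgout hgH y hy hyZ y' hy' hy'Z
  have hk2 : D.sc k * D.sc k = s * s := by
    have := (D.nu_eq_iff (D.ctx.mem_PZ_conj hk.2 D.isE hy) hy').mpr hky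
    rwa [D.nu_conj hk hy, hy1, mul_one, hy'1] at this
  have hks : D.sc k = s := Fl.sq_inj hk2
  obtain ⟨c, e, hc, hca, he, hce, hsce⟩ := D.exists_split hh'
  have hcE := D.centralizes hc hca (hsce.trans hs')
  by_cases hphi : D.nd.φ e = 0
  · -- `h'` commutes with `a` and centralises `E`
    have hec : e ∈ ctr E := (D.nd.ker e he).mp hphi
    have hh'a : Commute h' a := by
      rw [hce]
      exact hca.mul_left (show Commute a e from D.mv.comm_ctr hec).symm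
    have hh'E : ∀ x ∈ E, h' * x = x * h' := fun x hx => by
      rw [hce]
      exact ((show Commute c x from hcE x hx).mul_left ((show Commute x e from (mem_ctr.mp hec).2 x hx).symm)).eq
    have hh'Z : h' ∉ Zc G := fun e => hP (by
      have := mul_mem (Zc_le_PZ e) (inv_mem hz)
      rwa [hh'def, mul_inv_cancel_right] at this)
    have hX := D.ctx.le_ptH D.isE (D.ctx.centralizer_lt (ptH_le hh') hh'Z)
      (D.ctx.a_norm_centralizer hh'a.eq.symm)
      (le_inf (D.isE.le D.ctx) fun x hx => Subgroup.mem_centralizer_singleton_iff.mpr (hh'E x hx).symm)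
    have hg2 : (g⁻¹ * h' * g) ^ 2 ∈ Zc G := by
      rw [show (g⁻¹ * h' * g) ^ 2 = g⁻¹ * h' ^ 2 * g by rw [sq, sq]; group]
      exact (D.conj_mem_Z_iff' g).mpr h'2
    have hcomm := D.commute_P hgH (hsc _ hgH hg2) hy
    have hv : g * y * g⁻¹ ∈ ptH G E := by
      refine hX (show g * y * g⁻¹ ∈ G ⊓ _ from Subgroup.mem_inf.mpr ⟨mul_mem (mul_mem hg (D.P_le_G hy)) (inv_mem hg), Subgroup.mem_centralizer_singleton_iff.mpr ?_⟩)
      calc g * y * g⁻¹ * h' = g * (y * (g⁻¹ * h' * g)) * g⁻¹ := by group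
        _ = g * (g⁻¹ * h' * g * y) * g⁻¹ := by rw [← hcomm.eq]
        _ = h' * (g * y * g⁻¹) := by group
    exact hyZ (D.ti.ti g hg hgout y hy hv)
  · -- the scalar of `k` is one
    refine hs2 ?_
    rw [← hks]
    have hkhk : k * h' * k⁻¹ * h'⁻¹ ∈ Zc G := by
      have := inv_mem hkh
      rwa [commutatorElement_inv, commutatorElement_def] at this
    set e' := k * e * k⁻¹ with he'def
    have he' : e' ∈ E := conjE hk he
    have heq : c⁻¹ * (k * c * k⁻¹) = (k * h' * k⁻¹ * h'⁻¹) * (e * e'⁻¹) := by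
      rw [he'def]
      calc c⁻¹ * (k * c * k⁻¹) = c⁻¹ * ((k * h' * k⁻¹ * h'⁻¹) * c) * (e * (k * e * k⁻¹)⁻¹) := by
            rw [hce]; group
        _ = c⁻¹ * (c * (k * h' * k⁻¹ * h'⁻¹)) * (e * (k * e * k⁻¹)⁻¹) := by rw [D.ctx.comm_Zc hkhk c]
        _ = _ := by group
    have hcent : ∀ x ∈ E, Commute (e * e'⁻¹) x := by
      intro x hx
      have h1 : Commute (c⁻¹ * (k * c * k⁻¹)) x := by
        refine Commute.mul_left (show Commute c x from hcE x hx).inv_left ?_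
        have hx' : k⁻¹ * x * k ∈ E := by simpa using conjE (inv_mem hk) hx
        calc k * c * k⁻¹ * x = k * (c * (k⁻¹ * x * k)) * k⁻¹ := by group
          _ = k * (k⁻¹ * x * k * c) * k⁻¹ := by rw [hcE _ hx']
          _ = x * (k * c * k⁻¹) := by group
      rw [heq] at h1
      have h2 := ((D.ctx.center_commute hkhk x).symm.inv_left).mul_left h1
      rwa [inv_mul_cancel_left] at h2
    have hmem : e * e'⁻¹ ∈ ctr E :=
      mem_ctr.mpr ⟨mul_mem he (inv_mem he'), fun x hx => (hcent x hx).eq.symm⟩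
    have h0 := (D.nd.ker _ (mul_mem he (inv_mem he'))).mpr hmem
    rw [D.nd.add _ he _ (inv_mem he'), D.phi_inv he', he'def, D.phi_conj hk he] at h0
    exact (mul_eq_right₀ hphi).mp (CharTwo.add_eq_zero.mp h0).symm

theorem sc_eq_one_of_sq {h : Y} (hh : h ∈ ptH G E) (h2 : h ^ 2 ∈ Zc G) : D.sc h = 1 :=
  Fl.sq_inj (by rw [one_mul, ← D.sc_mul hh hh, ← sq, D.sc_Z h2])

/-- An involution of `H` fixing a second point is central. -/
theorem mem_Z_of_sq {g h : Y} (hg : g ∈ G) (hgout : g ∉ ptH G E) (hh : h ∈ ptH G E)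
    (hgh : g⁻¹ * h * g ∈ ptH G E) (h2 : h ^ 2 ∈ Zc G) : h ∈ Zc G :=
  D.ti.ti g⁻¹ (inv_mem hg) (fun e => hgout (by simpa using inv_mem e)) h (D.mem_P_of_sq hh h2)
    (by rwa [inv_inv])

theorem mem_Z_of_pow_four {g h : Y} (hg : g ∈ G) (hgout : g ∉ ptH G E) (hh : h ∈ ptH G E)
    (hgh : g⁻¹ * h * g ∈ ptH G E) (h4 : h ^ 4 ∈ Zc G) : h ∈ Zc G := by
  refine D.mem_Z_of_sq hg hgout hh hgh (D.mem_Z_of_sq hg hgout (pow_mem hh 2) ?_ ?_)
  · rw [show g⁻¹ * h ^ 2 * g = (g⁻¹ * h * g) ^ 2 by rw [sq, sq]; group]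
    exact pow_mem hgh 2
  · rwa [← pow_mul]

/-- The two scalars determine an element of the stabiliser of two points. -/
theorem inj_both {g k : Y} (hg : g ∈ G) (hgout : g ∉ ptH G E) (hk : k ∈ ptH G E)
    (hgk : g⁻¹ * k * g ∈ ptH G E) (h1 : D.sc k = 1) (h2 : D.sc (g⁻¹ * k * g) = 1) : k ∈ Zc G := by
  refine D.mem_Z_of_pow_four hg hgout hk hgk ?_
  by_contra hZ
  obtain ⟨hca, hcE⟩ := D.pow_four hk h1
  have hX := D.ctx.le_ptH D.isE (D.ctx.centralizer_lt (ptH_le (pow_mem hk 4)) hZ)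
    (D.ctx.a_norm_centralizer hca.eq.symm)
    (le_inf (D.isE.le D.ctx) fun x hx => Subgroup.mem_centralizer_singleton_iff.mpr (hcE x hx).symm)
  obtain ⟨y, hy, hyZ, -⟩ := D.exists_noncentral
  refine hyZ (D.ti.ti g hg hgout y hy (hX (Subgroup.mem_inf.mpr ⟨mul_mem (mul_mem hg (D.P_le_G hy)) (inv_mem hg),
    Subgroup.mem_centralizer_singleton_iff.mpr ?_⟩)))
  have hc : Commute (g * y * g⁻¹) k := by
    have := (D.commute_P hgk h2 hy).eq
    show g * y * g⁻¹ * k = k * (g * y * g⁻¹)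
    calc g * y * g⁻¹ * k = g * (y * (g⁻¹ * k * g)) * g⁻¹ := by group
      _ = g * (g⁻¹ * k * g * y) * g⁻¹ := by rw [this]
      _ = _ := by group
  exact (hc.pow_right 4).eq

theorem abelian {g k k' : Y} (hg : g ∈ G) (hgout : g ∉ ptH G E) (hk : k ∈ ptH G E)
    (hgk : g⁻¹ * k * g ∈ ptH G E) (hk' : k' ∈ ptH G E) (hgk' : g⁻¹ * k' * g ∈ ptH G E) :
    ⁅k, k'⁆ ∈ Zc G := by
  have hone : ∀ u v : Y, u ∈ ptH G E → v ∈ ptH G E → D.sc ⁅u, v⁆ = 1 := fun u v hu hv => by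
    rw [commutatorElement_def, D.sc_mul (mul_mem (mul_mem hu hv) (inv_mem hu)) (inv_mem hv),
      D.sc_mul (mul_mem hu hv) (inv_mem hu), D.sc_mul hu hv,
      show D.sc u * D.sc v * D.sc u⁻¹ * D.sc v⁻¹ = (D.sc u * D.sc u⁻¹) * (D.sc v * D.sc v⁻¹) by ring,
      D.sc_inv hu, D.sc_inv hv, one_mul]
  have e : g⁻¹ * ⁅k, k'⁆ * g = ⁅g⁻¹ * k * g, g⁻¹ * k' * g⁆ := by simp [commutatorElement_def, mul_assoc]
  refine D.inj_both hg hgout ?_ ?_ (hone _ _ hk hk') (by rw [e]; exact hone _ _ hgk hgk')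
  · rw [commutatorElement_def]; exact mul_mem (mul_mem (mul_mem hk hk') (inv_mem hk)) (inv_mem hk')
  · rw [e, commutatorElement_def]
    exact mul_mem (mul_mem (mul_mem hgk hgk') (inv_mem hgk)) (inv_mem hgk')

/-- Every involution is conjugate to an element of `PZ`. -/
theorem exists_conj_P {t : Y} (ht : t ∈ G) (htZ : t ∉ Zc G) (ht2 : t ^ 2 ∈ Zc G) :
    ∃ l ∈ G, ∃ u ∈ PZ G E, u ∉ Zc G ∧ t = l * u * l⁻¹ := by
  classical
  haveI : Fact (Nat.Prime 2) := ⟨Nat.prime_two⟩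
  obtain ⟨S, hS, hSE⟩ := D.isE
  have hSH : (S : Subgroup G).map G.subtype ≤ ptH G E := by
    refine le_inf (Subgroup.map_subtype_le _) ?_
    rw [hSE]
    exact Subgroup.normalizer_commutator_ge_left _ _
  obtain ⟨i, o, ho, hio⟩ := Nat.exists_eq_pow_mul_and_not_dvd (n := orderOf t)
    (orderOf_pos t).ne' 2 (by norm_num)
  obtain ⟨j, hj⟩ : Odd o := Nat.not_even_iff_odd.mp fun e => ho e.two_dvd
  set t' : Y := t ^ o with ht'
  have ht'G : t' ∈ G := pow_mem ht _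
  have hzz : (t ^ 2) ^ j ∈ Zc G := pow_mem ht2 j
  have hte : t' = t * (t ^ 2) ^ j := by rw [ht', ← pow_mul, ← pow_succ', hj]
  let t'' : G := ⟨t', ht'G⟩
  have hpg : IsPGroup 2 (Subgroup.zpowers t'') := by
    intro ⟨x, hx⟩
    refine ⟨i, Subtype.ext ?_⟩
    obtain ⟨l, rfl⟩ := Subgroup.mem_zpowers_iff.mp hx
    have e1 : t'' ^ 2 ^ i = 1 := Subtype.ext (by
      rw [Subgroup.coe_pow, OneMemClass.coe_one]
      show t' ^ 2 ^ i = 1
      rw [ht', ← pow_mul, mul_comm, ← hio, pow_orderOf_eq_one])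
    show (t'' ^ l) ^ 2 ^ i = 1
    rw [← zpow_natCast, ← zpow_mul, mul_comm, zpow_mul, zpow_natCast, e1, one_zpow]
  obtain ⟨Q, hQ⟩ := hpg.exists_le_sylow
  obtain ⟨l, hl⟩ := MulAction.exists_smul_eq G S Q
  have hmem : t'' ∈ ((l • S : Sylow 2 G) : Subgroup G) := hl ▸ hQ (Subgroup.mem_zpowers t'')
  rw [Sylow.coe_subgroup_smul] at hmem
  obtain ⟨s, hs, hst⟩ := hmem
  have hst' : (l : Y) * (s : Y) * (l : Y)⁻¹ = t' := congrArg Subtype.val hst
  have hsH : (s : Y) ∈ ptH G E := hSH ⟨s, hs, rfl⟩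
  have hsP : (s : Y) * ((t ^ 2) ^ j)⁻¹ ∈ PZ G E := by
    refine mul_mem (D.mem_P_of_sq hsH ?_) (Zc_le_PZ (inv_mem hzz))
    rw [← D.conj_mem_Z_iff (l : Y), show (l : Y) * (s : Y) ^ 2 * (l : Y)⁻¹ = t' ^ 2 by
      rw [← hst', sq, sq]; group, ht', ← pow_mul, mul_comm, pow_mul]
    exact pow_mem ht2 _
  have e : t = (l : Y) * ((s : Y) * ((t ^ 2) ^ j)⁻¹) * (l : Y)⁻¹ := by
    calc t = t' * ((t ^ 2) ^ j)⁻¹ := by rw [hte, mul_inv_cancel_right]
      _ = (l : Y) * (s : Y) * ((l : Y)⁻¹ * ((t ^ 2) ^ j)⁻¹) := by rw [← hst']; group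
      _ = (l : Y) * (s : Y) * (((t ^ 2) ^ j)⁻¹ * (l : Y)⁻¹) := by rw [D.ctx.comm_Zc (inv_mem hzz)]
      _ = _ := by group
  refine ⟨l, l.2, _, hsP, fun hZ => htZ ?_, e⟩
  rw [e]
  exact (D.conj_mem_Z_iff _).mpr hZ

/-- An element inverted and centralised by the exchanging involution. -/
theorem exists_swapper {g : Y} (hg : g ∈ G) (hgout : g ∉ ptH G E) :
    ∃ t ∈ G, t ∉ ptH G E ∧ t ^ 2 ∈ Zc G ∧ g⁻¹ * t ∈ ptH G E ∧ t⁻¹ * g ∈ ptH G E := by
  obtain ⟨y, hy, hyZ, -⟩ := D.exists_noncentral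
  obtain ⟨t, ⟨u, hu, -, l, hl, rfl⟩, hty, -⟩ := D.sw.swap y hy hyZ y hy hyZ g hg hgout
  set t := l * u * l⁻¹ with ht
  have htG : t ∈ G := mul_mem (mul_mem hl (D.P_le_G hu)) (inv_mem hl)
  have ht2 : t ^ 2 ∈ Zc G := by
    rw [ht, conj_pow]
    exact (D.conj_mem_Z_iff l).mpr (PZ_sq D.ctx D.isE hu)
  have hgt : g⁻¹ * t ∈ ptH G E := by
    refine D.ctx.point D.isE hy hyZ (mul_mem (inv_mem hg) htG) ?_
    have e : g⁻¹ * t * y * (g⁻¹ * t)⁻¹ = g⁻¹ * (t * y * t⁻¹ * (g * y * g⁻¹)⁻¹) * g * y := by group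
    rw [e]
    exact mul_mem (Zc_le_PZ ((D.conj_mem_Z_iff' g).mpr hty)) hy
  have htg : t⁻¹ * g ∈ ptH G E := by
    have := inv_mem hgt
    rwa [mul_inv_rev, inv_inv] at this
  refine ⟨t, htG, fun e => hgout ?_, ht2, hgt, htg⟩
  simpa using mul_mem e htg

theorem mem_tH {t x : Y} (ht2 : t ^ 2 ∈ Zc G) (hx : t⁻¹ * x * t ∈ ptH G E) : t * x * t⁻¹ ∈ ptH G E := by
  rwa [show t * x * t⁻¹ = t ^ 2 * (t⁻¹ * x * t) * (t ^ 2)⁻¹ by rw [sq]; group,
    ← D.ctx.comm_Zc ht2, mul_inv_cancel_right]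

theorem tconj {t x : Y} (ht2 : t ^ 2 ∈ Zc G) : t * (t * x * t⁻¹) * t⁻¹ = x := by
  rw [show t * (t * x * t⁻¹) * t⁻¹ = t ^ 2 * x * (t ^ 2)⁻¹ by rw [sq]; group,
    ← D.ctx.comm_Zc ht2, mul_inv_cancel_right]

/-- A transversal of the scalars inverted by the exchanging involution. -/
theorem exists_inverted {t s : Y} (ht : t ∈ G) (htout : t ∉ ptH G E) (ht2 : t ^ 2 ∈ Zc G)
    (hs : s ∈ PZ G E) (hsZ : s ∉ Zc G) :
    ∃ k ∈ ptH G E, t⁻¹ * k * t ∈ ptH G E ∧ t * k * t⁻¹ * k ∈ Zc G ∧ D.sc k * D.sc k = D.nu s := by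
  obtain ⟨y, hy, hyZ, hy1⟩ := D.exists_noncentral
  obtain ⟨t', ⟨u, hu, -, l, hl, rfl⟩, hty, -⟩ := D.sw.swap y hy hyZ s hs hsZ t ht htout
  set t' := l * u * l⁻¹ with ht'
  have ht'G : t' ∈ G := mul_mem (mul_mem hl (D.P_le_G hu)) (inv_mem hl)
  have ht'2 : t' ^ 2 ∈ Zc G := by
    rw [ht', conj_pow]
    exact (D.conj_mem_Z_iff l).mpr (PZ_sq D.ctx D.isE hu)
  set k := t⁻¹ * t' with hk
  have e : k * y * k⁻¹ * s⁻¹ = t⁻¹ * (t' * y * t'⁻¹ * (t * s * t⁻¹)⁻¹) * t := by rw [hk]; group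
  have hks : k * y * k⁻¹ * s⁻¹ ∈ Zc G := by rw [e]; exact (D.conj_mem_Z_iff' t).mpr hty
  have hkH : k ∈ ptH G E := by
    refine D.ctx.point D.isE hy hyZ (mul_mem (inv_mem ht) ht'G) ?_
    have := mul_mem (Zc_le_PZ (E := E) hks) hs
    rwa [inv_mul_cancel_right] at this
  have e2 : t⁻¹ * k * t * k = (t ^ 2)⁻¹ * t' ^ 2 := by rw [hk, sq, sq]; group
  have hZ2 : t⁻¹ * k * t * k ∈ Zc G := by rw [e2]; exact mul_mem (inv_mem ht2) ht'2
  refine ⟨k, hkH, ?_, ?_, ?_⟩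
  · have := mul_mem (D.Z_le_H hZ2) (inv_mem hkH)
    rwa [mul_inv_cancel_right] at this
  · rwa [show t * k * t⁻¹ * k = t ^ 2 * (t⁻¹ * k * t) * (t ^ 2)⁻¹ * k by rw [sq]; group,
      ← D.ctx.comm_Zc ht2, mul_inv_cancel_right]
  · have := (D.nu_eq_iff (D.ctx.mem_PZ_conj hkH.2 D.isE hy) hs).mpr hks
    rwa [D.nu_conj hkH hy, hy1, mul_one] at this

/-- The exchanging involution centralises only the centre of the stabiliser of two points. -/
theorem fixed_trivial {t j : Y} (ht : t ∈ G) (htout : t ∉ ptH G E) (ht2 : t ^ 2 ∈ Zc G)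
    (hj : j ∈ ptH G E) (hjt : t⁻¹ * j * t ∈ ptH G E) (hcomm : ⁅j, t⁆ ∈ Zc G) : j ∈ Zc G := by
  have htZ : t ∉ Zc G := fun e => htout (D.Z_le_H e)
  obtain ⟨l, hl, u, hu, huZ, hlu⟩ := D.exists_conj_P ht htZ ht2
  have hlout : l ∉ ptH G E := fun e =>
    htout (hlu ▸ mul_mem (mul_mem e (PZ_le D.ctx D.isE hu)) (inv_mem e))
  set j' := l⁻¹ * j * l with hj'
  have hju : ⁅j', u⁆ ∈ Zc G := by
    rwa [← D.conj_mem_Z_iff l, show l * ⁅j', u⁆ * l⁻¹ = ⁅j, t⁆ by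
      rw [hj', hlu]; simp [commutatorElement_def, mul_assoc]]
  have hjuP : j' * u * j'⁻¹ ∈ PZ G E := by
    have := mul_mem (Zc_le_PZ (E := E) hju) hu
    rwa [commutatorElement_def, inv_mul_cancel_right] at this
  have hj'H : j' ∈ ptH G E :=
    D.ctx.point D.isE hu huZ (mul_mem (mul_mem (inv_mem hl) (ptH_le hj)) hl) hjuP
  have hsj : D.sc j' = 1 := by
    have hZ1 : j' * u * j'⁻¹ * u⁻¹ ∈ Zc G := hju
    have h1 := (D.nu_eq_iff hjuP hu).mpr hZ1
    rw [D.nu_conj hj'H hu] at h1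
    refine Fl.sq_inj ?_
    rw [one_mul]
    exact (mul_eq_right₀ fun e => huZ ((D.nu_eq_zero_iff hu).mp e)).mp h1
  have hlinv : l⁻¹ ∉ ptH G E := fun e => hlout (by simpa using inv_mem e)
  have hlj : l⁻¹⁻¹ * j' * l⁻¹ = j := by rw [hj']; group
  suffices h4 : j' ^ 4 ∈ Zc G by
    have := D.mem_Z_of_pow_four (inv_mem hl) hlinv hj'H (by rwa [hlj]) h4
    rw [hj'] at this
    exact (D.conj_mem_Z_iff' l).mp this
  by_contra h4
  obtain ⟨hca, hcE⟩ := D.pow_four hj'H hsj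
  have hj4G : j' ^ 4 ∈ G := ptH_le (pow_mem hj'H 4)
  haveI := D.ctx.normal
  haveI hZn : (Zc G).Normal := ⟨fun z hz g => by rwa [D.z_conj hz g]⟩
  set π := QuotientGroup.mk' (Zc G)
  set X : Subgroup Y := G ⊓ (Subgroup.centralizer {π (j' ^ 4)}).comap π with hX
  have hmemX : ∀ x ∈ G, x ∈ X ↔ ⁅x, j' ^ 4⁆ ∈ Zc G := fun x hx => by
    rw [hX, Subgroup.mem_inf, Subgroup.mem_comap, Subgroup.mem_centralizer_singleton_iff,
      and_iff_right hx, ← commutatorElement_eq_one_iff_mul_comm, ← map_commutatorElement]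
    exact QuotientGroup.eq_one_iff _
  have hXlt : X < G := by
    refine inf_le_left.lt_of_ne fun e => h4 (D.ctx.mem_Zc_of_commutator hj4G fun g hg => ?_)
    have := inv_mem ((hmemX g hg).mp (by rw [hX, e]; exact hg))
    rwa [commutatorElement_inv] at this
  have haX : a ∈ Subgroup.normalizer (X : Set Y) := by
    refine mem_normalizer_inf D.ctx.a_norm (Subgroup.le_normalizer ?_)
    rw [Subgroup.mem_comap, Subgroup.mem_centralizer_singleton_iff, ← map_mul, ← map_mul, hca.eq]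
  have hXle := D.ctx.le_ptH D.isE hXlt haX fun x hx => (hmemX x (D.isE.le D.ctx hx)).mpr (by
    rw [commutatorElement_eq_one_iff_commute.mpr (hcE x hx).symm]; exact one_mem _)
  -- every element of the stabiliser of the two points centralises `t`
  have hall : ∀ k ∈ ptH G E, t⁻¹ * k * t ∈ ptH G E → ⁅k, t⁆ ∈ Zc G := by
    intro k hk hkt
    have hkG := ptH_le hk
    have hkl : l⁻¹ * k * l ∈ ptH G E := by
      refine hXle ((hmemX _ (mul_mem (mul_mem (inv_mem hl) hkG) hl)).mpr ?_)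
      have h1 : ⁅k, j⁆ ∈ Zc G := D.abelian ht htout hk hkt hj hjt
      have h2 : π k * π j = π j * π k := by
        rw [← commutatorElement_eq_one_iff_mul_comm, ← map_commutatorElement]
        exact (QuotientGroup.eq_one_iff _).mpr h1
      have h3 : Commute (π (l⁻¹ * k * l)) (π j') := by
        show π (l⁻¹ * k * l) * π j' = π j' * π (l⁻¹ * k * l)
        rw [hj', ← map_mul, ← map_mul]
        simp only [map_mul, map_inv]
        calc (π l)⁻¹ * π k * π l * ((π l)⁻¹ * π j * π l) = (π l)⁻¹ * (π k * π j) * π l := by group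
          _ = (π l)⁻¹ * (π j * π k) * π l := by rw [h2]
          _ = _ := by group
      have h5 := (h3.pow_right 4).eq
      rw [← map_pow, ← commutatorElement_eq_one_iff_mul_comm, ← map_commutatorElement] at h5
      exact (QuotientGroup.eq_one_iff _).mp h5
    set k' := l⁻¹ * k * l with hk'
    have hwP : ⁅k', u⁆ ∈ PZ G E := by
      rw [commutatorElement_def]
      exact mul_mem (D.ctx.mem_PZ_conj hkl.2 D.isE hu) (inv_mem hu)
    have hw : l * ⁅k', u⁆ * l⁻¹ = ⁅k, t⁆ := by rw [hk', hlu]; simp [commutatorElement_def, mul_assoc]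
    rw [← hw, D.conj_mem_Z_iff]
    refine D.ti.ti l hl hlout _ hwP ?_
    rw [hw, commutatorElement_def, show k * t * k⁻¹ * t⁻¹ = k * (t * k⁻¹ * t⁻¹) by group]
    refine mul_mem hk (D.mem_tH ht2 ?_)
    have := inv_mem hkt
    rwa [show (t⁻¹ * k * t)⁻¹ = t⁻¹ * k⁻¹ * t by group] at this
  obtain ⟨s, hs0, hs1, hs2⟩ := D.exists_scalar_ne
  obtain ⟨z, hz, hzs⟩ := D.exists_nu hs0
  have hzZ : z ∉ Zc G := fun e => hs1 (mul_self_eq_zero.mp (hzs.symm.trans ((D.nu_eq_zero_iff hz).mpr e)))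
  obtain ⟨k, hk, hkt, hinv, hsk⟩ := D.exists_inverted ht htout ht2 hz hzZ
  have hk2 : k ^ 2 ∈ Zc G := by
    have := mul_mem (hall k hk hkt) hinv
    rwa [show ⁅k, t⁆ * (t * k * t⁻¹ * k) = k ^ 2 * (k⁻¹ * (⁅k, t⁆ * (t * k * t⁻¹)) * k⁻¹) * k ^ 1 by
      rw [commutatorElement_def, sq, pow_one]; group,
      show k⁻¹ * (⁅k, t⁆ * (t * k * t⁻¹)) * k⁻¹ = k⁻¹ by rw [commutatorElement_def]; group, pow_one,
      inv_mul_cancel_right] at this
  exact hs2 (Fl.sq_inj (by rw [one_mul, ← hzs, ← hsk, D.sc_eq_one_of_sq hk hk2, one_mul]))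

/-- The exchanging involution inverts the stabiliser of two points. -/
theorem inverted {t k : Y} (ht : t ∈ G) (htout : t ∉ ptH G E) (ht2 : t ^ 2 ∈ Zc G)
    (hk : k ∈ ptH G E) (hkt : t⁻¹ * k * t ∈ ptH G E) : t * k * t⁻¹ * k ∈ Zc G := by
  set k1 := t * k * t⁻¹
  have hk1 : k1 ∈ ptH G E := D.mem_tH ht2 hkt
  have hk1t : t⁻¹ * k1 * t ∈ ptH G E := by
    rw [show t⁻¹ * k1 * t = k by simp [k1, mul_assoc]]; exact hk
  refine D.fixed_trivial ht htout ht2 (mul_mem hk1 hk) ?_ ?_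
  · rw [show t⁻¹ * (k1 * k) * t = (t⁻¹ * k1 * t) * (t⁻¹ * k * t) by group]
    exact mul_mem hk1t hkt
  · have e : t * (k1 * k) * t⁻¹ = k * k1 := by
      rw [show t * (k1 * k) * t⁻¹ = (t * k1 * t⁻¹) * (t * k * t⁻¹) by group, D.tconj ht2]
    have h1 : ⁅k1 * k, t⁆ = k1 * k * (t * (k1 * k) * t⁻¹)⁻¹ := by
      rw [commutatorElement_def]; group
    rw [h1, e, show k1 * k * (k * k1)⁻¹ = ⁅k1, k⁆ by rw [commutatorElement_def]; group]
    exact D.abelian ht htout hk1 hk1t hk hkt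

/-- An element of the stabiliser of two points with a trivial scalar at either point is central. -/
theorem inj_one {g k : Y} (hg : g ∈ G) (hgout : g ∉ ptH G E) (hk : k ∈ ptH G E)
    (hgk : g⁻¹ * k * g ∈ ptH G E) (h : D.sc k = 1 ∨ D.sc (g⁻¹ * k * g) = 1) : k ∈ Zc G := by
  obtain ⟨t, ht, htout, ht2, hgt, htg⟩ := D.exists_swapper hg hgout
  have e : t⁻¹ * k * t = (g⁻¹ * t)⁻¹ * (g⁻¹ * k * g) * (g⁻¹ * t) := by group
  have hkt : t⁻¹ * k * t ∈ ptH G E := by rw [e]; exact mul_mem (mul_mem (inv_mem hgt) hgk) hgt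
  have hsc : D.sc (t⁻¹ * k * t) = D.sc (g⁻¹ * k * g) := by rw [e]; exact D.sc_conj hgk hgt
  have hinv : D.sc (t⁻¹ * k * t) * D.sc k = 1 := by
    rw [← D.sc_mul hkt hk, D.sc_Z ?_]
    have := D.inverted ht htout ht2 hk hkt
    rwa [show t * k * t⁻¹ * k = t ^ 2 * (t⁻¹ * k * t) * (t ^ 2)⁻¹ * k by rw [sq]; group,
      ← D.ctx.comm_Zc ht2, mul_inv_cancel_right] at this
  rw [hsc] at hinv
  refine D.inj_both hg hgout hk hgk ?_ ?_
  · rcases h with h | h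
    · exact h
    · rwa [h, one_mul] at hinv
  · rcases h with h | h
    · rwa [h, mul_one] at hinv
    · exact h

/-- Every scalar occurs on the stabiliser of two points. -/
theorem exists_scalar {g : Y} (hg : g ∈ G) (hgout : g ∉ ptH G E) {s : Fl m} (hs : conj m s = s)
    (hs0 : s ≠ 0) : ∃ k ∈ ptH G E, g⁻¹ * k * g ∈ ptH G E ∧ D.sc k = s := by
  obtain ⟨t, ht, htout, ht2, hgt, htg⟩ := D.exists_swapper hg hgout
  obtain ⟨z, hz, hzs⟩ := D.exists_nu hs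
  have hzZ : z ∉ Zc G := fun e => hs0 (mul_self_eq_zero.mp (hzs.symm.trans ((D.nu_eq_zero_iff hz).mpr e)))
  obtain ⟨k, hk, hkt, -, hsk⟩ := D.exists_inverted ht htout ht2 hz hzZ
  refine ⟨k, hk, ?_, Fl.sq_inj (hsk.trans hzs)⟩
  rw [show g⁻¹ * k * g = (t⁻¹ * g)⁻¹ * (t⁻¹ * k * t) * (t⁻¹ * g) by group]
  exact mul_mem (mul_mem (inv_mem htg) hkt) htg

end FinalData

end Cfsg.Agent.Lib.ShultFlavell
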