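import Cfsg.Agent.GenA.ShultGross.TwoStage
import Cfsg.Agent.Lib.Coprime.Commutator

/-!
An element of prime order without fixed vectors: it centralises every invariant abelian subgroup of
order prime to the characteristic.
-/

set_option autoImplicit false
set_option linter.style.haveILetI false

namespace Cfsg.Agent.Lib.ShultFlavell

open Module (End)
open Cfsg.Agent.GenA.ShultGross (eigen_indep)
open Cfsg.Agent.GenA.ShultGross.Two (eigs mem_eigs eq_one_of_joint)

variable {K : Type*} [Field K] {W : Type*} [AddCommGroup W] [Module K W]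
variable {Y : Type*} [Group Y]

/-- `a` has order dividing the prime `r` and fixes no non-zero vector. -/
structure Fpf (ρ : Y →* End K W) (a : Y) (r : ℕ) : Prop where
  prime : r.Prime
  pow : a ^ r = 1
  fix : ∀ w : W, ρ a w = w → w = 0

variable {ρ : Y →* End K W} {a : Y} {r : ℕ}

/-- The sum over the powers kills every vector. -/
theorem Fpf.sum_eq_zero (h : Fpf ρ a r) (w : W) : ∑ i ∈ Finset.range r, (ρ a ^ i) w = 0 := by
  refine h.fix _ ?_
  have hB : ρ a ^ r = 1 := by rw [← map_pow, h.pow, map_one]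
  set f : ℕ → W := fun i => (ρ a ^ i) w with hf
  have h2 : f r = f 0 := by simp [hf, hB]
  have h1 := Finset.sum_range_succ' f r
  rw [Finset.sum_range_succ f r, h2] at h1
  rw [map_sum]
  refine Eq.trans ?_ (add_right_cancel h1).symm
  exact Finset.sum_congr rfl fun i _ => by simp [hf, pow_succ', Module.End.mul_apply]

/-- The order of `a` is not the characteristic. -/
theorem Fpf.cast_ne_zero [Nontrivial W] (h : Fpf ρ a r) : (r : K) ≠ 0 := by
  intro hr
  have hN : IsNilpotent (ρ a - 1) := by
    refine ⟨r, ?_⟩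
    haveI := Fact.mk h.prime
    haveI : CharP K r := by
      rcases CharP.exists K with ⟨c, hc⟩
      have hdvd : c ∣ r := (CharP.cast_eq_zero_iff K c r).mp hr
      rcases (Nat.dvd_prime h.prime).mp hdvd with rfl | rfl
      · exact absurd hc (CharP.false_of_nontrivial_of_char_one (R := K)).elim
      · exact hc
    haveI : Nontrivial (End K W) := by
      obtain ⟨v, hv⟩ := exists_ne (0 : W)
      exact ⟨⟨1, 0, fun e => hv (LinearMap.congr_fun e v)⟩⟩
    haveI : CharP (End K W) r := charP_of_injective_algebraMap (algebraMap K (End K W)).injective r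
    rw [sub_pow_char_of_commute r (Commute.one_right _), one_pow, ← map_pow, h.pow, map_one, sub_self]
  obtain ⟨n, hn⟩ := hN
  obtain ⟨v, hv⟩ := exists_ne (0 : W)
  have key : ∀ m : ℕ, ((ρ a - 1) ^ m) v = 0 → v = 0 := by
    intro m
    induction m with
    | zero => exact fun e => e
    | succ m ih =>
      intro e
      rw [pow_succ', Module.End.mul_apply, LinearMap.sub_apply, Module.End.one_apply, sub_eq_zero] at e
      exact ih (h.fix _ e)
  exact hv (key n (by rw [hn]; rfl))

variable [IsAlgClosed K] [FiniteDimensional K W]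

/-- An invariant family of commuting semisimple elements is centralised. -/
theorem Fpf.centralized (h : Fpf ρ a r) (A : Subgroup Y) [Finite A] (hA : (Nat.card A : K) ≠ 0)
    (hn : a ∈ Subgroup.normalizer (A : Set Y))
    (hcomm : ∀ x ∈ A, ∀ y ∈ A, Commute (ρ x) (ρ y)) {x : Y} (hx : x ∈ A) :
    ρ (a * x * a⁻¹) = ρ x := by
  classical
  have hax : a * x * a⁻¹ ∈ A := (Subgroup.mem_normalizer_iff.mp hn x).mp hx
  set d : A := ⟨a * x * a⁻¹ * x⁻¹, mul_mem hax (inv_mem hx)⟩ with hd
  suffices h1 : ρ (d : Y) = 1 by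
    calc ρ (a * x * a⁻¹) = ρ ((d : Y) * x) := by simp [hd]
      _ = ρ x := by rw [map_mul, h1, one_mul]
  refine eq_one_of_joint (fun b : A => ρ (b : Y)) (fun b c => hcomm _ b.2 _ c.2) _
    (fun b => hcomm _ d.2 _ b.2) hA ?_ fun χ w hw => ?_
  · rw [← map_pow, ← SubmonoidClass.coe_pow, pow_card_eq_one', OneMemClass.coe_one, map_one]
  by_cases hw0 : w = 0
  · rw [hw0, map_zero]
  -- the permutation of the systems of eigenvalues
  have hna : ∀ b : A, a⁻¹ * (b : Y) * a ∈ A := fun b => (Subgroup.mem_normalizer_iff''.mp hn b).mp b.2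
  let σ : A → A := fun b => ⟨a⁻¹ * b * a, hna b⟩
  have hσ : ∀ (i : ℕ) (b : A), ((σ^[i] b : A) : Y) = (a ^ i)⁻¹ * b * a ^ i := by
    intro i b
    induction i with
    | zero => simp
    | succ i ih =>
      rw [Function.iterate_succ_apply', pow_succ]
      show a⁻¹ * (σ^[i] b : Y) * a = _
      rw [ih]
      group
  let F : (A → K) → (A → K) := fun c => c ∘ σ
  have hF : ∀ (i : ℕ) (c : A → K), F^[i] c = c ∘ σ^[i] := by
    intro i c
    induction i with
    | zero => rfl
    | succ i ih => rw [Function.iterate_succ_apply', ih, Function.iterate_succ]; rfl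
  have hv : ∀ i : ℕ, ∀ b : A, ρ (b : Y) ((ρ a ^ i) w) = (F^[i] χ) b • (ρ a ^ i) w := by
    intro i b
    rw [← map_pow, ← Module.End.mul_apply, ← map_mul,
      show (b : Y) * a ^ i = a ^ i * ((σ^[i] b : A) : Y) by simp [hσ, mul_assoc],
      map_mul, Module.End.mul_apply, mem_eigs.mp hw (σ^[i] b), map_smul, hF]
    rfl
  have hper : Function.IsPeriodicPt F r χ := by
    show F^[r] χ = χ
    rw [hF]
    funext b
    show χ (σ^[r] b) = χ b
    congr 1
    exact Subtype.ext (by simp [hσ, h.pow])
  rcases (Nat.dvd_prime h.prime).mp hper.minimalPeriod_dvd with h1 | h1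
  · -- an invariant system: `d` fixes its eigenvectors
    have hfix : F χ = χ := Function.minimalPeriod_eq_one_iff_isFixedPt.mp h1
    have hx2 : χ ⟨x, hx⟩ = χ ⟨a * x * a⁻¹, hax⟩ := by
      have := congrFun hfix ⟨a * x * a⁻¹, hax⟩
      rw [← this]
      show χ _ = χ (σ _)
      congr 1
      exact Subtype.ext (by simp [σ, mul_assoc])
    have e1 : ρ (a * x * a⁻¹) w = χ ⟨a * x * a⁻¹, hax⟩ • w := mem_eigs.mp hw ⟨_, hax⟩
    have e2 : ρ x w = χ ⟨x, hx⟩ • w := mem_eigs.mp hw ⟨_, hx⟩
    have e3 : χ ⟨x, hx⟩ ≠ 0 := fun e => by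
      have : ρ x⁻¹ (ρ x w) = w := by rw [← Module.End.mul_apply, ← map_mul, inv_mul_cancel, map_one, Module.End.one_apply]
      rw [e2, e, zero_smul, map_zero] at this
      exact hw0 this.symm
    have e4 : ρ x⁻¹ w = (χ ⟨x, hx⟩)⁻¹ • w := by
      have : ρ x⁻¹ (ρ x w) = w := by rw [← Module.End.mul_apply, ← map_mul, inv_mul_cancel, map_one, Module.End.one_apply]
      rw [e2, map_smul] at this
      calc ρ x⁻¹ w = (χ ⟨x, hx⟩)⁻¹ • (χ ⟨x, hx⟩ • ρ x⁻¹ w) := by rw [smul_smul, inv_mul_cancel₀ e3, one_smul]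
        _ = _ := by rw [this]
    show ρ (a * x * a⁻¹ * x⁻¹) w = w
    rw [map_mul, Module.End.mul_apply, e4, map_smul, e1, smul_smul, ← hx2, inv_mul_cancel₀ e3, one_smul]
  · -- a free orbit: the orbit sum is fixed
    exfalso
    refine hw0 ?_
    have hdist : ∀ i ∈ Finset.range r, ∀ j ∈ Finset.range r, F^[i] χ = F^[j] χ → i = j := by
      intro i hi j hj e
      exact Function.iterate_injOn_Iio_minimalPeriod (show i ∈ Set.Iio _ by rw [h1]; exact Finset.mem_range.mp hi)
        (show j ∈ Set.Iio _ by rw [h1]; exact Finset.mem_range.mp hj) e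
    have := eigen_indep (fun b : A => ρ (b : Y)) (fun i => F^[i] χ) (Finset.range r)
      (fun i => (ρ a ^ i) w) (fun i _ b => hv i b) hdist (h.sum_eq_zero w) 0
      (Finset.mem_range.mpr h.prime.pos)
    simpa using this

end Cfsg.Agent.Lib.ShultFlavell
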