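import Cfsg.Agent.Lib.ShultFlavell.Fix

/-!
Sums over the integers modulo `r`.
-/

set_option autoImplicit false
set_option linter.style.haveILetI false

namespace Cfsg.Agent.Lib.ShultFlavell

variable {K : Type*} [Field K] {r : ℕ} [NeZero r]

theorem natCast_fin_bijective : Function.Bijective (fun i : Fin r => ((i : ℕ) : ZMod r)) :=
  (Fintype.bijective_iff_injective_and_card _).mpr ⟨fun i j e => Fin.ext (by
    have h1 := congrArg ZMod.val e
    simpa [ZMod.val_natCast, Nat.mod_eq_of_lt i.2, Nat.mod_eq_of_lt j.2] using h1),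
    by rw [Fintype.card_fin, ZMod.card]⟩

theorem sum_zmod_val {M : Type*} [AddCommMonoid M] (f : ℕ → M) :
    ∑ i : ZMod r, f i.val = ∑ i ∈ Finset.range r, f i := by
  rw [Finset.sum_range]
  exact (Fintype.sum_bijective _ natCast_fin_bijective _ _ fun i => by
    rw [ZMod.val_natCast, Nat.mod_eq_of_lt i.2]).symm

theorem pow_val_add' {M : Type*} [Monoid M] {x : M} (hx : x ^ r = 1) (a b : ZMod r) :
    x ^ (a + b).val = x ^ a.val * x ^ b.val := by
  rw [← pow_add, ZMod.val_add]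
  exact (pow_eq_pow_mod _ hx).symm

theorem exists_omega [IsAlgClosed K] (hr : (r : K) ≠ 0) (f : ZMod r → K) (hs : ∑ j, f j = 0)
    {j0 : ZMod r} (h0 : f j0 ≠ 0) :
    ∃ ω : K, ω ^ r = 1 ∧ ω ≠ 1 ∧ ∑ j, ω ^ (-j).val * f j ≠ 0 := by
  by_contra! hcon
  haveI : NeZero (r : K) := ⟨hr⟩
  obtain ⟨ζ, hζ⟩ := HasEnoughRootsOfUnity.exists_primitiveRoot K r
  have hbij : Function.Bijective (fun i : Fin r => -((i : ℕ) : ZMod r)) :=
    (Equiv.neg (ZMod r)).bijective.comp natCast_fin_bijective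
  have key : ∀ ω : K, ω ^ r = 1 → ∑ i : Fin r, ω ^ (i : ℕ) * f (-((i : ℕ) : ZMod r)) = 0 := by
    intro ω hω
    rw [Fintype.sum_bijective _ hbij _ (fun j => ω ^ (-j).val * f j) fun i => by
      rw [neg_neg, ZMod.val_natCast, Nat.mod_eq_of_lt i.2]]
    rcases eq_or_ne ω 1 with rfl | h1
    · simpa using hs
    · exact hcon ω hω h1
  have hinj : Function.Injective (fun k : Fin r => ζ ^ (k : ℕ)) := fun i j e => Fin.ext (hζ.pow_inj i.2 j.2 e)
  have hv := Matrix.eq_zero_of_forall_index_sum_pow_mul_eq_zero hinj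
    (v := fun i : Fin r => f (-((i : ℕ) : ZMod r))) fun k => key _ (by
      rw [← pow_mul, mul_comm, pow_mul, hζ.pow_eq_one, one_pow])
  obtain ⟨i, rfl⟩ := hbij.2 j0
  exact h0 (congrFun hv i)

end Cfsg.Agent.Lib.ShultFlavell
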