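import Mathlib

/-!
The fixed space of the complement in a module for a Frobenius group with abelian kernel.
-/

set_option autoImplicit false
set_option linter.style.haveILetI false
set_option linter.unusedSectionVars false

namespace Cfsg.Agent.Lib.ShultFlavell

open Module (End finrank)
open scoped TensorProduct

section closed

variable {L : Type*} [Field L] [IsAlgClosed L] {U : Type*} [AddCommGroup U] [Module L U]
  [FiniteDimensional L U] {P : Type*} [CommGroup P] [Finite P]

/-- The projection belonging to a linear character, up to a factor. -/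
noncomputable def weightOp (g : P →* End L U) (χ : P →* Lˣ) : End L U :=
  letI := Fintype.ofFinite P
  ∑ x : P, ((χ x⁻¹ : Lˣ) : L) • g x

theorem mul_weightOp (g : P →* End L U) (χ : P →* Lˣ) (y : P) :
    g y * weightOp g χ = ((χ y : Lˣ) : L) • weightOp g χ := by
  classical
  letI := Fintype.ofFinite P
  rw [weightOp, Finset.mul_sum, Finset.smul_sum]
  refine Fintype.sum_equiv (Equiv.mulLeft y) _ _ fun x => ?_
  rw [mul_smul_comm, ← map_mul, smul_smul, Equiv.coe_mulLeft, ← Units.val_mul, ← map_mul,
    mul_inv_rev, mul_comm x⁻¹ y⁻¹, mul_inv_cancel_left]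

theorem weightOp_mul (g : P →* End L U) (χ ψ : P →* Lˣ) :
    weightOp g ψ * weightOp g χ =
      (∑ x ∈ (Set.finite_univ (α := P)).toFinset, ((ψ x⁻¹ * χ x : Lˣ) : L)) • weightOp g χ := by
  classical
  letI := Fintype.ofFinite P
  rw [show (Set.finite_univ (α := P)).toFinset = Finset.univ by ext; simp]
  conv_lhs => rw [weightOp, Finset.sum_mul]
  rw [Finset.sum_smul]
  refine Finset.sum_congr rfl fun x _ => ?_
  rw [smul_mul_assoc, mul_weightOp, smul_smul, Units.val_mul]

theorem weightOp_orth (g : P →* End L U) {χ ψ : P →* Lˣ} (hne : ψ ≠ χ) :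
    weightOp g ψ * weightOp g χ = 0 := by
  classical
  letI := Fintype.ofFinite P
  rw [weightOp_mul, show (Set.finite_univ (α := P)).toFinset = Finset.univ by ext; simp]
  have h1 : ψ⁻¹ * χ ≠ 1 := fun e => hne (inv_mul_eq_one.mp e)
  obtain ⟨y, hy⟩ : ∃ y, (ψ⁻¹ * χ) y ≠ 1 := by
    by_contra hcon
    push Not at hcon
    exact h1 (MonoidHom.ext hcon)
  have key : ∀ x, ((ψ x⁻¹ * χ x : Lˣ) : L) = (((ψ⁻¹ * χ) x : Lˣ) : L) := fun x => by
    rw [MonoidHom.mul_apply, MonoidHom.inv_apply, map_inv]
  simp only [key]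
  set S := ∑ x : P, (((ψ⁻¹ * χ) x : Lˣ) : L)
  have h2 : (((ψ⁻¹ * χ) y : Lˣ) : L) * S = S := by
    rw [Finset.mul_sum]
    exact Fintype.sum_equiv (Equiv.mulLeft y) _ _ fun x => by
      rw [Equiv.coe_mulLeft, map_mul _ y, Units.val_mul]
  rw [(mul_left_eq_self₀.mp h2).resolve_left fun e => hy (Units.ext e), zero_smul]

theorem weightOp_self (g : P →* End L U) (χ : P →* Lˣ) :
    weightOp g χ * weightOp g χ = (Nat.card P : L) • weightOp g χ := by
  classical
  letI := Fintype.ofFinite P
  rw [weightOp_mul, show (Set.finite_univ (α := P)).toFinset = Finset.univ by ext; simp]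
  congr 1
  simp [Nat.card_eq_fintype_card]

theorem sum_weightOp (g : P →* End L U) (hP : (Nat.card P : L) ≠ 0) [Fintype (P →* Lˣ)] :
    ∑ χ : P →* Lˣ, weightOp g χ = (Nat.card P : L) • (1 : End L U) := by
  classical
  letI := Fintype.ofFinite P
  have hexp : (Monoid.exponent P : L) ≠ 0 := fun e => hP (by
    obtain ⟨k, hk⟩ := Group.exponent_dvd_nat_card (G := P)
    rw [hk, Nat.cast_mul, e, zero_mul])
  haveI : NeZero (Monoid.exponent P : L) := ⟨hexp⟩
  obtain ⟨e⟩ := CommGroup.monoidHom_mulEquiv_of_hasEnoughRootsOfUnity P L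
  have hcard : Fintype.card (P →* Lˣ) = Nat.card P := by
    rw [← Nat.card_eq_fintype_card]; exact Nat.card_congr e.toEquiv
  simp only [weightOp]
  rw [Finset.sum_comm, Finset.sum_eq_single (1 : P)]
  · simp [hcard, Nat.cast_smul_eq_nsmul]
  · intro x _ hx
    rw [← Finset.sum_smul]
    obtain ⟨φ, hφ⟩ := CommGroup.exists_apply_ne_one_of_hasEnoughRootsOfUnity P L (inv_ne_one.mpr hx)
    set S := ∑ χ : P →* Lˣ, ((χ x⁻¹ : Lˣ) : L)
    have h2 : ((φ x⁻¹ : Lˣ) : L) * S = S := by
      rw [Finset.mul_sum]
      exact Fintype.sum_equiv (Equiv.mulLeft φ) _ _ fun χ => by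
        rw [Equiv.coe_mulLeft, MonoidHom.mul_apply, Units.val_mul]
    rw [(mul_left_eq_self₀.mp h2).resolve_left fun e => hφ (Units.ext e), zero_smul]
  · intro h; exact absurd (Finset.mem_univ _) h

/-- The complement fixes a subspace of dimension at most `dim / r`, and a non-trivial one. -/
theorem frob_closed (g : P →* End L U) (A : End L U) (α : P ≃* P) (hα : ∀ x, A * g x = g (α x) * A)
    {r : ℕ} (hr : r.Prime) (hrL : (r : L) ≠ 0) (hP : (Nat.card P : L) ≠ 0) (hA : A ^ r = 1)
    (hαfix : ∀ x, α x = x → x = 1) (hαr : ∀ x, (⇑α)^[r] x = x) (h1 : weightOp g 1 = 0) :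
    r * finrank L (LinearMap.ker (A - 1)) ≤ finrank L U ∧
      ((∑ i ∈ Finset.range r, A ^ i) = 0 → Subsingleton U) := by
  classical
  letI := Fintype.ofFinite P
  haveI hfin : Finite (P →* Lˣ) := by
    haveI : NeZero (Monoid.exponent P : L) := ⟨fun e => hP (by
      obtain ⟨k, hk⟩ := Group.exponent_dvd_nat_card (G := P)
      rw [hk, Nat.cast_mul, e, zero_mul])⟩
    obtain ⟨e⟩ := CommGroup.monoidHom_mulEquiv_of_hasEnoughRootsOfUnity P L
    exact Finite.of_equiv P e.toEquiv.symm
  haveI := Fintype.ofFinite (P →* Lˣ)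
  let τ : Equiv.Perm (P →* Lˣ) :=
    { toFun := fun χ => χ.comp α.symm.toMonoidHom
      invFun := fun χ => χ.comp α.toMonoidHom
      left_inv := fun χ => MonoidHom.ext fun x => by simp
      right_inv := fun χ => MonoidHom.ext fun x => by simp }
  have hτA : ∀ χ, A * weightOp g χ = weightOp g (τ χ) * A := by
    intro χ
    rw [weightOp, weightOp, Finset.mul_sum, Finset.sum_mul]
    refine Fintype.sum_equiv α.toEquiv _ _ fun x => ?_
    rw [mul_smul_comm, hα, smul_mul_assoc]
    congr 2
    show χ x⁻¹ = χ (α.symm (α x)⁻¹)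
    rw [map_inv α.symm, α.symm_apply_apply]
  have hτk : ∀ (k : ℕ) χ, A ^ k * weightOp g χ = weightOp g ((τ ^ k) χ) * A ^ k := by
    intro k
    induction k with
    | zero => intro χ; simp
    | succ k ih =>
      intro χ
      rw [pow_succ' A, mul_assoc, ih, ← mul_assoc, hτA, mul_assoc, ← pow_succ', pow_succ' τ,
        Equiv.Perm.mul_apply]
  have hτfix : ∀ χ, τ χ = χ → χ = 1 := by
    intro χ hχ
    let f : P →* P := MonoidHom.mk' (fun x => x⁻¹ * α x) fun x y => by
      rw [map_mul, mul_inv_rev]; simp only [mul_comm, mul_left_comm, mul_assoc]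
    have hinj : Function.Injective f := by
      rw [injective_iff_map_eq_one]
      intro x hx
      exact hαfix x (inv_mul_eq_one.mp hx).symm
    have hsurj : Function.Surjective f := Finite.surjective_of_injective hinj
    refine MonoidHom.ext fun y => ?_
    obtain ⟨x, rfl⟩ := hsurj y
    have h2 : χ x = χ (α x) := by
      conv_rhs => rw [← hχ]
      show χ x = χ (α.symm (α x))
      rw [α.symm_apply_apply]
    show χ (x⁻¹ * α x) = 1
    rw [map_mul, map_inv, ← h2, inv_mul_cancel]
  have hτr : τ ^ r = 1 := by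
    have key : ∀ (k : ℕ) χ (x : P), ((τ ^ k) χ) ((⇑α)^[k] x) = χ x := by
      intro k
      induction k with
      | zero => intro χ x; simp
      | succ k ih =>
        intro χ x
        rw [pow_succ' τ, Equiv.Perm.mul_apply, Function.iterate_succ_apply']
        show ((τ ^ k) χ) (α.symm (α ((⇑α)^[k] x))) = χ x
        rw [α.symm_apply_apply, ih]
    refine Equiv.ext fun χ => MonoidHom.ext fun x => ?_
    have := key r χ x
    rwa [hαr] at this
  have hfree : ∀ χ, χ ≠ 1 → ∀ i j : ℕ, i < r → j < r → (τ ^ i) χ = (τ ^ j) χ → i = j := by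
    intro χ hχ i j hi hj e
    wlog hij : i ≤ j generalizing i j
    · exact (this j i hj hi e.symm (by omega)).symm
    obtain ⟨d, rfl⟩ : ∃ d, j = i + d := ⟨j - i, by omega⟩
    by_contra hne
    have hd : (τ ^ d) χ = χ := by
      rw [pow_add, Equiv.Perm.mul_apply] at e
      exact ((τ ^ i).injective e).symm
    have hcop : Nat.Coprime d r := Nat.Coprime.symm ((hr.coprime_iff_not_dvd).mpr fun hdd =>
      absurd (Nat.le_of_dvd (by omega) hdd) (by omega))
    obtain ⟨m, hm⟩ := exists_pow_eq_self_of_coprime (x := τ) (n := d)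
      (hcop.coprime_dvd_right (orderOf_dvd_of_pow_eq_one hτr))
    refine hχ (hτfix χ ?_)
    rw [← hm]
    exact Equiv.Perm.pow_apply_eq_self_of_apply_eq_self hd m
  let s := Equiv.Perm.SameCycle.setoid τ
  let T : Finset (P →* Lˣ) := Finset.univ.filter fun χ => χ ≠ 1 ∧ (Quotient.mk s χ).out = χ
  have hτone : τ 1 = 1 := MonoidHom.ext fun _ => rfl
  have hcover : ∀ χ, χ ≠ 1 → ∃ t ∈ T, ∃ k : ℕ, (τ ^ k) t = χ := by
    intro χ hχ
    set t := (Quotient.mk s χ).out with ht
    have hsc : τ.SameCycle t χ := Quotient.exact (Quotient.out_eq (Quotient.mk s χ))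
    have ht1 : t ≠ 1 := fun e => hχ (by
      obtain ⟨i, hi⟩ := hsc
      rw [e] at hi
      exact (hi.symm.trans (Equiv.Perm.zpow_apply_eq_self_of_apply_eq_self hτone i)))
    obtain ⟨i, -, hi⟩ := hsc.exists_pow_eq'
    refine ⟨t, Finset.mem_filter.mpr ⟨Finset.mem_univ _, ht1, ?_⟩, i, hi⟩
    rw [ht, Quotient.out_eq]
  have huniq : ∀ t ∈ T, ∀ t' ∈ T, ∀ i j : ℕ, i < r → j < r → (τ ^ i) t = (τ ^ j) t' → i = j ∧ t = t' := by
    intro t ht t' ht' i j hi hj e
    have hsc : τ.SameCycle t t' := by
      have h1 : τ.SameCycle t ((τ ^ i) t) := (Equiv.Perm.sameCycle_pow_right).mpr (Equiv.Perm.SameCycle.refl _ _)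
      rw [e] at h1
      exact (Equiv.Perm.sameCycle_pow_right).mp h1
    have htt : t = t' := by
      rw [← (Finset.mem_filter.mp ht).2.2, ← (Finset.mem_filter.mp ht').2.2]
      exact congrArg Quotient.out (Quotient.sound hsc)
    subst htt
    exact ⟨hfree t (Finset.mem_filter.mp ht).2.1 i j hi hj e, rfl⟩
  have hkill : ∀ u : U, (∀ χ, χ ≠ 1 → weightOp g χ u = 0) → u = 0 := by
    intro u hu
    have h2 := congrArg (fun f : End L U => f u) (sum_weightOp g hP)
    simp only [LinearMap.sum_apply, LinearMap.smul_apply, Module.End.one_apply] at h2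
    rw [Finset.sum_eq_zero fun χ _ => by
      by_cases hχ : χ = 1
      · rw [hχ, h1, LinearMap.zero_apply]
      · exact hu χ hχ] at h2
    exact (smul_eq_zero.mp h2.symm).resolve_left hP
  refine ⟨?_, fun hsum => ⟨fun u v => ?_⟩⟩
  · set F := LinearMap.ker (A - 1)
    let Φ : (Fin r → F) →ₗ[L] U :=
      ∑ i : Fin r, (∑ t ∈ T, weightOp g ((τ ^ (i : ℕ)) t)).comp (F.subtype.comp (LinearMap.proj i))
    have hΦ : Function.Injective Φ := by
      rw [injective_iff_map_eq_zero]
      intro u hu
      funext k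
      refine Subtype.ext (hkill _ fun χ hχ => ?_)
      obtain ⟨t, ht, n, rfl⟩ := hcover χ hχ
      have h2 : weightOp g ((τ ^ (k : ℕ)) t) (Φ u) = 0 := by rw [hu, map_zero]
      simp only [Φ, LinearMap.sum_apply, LinearMap.comp_apply, map_sum, LinearMap.proj_apply] at h2
      rw [Finset.sum_eq_single k (fun j _ hj => Finset.sum_eq_zero fun t' ht' => by
          rw [← Module.End.mul_apply, weightOp_orth g fun e => hj (Fin.ext ((huniq t ht t' ht' k j k.2 j.2 e).1.symm)),
            LinearMap.zero_apply]) (fun h => absurd (Finset.mem_univ _) h),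
        Finset.sum_eq_single t (fun t' ht' hne => by
          rw [← Module.End.mul_apply, weightOp_orth g fun e => hne (huniq t ht t' ht' k k k.2 k.2 e).2.symm,
            LinearMap.zero_apply]) (fun h => absurd ht h),
        ← Module.End.mul_apply, weightOp_self, LinearMap.smul_apply, smul_eq_zero] at h2
      replace h2 := h2.resolve_left hP
      have hfix : ∀ j : ℕ, (A ^ j) ((u k : U)) = u k := by
        intro j
        induction j with
        | zero => simp
        | succ j ih =>
          rw [pow_succ', Module.End.mul_apply, ih]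
          have := LinearMap.mem_ker.mp (u k).2
          rwa [LinearMap.sub_apply, sub_eq_zero, Module.End.one_apply] at this
      have hk : (τ ^ (n + ((k : ℕ) * (r - 1)))) ((τ ^ (k : ℕ)) t) = (τ ^ n) t := by
        have hp1 : r - 1 + 1 = r := by have := hr.one_lt; omega
        rw [← Equiv.Perm.mul_apply, ← pow_add,
          show n + (k : ℕ) * (r - 1) + k = n + r * k by
            rw [add_assoc, ← Nat.mul_succ, Nat.succ_eq_add_one, hp1, mul_comm],
          pow_add, pow_mul, hτr, one_pow, mul_one]
      rw [← hk]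
      set j := n + ((k : ℕ) * (r - 1))
      conv_lhs => rw [← hfix j]
      rw [← Module.End.mul_apply, ← hτk, Module.End.mul_apply]
      show (A ^ j) (weightOp g ((τ ^ (k : ℕ)) t) ((F.subtype) (u k))) = 0
      rw [h2, map_zero]
    have := LinearMap.finrank_le_finrank_of_injective hΦ
    rwa [Module.finrank_pi_fintype, Finset.sum_const, Finset.card_univ, Fintype.card_fin, smul_eq_mul] at this
  · suffices ∀ u : U, u = 0 by rw [this u, this v]
    refine fun u => hkill u fun χ hχ => ?_
    have h2 := congrArg (fun f : End L U => weightOp g χ (f (weightOp g χ u))) hsum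
    simp only [LinearMap.sum_apply, map_sum, LinearMap.zero_apply, map_zero] at h2
    rw [Finset.sum_eq_single 0 (fun i hi hi0 => by
        rw [← Module.End.mul_apply (A ^ i), hτk, Module.End.mul_apply, ← Module.End.mul_apply,
          weightOp_orth g fun e => hi0 ?_, LinearMap.zero_apply]
        exact hfree χ hχ i 0 (Finset.mem_range.mp hi) hr.pos (by rw [pow_zero]; exact e.symm))
      (fun h => absurd (Finset.mem_range.mpr hr.pos) h), pow_zero, Module.End.one_apply, ← Module.End.mul_apply,
      weightOp_self, LinearMap.smul_apply, smul_eq_zero] at h2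
    exact h2.resolve_left hP

end closed

/-- The complement of a Frobenius group with abelian kernel without fixed vectors on the kernel. -/
theorem frob_module {F : Type*} [Field F] {V : Type*} [AddCommGroup V] [Module F V]
    [FiniteDimensional F V] {P : Type*} [CommGroup P] [Finite P] (g : P →* End F V) (A : End F V)
    (α : P ≃* P) (hα : ∀ x, A * g x = g (α x) * A) {r : ℕ} (hr : r.Prime) (hrF : (r : F) ≠ 0)
    (hP : (Nat.card P : F) ≠ 0) (hA : A ^ r = 1) (hαfix : ∀ x, α x = x → x = 1)
    (hαr : ∀ x, (⇑α)^[r] x = x) (hV : ∀ v : V, (∀ x, g x v = v) → v = 0) :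
    r * finrank F (LinearMap.ker (A - 1)) ≤ finrank F V ∧
      (LinearMap.ker (A - 1) = ⊥ → Subsingleton V) := by
  classical
  letI := Fintype.ofFinite P
  let L := AlgebraicClosure F
  let bc : End F V →ₐ[F] End L (L ⊗[F] V) := Module.End.baseChangeHom F L V
  let gU : P →* End L (L ⊗[F] V) := bc.toMonoidHom.comp g
  have hcast : ∀ n : ℕ, (n : F) ≠ 0 → (n : L) ≠ 0 := fun n hn e =>
    hn ((algebraMap F L).injective (by rw [map_natCast, map_zero]; exact e))
  have hsum0 : ∑ x : P, g x = 0 := by
    refine LinearMap.ext fun v => hV _ fun y => ?_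
    simp only [LinearMap.sum_apply, map_sum]
    refine Fintype.sum_equiv (Equiv.mulLeft y) _ _ fun x => ?_
    simp
  have h1 : weightOp gU 1 = 0 := by
    simp only [weightOp, MonoidHom.one_apply, Units.val_one, one_smul]
    show ∑ x : P, bc (g x) = 0
    rw [← map_sum, hsum0, map_zero]
  obtain ⟨hA1, hA2⟩ := frob_closed gU (bc A) α
    (fun x => by show bc A * bc (g x) = bc (g (α x)) * bc A; rw [← map_mul, ← map_mul, hα])
    hr (hcast r hrF) (hcast _ hP) (by rw [← map_pow, hA, map_one]) hαfix hαr h1
  constructor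
  · refine le_trans (Nat.mul_le_mul_left r ?_) (hA1.trans_eq (Module.finrank_baseChange))
    let ι := ((LinearMap.ker (A - 1)).subtype).baseChange L
    have hι : Function.Injective ι :=
      Module.Flat.lTensor_preserves_injective_linearMap (M := L) _ Subtype.val_injective
    have hrange : LinearMap.range ι ≤ LinearMap.ker (bc A - 1) := by
      rintro _ ⟨z, rfl⟩
      have hb : bc A - 1 = bc (A - 1) := by rw [map_sub bc A 1, map_one bc]
      rw [LinearMap.mem_ker, hb]
      rw [show bc (A - 1) = (A - 1).baseChange L from rfl, show ι = ((LinearMap.ker (A - 1)).subtype).baseChange L from rfl,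
        ← LinearMap.comp_apply, ← LinearMap.baseChange_comp,
        show (A - 1).comp (LinearMap.ker (A - 1)).subtype = 0 from LinearMap.ext fun z => LinearMap.mem_ker.mp z.2]
      simp
    calc finrank F (LinearMap.ker (A - 1)) = finrank L (L ⊗[F] LinearMap.ker (A - 1)) := Module.finrank_baseChange.symm
      _ = finrank L (LinearMap.range ι) := (LinearMap.finrank_range_of_inj hι).symm
      _ ≤ _ := Submodule.finrank_mono hrange
  · intro hbot
    have hAsum : ∑ i ∈ Finset.range r, A ^ i = 0 := by
      refine LinearMap.ext fun v => ?_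
      have hm : (∑ i ∈ Finset.range r, A ^ i) v ∈ LinearMap.ker (A - 1) := by
        rw [LinearMap.mem_ker, ← Module.End.mul_apply, sub_mul, one_mul, Finset.mul_sum]
        have h2 := Finset.sum_range_succ' (fun i => A ^ i) r
        rw [Finset.sum_range_succ, hA, pow_zero] at h2
        simp only [← pow_succ']
        rw [← add_right_cancel h2, sub_self, LinearMap.zero_apply]
      rw [hbot, Submodule.mem_bot] at hm
      exact hm
    haveI := hA2 (by rw [show (∑ i ∈ Finset.range r, bc A ^ i) = bc (∑ i ∈ Finset.range r, A ^ i) by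
      simp [map_sum, map_pow], hAsum, map_zero])
    have : finrank L (L ⊗[F] V) = 0 := Module.finrank_zero_of_subsingleton
    rw [Module.finrank_baseChange] at this
    exact Module.finrank_zero_iff.mp this

end Cfsg.Agent.Lib.ShultFlavell
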