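import Cfsg.Agent.Lib.ShultFlavell.Base

/-!
A quadratic element normalising a class two `2`-group with a fixed point free automorphism of prime
order centralises its image.
-/

set_option autoImplicit false
set_option linter.style.haveILetI false
set_option linter.unusedSectionVars false

namespace Cfsg.Agent.Lib.ShultFlavell

open scoped commutatorElement

variable {R : Type*} [Ring R] {p : ℕ}

theorem zsmul_cancel_of_not_dvd (hp : p.Prime) (hpR : (p : R) = 0) {k : ℤ} (hk : ¬ (p : ℤ) ∣ k) {x : R}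
    (hx : k • x = 0) : x = 0 := by
  obtain ⟨u, v, huv⟩ := ((Nat.prime_iff_prime_int.mp hp).coprime_iff_not_dvd).mpr hk
  have h1 : (p : ℤ) • x = 0 := by rw [zsmul_eq_mul, Int.cast_natCast, hpR, zero_mul]
  calc x = (u * p + v * k) • x := by rw [huv, one_zsmul]
    _ = 0 := by rw [add_zsmul, mul_zsmul, mul_zsmul, h1, hx, zsmul_zero, zsmul_zero, add_zero]

/-- The conjugate of `e` by `1 + k n`. -/
def qconj (n e : R) (k : ℤ) : R := e + k • (n * e - e * n) - (k * k) • (n * e * n)

theorem qconj_eq (n e : R) (k : ℤ) : (1 + k • n) * e * (1 - k • n) = qconj n e k := by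
  simp only [qconj, add_mul, one_mul, mul_sub, mul_one, smul_mul_assoc, mul_smul_comm, smul_smul, zsmul_sub, zsmul_add]
  abel

theorem commute_of_two (hp : p.Prime) (hpR : (p : R) = 0) (hp2 : p ≠ 2) {π n e : R}
    (hπe : π * e = e * π) (hzz : e * e * (e * e) = 1) (hzn : e * e * n = n * (e * e))
    {k l : ℤ} (hk : ¬ (p : ℤ) ∣ k) (hl : ¬ (p : ℤ) ∣ l) (hkl : ¬ (p : ℤ) ∣ l - k)
    (h1 : π * (e * qconj n e k - qconj n e k * e) = 0)
    (h2 : π * (e * qconj n e l - qconj n e l * e) = 0) : π * (e * n - n * e) = 0 := by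
  set A := n * e - e * n with hA
  set B := n * e * n with hB
  have expand : ∀ j : ℤ, π * (e * qconj n e j - qconj n e j * e) =
      j • (π * (e * A - A * e)) - (j * j) • (π * (e * B - B * e)) := fun j => by
    simp only [qconj, ← hA, ← hB, mul_sub, mul_add, sub_mul, add_mul, mul_smul_comm, smul_mul_assoc, zsmul_sub]
    abel
  rw [expand] at h1 h2
  set u := π * (e * A - A * e) with hu
  set v := π * (e * B - B * e)
  have hY : u = 0 := by
    have h3 : (k * l * (l - k)) • u = 0 := by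
      have e1 : (k * l * (l - k)) • u = (l * l) • (k • u - (k * k) • v) - (k * k) • (l • u - (l * l) • v) := by
        simp only [zsmul_sub, smul_smul]
        rw [show l * l * (k * k) = k * k * (l * l) by ring,
          show k * l * (l - k) = l * l * k - k * k * l by ring, sub_zsmul]
        abel
      rw [e1, h1, h2, zsmul_zero, zsmul_zero, sub_zero]
    have hpp := Nat.prime_iff_prime_int.mp hp
    refine zsmul_cancel_of_not_dvd hp hpR (fun hd => ?_) h3
    rcases hpp.dvd_mul.mp hd with hd | hd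
    · rcases hpp.dvd_mul.mp hd with hd | hd
      · exact hk hd
      · exact hl hd
    · exact hkl hd
  have h4 : π * (e * n * e - e * e * n) = 0 := by
    have h5 : (2 : ℤ) • (π * (e * n * e - e * e * n)) = 0 := by
      rw [← hY, hu, hA]
      simp only [two_zsmul, mul_sub, sub_mul, mul_assoc]
      rw [show n * (e * e) = e * (e * n) by rw [← hzn, mul_assoc]]
      abel
    exact zsmul_cancel_of_not_dvd hp hpR (fun hd =>
      hp2 ((Nat.prime_dvd_prime_iff_eq hp Nat.prime_two).mp (by exact_mod_cast hd))) h5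
  have h6 : e * (π * (e * n * e - e * e * n)) = π * (e * e * (n * e - e * n)) := by
    rw [← mul_assoc, ← hπe]
    simp only [mul_sub, mul_assoc]
  rw [h4, mul_zero] at h6
  have hcomm : π * (e * e) = e * e * π := by
    rw [← mul_assoc, hπe, mul_assoc, hπe, ← mul_assoc]
  have h7 : e * e * (π * (e * e * (n * e - e * n))) = 0 := by rw [← h6, mul_zero]
  rw [← mul_assoc (e * e) π, ← hcomm, mul_assoc π, ← mul_assoc (e * e) (e * e), hzz, one_mul] at h7
  rw [show e * n - n * e = -(n * e - e * n) by abel, mul_neg, h7, neg_zero]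

variable {Z : Type*} [Group Z] [Finite Z] {τ : Z →* R} {a c : Z} {E : Subgroup Z} {r : ℕ}

/-- The data of the lemma. -/
structure QData (τ : Z →* R) (a c : Z) (E : Subgroup Z) (r p : ℕ) : Prop where
  pprime : p.Prime
  ptwo : p ≠ 2
  pzero : (p : R) = 0
  rprime : r.Prime
  rfive : p = 3 → 5 ≤ r
  pow : a ^ r = 1
  anorm : a ∈ Subgroup.normalizer (E : Set Z)
  cnorm : c ∈ Subgroup.normalizer (E : Set Z)
  comm : Commute c a
  cop : (Nat.card (Subgroup.zpowers a)).Coprime (Nat.card E)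
  central : ∀ z ∈ ⁅E, E⁆, ∀ e ∈ E, Commute z e
  inv : ∀ z ∈ ⁅E, E⁆, z * z = 1
  sq : ∀ e ∈ E, e * e ∈ ⁅E, E⁆
  fixed : ∀ e ∈ E, Commute e a → e ∈ ⁅E, E⁆
  afix : ∀ z ∈ ⁅E, E⁆, Commute z a
  quad : (τ c - 1) * (τ c - 1) = 0

theorem map_comm_rel (τ : Z →* R) (x y : Z) : τ x * τ y = τ ⁅x, y⁆ * (τ y * τ x) := by
  rw [← map_mul, ← map_mul, ← map_mul]
  congr 1
  rw [commutatorElement_def]; group

theorem tau_cancel (τ : Z →* R) (x : Z) : τ x * τ x⁻¹ = 1 := by rw [← map_mul, mul_inv_cancel, map_one]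

theorem tau_cancel' (τ : Z →* R) (x : Z) : τ x⁻¹ * τ x = 1 := by rw [← map_mul, inv_mul_cancel, map_one]

theorem QData.tau_pow (D : QData τ a c E r p) (j : ℕ) : τ (c ^ j) = 1 + (j : ℤ) • (τ c - 1) := by
  induction j with
  | zero => simp
  | succ j ih =>
    rw [pow_succ, map_mul, ih, Nat.cast_succ, add_zsmul, one_zsmul]
    calc (1 + (j : ℤ) • (τ c - 1)) * τ c = (1 + (j : ℤ) • (τ c - 1)) * ((τ c - 1) + 1) := by rw [sub_add_cancel]
      _ = _ := by
        rw [mul_add, add_mul, one_mul, smul_mul_assoc, D.quad, zsmul_zero, add_zero, mul_one]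
        abel

theorem QData.tau_conj (D : QData τ a c E r p) (e : Z) (k : ℕ) :
    τ (c ^ k * e * (c ^ k)⁻¹) = qconj (τ c - 1) (τ e) k := by
  have hck := D.tau_pow
  have hinv : τ (c ^ k)⁻¹ = 1 - (k : ℤ) • (τ c - 1) := by
    have h1 : (1 + (k : ℤ) • (τ c - 1)) * (1 - (k : ℤ) • (τ c - 1)) = 1 := by
      rw [mul_sub, add_mul, add_mul, one_mul, one_mul, mul_one, smul_mul_assoc, mul_smul_comm, D.quad,
        zsmul_zero, zsmul_zero, add_zero]
      abel
    calc τ (c ^ k)⁻¹ = τ (c ^ k)⁻¹ * (τ (c ^ k) * (1 - (k : ℤ) • (τ c - 1))) := by rw [hck, h1, mul_one]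
      _ = _ := by rw [← mul_assoc, tau_cancel', one_mul]
  rw [map_mul, map_mul, hck, hinv, qconj_eq]

theorem QData.conj_mem (D : QData τ a c E r p) {e : Z} (he : e ∈ E) (k : ℕ) :
    c ^ k * e * (c ^ k)⁻¹ ∈ E :=
  (Subgroup.mem_normalizer_iff.mp (Subgroup.pow_mem _ D.cnorm k) e).mp he

/-- The centre is centralised. -/
theorem QData.omega (D : QData τ a c E r p) {z : Z} (hz : z ∈ ⁅E, E⁆) :
    τ z * (τ c - 1) = (τ c - 1) * τ z := by
  have hEE : ⁅E, E⁆ ≤ E := Subgroup.commutator_le_self E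
  have hmem : ∀ k : ℕ, c ^ k * z * (c ^ k)⁻¹ ∈ ⁅E, E⁆ := fun k => by
    have h1 : c ^ k ∈ Subgroup.normalizer ((⁅E, E⁆ : Subgroup Z) : Set Z) := by
      rw [Subgroup.mem_normalizer_iff_map_conj_eq, Subgroup.map_commutator,
        Subgroup.mem_normalizer_iff_map_conj_eq.mp (Subgroup.pow_mem _ D.cnorm k)]
    exact (Subgroup.mem_normalizer_iff.mp h1 z).mp hz
  have hzero : ∀ k : ℕ, (1 : R) * (τ z * qconj (τ c - 1) (τ z) k - qconj (τ c - 1) (τ z) k * τ z) = 0 :=
    fun k => by
    rw [← D.tau_conj z k, one_mul, sub_eq_zero, ← map_mul, ← map_mul,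
      (D.central z hz _ (hEE (hmem k))).eq]
  have hzz : τ z * τ z = 1 := by rw [← map_mul, D.inv z hz, map_one]
  have h3 : (p : ℤ) ≥ 3 := by
    have := D.pprime.two_le; have := D.ptwo; omega
  have hkey := commute_of_two D.pprime D.pzero D.ptwo (π := 1) (by rw [one_mul, mul_one]) (by rw [hzz, one_mul])
    (by rw [hzz, one_mul, mul_one]) (k := ((1 : ℕ) : ℤ)) (l := ((2 : ℕ) : ℤ))
    (fun hd => by have := Int.le_of_dvd (by norm_num) hd; omega)
    (fun hd => by have := Int.le_of_dvd (by norm_num) hd; omega)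
    (fun hd => by
      have := Int.le_of_dvd (by norm_num) hd
      have h4 : ((2 : ℕ) : ℤ) - ((1 : ℕ) : ℤ) = 1 := by norm_num
      omega) (hzero 1) (hzero 2)
  rwa [one_mul, sub_eq_zero] at hkey

/-- The lemma. -/
theorem QData.commute (D : QData τ a c E r p) : ∀ e ∈ E, Commute (τ c) (τ e) := by
  classical
  intro e₀ he₀
  by_contra hne
  set n := τ c - 1 with hn
  have hEE : ⁅E, E⁆ ≤ E := Subgroup.commutator_le_self E
  have hD0 : τ e₀ * n - n * τ e₀ ≠ 0 := by
    rw [sub_ne_zero, hn]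
    intro e1
    refine hne ?_
    rw [mul_sub, sub_mul, mul_one, one_mul, sub_left_inj] at e1
    exact e1.symm
  -- a multiplier on which the centre acts by signs
  have key : ∀ s : Finset Z, (∀ z ∈ s, z ∈ ⁅E, E⁆) → ∃ π : R, π * (τ e₀ * n - n * τ e₀) ≠ 0 ∧
      (∀ z ∈ s, π * τ z = π ∨ π * τ z = -π) ∧ (∀ e ∈ E, π * τ e = τ e * π) ∧ π * n = n * π ∧
      π * τ a = τ a * π := by
    intro s
    induction s using Finset.induction with
    | empty => exact fun _ => ⟨1, by rwa [one_mul], by simp, fun e _ => by simp, by simp, by simp⟩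
    | insert z s hzs ih =>
      intro hs
      obtain ⟨π, hπ, hπs, hπE, hπn, hπa⟩ := ih fun w hw => hs w (Finset.mem_insert_of_mem hw)
      have hz := hs z (Finset.mem_insert_self z s)
      have hzz : τ z * τ z = 1 := by rw [← map_mul, D.inv z hz, map_one]
      have hzE : ∀ e ∈ E, τ z * τ e = τ e * τ z := fun e he => by
        rw [← map_mul, ← map_mul, (D.central z hz e he).eq]
      have hzn : τ z * n = n * τ z := D.omega hz
      have hza : τ z * τ a = τ a * τ z := by rw [← map_mul, ← map_mul, (D.afix z hz).eq]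
      have mk : ∀ σ : R, (σ = π + π * τ z ∨ σ = π - π * τ z) → σ * (τ e₀ * n - n * τ e₀) ≠ 0 →
          ∃ π : R, π * (τ e₀ * n - n * τ e₀) ≠ 0 ∧
            (∀ w ∈ insert z s, π * τ w = π ∨ π * τ w = -π) ∧ (∀ e ∈ E, π * τ e = τ e * π) ∧ π * n = n * π ∧
            π * τ a = τ a * π := by
        intro σ hσ hσ0
        have hgen : ∀ x : R, π * x = x * π → τ z * x = x * τ z → σ * x = x * σ := by
          intro x h1 h2
          have h3 : π * τ z * x = x * (π * τ z) := by rw [mul_assoc, h2, ← mul_assoc, h1, mul_assoc]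
          rcases hσ with rfl | rfl
          · rw [add_mul, h1, h3, mul_add]
          · rw [sub_mul, h1, h3, mul_sub]
        refine ⟨σ, hσ0, ?_, fun e he => hgen _ (hπE e he) (hzE e he), hgen _ hπn hzn, hgen _ hπa hza⟩
        intro w hw
        rcases Finset.mem_insert.mp hw with rfl | hw
        · rcases hσ with rfl | rfl
          · left; rw [add_mul, mul_assoc, hzz, mul_one, add_comm]
          · right; rw [sub_mul, mul_assoc, hzz, mul_one, neg_sub]
        · have hcom : π * τ z * τ w = π * τ w * τ z := by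
            rw [mul_assoc, mul_assoc, hzE w (hEE (hs w (Finset.mem_insert_of_mem hw)))]
          rcases hπs w hw with h1 | h1 <;> rcases hσ with rfl | rfl
          · left; rw [add_mul, hcom, h1]
          · left; rw [sub_mul, hcom, h1]
          · right; rw [add_mul, hcom, h1, neg_mul]; abel
          · right; rw [sub_mul, hcom, h1, neg_mul]; abel
      by_cases hp' : (π + π * τ z) * (τ e₀ * n - n * τ e₀) = 0
      · refine mk _ (Or.inr rfl) fun hm => hπ ?_
        refine zsmul_cancel_of_not_dvd D.pprime D.pzero (k := 2) (fun hd =>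
          D.ptwo ((Nat.prime_dvd_prime_iff_eq D.pprime Nat.prime_two).mp (by exact_mod_cast hd))) ?_
        rw [two_zsmul, ← add_mul,
          show π + π = π + π * τ z + (π - π * τ z) by abel, add_mul, hp', hm, add_zero]
      · exact mk _ (Or.inl rfl) hp'
  haveI := Fintype.ofFinite Z
  obtain ⟨π, hπ, hπz, hπE, hπn, hπa⟩ := key (Finset.univ.filter fun z => z ∈ ⁅E, E⁆)
    fun z hz => (Finset.mem_filter.mp hz).2
  replace hπz : ∀ z ∈ ⁅E, E⁆, π * τ z = π ∨ π * τ z = -π := fun z hz =>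
    hπz z (Finset.mem_filter.mpr ⟨Finset.mem_univ z, hz⟩)
  have hπ2 : π ≠ -π := fun e1 => hπ (by
    have h1 : π = 0 := zsmul_cancel_of_not_dvd D.pprime D.pzero (k := 2) (fun hd =>
      D.ptwo ((Nat.prime_dvd_prime_iff_eq D.pprime Nat.prime_two).mp (by exact_mod_cast hd)))
      (by rw [two_zsmul]; nth_rw 1 [e1]; exact neg_add_cancel π)
    rw [h1, zero_mul])
  -- the sign of a central element
  let sg : Z → ZMod 2 := fun z => if π * τ z = π then 0 else 1
  have sg_mul : ∀ x ∈ ⁅E, E⁆, ∀ y ∈ ⁅E, E⁆, sg (x * y) = sg x + sg y := fun x hx y hy => by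
    have e1 : π * τ (x * y) = π * τ x * τ y := by rw [map_mul, mul_assoc]
    rcases hπz x hx with h1 | h1 <;> rcases hπz y hy with h2 | h2 <;>
      · rw [h1] at e1
        first | rw [h2] at e1 | rw [neg_mul, h2] at e1
        try simp only [neg_neg] at e1
        simp only [sg, e1, h1, h2, hπ2.symm, if_true, if_false]
        try decide
  have hcm : ∀ x ∈ E, ∀ y ∈ E, ⁅x, y⁆ ∈ ⁅E, E⁆ := fun x hx y hy => Subgroup.commutator_mem_commutator hx hy
  let σ : Z → Z → ZMod 2 := fun x y => sg ⁅x, y⁆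
  have σ_left : ∀ x ∈ E, ∀ y ∈ E, ∀ w ∈ E, σ (x * y) w = σ x w + σ y w := fun x hx y hy w hw => by
    show sg ⁅x * y, w⁆ = _
    rw [commutatorElement_mul_left_eq_conj_mul, ← (D.central _ (hcm y hy w hw) x hx).eq, mul_inv_cancel_right,
      sg_mul _ (hcm y hy w hw) _ (hcm x hx w hw), add_comm]
  have σ_symm : ∀ x ∈ E, ∀ y ∈ E, σ x y = σ y x := fun x hx y hy => by
    show sg ⁅x, y⁆ = sg ⁅y, x⁆
    congr 1
    rw [← commutatorElement_inv y x]
    exact inv_eq_of_mul_eq_one_right (D.inv _ (hcm y hy x hx))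
  have σ_right : ∀ x ∈ E, ∀ y ∈ E, ∀ w ∈ E, σ x (y * w) = σ x y + σ x w := fun x hx y hy w hw => by
    rw [σ_symm x hx _ (mul_mem hy hw), σ_left y hy w hw x hx, σ_symm y hy x hx, σ_symm w hw x hx]
  -- conjugates
  let cj : ℕ → Z → Z := fun k e => c ^ k * e * (c ^ k)⁻¹
  have hσ0 : ∀ e ∈ E, ∀ k : ℕ, σ e (cj k e) = 0 →
      π * (τ e * qconj n (τ e) k - qconj n (τ e) k * τ e) = 0 := fun e he k h0 => by
    have h1 : π * τ ⁅e, cj k e⁆ = π := by
      by_contra h1
      simp [σ, sg, h1] at h0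
    rw [← D.tau_conj e k]
    rw [mul_sub, sub_eq_zero, map_comm_rel τ e (cj k e), ← mul_assoc, h1]
  have hzz : ∀ e ∈ E, τ e * τ e * (τ e * τ e) = 1 := fun e he => by
    rw [← map_mul, ← map_mul, D.inv _ (D.sq e he), map_one]
  have hzn : ∀ e ∈ E, τ e * τ e * n = n * (τ e * τ e) := fun e he => by
    rw [← map_mul]; exact D.omega (D.sq e he)
  have htwo : ∀ e ∈ E, ∀ k l : ℕ, ¬ (p : ℤ) ∣ k → ¬ (p : ℤ) ∣ l → ¬ (p : ℤ) ∣ (l : ℤ) - k →
      σ e (cj k e) = 0 → σ e (cj l e) = 0 → π * (τ e * n - n * τ e) = 0 := fun e he k l hk hl hkl h1 h2 =>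
    commute_of_two D.pprime D.pzero D.ptwo (hπE e he) (hzz e he) (hzn e he) hk hl hkl
      (hσ0 e he k h1) (hσ0 e he l h2)
  have hanti : ∀ e ∈ E, ∀ k l : ℕ, σ e (cj k e) ≠ 0 → σ e (cj l e) ≠ 0 →
      ((l * l : ℕ) - (k * k : ℕ) : ℤ) • π = 0 := fun e he k l hk hl => by
    have hA : ∀ j : ℕ, σ e (cj j e) ≠ 0 →
        (2 : ℤ) • (π * (τ e * τ e)) = ((j * j : ℕ) : ℤ) • (π * (τ e * (n * τ e * n) + n * τ e * n * τ e)) :=
      fun j hj => by
      have h1 : π * τ ⁅e, cj j e⁆ = -π :=
        (hπz _ (hcm e he _ (D.conj_mem he j))).resolve_left fun e1 => hj (if_pos e1)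
      have h2 : π * (τ e * qconj n (τ e) j + qconj n (τ e) j * τ e) = 0 := by
        rw [← D.tau_conj e j, mul_add, map_comm_rel τ e (cj j e), ← mul_assoc, h1, neg_mul]
        abel
      have h3 := hzn e he
      rw [← sub_eq_zero, ← h2, qconj]
      simp only [two_zsmul, Nat.cast_mul, mul_add, mul_sub, add_mul, sub_mul, mul_smul_comm, smul_mul_assoc,
        zsmul_sub, zsmul_add, mul_assoc]
      rw [show n * (τ e * τ e) = τ e * (τ e * n) by rw [← h3, mul_assoc]]
      abel
    set Bv := π * (τ e * (n * τ e * n) + n * τ e * n * τ e)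
    have h4 : ((l * l : ℕ) - (k * k : ℕ) : ℤ) • ((2 : ℤ) • (π * (τ e * τ e))) = 0 := by
      rw [sub_zsmul]
      conv_lhs => arg 1; rw [hA k hk]
      conv_lhs => arg 2; rw [hA l hl]
      rw [smul_smul, smul_smul, mul_comm]
      abel
    have h5 := congrArg (fun x => x * (τ e * τ e)) h4
    simp only [smul_mul_assoc, zero_mul, mul_assoc] at h5
    rw [← mul_assoc (τ e), show τ e * τ e * (τ e * τ e) = 1 from hzz e he, mul_one, smul_comm] at h5
    exact zsmul_cancel_of_not_dvd D.pprime D.pzero (fun hd =>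
      D.ptwo ((Nat.prime_dvd_prime_iff_eq D.pprime Nat.prime_two).mp (by exact_mod_cast hd))) h5
  have hπ0 : ∀ j : ℤ, ¬ (p : ℤ) ∣ j → j • π ≠ 0 := fun j hj e1 => hπ (by
    rw [zsmul_cancel_of_not_dvd D.pprime D.pzero hj e1, zero_mul])
  have h3le : 3 ≤ p := by have := D.pprime.two_le; have := D.ptwo; omega
  have small : ∀ j : ℤ, 0 < j → j < p → ¬ (p : ℤ) ∣ j := fun j h1 h2 hd => by
    have := Int.le_of_dvd h1 hd; omega
  rcases (show p = 3 ∨ 5 ≤ p by
    by_contra h; push Not at h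
    have : p = 4 := by omega
    exact absurd D.pprime (this ▸ by norm_num)) with hp3 | hp5
  swap
  · -- two exponents with trivial sign
    have hj : ∀ j : ℕ, 1 ≤ j → j ≤ 4 → ¬ (p : ℤ) ∣ j := fun j h1 h2 => small _ (by omega) (by omega)
    have h12 : σ e₀ (cj 1 e₀) = 0 ∨ σ e₀ (cj 2 e₀) = 0 := by
      by_contra! hh
      exact hπ0 _ (small _ (by norm_num) (by norm_num; omega)) (hanti e₀ he₀ 1 2 hh.1 hh.2)
    have h34 : σ e₀ (cj 3 e₀) = 0 ∨ σ e₀ (cj 4 e₀) = 0 := by
      by_contra! hh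
      refine hπ0 _ (fun hd => ?_) (hanti e₀ he₀ 3 4 hh.1 hh.2)
      have h7 : p ∣ 7 := by
        have : ((4 * 4 : ℕ) : ℤ) - ((3 * 3 : ℕ) : ℤ) = ((7 : ℕ) : ℤ) := by norm_num
        rw [this] at hd; exact_mod_cast hd
      have hp7 := (Nat.prime_dvd_prime_iff_eq D.pprime (by norm_num)).mp h7
      subst hp7
      -- `3 ≡ -4`: compare with the first pair
      rcases h12 with h | h
      · refine hπ0 _ (by norm_num) (hanti e₀ he₀ 2 3 (fun h2 => hπ ?_) hh.1)
        exact htwo e₀ he₀ 1 2 (hj 1 le_rfl (by norm_num)) (hj 2 (by norm_num) (by norm_num))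
          (small _ (by norm_num) (by norm_num)) h h2
      · refine hπ0 _ (by norm_num) (hanti e₀ he₀ 1 3 (fun h2 => hπ ?_) hh.1)
        exact htwo e₀ he₀ 1 2 (hj 1 le_rfl (by norm_num)) (hj 2 (by norm_num) (by norm_num))
          (small _ (by norm_num) (by norm_num)) h2 h
    rcases h12 with h | h <;> rcases h34 with h' | h' <;>
      exact hπ (htwo e₀ he₀ _ _ (hj _ (by norm_num) (by norm_num)) (hj _ (by norm_num) (by norm_num))
        (small _ (by norm_num) (by norm_num; omega)) h h')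
  · -- characteristic three
    subst hp3
    have hr5 := D.rfive rfl
    have hτc3 : τ (c ^ 3) = 1 := by
      rw [D.tau_pow, zsmul_eq_mul, Int.cast_natCast, D.pzero, zero_mul, add_zero]
    have hs : ∀ e ∈ E, π * (τ e * n - n * τ e) ≠ 0 → σ e (cj 1 e) = 1 := by
      intro e he hne
      by_contra h1
      have h10 : σ e (cj 1 e) = 0 := by
        rcases (show σ e (cj 1 e) = 0 ∨ σ e (cj 1 e) = 1 from
          (by decide : ∀ x : ZMod 2, x = 0 ∨ x = 1) _) with h | h
        · exact h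
        · exact absurd h h1
      refine hne (htwo e he 1 2 (small _ (by norm_num) (by norm_num)) (small _ (by norm_num) (by norm_num))
        (small _ (by norm_num) (by norm_num)) h10 ?_)
      -- conjugate the first relation by `c²`
      have hcc : τ (c ^ 2 * ⁅e, cj 1 e⁆ * (c ^ 2)⁻¹) = τ ⁅cj 2 e, e⁆ := by
        have e1 : c ^ 2 * ⁅e, cj 1 e⁆ * (c ^ 2)⁻¹ = ⁅cj 2 e, c ^ 3 * e * (c ^ 3)⁻¹⁆ := by
          simp only [cj, commutatorElement_def, pow_succ, pow_zero, one_mul]; group
        have e2 : τ (c ^ 3)⁻¹ = 1 := by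
          calc τ (c ^ 3)⁻¹ = τ (c ^ 3)⁻¹ * τ (c ^ 3) := by rw [hτc3, mul_one]
            _ = 1 := tau_cancel' τ _
        rw [e1]
        simp only [commutatorElement_def, map_mul, mul_inv_rev, inv_inv, e2, hτc3, one_mul, mul_one]
      rw [σ_symm e he _ (D.conj_mem he 2)]
      show sg ⁅cj 2 e, e⁆ = 0
      have hπc : π * τ (c ^ 2) = τ (c ^ 2) * π := by
        have : π * τ c = τ c * π := by
          rw [show τ c = n + 1 by rw [hn, sub_add_cancel], mul_add, add_mul, hπn, mul_one, one_mul]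
        rw [pow_two, map_mul, ← mul_assoc, this, mul_assoc, this, mul_assoc]
      have h2 : π * τ ⁅e, cj 1 e⁆ = π := by
        by_contra h2
        simp [σ, sg, h2] at h10
      have h3 : π * τ ⁅cj 2 e, e⁆ = π := by
        rw [← hcc, map_mul, map_mul, ← mul_assoc, ← mul_assoc, hπc, mul_assoc (τ (c ^ 2)), h2, ← hπc, mul_assoc,
          tau_cancel, mul_one]
      simp [sg, h3]
    let N : Subgroup Z :=
      { carrier := {e | e ∈ E ∧ π * (τ e * n - n * τ e) = 0}
        one_mem' := ⟨one_mem E, by simp⟩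
        mul_mem' := fun {x y} hx hy => ⟨mul_mem hx.1 hy.1, by
          have e1 : π * (τ (x * y) * n - n * τ (x * y)) =
              τ x * (π * (τ y * n - n * τ y)) + π * (τ x * n - n * τ x) * τ y := by
            simp only [map_mul, mul_sub, sub_mul, ← mul_assoc, hπE x hx.1]
            abel
          rw [e1, hx.2, hy.2, mul_zero, zero_mul, add_zero]⟩
        inv_mem' := fun {x} hx => ⟨inv_mem hx.1, by
          have e1 : π * (τ x⁻¹ * n - n * τ x⁻¹) = -(τ x⁻¹ * (π * (τ x * n - n * τ x)) * τ x⁻¹) := by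
            rw [← mul_assoc, ← hπE x⁻¹ (inv_mem hx.1)]
            simp only [mul_sub, sub_mul, mul_assoc, tau_cancel, mul_one]
            rw [← mul_assoc (τ x⁻¹) (τ x), tau_cancel', one_mul]
            abel
          rw [e1, hx.2, mul_zero, zero_mul, neg_zero]⟩ }
    have hNa : ∀ e ∈ N, a * e * a⁻¹ ∈ N := fun e he => by
      refine ⟨(Subgroup.mem_normalizer_iff.mp D.anorm e).mp he.1, ?_⟩
      have hna : n * τ a = τ a * n := by
        rw [hn, sub_mul, mul_sub, one_mul, mul_one, ← map_mul, ← map_mul, D.comm.eq]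
      have hnai : n * τ a⁻¹ = τ a⁻¹ * n := by
        calc n * τ a⁻¹ = τ a⁻¹ * (τ a * n) * τ a⁻¹ := by rw [← mul_assoc, tau_cancel', one_mul]
          _ = _ := by rw [← hna, mul_assoc, mul_assoc, tau_cancel, mul_one]
      have e1 : π * (τ (a * e * a⁻¹) * n - n * τ (a * e * a⁻¹)) =
          τ a * (π * (τ e * n - n * τ e)) * τ a⁻¹ := by
        have e2 : τ (a * e * a⁻¹) * n - n * τ (a * e * a⁻¹) = τ a * (τ e * n - n * τ e) * τ a⁻¹ := by
          simp only [map_mul, mul_sub, sub_mul, mul_assoc, ← hnai]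
          rw [← mul_assoc n (τ a), hna, mul_assoc]
        rw [e2, ← mul_assoc π, ← mul_assoc π, hπa, mul_assoc (τ a) π]
      rw [e1, he.2, mul_zero, zero_mul]
    have hEN : ⁅E, E⁆ ≤ N := fun z hz => ⟨hEE hz, by rw [D.omega hz, sub_self, mul_zero]⟩
    have haN : Subgroup.zpowers a ≤ Subgroup.normalizer (N : Set Z) := by
      refine Subgroup.zpowers_le.mpr (Subgroup.mem_normalizer_iff_map_conj_eq.mpr ?_)
      refine Subgroup.eq_of_le_of_card_ge ?_ (Subgroup.card_map_of_injective (MulEquiv.injective _)).ge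
      rintro _ ⟨e, he, rfl⟩
      exact hNa e he
    have hmoved : ∀ j : ℕ, ¬ r ∣ j → ∀ x ∈ E, x⁻¹ * (a ^ j * x * (a ^ j)⁻¹) ∈ N → x ∈ N := by
      intro j hj x hx hxj
      have hle : Subgroup.zpowers a = Subgroup.zpowers (a ^ j) :=
        le_antisymm (Subgroup.zpowers_le.mpr (mem_zpowers_pow_iff.mpr
          ((Nat.Coprime.coprime_dvd_right (orderOf_dvd_of_pow_eq_one D.pow)
            ((D.rprime.coprime_iff_not_dvd).mpr hj).symm).gcd_eq_one)))
          (Subgroup.zpowers_le.mpr (Subgroup.pow_mem _ (Subgroup.mem_zpowers a) j))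
      obtain ⟨u, hu, hxu⟩ := Coprime.exists_fixed_in_coset (A := Subgroup.zpowers a) (k := x) haN
        (D.cop.coprime_dvd_right (Subgroup.card_dvd_of_le fun y hy => hy.1))
        (Or.inl (Coprime.isSolvable_of_isMulCommutative _)) (by
          intro b hb
          rw [hle] at hb
          obtain ⟨i, -, rfl⟩ := Finset.mem_image.mp ((mem_zpowers_iff_mem_range_orderOf).mp hb)
          induction i with
          | zero => simpa only [pow_zero, one_mul, inv_one, mul_one, inv_mul_cancel] using N.one_mem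
          | succ i ih =>
            have ihm := ih (Subgroup.pow_mem _ (Subgroup.mem_zpowers _) i)
            have h2 := (Subgroup.mem_normalizer_iff.mp (Subgroup.pow_mem _ (Subgroup.pow_mem _
              (Subgroup.zpowers_le.mp haN) j) i) _).mp hxj
            have h3 := mul_mem ihm h2
            convert h3 using 1
            rw [pow_succ]
            group)
      have hfa : Commute (x * u) a :=
        ((Subgroup.mem_centralizer_iff.mp hxu) a (Subgroup.mem_zpowers a)).symm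
      have := mul_mem (hEN (D.fixed _ (mul_mem hx hu.1) hfa)) (inv_mem hu)
      simpa using this
    -- the quotient
    haveI hNn : (N.subgroupOf E).Normal :=
      (Subgroup.normal_subgroupOf_iff_le_normalizer (fun y (hy : y ∈ N) => hy.1)).mpr
        (Coprime.CommGen.le_normalizer_of_commutator_le (fun y (hy : y ∈ N) => hy.1) hEN)
    let Q := E ⧸ N.subgroupOf E
    letI : Fintype Q := Fintype.ofFinite Q
    have he0N : e₀ ∉ N := fun hh => hπ hh.2
    let orb : ℕ → Q := fun j => QuotientGroup.mk (⟨a ^ j * e₀ * (a ^ j)⁻¹,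
      (Subgroup.mem_normalizer_iff.mp (Subgroup.pow_mem _ D.anorm j) e₀).mp he₀⟩ : E)
    have horb1 : ∀ j, orb j ≠ 1 := fun j e1 => by
      have h1 : a ^ j * e₀ * (a ^ j)⁻¹ ∈ N :=
        (QuotientGroup.eq_one_iff (N := N.subgroupOf E) ⟨a ^ j * e₀ * (a ^ j)⁻¹,
          (Subgroup.mem_normalizer_iff.mp (Subgroup.pow_mem _ D.anorm j) e₀).mp he₀⟩).mp e1
      exact he0N ((Subgroup.mem_normalizer_iff.mp (Subgroup.pow_mem _ (Subgroup.zpowers_le.mp haN) j) _).mpr h1)
    have horb : ∀ i j : ℕ, i < j → j < r → orb i ≠ orb j := by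
      intro i j hij hjr e1
      have h1 : (a ^ i * e₀ * (a ^ i)⁻¹)⁻¹ * (a ^ j * e₀ * (a ^ j)⁻¹) ∈ N := by
        exact Subgroup.mem_subgroupOf.mp (QuotientGroup.eq.mp e1)
      refine horb1 i ((QuotientGroup.eq_one_iff _).mpr (hmoved (j - i) ?_ _
        ((Subgroup.mem_normalizer_iff.mp (Subgroup.pow_mem _ D.anorm i) e₀).mp he₀) ?_))
      · exact fun hd => by have := Nat.le_of_dvd (by omega) hd; omega
      · show (a ^ i * e₀ * (a ^ i)⁻¹)⁻¹ * (a ^ (j - i) * (a ^ i * e₀ * (a ^ i)⁻¹) * (a ^ (j - i))⁻¹) ∈ N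
        rw [show a ^ (j - i) * (a ^ i * e₀ * (a ^ i)⁻¹) * (a ^ (j - i))⁻¹ =
          (a ^ (j - i) * a ^ i) * e₀ * (a ^ (j - i) * a ^ i)⁻¹ by group, ← pow_add, Nat.sub_add_cancel hij.le]
        exact h1
    have hcard : r + 1 ≤ Fintype.card Q := by
      let f : Option (Fin r) → Q := fun o => o.elim 1 fun i => orb i
      have hf : Function.Injective f := by
        rintro (_ | i) (_ | j) e1
        · rfl
        · exact absurd e1.symm (horb1 j)
        · exact absurd e1 (horb1 i)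
        · rcases lt_trichotomy (i : ℕ) j with h | h | h
          · exact absurd e1 (horb i j h j.2)
          · rw [Fin.ext h]
          · exact absurd e1.symm (horb j i h i.2)
      have := Fintype.card_le_of_injective f hf
      simpa using this
    have hsqQ : ∀ u : Q, u * u = 1 := fun u => by
      obtain ⟨u, rfl⟩ := QuotientGroup.mk_surjective u
      rw [← QuotientGroup.mk_mul, QuotientGroup.eq_one_iff]
      exact hEN (D.sq _ u.2)
    obtain ⟨x, hx⟩ : ∃ x : Q, x ≠ 1 := by
      by_contra! hh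
      have : Fintype.card Q ≤ 1 := Fintype.card_le_one_iff.mpr fun u v => (hh u).trans (hh v).symm
      omega
    obtain ⟨y, hy⟩ : ∃ y : Q, y ∉ ({1, x} : Finset Q) := by
      by_contra! hh
      have : Fintype.card Q ≤ 2 := (Finset.card_le_card fun u _ => hh u).trans Finset.card_le_two
      omega
    obtain ⟨w, hw⟩ : ∃ w : Q, w ∉ ({1, x, y, x * y} : Finset Q) := by
      by_contra! hh
      have : Fintype.card Q ≤ 4 := (Finset.card_le_card fun u _ => hh u).trans Finset.card_le_four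
      omega
    simp only [Finset.mem_insert, Finset.mem_singleton, not_or] at hy hw
    have hinvQ : ∀ u : Q, u⁻¹ = u := fun u => inv_eq_of_mul_eq_one_right (hsqQ u)
    have hne' : ∀ u v : Q, u ≠ v → u * v ≠ 1 := fun u v huv e1 => huv ((eq_inv_of_mul_eq_one_left e1).trans (hinvQ v))
    obtain ⟨x, rfl⟩ := QuotientGroup.mk_surjective x
    obtain ⟨y, rfl⟩ := QuotientGroup.mk_surjective y
    obtain ⟨w, rfl⟩ := QuotientGroup.mk_surjective w
    have hnot : ∀ u : E, (QuotientGroup.mk u : Q) ≠ 1 → σ (u : Z) (cj 1 u) = 1 := fun u hu =>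
      hs u u.2 fun hh => hu ((QuotientGroup.eq_one_iff u).mpr ⟨u.2, hh⟩)
    let β : Z → Z → ZMod 2 := fun u v => σ u (cj 1 v) + σ v (cj 1 u)
    have hcjm : ∀ u v : Z, cj 1 (u * v) = cj 1 u * cj 1 v := fun u v => by simp only [cj]; group
    have hC : ∀ u ∈ E, cj 1 u ∈ E := fun u hu => D.conj_mem hu 1
    have hadd : ∀ u ∈ E, ∀ v ∈ E, σ (u * v) (cj 1 (u * v)) = σ u (cj 1 u) + σ v (cj 1 v) + β u v :=
      fun u hu v hv => by
      rw [hcjm, σ_right _ (mul_mem hu hv) _ (hC u hu) _ (hC v hv), σ_left u hu v hv _ (hC u hu),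
        σ_left u hu v hv _ (hC v hv)]
      simp only [β]; ring
    have hβadd : ∀ u ∈ E, ∀ v ∈ E, ∀ v' ∈ E, β u (v * v') = β u v + β u v' := fun u hu v hv v' hv' => by
      simp only [β]
      rw [hcjm, σ_right u hu _ (hC v hv) _ (hC v' hv'), σ_left v hv v' hv' _ (hC u hu)]
      ring
    have sx := hnot x hx
    have sy := hnot y hy.1
    have sw := hnot w hw.1
    have sxy := hnot (x * y) (by rw [QuotientGroup.mk_mul]; exact hne' _ _ (Ne.symm hy.2))
    have sxw := hnot (x * w) (by rw [QuotientGroup.mk_mul]; exact hne' _ _ (Ne.symm hw.2.1))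
    have syw := hnot (y * w) (by rw [QuotientGroup.mk_mul]; exact hne' _ _ (Ne.symm hw.2.2.1))
    have sxyw := hnot (x * y * w) (by
      rw [QuotientGroup.mk_mul, QuotientGroup.mk_mul]; exact hne' _ _ (Ne.symm hw.2.2.2))
    rw [Subgroup.coe_mul] at sxy sxw syw
    rw [Subgroup.coe_mul, Subgroup.coe_mul, mul_assoc] at sxyw
    rw [hadd _ x.2 _ y.2, sx, sy] at sxy
    rw [hadd _ x.2 _ w.2, sx, sw] at sxw
    rw [hadd _ x.2 _ (mul_mem y.2 w.2), syw, sx, hβadd _ x.2 _ y.2 _ w.2] at sxyw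
    revert sxy sxw sxyw
    generalize β (x : Z) y = b1
    generalize β (x : Z) w = b2
    revert b1 b2
    decide

end Cfsg.Agent.Lib.ShultFlavell
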