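import Cfsg.Agent.Lib.ShultFlavell.Central
import Cfsg.Agent.Lib.ShultFlavell.ExcFix

/-!
Cores of invariant subgroups of a minimal counterexample and the uniqueness lemma of Bender.
-/

set_option autoImplicit false
set_option linter.style.haveILetI false
set_option linter.unusedSectionVars false

namespace Cfsg.Agent.Lib.ShultFlavell

open Module (End)
open scoped commutatorElement

variable {K : Type*} [Field K] {W : Type*} [AddCommGroup W] [Module K W]
variable {Y : Type*} [Group Y]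

/-- The `l`-core of a subgroup, in the ambient group. -/
def pc (l : ℕ) (X : Subgroup Y) : Subgroup Y := (Cfsg.pCore l X).map X.subtype

theorem pc_le {l : ℕ} {X : Subgroup Y} : pc l X ≤ X := Subgroup.map_subtype_le _

theorem pc_isP {l : ℕ} {X : Subgroup Y} : IsPGroup l (pc l X) := PLocal.Cores.isPGroup_pCore.map _

theorem normalizer_le_normalizer_pc {l : ℕ} {X : Subgroup Y} :
    Subgroup.normalizer (X : Set Y) ≤ Subgroup.normalizer (pc l X : Set Y) := by
  haveI := PLocal.Cores.pCore_characteristic (G := X) (p := l)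
  exact Coprime.OmegaDetect.normalizer_le_normalizer_char X _

theorem le_normalizer_pc {l : ℕ} {X : Subgroup Y} : X ≤ Subgroup.normalizer (pc l X : Set Y) :=
  Subgroup.le_normalizer.trans normalizer_le_normalizer_pc

theorem le_pc {l : ℕ} {R X : Subgroup Y} (hR : IsPGroup l R) (hRX : R ≤ X)
    (hn : X ≤ Subgroup.normalizer (R : Set Y)) : R ≤ pc l X :=
  PLocal.Cores.le_map_pCore_of_le_normalizer hR hRX hn

/-- Cores for different primes commute. -/
theorem pc_commute [Finite Y] {l l' : ℕ} [Fact l.Prime] [Fact l'.Prime] (hne : l ≠ l') {X : Subgroup Y} :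
    ∀ x ∈ pc l X, ∀ y ∈ pc l' X, x * y = y * x := by
  intro x hx y hy
  refine commutatorElement_eq_one_iff_mul_comm.mp ?_
  have hd : pc l X ⊓ pc l' X = ⊥ :=
    disjoint_iff.mp (IsPGroup.disjoint_of_ne l l' hne _ _ pc_isP pc_isP)
  refine (Subgroup.eq_bot_iff_forall _).mp hd _ ⟨?_, ?_⟩
  · rw [commutatorElement_def, show x * y * x⁻¹ * y⁻¹ = x * (y * x⁻¹ * y⁻¹) by group]
    exact mul_mem hx ((Subgroup.mem_normalizer_iff.mp (le_normalizer_pc (pc_le hy)) _).mp ((pc l X).inv_mem hx))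
  · rw [commutatorElement_def]
    exact mul_mem ((Subgroup.mem_normalizer_iff.mp (le_normalizer_pc (pc_le hx)) y).mp hy) ((pc l' X).inv_mem hy)

variable [Finite Y]
variable {ρ : Y →* End K W} {a : Y} {r p : ℕ} {G : Subgroup Y}
variable [IsAlgClosed K] [FiniteDimensional K W] [Nontrivial W] [CharP K p]

theorem Ctx.two_ne_p (h : Ctx ρ a r p G) : (2 : ℕ) ≠ p := Ne.symm h.fermat.1

theorem Ctx.pc_comm (h : Ctx ρ a r p G) {X : Subgroup Y} :
    ∀ x ∈ pc 2 X, ∀ y ∈ pc p X, x * y = y * x := by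
  haveI := Fact.mk h.pprime
  haveI : Fact (Nat.Prime 2) := ⟨Nat.prime_two⟩
  exact pc_commute h.two_ne_p

/-- Moved `p`-subgroups lie in the `p`-core. -/
theorem Ctx.movedP_le_pc (h : Ctx ρ a r p G) {X P : Subgroup Y} (hX : X < G)
    (haX : a ∈ Subgroup.normalizer (X : Set Y)) (hP : IsPGroup p P) (hPX : P ≤ X)
    (haP : a ∈ Subgroup.normalizer (P : Set Y)) : ⁅P, Subgroup.zpowers a⁆ ≤ pc p X := by
  haveI := Fact.mk h.pprime
  obtain ⟨N, hNT, hTN, hNp, hq⟩ := h.ih X hX haX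
  set T := ⁅X, Subgroup.zpowers a⁆
  have hTX : T ≤ X := Coprime.commutator_le_of_le_normalizer (zpowers_le_normalizer haX)
  have hXT : X ≤ Subgroup.normalizer (T : Set Y) := Subgroup.normalizer_commutator_ge_left X _
  have hNO : N ≤ pc p X := (le_pc hNp hNT hTN).trans
    (le_pc pc_isP (pc_le.trans hTX) (hXT.trans normalizer_le_normalizer_pc))
  intro x hx
  have hxP : x ∈ P := Coprime.commutator_le_of_le_normalizer (zpowers_le_normalizer haP) hx
  obtain ⟨k, hk⟩ := hq x ((Subgroup.commutator_mono hPX le_rfl) hx)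
  obtain ⟨n, hn⟩ := hP ⟨x, hxP⟩
  have hn' : x ^ p ^ n = 1 := by simpa using congrArg Subtype.val hn
  have hcop : Nat.Coprime (2 ^ k) (orderOf x) :=
    ((Nat.coprime_primes Nat.prime_two h.pprime).mpr h.two_ne_p).pow k n |>.coprime_dvd_right
      (orderOf_dvd_of_pow_eq_one hn')
  obtain ⟨j, hj⟩ := exists_pow_eq_self_of_coprime hcop
  rw [← hj]
  exact pow_mem (hNO hk) j

/-- A `2`-subgroup of the moved part centralising the `p`-core lies in the `2`-core. -/
theorem Ctx.le_pc_two_of_le (h : Ctx ρ a r p G) {X D : Subgroup Y} (hX : X < G)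
    (haX : a ∈ Subgroup.normalizer (X : Set Y)) (hDT : D ≤ ⁅X, Subgroup.zpowers a⁆)
    (hD : IsPGroup 2 D) (hc : ∀ x ∈ D, ∀ y ∈ pc p X, x * y = y * x) :
    D ≤ pc 2 X := by
  classical
  haveI := Fact.mk h.pprime
  haveI : Fact (Nat.Prime 2) := ⟨Nat.prime_two⟩
  obtain ⟨N, hNT, hTN, hNp, hq⟩ := h.ih X hX haX
  set T := ⁅X, Subgroup.zpowers a⁆
  have hTX : T ≤ X := Coprime.commutator_le_of_le_normalizer (zpowers_le_normalizer haX)
  have hXT : X ≤ Subgroup.normalizer (T : Set Y) := Subgroup.normalizer_commutator_ge_left X _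
  have hNO : N ≤ pc p X := (le_pc hNp hNT hTN).trans
    (le_pc pc_isP (pc_le.trans hTX) (hXT.trans normalizer_le_normalizer_pc))
  set M := T ⊓ Subgroup.centralizer (pc p X : Set Y) with hM
  have hMX : M ≤ X := inf_le_left.trans hTX
  have hXM : X ≤ Subgroup.normalizer (M : Set Y) := fun x hx =>
    mem_normalizer_inf (hXT hx) (by
      rw [Subgroup.mem_normalizer_iff_map_conj_eq]
      refine Subgroup.eq_of_le_of_card_ge ?_ (Subgroup.card_map_of_injective (MulEquiv.injective _)).ge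
      rintro _ ⟨u, hu, rfl⟩
      refine Subgroup.mem_centralizer_iff.mpr fun y hy => ?_
      have h1 := Subgroup.mem_centralizer_iff.mp hu _
        ((Subgroup.mem_normalizer_iff''.mp (le_normalizer_pc hx) y).mp hy)
      show y * (x * u * x⁻¹) = x * u * x⁻¹ * y
      calc y * (x * u * x⁻¹) = x * (x⁻¹ * y * x * u) * x⁻¹ := by group
        _ = _ := by rw [h1]; group)
  set O' := (pc p X).subgroupOf M
  have hOc : O' ≤ Subgroup.center M := fun x hx => Subgroup.mem_center_iff.mpr fun g => Subtype.ext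
    ((Subgroup.mem_centralizer_iff.mp g.2.2 x (Subgroup.mem_subgroupOf.mp hx)).symm)
  haveI : O'.Normal := (Subgroup.normal_subgroupOf_iff_le_normalizer_inf).mpr
    (fun x hx => mem_normalizer_inf (le_normalizer_pc (hMX hx)) (Subgroup.le_normalizer hx))
  have hQ : IsPGroup 2 (M ⧸ O') := by
    intro u
    obtain ⟨x, rfl⟩ := QuotientGroup.mk_surjective u
    obtain ⟨k, hk⟩ := hq x x.2.1
    refine ⟨k, (QuotientGroup.eq_one_iff (x ^ 2 ^ k)).mpr ?_⟩
    rw [Subgroup.mem_subgroupOf, Subgroup.coe_pow]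
    exact hNO hk
  haveI : Group.IsNilpotent (M ⧸ O') := hQ.isNilpotent
  haveI : Group.IsNilpotent M := Subgroup.isNilpotent_of_ker_le_center (QuotientGroup.mk' O')
    (by rw [QuotientGroup.ker_mk']; exact hOc)
  have hDM : D ≤ M := le_inf hDT
    fun x hx => Subgroup.mem_centralizer_iff.mpr fun y hy => (hc x hx y hy).symm
  obtain ⟨S, hS⟩ := (hD.comap_subtype (K := M)).exists_le_sylow
  haveI : (S : Subgroup M).Normal :=
    Sylow.normal_of_normalizerCondition Group.normalizerCondition_of_isNilpotent S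
  have h1 : D ≤ pc 2 M := by
    intro x hx
    exact ⟨⟨x, hDM hx⟩, PLocal.Cores.le_pCore S.isPGroup' (hS (Subgroup.mem_subgroupOf.mpr hx)), rfl⟩
  exact h1.trans (le_pc pc_isP (pc_le.trans hMX) (hXM.trans normalizer_le_normalizer_pc))

/-- A moved `2`-subgroup centralising the `p`-core lies in the `2`-core. -/
theorem Ctx.le_pc_two (h : Ctx ρ a r p G) {X D : Subgroup Y} (hX : X < G)
    (haX : a ∈ Subgroup.normalizer (X : Set Y)) (hDX : D ≤ X) (hD : IsPGroup 2 D)
    (hgen : ⁅D, Subgroup.zpowers a⁆ = D) (hc : ∀ x ∈ D, ∀ y ∈ pc p X, x * y = y * x) :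
    D ≤ pc 2 X :=
  h.le_pc_two_of_le hX haX (hgen.symm.le.trans (Subgroup.commutator_mono hDX le_rfl)) hD hc

/-- A maximal invariant subgroup. -/
structure MaxInv (a : Y) (G X : Subgroup Y) : Prop where
  lt : X < G
  norm : a ∈ Subgroup.normalizer (X : Set Y)
  max : ∀ X' : Subgroup Y, X ≤ X' → X' < G → a ∈ Subgroup.normalizer (X' : Set Y) → X' = X

omit [Finite Y] in
theorem exists_maxInv [Finite Y] {a : Y} {G X : Subgroup Y} (hX : X < G)
    (ha : a ∈ Subgroup.normalizer (X : Set Y)) : ∃ X', X ≤ X' ∧ MaxInv a G X' := by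
  obtain ⟨X', hX', hmax⟩ := Set.Finite.exists_maximal
    (Set.toFinite {Z : Subgroup Y | X ≤ Z ∧ Z < G ∧ a ∈ Subgroup.normalizer (Z : Set Y)})
    ⟨X, le_rfl, hX, ha⟩
  exact ⟨X', hX'.1, hX'.2.1, hX'.2.2, fun Z hle hlt hn =>
    le_antisymm (hmax ⟨hX'.1.trans hle, hlt, hn⟩ hle) hle⟩

/-- A non-trivial invariant `p`-subgroup has proper normaliser. -/
theorem Ctx.normalizer_lt (h : Ctx ρ a r p G) {R : Subgroup Y} (hR : R ≤ G) (hp : IsPGroup p R)
    (hne : R ≠ ⊥) (ha : a ∈ Subgroup.normalizer (R : Set Y)) :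
    G ⊓ Subgroup.normalizer (R : Set Y) < G := by
  refine inf_le_left.lt_of_ne fun e => hne ?_
  haveI : R.Normal := h.normal_of (fun g hg => (e.symm ▸ hg : g ∈ G ⊓ Subgroup.normalizer (R : Set Y)).2) ha
  exact h.pgroup_eq_bot hR hp

theorem Ctx.norm_norm (h : Ctx ρ a r p G) {R : Subgroup Y} (ha : a ∈ Subgroup.normalizer (R : Set Y)) :
    a ∈ Subgroup.normalizer ((G ⊓ Subgroup.normalizer (R : Set Y) : Subgroup Y) : Set Y) :=
  mem_normalizer_inf h.a_norm (Subgroup.le_normalizer ha)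

theorem Ctx.normalizer_pc_le (h : Ctx ρ a r p G) {X : Subgroup Y} (hX : MaxInv a G X) (hne : pc p X ≠ ⊥) :
    G ⊓ Subgroup.normalizer (pc p X : Set Y) ≤ X := by
  have ha := normalizer_le_normalizer_pc (l := p) hX.norm
  exact (hX.max _ (le_inf hX.lt.le le_normalizer_pc)
    (h.normalizer_lt (pc_le.trans hX.lt.le) pc_isP hne ha) (h.norm_norm ha)).le

/-- The uniqueness lemma of Bender. -/
theorem Ctx.bender (h : Ctx ρ a r p G) {X Z D : Subgroup Y} (hX : MaxInv a G X) (hne : pc p X ≠ ⊥)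
    (hZ : Z < G) (haZ : a ∈ Subgroup.normalizer (Z : Set Y)) (hOZ : pc p X ≤ Z) (hDX : D ≤ pc 2 X)
    (hgen : ⁅D, Subgroup.zpowers a⁆ = D) (hDZ : D ≤ Z) : D ≤ pc 2 Z := by
  haveI := Fact.mk h.pprime
  haveI : Fact (Nat.Prime 2) := ⟨Nat.prime_two⟩
  have hD2 : IsPGroup 2 D := pc_isP.to_le hDX
  have hcop : (Nat.card D).Coprime p := by
    obtain ⟨n, hn⟩ := IsPGroup.iff_card.mp hD2
    exact hn ▸ ((Nat.coprime_primes Nat.prime_two h.pprime).mpr h.two_ne_p).pow_left n
  refine h.le_pc_two hZ haZ hDZ hD2 hgen ?_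
  have hq : D ≤ Subgroup.centralizer (pc p Z : Set Y) := by
    refine Coprime.le_centralizer_of_pxq (P := pc p X) pc_isP hcop pc_isP ?_
      (hOZ.trans le_normalizer_pc) (hDZ.trans le_normalizer_pc) ?_
    · exact fun y hy => Subgroup.mem_centralizer_iff.mpr fun x hx => h.pc_comm x (hDX hx) y hy
    · rintro u ⟨hu, huc⟩
      refine Subgroup.mem_centralizer_iff.mpr fun d hd => ?_
      have huX : u ∈ X := h.normalizer_pc_le hX hne
        ⟨hZ.le (pc_le hu), Subgroup.centralizer_le_normalizer _ huc⟩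
      refine commutatorElement_eq_one_iff_mul_comm.mp ?_
      refine (Subgroup.eq_bot_iff_forall _).mp (disjoint_iff.mp (IsPGroup.disjoint_of_ne 2 p h.two_ne_p
        (pc 2 X) (pc p Z) pc_isP pc_isP)) _ ⟨?_, ?_⟩
      · rw [commutatorElement_def, show d * u * d⁻¹ * u⁻¹ = d * (u * d⁻¹ * u⁻¹) by group]
        exact mul_mem (hDX hd) ((Subgroup.mem_normalizer_iff.mp (le_normalizer_pc huX) _).mp
          ((pc 2 X).inv_mem (hDX hd)))
      · rw [commutatorElement_def]
        exact mul_mem ((Subgroup.mem_normalizer_iff.mp (le_normalizer_pc (hDZ hd)) u).mp hu) ((pc p Z).inv_mem hu)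
  exact fun x hx y hy => ((Subgroup.mem_centralizer_iff.mp (hq hx)) y hy).symm

/-- A mixed maximal invariant subgroup. -/
structure Member (p : ℕ) (a : Y) (G X : Subgroup Y) : Prop extends MaxInv a G X where
  hU : ⁅pc p X, Subgroup.zpowers a⁆ ≠ ⊥
  hD : ⁅pc 2 X, Subgroup.zpowers a⁆ ≠ ⊥

omit [Finite Y] in
theorem Member.pc_ne {X : Subgroup Y} (hX : Member p a G X) : pc p X ≠ ⊥ := fun e =>
  hX.hU (by rw [e, Subgroup.commutator_bot_left])

/-- A proper invariant subgroup containing the cores of a mixed subgroup lies in a mixed one. -/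
theorem Ctx.member_extend (h : Ctx ρ a r p G) {X Z : Subgroup Y} (hX : Member p a G X) (hZ : Z < G)
    (haZ : a ∈ Subgroup.normalizer (Z : Set Y)) (hOZ : pc p X ≤ Z)
    (hDZ : ⁅pc 2 X, Subgroup.zpowers a⁆ ≤ Z) : ∃ X', Z ≤ X' ∧ Member p a G X' := by
  obtain ⟨X', hZX', hX'⟩ := exists_maxInv hZ haZ
  have haO := normalizer_le_normalizer_pc (l := p) hX.norm
  have haD := normalizer_le_normalizer_pc (l := 2) hX.norm
  have hidem := h.comm_idem (X := pc 2 X) (pc_le.trans hX.lt.le) haD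
  have hidemU := h.comm_idem (X := pc p X) (pc_le.trans hX.lt.le) haO
  have h1 : ⁅pc 2 X, Subgroup.zpowers a⁆ ≤ pc 2 X' :=
    h.bender hX.toMaxInv hX.pc_ne hX'.lt hX'.norm (hOZ.trans hZX')
      (Coprime.commutator_le_of_le_normalizer (zpowers_le_normalizer haD)) hidem (hDZ.trans hZX')
  have h2 : ⁅pc p X, Subgroup.zpowers a⁆ ≤ pc p X' :=
    h.movedP_le_pc hX'.lt hX'.norm pc_isP (hOZ.trans hZX') haO
  refine ⟨X', hZX', hX', fun e => hX.hU (le_bot_iff.mp ?_), fun e => hX.hD (le_bot_iff.mp ?_)⟩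
  · exact hidemU.symm.le.trans ((Subgroup.commutator_mono h2 le_rfl).trans e.le)
  · exact hidem.symm.le.trans ((Subgroup.commutator_mono h1 le_rfl).trans e.le)

end Cfsg.Agent.Lib.ShultFlavell
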