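import Cfsg.Agent.GenA.ShultGross.Scalar

/-!
In the exceptional case of the fixed point lemma for a scalar-centre group, the operator lies in
the span of the group: whatever commutes with the group commutes with the operator.
-/

set_option autoImplicit false
set_option linter.style.haveILetI false

namespace Cfsg.Agent.Lib.ShultFlavell

open Module (End finrank)
open Cfsg.Agent.GenA.ShultGross
open Cfsg.Agent.PLocal.TheoremB (QIrred schur density)
open scoped commutatorElement

variable {K : Type*} [Field K] {P : ℕ} [NeZero P] {ζ : K}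

variable {U : Type*} [AddCommGroup U] [Module K U] [FiniteDimensional K U]

theorem exists_all_eigen {ι : Type*} [Fintype ι] [DecidableEq ι] (hP3 : 2 ≤ P)
    (hζ : IsPrimitiveRoot ζ P) (hP : (P : K) ≠ 0) {T : End K U} (hT : T ^ P = 1) {e : ι → End K U}
    (hli : LinearIndependent K e) (hcard : Fintype.card ι = finrank K U * finrank K U)
    (hone : 1 < finrank K U) (π : Equiv.Perm ι) (i₀ : ι) (hi₀ : e i₀ = 1) (hπP : π ^ P = 1)
    (hfree : ∀ i, i ≠ i₀ → ∀ k : ℕ, (π ^ k) i = i → P ∣ k) (hfix : π i₀ = i₀) (s : ι → K)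
    (hs : ∀ i, T * e i = s i • (e (π i) * T)) :
    (∀ j : ZMod P, proj ζ T j ≠ 0) ∨
      (finrank K U + 1 = P ∧ ∃ j₀ : ZMod P, ∀ j, j ≠ j₀ → proj ζ T j ≠ 0) := by
  classical
  set Ti := T ^ (P - 1) with hTi
  have hTTi : T * Ti = 1 := by rw [hTi, ← pow_succ', Nat.sub_add_cancel (by omega), hT]
  -- conjugation by `T`
  let θ : End K (End K U) :=
    { toFun := fun f => T * f * Ti
      map_add' := fun f g => by rw [mul_add, add_mul]
      map_smul' := fun c f => by simp }
  have hθpow : ∀ (k : ℕ) f, (θ ^ k) f = T ^ k * f * Ti ^ k := by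
    intro k f
    induction k with
    | zero => simp
    | succ k ih =>
      rw [pow_succ', Module.End.mul_apply, ih, pow_succ' T k, pow_succ Ti k]
      show T * (T ^ k * f * Ti ^ k) * Ti = T * T ^ k * f * (Ti ^ k * Ti)
      simp only [mul_assoc]
  have hθP : θ ^ P = 1 := LinearMap.ext fun f => by
    rw [hθpow, hT, hTi, ← pow_mul, mul_comm (P - 1), pow_mul, hT, one_pow, one_mul, mul_one,
      Module.End.one_apply]
  have hθe : ∀ i, θ (e i) = s i • e (π i) := fun i => by
    show T * e i * Ti = _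
    rw [hs, smul_mul_assoc, mul_assoc, hTTi, mul_one]
  have hs0 : ∀ i, s i ≠ 0 := fun i h => by
    have hz := hθe i
    rw [h, zero_smul] at hz
    have h1 : θ ^ P = θ ^ (P - 1) * θ := by rw [← pow_succ, Nat.sub_add_cancel (by omega)]
    have h2 : e i = 0 := by
      have := LinearMap.congr_fun (hθP ▸ h1) (e i)
      rw [Module.End.one_apply, Module.End.mul_apply, hz, map_zero] at this
      exact this
    exact hli.ne_zero i h2
  -- representatives of the free orbits
  set eq' := Fintype.equivFin ι with heq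
  set orb : ι → Finset (Fin (Fintype.card ι)) :=
    fun i => Finset.univ.image fun k : ZMod P => eq' ((π ^ k.val) i) with horb
  have hperiod : ∀ a b : ZMod P, ∀ i, (π ^ (a + b).val) i = (π ^ a.val) ((π ^ b.val) i) :=
    fun a b i => by rw [pow_val_add hπP, Equiv.Perm.mul_apply]
  have hshift : ∀ (a : ZMod P) i, orb ((π ^ a.val) i) = orb i := by
    intro a i
    ext x
    simp only [horb, Finset.mem_image, Finset.mem_univ, true_and]
    constructor
    · rintro ⟨k, rfl⟩; exact ⟨k + a, by rw [hperiod]⟩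
    · rintro ⟨k, rfl⟩; exact ⟨k - a, by rw [← hperiod, sub_add_cancel]⟩
  have hne : ∀ i, (orb i).Nonempty := fun i => Finset.image_nonempty.mpr Finset.univ_nonempty
  set R := {i : ι // i ≠ i₀ ∧ eq' i = (orb i).min' (hne i)} with hR
  have hfixk : ∀ k : ℕ, (π ^ k) i₀ = i₀ := by
    intro k
    induction k with
    | zero => rfl
    | succ k ih => rw [pow_succ', Equiv.Perm.mul_apply, ih, hfix]
  let F : R × ZMod P → {i : ι // i ≠ i₀} := fun x => ⟨(π ^ x.2.val) x.1, fun h =>
    x.1.2.1 ((π ^ x.2.val).injective (h.trans (hfixk _).symm))⟩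
  have hFbij : Function.Bijective F := by
    constructor
    · rintro ⟨⟨a, ha0, ha⟩, k⟩ ⟨⟨b, hb0, hb⟩, l⟩ h
      have h' : (π ^ k.val) a = (π ^ l.val) b := congrArg Subtype.val h
      have hab : a = b := by
        refine eq'.injective ?_
        rw [ha, hb]
        congr 1
        rw [← hshift k a, h', hshift]
      subst hab
      have h2 : (π ^ (k - l).val) a = a := by
        refine (π ^ l.val).injective ?_
        rw [← hperiod, add_sub_cancel, h']
      have h3 := hfree a ha0 _ h2
      have h4 : k - l = 0 := (ZMod.val_eq_zero _).mp (Nat.eq_zero_of_dvd_of_lt h3 (ZMod.val_lt _))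
      rw [sub_eq_zero.mp h4]
    · rintro ⟨i, hi⟩
      obtain ⟨k, -, hk⟩ := Finset.mem_image.mp ((orb i).min'_mem (hne i))
      have hne' : (π ^ k.val) i ≠ i₀ := fun h => hi ((π ^ k.val).injective (h.trans (hfixk _).symm))
      refine ⟨(⟨(π ^ k.val) i, hne', ?_⟩, -k), Subtype.ext ?_⟩
      · rw [hk]
        congr 1
        rw [hshift]
      · show (π ^ (-k).val) ((π ^ k.val) i) = i
        rw [← hperiod, neg_add_cancel, ZMod.val_zero, pow_zero, Equiv.Perm.one_apply]
  set M := Fintype.card R with hM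
  have hcount : finrank K U * finrank K U = P * M + 1 := by
    have h1 := Fintype.card_congr (Equiv.ofBijective F hFbij)
    rw [Fintype.card_prod, ZMod.card, Fintype.card_subtype_compl, Fintype.card_subtype_eq] at h1
    have h2 : 0 < finrank K U * finrank K U := Nat.mul_pos (by omega) (by omega)
    have h3 : P * M = Fintype.card R * P := by rw [hM, mul_comm]
    omega
  -- eigenspaces of the conjugation
  set E : ZMod P → Submodule K (End K U) := fun d => LinearMap.ker (θ - chi ζ d • 1) with hE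
  have hmemE : ∀ {d f}, f ∈ E d ↔ θ f = chi ζ d • f := fun {d f} => by
    rw [hE, LinearMap.mem_ker, LinearMap.sub_apply, sub_eq_zero, LinearMap.smul_apply, Module.End.one_apply]
  have hθk : ∀ (k : ℕ) i, ∃ c : K, c ≠ 0 ∧ (θ ^ k) (e i) = c • e ((π ^ k) i) := by
    intro k i
    induction k with
    | zero => exact ⟨1, one_ne_zero, by simp⟩
    | succ k ih =>
      obtain ⟨c, hc, hc'⟩ := ih
      exact ⟨c * s ((π ^ k) i), mul_ne_zero hc (hs0 _), by
        rw [pow_succ', Module.End.mul_apply, hc', map_smul, hθe, smul_smul, pow_succ', Equiv.Perm.mul_apply]⟩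
  choose cf hcf0 hcf using hθk
  have hlow : ∀ d, M ≤ finrank K (E d) ∧ (d = 0 → M + 1 ≤ finrank K (E d)) := by
    intro d
    have hmem : ∀ a : R, proj ζ θ d (e a.1) ∈ E d := fun a => hmemE.mpr (apply_proj hζ hθP d _)
    have hexp : ∀ a : R, proj ζ θ d (e a.1) =
        ∑ k : ZMod P, ((P : K)⁻¹ * (chi ζ (-(d * k)) * cf k.val a.1)) • e (F (a, k)).1 := fun a => by
      unfold proj
      rw [LinearMap.smul_apply, LinearMap.sum_apply, Finset.smul_sum]
      refine Finset.sum_congr rfl fun k _ => ?_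
      rw [LinearMap.smul_apply, hcf, smul_smul, smul_smul, mul_assoc]
    have hkey : ∀ (c : R → K) (c₀ : K), ∑ a : R, c a • proj ζ θ d (e a.1) + c₀ • e i₀ = 0 →
        (∀ a, c a = 0) ∧ c₀ = 0 := by
      intro c c₀ h
      let g : ι → K := fun i => if hi : i = i₀ then c₀ else
        c ((Equiv.ofBijective F hFbij).symm ⟨i, hi⟩).1 *
          ((P : K)⁻¹ * (chi ζ (-(d * ((Equiv.ofBijective F hFbij).symm ⟨i, hi⟩).2)) *
            cf ((Equiv.ofBijective F hFbij).symm ⟨i, hi⟩).2.val ((Equiv.ofBijective F hFbij).symm ⟨i, hi⟩).1.1))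
      have hg : ∑ i, g i • e i = 0 := by
        rw [← h, ← Fintype.sum_subtype_add_sum_subtype (fun i => i ≠ i₀) (fun i => g i • e i)]
        congr 1
        · rw [← (Equiv.ofBijective F hFbij).sum_comp, Fintype.sum_prod_type]
          refine Finset.sum_congr rfl fun a _ => ?_
          rw [hexp, Finset.smul_sum]
          refine Finset.sum_congr rfl fun k _ => ?_
          rw [smul_smul, Equiv.ofBijective_apply]
          congr 1
          simp only [g, dif_neg (F (a, k)).2, Subtype.coe_eta]
          rw [show (Equiv.ofBijective F hFbij).symm (F (a, k)) = (a, k) from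
            Equiv.symm_apply_apply (Equiv.ofBijective F hFbij) (a, k)]
        · haveI : Unique {i : ι // ¬ i ≠ i₀} := ⟨⟨⟨i₀, fun h => h rfl⟩⟩, fun x => Subtype.ext (not_not.mp x.2)⟩
          rw [Fintype.sum_unique, show ((default : {i : ι // ¬ i ≠ i₀}) : ι) = i₀ from
            not_not.mp (default : {i : ι // ¬ i ≠ i₀}).2]
          simp [g]
      have h0 := Fintype.linearIndependent_iff.mp hli g hg
      refine ⟨fun a => ?_, by simpa [g] using h0 i₀⟩
      have ha := h0 (F (a, 0)).1
      simp only [g, dif_neg (F (a, 0)).2, Subtype.coe_eta] at ha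
      rw [show (Equiv.ofBijective F hFbij).symm (F (a, 0)) = (a, 0) from
        Equiv.symm_apply_apply (Equiv.ofBijective F hFbij) (a, 0)] at ha
      simpa [hP, chi_zero, hcf0] using ha
    constructor
    · have hind : LinearIndependent K (fun a : R => (⟨_, hmem a⟩ : E d)) := by
        rw [Fintype.linearIndependent_iff]
        intro c hc
        refine (hkey c 0 ?_).1
        rw [zero_smul, add_zero]
        simpa using congrArg Subtype.val hc
      exact hind.fintype_card_le_finrank
    · rintro rfl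
      have h1 : (1 : End K U) ∈ E (0 : ZMod P) := hmemE.mpr (by
        rw [chi_zero, one_smul]; show T * 1 * Ti = 1; rw [mul_one, hTTi])
      have hind : LinearIndependent K
          (fun o : Option R => o.elim (⟨1, h1⟩ : E (0 : ZMod P)) fun a => ⟨_, hmem a⟩) := by
        rw [Fintype.linearIndependent_iff]
        intro c hc o
        have h2 := congrArg Subtype.val hc
        rw [Fintype.sum_option] at h2
        simp only [Option.elim, Submodule.coe_add, Submodule.coe_sum, Submodule.coe_smul, ← hi₀,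
          ZeroMemClass.coe_zero] at h2
        obtain ⟨h3, h4⟩ := hkey (fun a => c (some a)) (c none) (by rw [add_comm]; exact h2)
        cases o with
        | none => exact h4
        | some a => exact h3 a
      simpa [Fintype.card_option] using hind.fintype_card_le_finrank
  have hup : ∑ d, finrank K (E d) ≤ finrank K (End K U) := by
    rw [← Module.finrank_pi_fintype]
    refine LinearMap.finrank_le_finrank_of_injective
      (f := ∑ d, (E d).subtype ∘ₗ LinearMap.proj d) ((injective_iff_map_eq_zero _).mpr fun f hf => ?_)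
    funext j
    have hj := congrArg (proj ζ θ j) hf
    simp only [map_zero, LinearMap.sum_apply, map_sum, LinearMap.comp_apply, LinearMap.proj_apply,
      Submodule.coe_subtype] at hj
    rw [Finset.sum_congr rfl (fun d _ => proj_eigen hζ hP (hmemE.mp (f d).2) j),
      Finset.sum_ite_eq, if_pos (Finset.mem_univ _)] at hj
    exact Subtype.ext hj
  rw [show finrank K (End K U) = finrank K U * finrank K U from Module.finrank_linearMap K K U U] at hup
  have heq2 : ∀ d, finrank K (E d) = M + if d = 0 then 1 else 0 := by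
    have hle : ∀ d ∈ (Finset.univ : Finset (ZMod P)), M + (if d = 0 then 1 else 0) ≤ finrank K (E d) := fun d _ => by
      split_ifs with h
      · exact (hlow d).2 h
      · exact (hlow d).1
    have htot : ∑ d : ZMod P, (M + if d = 0 then 1 else 0) = P * M + 1 := by
      rw [Finset.sum_add_distrib, Finset.sum_ite_eq', if_pos (Finset.mem_univ _), Finset.sum_const,
        Finset.card_univ, ZMod.card, smul_eq_mul]
    intro d
    exact (((Finset.sum_eq_sum_iff_of_le hle).mp
      (le_antisymm (Finset.sum_le_sum hle) (by rw [htot, ← hcount]; exact hup))) d (Finset.mem_univ d)).symm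
  -- multiplicities
  set V : ZMod P → Submodule K U := fun j => LinearMap.range (proj ζ T j) with hV
  set m : ZMod P → ℕ := fun j => finrank K (V j) with hm
  have hVe : ∀ {j} {u : U}, u ∈ V j → T u = chi ζ j • u := by
    rintro j _ ⟨w, rfl⟩; exact apply_proj hζ hT j w
  have hblock : ∀ d, ∑ j, m j * m (j + d) ≤ finrank K (E d) := by
    intro d
    have e : ∑ j, m j * m (j + d) = finrank K ((j : ZMod P) → (V j →ₗ[K] V (j + d))) := by
      rw [Module.finrank_pi_fintype]
      exact Finset.sum_congr rfl fun j _ => (Module.finrank_linearMap K K (V j) (V (j + d))).symm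
    rw [e]
    let Φ : ((j : ZMod P) → (V j →ₗ[K] V (j + d))) →ₗ[K] End K U :=
      ∑ j, (LinearMap.llcomp K U (V j) U).flip (proj ζ T j).rangeRestrict ∘ₗ
        (LinearMap.llcomp K (V j) (V (j + d)) U (V (j + d)).subtype) ∘ₗ LinearMap.proj j
    have hΦ : ∀ f u, Φ f u = ∑ j, ((f j ((proj ζ T j).rangeRestrict u) : V (j + d)) : U) := by
      intro f u
      simp [Φ]
    refine LinearMap.finrank_le_finrank_of_injective (f := Φ.codRestrict (E d) fun f => hmemE.mpr ?_) ?_
    · refine LinearMap.ext fun u => ?_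
      have hTu : ∀ j : ZMod P, proj ζ T j (Ti u) = chi ζ (-j) • proj ζ T j u := fun j => by
        have h1 : proj ζ T j (Ti u) = chi ζ (-j) • (chi ζ j • proj ζ T j (Ti u)) := by
          rw [smul_smul, ← chi_add hζ, neg_add_cancel, chi_zero, one_smul]
        rw [h1]
        congr 1
        rw [← apply_proj hζ hT j]
        have hc : Commute T (proj ζ T j) := by
          unfold proj
          exact (Commute.sum_right _ _ _ fun i _ =>
            ((Commute.refl T).pow_right _).smul_right _).smul_right _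
        rw [← Module.End.mul_apply, hc.eq, Module.End.mul_apply, ← Module.End.mul_apply T, hTTi,
          Module.End.one_apply]
      show T (Φ f (Ti u)) = chi ζ d • Φ f u
      rw [hΦ, hΦ, map_sum, Finset.smul_sum]
      refine Finset.sum_congr rfl fun j _ => ?_
      rw [hVe (f j _).2, show (proj ζ T j).rangeRestrict (Ti u) = chi ζ (-j) • (proj ζ T j).rangeRestrict u
        from Subtype.ext (hTu j), map_smul, Submodule.coe_smul, smul_smul, ← chi_add hζ,
        show j + d + -j = d by abel]
    · refine (injective_iff_map_eq_zero _).mpr fun f hf => funext fun j => LinearMap.ext fun v => ?_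
      have h1 := LinearMap.congr_fun (congrArg Subtype.val hf) (v : U)
      rw [LinearMap.codRestrict_apply, hΦ, ZeroMemClass.coe_zero, LinearMap.zero_apply,
        Finset.sum_eq_single j] at h1
      · rw [show (proj ζ T j).rangeRestrict (v : U) = v from Subtype.ext (by
          simp [proj_eigen hζ hP (hVe v.2)])] at h1
        exact Subtype.ext h1
      · intro i _ hij
        rw [show (proj ζ T i).rangeRestrict (v : U) = 0 from Subtype.ext (by
          simp [proj_eigen hζ hP (hVe v.2), hij]), map_zero, Submodule.coe_zero]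
      · simp
  have hsum : ∑ j, m j = finrank K U := by
    rw [hm, ← Module.finrank_pi_fintype]
    refine (LinearEquiv.ofLinearMap (∑ j, (V j).subtype ∘ₗ LinearMap.proj j)
      (LinearMap.pi fun j => (proj ζ T j).rangeRestrict) ?_ ?_).finrank_eq
    · refine LinearMap.ext fun u => ?_
      simpa [LinearMap.sum_apply] using LinearMap.congr_fun (sum_proj hζ hP T) u
    · refine LinearMap.ext fun f => funext fun i => Subtype.ext ?_
      simp only [LinearMap.comp_apply, LinearMap.sum_apply, LinearMap.pi_apply, LinearMap.id_apply,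
        LinearMap.proj_apply, Submodule.coe_subtype]
      show proj ζ T i (∑ j, (f j : U)) = (f i : U)
      rw [map_sum, Finset.sum_congr rfl (fun j _ => proj_eigen hζ hP (hVe (f j).2) i)]
      simp
  have hmm : ∀ d, ∑ j, m j * m (j + d) = finrank K (E d) := by
    intro d
    refine ((Finset.sum_eq_sum_iff_of_le fun d _ => hblock d).mp ?_) d (Finset.mem_univ d)
    have h1 : ∑ d, ∑ j, m j * m (j + d) = finrank K U * finrank K U := by
      rw [Finset.sum_comm, ← hsum, Finset.sum_mul_sum]
      refine Finset.sum_congr rfl fun j _ => ?_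
      exact Fintype.sum_equiv (Equiv.addLeft j) _ _ fun d => rfl
    refine le_antisymm (Finset.sum_le_sum fun d _ => hblock d) ?_
    rw [h1]; exact hup
  by_cases hall : ∀ j : ZMod P, proj ζ T j ≠ 0
  · exact Or.inl hall
  push_neg at hall
  obtain ⟨j₀, hj₀⟩ := hall
  have hm0 : m j₀ = 0 := by
    show finrank K (LinearMap.range (proj ζ T j₀)) = 0
    rw [hj₀, LinearMap.range_zero, finrank_bot]
  right
  have h00 : ∑ j, m j * m j = M + 1 := by
    have := hmm 0
    rw [heq2, if_pos rfl] at this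
    simpa using this
  have hd : ∀ d : ZMod P, d ≠ 0 → ∑ j, m j * m (j + d) = M := fun d h => by
    rw [hmm, heq2, if_neg h, add_zero]
  have hle1 : ∀ a, m a ≤ 1 := by
    intro a
    by_cases ha : a = j₀
    · rw [ha, hm0]; exact Nat.zero_le _
    have h := sum_two_values h00 (hd (a - j₀) (sub_ne_zero.mpr ha))
    have h2 : ((m j₀ : ℤ) - m (j₀ + (a - j₀))) ^ 2 ≤ 2 :=
      h ▸ Finset.single_le_sum (fun j _ => sq_nonneg ((m j : ℤ) - m (j + (a - j₀)))) (Finset.mem_univ j₀)
    rw [hm0, add_sub_cancel] at h2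
    push_cast at h2
    by_contra h3
    have : (2 : ℤ) ≤ m a := by exact_mod_cast (show 2 ≤ m a by omega)
    nlinarith
  have hS : finrank K U = M + 1 := by
    rw [← hsum, ← h00]
    refine Finset.sum_congr rfl fun j _ => ?_
    rcases Nat.le_one_iff_eq_zero_or_eq_one.mp (hle1 j) with h | h <;> simp [h]
  have hP' : finrank K U + 1 = P := by
    rw [hS] at hcount hone ⊢
    have : M * (M + 2) = M * P := by nlinarith
    have := Nat.eq_of_mul_eq_mul_left (by omega) this
    omega
  refine ⟨hP', j₀, fun j hj hzero => ?_⟩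
  have hmj : m j = 0 := by
    show finrank K (LinearMap.range (proj ζ T j)) = 0
    rw [hzero, LinearMap.range_zero, finrank_bot]
  have h3 : ∑ i, m i ≤ ∑ i ∈ ((Finset.univ.erase j₀).erase j), 1 := by
    rw [← Finset.sum_erase (Finset.univ) (a := j₀) hm0, ← Finset.sum_erase (Finset.univ.erase j₀) (a := j) hmj]
    exact Finset.sum_le_sum fun i _ => hle1 i
  rw [hsum, Finset.sum_const, smul_eq_mul, mul_one, Finset.card_erase_of_mem (by simp [hj]),
    Finset.card_erase_of_mem (Finset.mem_univ _), Finset.card_univ, ZMod.card] at h3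
  omega

variable {W : Type*} [AddCommGroup W] [Module K W] {H : Type*} [Group H] [Finite H]

variable [IsAlgClosed K] [FiniteDimensional K W] [Nontrivial W]

theorem fixed_or_span (τ : H →* End K W) (hH : (Nat.card H : K) ≠ 0) (β : MulAut H)
    (B : End K W) (hβ : ∀ h, B * τ h = τ (β h) * B) {P : ℕ} (hP2 : 2 ≤ P) (hPK : (P : K) ≠ 0)
    (hB : B ^ P = 1) (hscal : ∀ g h : H, ∃ c : K, τ ⁅g, h⁆ = c • 1)
    (hcent : ∀ h : H, (∀ g, Commute (τ h) (τ g)) → h ∈ scalarSub τ)
    (hnonab : scalarSub τ ≠ ⊤)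
    (hfree : ∀ (k : ℕ) (h : H), h⁻¹ * (β ^ k) h ∈ scalarSub τ → P ∣ k ∨ h ∈ scalarSub τ) :
    (∃ w : W, w ≠ 0 ∧ B w = w) ∨
      ((∃ d : ℕ, d * d = (scalarSub τ).index ∧ d + 1 = P) ∧
        (∀ Z : End K W, (∀ h, Commute Z (τ h)) → Commute Z B) ∧
        ∀ W' : Submodule K W, W' ≠ ⊥ → (∀ h, ∀ w ∈ W', τ h w ∈ W') → ∀ c : K, c ^ P = 1 → c ≠ 1 →
          ∃ w ∈ W', w ≠ 0 ∧ B w = c • w) := by
  classical
  haveI : NeZero P := ⟨by omega⟩
  haveI : NeZero (P : K) := ⟨hPK⟩
  set S := scalarSub τ with hS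
  set Bi := B ^ (P - 1) with hBi
  have hBBi : B * Bi = 1 := by rw [hBi, ← pow_succ', Nat.sub_add_cancel (by omega), hB]
  have hBiB : Bi * B = 1 := by rw [hBi, ← pow_succ, Nat.sub_add_cancel (by omega), hB]
  have hβ' : ∀ h, τ (β h) = B * τ h * Bi := fun h => by rw [hβ, mul_assoc, hBBi, mul_one]
  have hβk : ∀ (k : ℕ) h, B ^ k * τ h = τ ((β ^ k) h) * B ^ k := by
    intro k
    induction k with
    | zero => intro h; simp
    | succ k ih =>
      intro h
      rw [pow_succ, mul_assoc, hβ, ← mul_assoc, ih, mul_assoc, ← pow_succ, pow_succ β, MulAut.mul_apply]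
  have hβP : ∀ h, τ ((β ^ P) h) = τ h := fun h => by simpa [hB] using (hβk P h).symm
  have hβS : S.map (β : H →* H) = S := by
    refine Subgroup.eq_of_le_of_card_ge ?_ (Subgroup.card_map_of_injective β.injective).ge
    rintro _ ⟨h, ⟨c, hc⟩, rfl⟩
    exact ⟨c, by
      show τ (β h) = _
      rw [hβ', hc, mul_smul_comm, mul_one, smul_mul_assoc, hBBi]⟩
  haveI := Fintype.ofFinite (H ⧸ S)
  let π : Equiv.Perm (H ⧸ S) := (QuotientGroup.congr S S β hβS).toEquiv
  have hπk : ∀ (k : ℕ) (h : H), (π ^ k) (QuotientGroup.mk h) = QuotientGroup.mk ((β ^ k) h) := by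
    intro k
    induction k with
    | zero => intro h; simp
    | succ k ih => intro h; rw [pow_succ', Equiv.Perm.mul_apply, ih, pow_succ' β, MulAut.mul_apply]; rfl
  -- representatives
  let r : H ⧸ S → H := fun a => if a = 1 then 1 else a.out
  have hmk : ∀ a, (QuotientGroup.mk (r a) : H ⧸ S) = a := fun a => by
    simp only [r]
    split_ifs with ha
    · rw [ha]; rfl
    · exact QuotientGroup.out_eq' a
  have hr : ∀ a b, (r a)⁻¹ * r b ∈ S → a = b := fun a b h => by
    rw [← hmk a, ← hmk b]; exact QuotientGroup.eq.mpr h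
  set e : H ⧸ S → End K W := fun a => τ (r a) with he
  have hdec : ∀ h : H, ∃ c : K, τ h = c • e (QuotientGroup.mk h) := fun h => by
    obtain ⟨c, hc⟩ : (r (QuotientGroup.mk h))⁻¹ * h ∈ S := QuotientGroup.eq.mp (hmk _)
    refine ⟨c, ?_⟩
    calc τ h = τ (r (QuotientGroup.mk h)) * τ ((r (QuotientGroup.mk h))⁻¹ * h) := by
          rw [← map_mul, mul_inv_cancel_left]
      _ = _ := by rw [hc, mul_smul_comm, mul_one]
  choose χ hχ using hdec
  -- an irreducible constituent
  obtain ⟨U, ⟨hU0, hUH⟩, hUmin⟩ := (wellFounded_lt (α := Submodule K W)).has_min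
    {U : Submodule K W | U ≠ ⊥ ∧ ∀ g : H, ∀ w ∈ U, τ g w ∈ U}
    ⟨⊤, top_ne_bot, fun _ _ _ => Submodule.mem_top⟩
  haveI : Nontrivial U := Submodule.nontrivial_iff_ne_bot.mpr hU0
  let τU : H →* End K U :=
    { toFun := fun g => (τ g).restrict (hUH g)
      map_one' := by ext w; simp [LinearMap.restrict_apply]
      map_mul' := fun a b => by ext w; simp [LinearMap.restrict_apply] }
  have hτU : ∀ g (u : U), ((τU g u : U) : W) = τ g u := fun g u => rfl
  have hirr : QIrred τU (⊤ : Subgroup H) := by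
    intro X hX
    have hinv : ∀ g : H, ∀ w ∈ X.map U.subtype, τ g w ∈ X.map U.subtype := by
      rintro g _ ⟨w, hw, rfl⟩
      exact ⟨τU g w, hX g (Subgroup.mem_top g) w hw, rfl⟩
    by_cases h0 : X.map U.subtype = ⊥
    · exact Or.inl (Submodule.map_injective_of_injective U.injective_subtype (h0.trans (Submodule.map_bot _).symm))
    · exact Or.inr (Submodule.map_injective_of_injective U.injective_subtype
        ((eq_of_le_of_not_lt (Submodule.map_subtype_le U X) (hUmin _ ⟨h0, hinv⟩)).trans
          (Submodule.map_subtype_top U).symm))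
  set eU : H ⧸ S → End K U := fun a => τU (r a) with heU
  have hχU : ∀ h, τU h = χ h • eU (QuotientGroup.mk h) := fun h => LinearMap.ext fun u => Subtype.ext (by
    rw [hτU, hχ, LinearMap.smul_apply, LinearMap.smul_apply, Submodule.coe_smul]; rfl)
  have hind : ∀ (W' : Submodule K W), (∀ g, ∀ w ∈ W', τ g w ∈ W') → W' ≠ ⊥ → ∀ c : H ⧸ S → K,
      (∀ w ∈ W', ∑ a, c a • τ (r a) w = 0) → c = 0 :=
    fun W' h1 h2 c hc => reps_indep τ hH hscal hcent W' h1 h2 r hr c hc
  have hliU : LinearIndependent K eU := by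
    rw [Fintype.linearIndependent_iff]
    intro c hc
    refine congrFun (hind U hUH hU0 c fun w hw => ?_)
    have h1 := congrArg Subtype.val (LinearMap.congr_fun hc ⟨w, hw⟩)
    simpa [LinearMap.sum_apply, heU, hτU] using h1
  have hspan : ⊤ ≤ Submodule.span K (Set.range eU) := by
    intro f _
    refine Submodule.span_le.mpr ?_ (density hirr f)
    rintro _ ⟨g, -, rfl⟩
    rw [SetLike.mem_coe, hχU g]
    exact Submodule.smul_mem _ _ (Submodule.subset_span ⟨_, rfl⟩)
  let bU := Module.Basis.mk hliU hspan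
  have hbU : ∀ a, bU a = eU a := fun a => Module.Basis.mk_apply hliU hspan a
  let Ψ : End K U →ₗ[K] End K W := bU.constr K e
  have hΨ : ∀ h, Ψ (τU h) = τ h := fun h => by
    rw [hχU, map_smul, ← hbU, Module.Basis.constr_basis, ← hχ]
  have hΨmul : ∀ f g, Ψ (f * g) = Ψ f * Ψ g := by
    have key : Ψ ∘ₗ LinearMap.mulLeft K (1 : End K U) = Ψ := by ext; simp
    intro f g
    have h1 : ∀ a g, Ψ (eU a * g) = Ψ (eU a) * Ψ g := by
      intro a g
      have : Ψ ∘ₗ LinearMap.mulLeft K (eU a) = LinearMap.mulLeft K (Ψ (eU a)) ∘ₗ Ψ := bU.ext fun b => by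
        rw [LinearMap.comp_apply, LinearMap.comp_apply, LinearMap.mulLeft_apply, LinearMap.mulLeft_apply,
          hbU, heU, ← map_mul τU, hΨ, hΨ, hΨ, map_mul τ]
      exact LinearMap.congr_fun this g
    have h2 : Ψ ∘ₗ LinearMap.mulRight K g = LinearMap.mulRight K (Ψ g) ∘ₗ Ψ := bU.ext fun a => by
      rw [LinearMap.comp_apply, LinearMap.comp_apply, LinearMap.mulRight_apply, LinearMap.mulRight_apply,
        hbU, h1]
    exact LinearMap.congr_fun h2 f
  have hΨone : Ψ 1 = 1 := by rw [← map_one τU, hΨ, map_one]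
  have hΨpow : ∀ f (k : ℕ), Ψ (f ^ k) = Ψ f ^ k := fun f k => by
    induction k with
    | zero => simp [hΨone]
    | succ k ih => rw [pow_succ, pow_succ, hΨmul, ih]
  have hΨres : ∀ f (u : U), Ψ f u = (f u : W) := fun f u => by
    have : (LinearMap.applyₗ (u : W)) ∘ₗ Ψ = U.subtype ∘ₗ LinearMap.applyₗ u := bU.ext fun a => by
      rw [LinearMap.comp_apply, LinearMap.comp_apply, hbU, hΨ (r a)]
      rfl
    exact LinearMap.congr_fun this f
  have hΨinj : ∀ (W' : Submodule K W), (∀ g, ∀ w ∈ W', τ g w ∈ W') → W' ≠ ⊥ → ∀ f,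
      (∀ w ∈ W', Ψ f w = 0) → f = 0 := by
    intro W' h1 h2 f hf
    have hc := hind W' h1 h2 (bU.repr f) fun w hw => by
      rw [← hf w hw, Module.Basis.constr_apply_fintype, LinearMap.sum_apply]
      exact Finset.sum_congr rfl fun a _ => by simp [Module.Basis.equivFun_apply, he]
    refine bU.repr.injective ?_
    rw [map_zero]
    exact Finsupp.ext fun a => congrFun hc a
  -- the conjugation by `B` on `End U`
  let θ : End K U →ₗ[K] End K U := bU.constr K fun a => τU (β (r a))
  have hθΨ : ∀ f, Ψ (θ f) = B * Ψ f * Bi := fun f => by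
    have : Ψ ∘ₗ θ = (LinearMap.mulRight K Bi ∘ₗ LinearMap.mulLeft K B) ∘ₗ Ψ := bU.ext fun a => by
      rw [LinearMap.comp_apply, Module.Basis.constr_basis, hΨ, hβ', LinearMap.comp_apply, hbU, hΨ]
      rfl
    exact LinearMap.congr_fun this f
  have hinj : Function.Injective Ψ := (injective_iff_map_eq_zero _).mpr fun f hf =>
    hΨinj U hUH hU0 f fun w _ => by rw [hf]; rfl
  have hθmul : ∀ f g, θ (f * g) = θ f * θ g := fun f g => hinj (by
    rw [hΨmul (θ f), hθΨ, hθΨ, hθΨ, hΨmul]
    calc B * (Ψ f * Ψ g) * Bi = B * Ψ f * (Bi * B) * Ψ g * Bi := by rw [hBiB, mul_one]; simp only [mul_assoc]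
      _ = _ := by simp only [mul_assoc])
  have hθτ : ∀ h, θ (τU h) = τU (β h) := fun h => hinj (by rw [hθΨ, hΨ, hΨ, hβ'])
  obtain ⟨v₀, hv₀⟩ := exists_ne (0 : U)
  obtain ⟨φ, hφ⟩ : ∃ φ : Module.Dual K U, φ v₀ = 1 := by
    obtain ⟨φ, hφ⟩ : ∃ φ : Module.Dual K U, φ v₀ ≠ 0 := by
      by_contra! hc
      exact hv₀ ((Module.forall_dual_apply_eq_zero_iff K _).mp hc)
    exact ⟨(φ v₀)⁻¹ • φ, by simp [inv_mul_cancel₀ hφ]⟩
  set p₀ := φ.smulRight v₀ with hp₀
  obtain ⟨u₀, hu₀⟩ : ∃ u, θ p₀ u ≠ 0 := by
    by_contra! hc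
    have h1 : θ p₀ = 0 := LinearMap.ext hc
    have h2 : Ψ p₀ = 0 := by
      have := hθΨ p₀
      rw [h1, map_zero] at this
      calc Ψ p₀ = Bi * (B * Ψ p₀ * Bi) * B := by
            rw [← mul_assoc, ← mul_assoc, hBiB, one_mul, mul_assoc, hBiB, mul_one]
        _ = 0 := by rw [← this]; simp
    have h3 : p₀ = 0 := hinj (by rw [h2, map_zero])
    have := LinearMap.congr_fun h3 v₀
    simp [hp₀, hφ, hv₀] at this
  let T₀ : End K U :=
    { toFun := fun w => θ (φ.smulRight w) u₀
      map_add' := fun a b => by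
        rw [show φ.smulRight (a + b) = φ.smulRight a + φ.smulRight b by ext; simp, map_add, LinearMap.add_apply]
      map_smul' := fun c a => by
        rw [show φ.smulRight (c • a) = c • φ.smulRight a by ext x; exact smul_comm _ _ _, map_smul]
        rfl }
  have hT₀ : ∀ h, τU (β h) * T₀ = T₀ * τU h := fun h => LinearMap.ext fun w => by
    show τU (β h) (θ (φ.smulRight w) u₀) = θ (φ.smulRight (τU h w)) u₀
    rw [← hθτ, ← Module.End.mul_apply, ← hθmul]
    congr 2
    ext x
    simp
  have hT₀inj : Function.Injective T₀ := by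
    rw [← LinearMap.ker_eq_bot]
    refine (hirr (LinearMap.ker T₀) fun g _ w hw => ?_).resolve_right fun htop => ?_
    · rw [LinearMap.mem_ker] at hw ⊢
      rw [← Module.End.mul_apply, ← hT₀, Module.End.mul_apply, hw, map_zero]
    · have h1 : T₀ (θ p₀ u₀) = 0 := LinearMap.congr_fun (LinearMap.ker_eq_top.mp htop) _
      have h2 : T₀ v₀ = θ p₀ u₀ := rfl
      exact hu₀ (by rw [← h2, LinearMap.ker_eq_top.mp htop]; rfl)
  have hT₀k : ∀ (k : ℕ) h, τU ((β ^ k) h) * T₀ ^ k = T₀ ^ k * τU h := by
    intro k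
    induction k with
    | zero => intro h; simp
    | succ k ih =>
      intro h
      rw [pow_succ T₀, ← mul_assoc, pow_succ β, MulAut.mul_apply, ih, mul_assoc, hT₀, ← mul_assoc]
  have hτUP : ∀ h, τU ((β ^ P) h) = τU h := fun h => LinearMap.ext fun u => Subtype.ext (by
    rw [hτU, hτU, hβP])
  obtain ⟨c, hc⟩ := schur hirr (T₀ ^ P) fun g _ => by
    show T₀ ^ P * τU g = τU g * T₀ ^ P
    rw [← hT₀k, hτUP]
  have hc0 : c ≠ 0 := fun h => by
    have h1 : Function.Injective (T₀ ^ P) := by
      rw [Module.End.coe_pow]; exact hT₀inj.iterate P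
    rw [h, zero_smul] at hc
    exact hv₀ (h1 (by rw [hc]; rfl))
  obtain ⟨c', hc'⟩ := IsAlgClosed.exists_pow_nat_eq c⁻¹ (n := P) (by omega)
  set T := c' • T₀ with hTdef
  have hTP : T ^ P = 1 := by rw [hTdef, smul_pow, hc', hc, smul_smul, inv_mul_cancel₀ hc0, one_smul]
  have hT : ∀ h, T * τU h = τU (β h) * T := fun h => by
    rw [hTdef, smul_mul_assoc, mul_smul_comm, hT₀]
  set ζ₀ := IsAlgClosed.exists_root (Polynomial.cyclotomic P K)
    (by rw [Polynomial.degree_cyclotomic]; exact_mod_cast (Nat.totient_pos.mpr (by omega)).ne')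
  obtain ⟨ζ, hζr⟩ := ζ₀
  have hζ : IsPrimitiveRoot ζ P := Polynomial.isRoot_cyclotomic_iff.mp hζr
  have hcard : Fintype.card (H ⧸ S) = finrank K U * finrank K U := by
    rw [← Module.finrank_linearMap K K U U]
    exact (Module.finrank_eq_card_basis bU).symm
  have hidx : S.index = finrank K U * finrank K U := by
    rw [Subgroup.index, Nat.card_eq_fintype_card, hcard]
  have hone : 1 < finrank K U := by
    by_contra h
    have h1 : finrank K U = 1 := le_antisymm (not_lt.mp h) Module.finrank_pos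
    exact hnonab (Subgroup.index_eq_one.mp (by rw [hidx, h1]))
  have hdic := exists_all_eigen hP2 hζ hPK hTP hliU hcard hone π 1
      (by show τU (r 1) = 1; simp [r]) (Equiv.ext fun a => by
        rw [← hmk a, hπk, Equiv.Perm.one_apply]
        refine (QuotientGroup.eq.mpr (show (r a)⁻¹ * (β ^ P) (r a) ∈ S from ⟨1, ?_⟩)).symm
        rw [map_mul, hβP, ← map_mul, inv_mul_cancel, map_one, one_smul])
      (fun a ha k hk => by
        rw [← hmk a, hπk] at hk
        refine (hfree k (r a) (QuotientGroup.eq.mp hk.symm)).resolve_right fun hm => ha ?_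
        rw [← hmk a]; exact (QuotientGroup.eq_one_iff _).mpr hm)
      (map_one (QuotientGroup.congr S S β hβS)) (fun a => χ (β (r a)))
      (fun a => by
        show T * τU (r a) = _
        rw [hT, hχU, smul_mul_assoc]
        congr 2
        show eU (QuotientGroup.mk (β (r a))) = eU (π a)
        rw [show π a = π (QuotientGroup.mk (r a)) by rw [hmk]]
        rfl)
  set Ti := T ^ (P - 1) with hTi
  have hTTi : T * Ti = 1 := by rw [hTi, ← pow_succ', Nat.sub_add_cancel (by omega), hTP]
  have hTiT : Ti * T = 1 := by rw [hTi, ← pow_succ, Nat.sub_add_cancel (by omega), hTP]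
  have hθT : θ T = T := by
    have h1 : LinearMap.mulRight K T ∘ₗ θ = LinearMap.mulLeft K T := bU.ext fun a => by
      rw [LinearMap.comp_apply, Module.Basis.constr_basis, LinearMap.mulRight_apply,
        LinearMap.mulLeft_apply, hbU, hT]
    have h2 : θ T * T = T * T := LinearMap.congr_fun h1 T
    calc θ T = θ T * T * Ti := by rw [mul_assoc, hTTi, mul_one]
      _ = _ := by rw [h2, mul_assoc, hTTi, mul_one]
  have hBT : Commute B (Ψ T) := by
    show B * Ψ T = Ψ T * B
    conv_rhs => rw [← hθT, hθΨ, mul_assoc, hBiB, mul_one]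
  set S' := B * Ψ Ti with hS'
  have hBTi : Commute B (Ψ Ti) := by rw [hTi, hΨpow]; exact hBT.pow_right _
  have hS'P : S' ^ P = 1 := by
    rw [hS', hBTi.mul_pow, hB, one_mul, ← hΨpow, hTi, ← pow_mul, mul_comm, pow_mul, hTP, one_pow, hΨone]
  have hS'τ : ∀ h, S' * τ h = τ h * S' := fun h => by
    obtain ⟨h', rfl⟩ := β.surjective h
    have e : Ti * τU (β h') = τU h' * Ti := by
      calc Ti * τU (β h') = Ti * (τU (β h') * T) * Ti := by rw [mul_assoc, mul_assoc, hTTi, mul_one]
        _ = _ := by rw [← hT, ← mul_assoc, hTiT, one_mul]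
    have e2 := congrArg Ψ e
    rw [hΨmul, hΨmul, hΨ, hΨ] at e2
    rw [hS', mul_assoc, e2, ← mul_assoc, hβ, mul_assoc]
  have hkey : ∀ l : ZMod P, proj ζ S' l ≠ 0 → proj ζ T (-l) ≠ 0 → ∃ w : W, w ≠ 0 ∧ B w = w := by
    intro l hl hlT
    set W' := LinearMap.range (proj ζ S' l) with hW'
    have hW'0 : W' ≠ ⊥ := fun h => hl (LinearMap.range_eq_bot.mp h)
    have hW'inv : ∀ g, ∀ w ∈ W', τ g w ∈ W' := by
      rintro g _ ⟨v, rfl⟩
      refine ⟨τ g v, ?_⟩
      have hc : Commute (τ g) (proj ζ S' l) := by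
        unfold proj
        exact (Commute.sum_right _ _ _ fun i _ =>
          ((show Commute (τ g) S' from (hS'τ g).symm).pow_right _).smul_right _).smul_right _
      rw [← Module.End.mul_apply, ← Module.End.mul_apply, hc.eq]
    obtain ⟨w₀, hw₀, hne⟩ : ∃ w₀ ∈ W', Ψ (proj ζ T (-l)) w₀ ≠ 0 := by
      by_contra! hc
      exact hlT (hΨinj W' hW'inv hW'0 _ hc)
    refine ⟨Ψ (proj ζ T (-l)) w₀, hne, ?_⟩
    obtain ⟨v, rfl⟩ := hw₀
    have hcS : Commute S' (Ψ (proj ζ T (-l))) := by
      have hTi' : Commute (Ψ Ti) (Ψ T) := by rw [hTi, hΨpow]; exact (Commute.refl _).pow_left _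
      have : Commute S' (Ψ T) := Commute.mul_left hBT hTi'
      unfold proj
      rw [map_smul, map_sum]
      exact (Commute.sum_right _ _ _ fun i _ => by
        rw [map_smul, hΨpow]; exact (this.pow_right _).smul_right _).smul_right _
    have hBdec : B = S' * Ψ T := by
      rw [hS', mul_assoc, ← hΨmul, hTiT, hΨone, mul_one]
    rw [hBdec, Module.End.mul_apply, ← Module.End.mul_apply (Ψ T), ← hΨmul, mul_proj hζ hTP, map_smul,
      LinearMap.smul_apply, map_smul, ← Module.End.mul_apply, hcS.eq, Module.End.mul_apply,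
      apply_proj hζ hS'P, map_smul, smul_smul, ← chi_add hζ, neg_add_cancel, chi_zero, one_smul]
  rcases hdic with hall | ⟨hex, j₀, hj₀⟩
  · left
    obtain ⟨l, hl⟩ : ∃ l : ZMod P, proj ζ S' l ≠ 0 := by
      by_contra! hc
      exact one_ne_zero ((sum_proj hζ hPK S').symm.trans (Finset.sum_eq_zero fun l _ => hc l))
    exact hkey l hl (hall _)
  by_cases hfx : ∃ w : W, w ≠ 0 ∧ B w = w
  · exact Or.inl hfx
  refine Or.inr ⟨⟨finrank K U, hidx.symm, hex⟩, fun Z hZ => ?_, fun W' hW'0 hW'inv c hcP hc1 => ?_⟩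
  rotate_left
  · have hS'scal' : S' = chi ζ (-j₀) • 1 := by
      have h1 : proj ζ S' (-j₀) = 1 := by
        conv_rhs => rw [← sum_proj hζ hPK S']
        refine (Finset.sum_eq_single_of_mem _ (Finset.mem_univ _) fun l _ hl => ?_).symm
        by_contra hne
        exact hfx (hkey l hne (hj₀ _ fun e => hl (by rw [← e, neg_neg])))
      calc S' = S' * proj ζ S' (-j₀) := by rw [h1, mul_one]
        _ = _ := by rw [mul_proj hζ hS'P, h1]
    obtain ⟨i, hiP, rfl⟩ := hζ.eq_pow_of_pow_eq_one hcP
    set j : ZMod P := (i : ZMod P) + j₀ with hj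
    have hchi : chi ζ (i : ZMod P) = ζ ^ i := by rw [chi, ZMod.val_natCast, Nat.mod_eq_of_lt hiP]
    have hjne : j ≠ j₀ := fun e => hc1 (by
      rw [← hchi, show (i : ZMod P) = 0 by simpa [hj] using e, chi_zero])
    obtain ⟨w₀, hw₀, hne⟩ : ∃ w₀ ∈ W', Ψ (proj ζ T j) w₀ ≠ 0 := by
      by_contra! hc
      exact hj₀ j hjne (hΨinj W' hW'inv hW'0 _ hc)
    refine ⟨Ψ (proj ζ T j) w₀, ?_, hne, ?_⟩
    · rw [Module.Basis.constr_apply_fintype, LinearMap.sum_apply]
      exact W'.sum_mem fun a _ => by
        rw [LinearMap.smul_apply]; exact W'.smul_mem _ (hW'inv _ _ hw₀)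
    · have hBdec : B = S' * Ψ T := by
        rw [hS', mul_assoc, ← hΨmul, hTiT, hΨone, mul_one]
      rw [hBdec, hS'scal', smul_mul_assoc, one_mul, LinearMap.smul_apply, ← Module.End.mul_apply (Ψ T), ← hΨmul,
        mul_proj hζ hTP, map_smul, LinearMap.smul_apply, smul_smul, ← chi_add hζ, hj, add_comm, add_neg_cancel_right,
        hchi]
  -- only one spectral projection of `S'` is nonzero, so `S'` is a scalar
  have hS'scal : S' = chi ζ (-j₀) • 1 := by
    have h1 : proj ζ S' (-j₀) = 1 := by
      conv_rhs => rw [← sum_proj hζ hPK S']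
      refine (Finset.sum_eq_single_of_mem _ (Finset.mem_univ _) fun l _ hl => ?_).symm
      by_contra hne
      exact hfx (hkey l hne (hj₀ _ fun e => hl (by rw [← e, neg_neg])))
    calc S' = S' * proj ζ S' (-j₀) := by rw [h1, mul_one]
      _ = _ := by rw [mul_proj hζ hS'P, h1]
  have hBdec : B = S' * Ψ T := by
    rw [hS', mul_assoc, ← hΨmul, hTiT, hΨone, mul_one]
  have hZΨ : ∀ f, Commute Z (Ψ f) := fun f => by
    rw [Module.Basis.constr_apply_fintype]
    exact Commute.sum_right _ _ _ fun a _ => (hZ _).smul_right _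
  rw [hBdec, hS'scal, smul_mul_assoc, one_mul]
  exact (hZΨ T).smul_right _

end Cfsg.Agent.Lib.ShultFlavell
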