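import Cfsg.Agent.Lib.ShultFlavell.Fix
import Cfsg.Agent.Lib.ShultFlavell.Span
import Cfsg.Agent.Lib.Coprime.Action
import Cfsg.Agent.Lib.Coprime.PGroup

/-!
A `q`-group `E = [E, a]` normalised by an element `a` of prime order without fixed vectors: class at
most two, the centre is the fixed point group and the derived group.
-/

set_option autoImplicit false
set_option linter.style.haveILetI false
set_option linter.unusedSectionVars false

namespace Cfsg.Agent.Lib.ShultFlavell

open Module (End)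
open scoped commutatorElement

variable {K : Type*} [Field K] {W : Type*} [AddCommGroup W] [Module K W]
variable {Y : Type*} [Group Y]

/-- The setting. -/
structure Moved (ρ : Y →* End K W) (a : Y) (r : ℕ) (E : Subgroup Y) (q : ℕ) : Prop where
  fpf : Fpf ρ a r
  qprime : q.Prime
  isP : IsPGroup q E
  qne : (q : K) ≠ 0
  qr : q ≠ r
  norm : a ∈ Subgroup.normalizer (E : Set Y)
  faith : ∀ x ∈ E, ρ x = 1 → x = 1
  gen : ⁅E, Subgroup.zpowers a⁆ = E

/-- The centre of `E` as a subgroup of `Y`. -/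
def ctr (E : Subgroup Y) : Subgroup Y := E ⊓ Subgroup.centralizer (E : Set Y)

theorem mem_ctr {E : Subgroup Y} {x : Y} : x ∈ ctr E ↔ x ∈ E ∧ ∀ y ∈ E, y * x = x * y := by
  simp [ctr, Subgroup.mem_centralizer_iff]

variable {ρ : Y →* End K W} {a : Y} {r q : ℕ} {E : Subgroup Y}

theorem Moved.card_ne_zero [Finite Y] (h : Moved ρ a r E q) {A : Subgroup Y} (hA : A ≤ E) :
    (Nat.card A : K) ≠ 0 := by
  haveI := Fact.mk h.qprime
  obtain ⟨n, hn⟩ := IsPGroup.iff_card.mp (h.isP.to_le hA)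
  rw [hn, Nat.cast_pow]
  exact pow_ne_zero _ h.qne

theorem Moved.coprime [Finite Y] (h : Moved ρ a r E q) {A : Subgroup Y} (hA : A ≤ E) :
    (Nat.card (Subgroup.zpowers a)).Coprime (Nat.card A) := by
  haveI := Fact.mk h.qprime
  obtain ⟨n, hn⟩ := IsPGroup.iff_card.mp (h.isP.to_le hA)
  rw [hn, Nat.card_zpowers]
  exact (((Nat.coprime_primes h.fpf.prime h.qprime).mpr (Ne.symm h.qr)).pow_right n).coprime_dvd_left
    (orderOf_dvd_of_pow_eq_one h.fpf.pow)

theorem Moved.solvable [Finite Y] (h : Moved ρ a r E q) {A : Subgroup Y} (hA : A ≤ E) :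
    Group.IsSolvable A := by
  haveI := Fact.mk h.qprime
  exact Coprime.isSolvable_of_isPGroup (h.isP.to_le hA)

theorem Moved.zpowers_le (h : Moved ρ a r E q) :
    Subgroup.zpowers a ≤ Subgroup.normalizer (E : Set Y) := Subgroup.zpowers_le.mpr h.norm

variable [IsAlgClosed K] [FiniteDimensional K W] [Finite Y]

/-- An invariant abelian subgroup is centralised. -/
theorem Moved.comm_of_abelian (h : Moved ρ a r E q) {A : Subgroup Y} (hA : A ≤ E)
    (hn : a ∈ Subgroup.normalizer (A : Set Y)) (hc : ∀ x ∈ A, ∀ y ∈ A, x * y = y * x) {x : Y}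
    (hx : x ∈ A) : a * x = x * a := by
  have h1 := h.fpf.centralized A (h.card_ne_zero hA) hn
    (fun x hx y hy => by rw [Commute, SemiconjBy, ← map_mul, ← map_mul, hc x hx y hy]) hx
  have hm : a * x * a⁻¹ * x⁻¹ ∈ E :=
    mul_mem ((Subgroup.mem_normalizer_iff.mp h.norm x).mp (hA hx)) (inv_mem (hA hx))
  have h2 : a * x * a⁻¹ * x⁻¹ = 1 := h.faith _ hm (by
    rw [map_mul, h1, ← map_mul, mul_inv_cancel, map_one])
  have h3 : a * x * a⁻¹ = x := mul_inv_eq_one.mp h2
  exact mul_inv_eq_iff_eq_mul.mp h3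

/-- An invariant abelian normal subgroup is central. -/
theorem Moved.central_of_abelian (h : Moved ρ a r E q) {N : Subgroup Y} (hN : N ≤ E)
    (hn : a ∈ Subgroup.normalizer (N : Set Y)) (hnE : E ≤ Subgroup.normalizer (N : Set Y))
    (hc : ∀ x ∈ N, ∀ y ∈ N, x * y = y * x) : N ≤ ctr E := by
  have hcen : Subgroup.zpowers a ≤ Subgroup.centralizer (N : Set Y) :=
    Subgroup.zpowers_le.mpr (Subgroup.mem_centralizer_iff.mpr fun x hx =>
      (h.comm_of_abelian hN hn hc hx).symm)
  have h1 : ⁅⁅N, Subgroup.zpowers a⁆, E⁆ = ⊥ := by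
    rw [Coprime.commutator_eq_bot_iff_le_centralizer'.mpr hcen, Subgroup.commutator_bot_left]
  have hEN : ⁅E, N⁆ ≤ N := by
    rw [Subgroup.commutator_comm]
    exact Coprime.commutator_le_of_le_normalizer hnE
  have h2 : ⁅⁅E, N⁆, Subgroup.zpowers a⁆ = ⊥ :=
    le_bot_iff.mp ((Subgroup.commutator_mono hEN le_rfl).trans
      (Coprime.commutator_eq_bot_iff_le_centralizer'.mpr hcen).le)
  -- rotate: [[a, E], N] = 1
  have h3 := Subgroup.commutator_commutator_eq_bot_of_rotate (H₁ := Subgroup.zpowers a) (H₂ := E)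
    (H₃ := N) h2 h1
  rw [Subgroup.commutator_comm (Subgroup.zpowers a) E, h.gen] at h3
  exact le_inf hN (Coprime.commutator_eq_bot_iff_le_centralizer'.mp h3)

theorem Moved.commutator_le_ctr (h : Moved ρ a r E q) : ⁅E, E⁆ ≤ ctr E := by
  by_contra hcon
  haveI := Fact.mk h.qprime
  haveI : Group.IsNilpotent E := h.isP.isNilpotent
  have hDE : ⁅E, E⁆ ≤ E := Coprime.commutator_le_of_le_normalizer Subgroup.le_normalizer
  obtain ⟨N, hN, hmin⟩ := Set.Finite.exists_minimal
    (Set.toFinite {N : Subgroup Y | N ≤ ⁅E, E⁆ ∧ a ∈ Subgroup.normalizer (N : Set Y) ∧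
      E ≤ Subgroup.normalizer (N : Set Y) ∧ ¬ N ≤ ctr E})
    ⟨⁅E, E⁆, le_rfl, by
      rw [← Coprime.conj_smul_eq_self_iff, Coprime.conj_smul_commutator,
        Coprime.conj_smul_eq_self_iff.mpr h.norm],
      Subgroup.normalizer_commutator_ge_left E E, hcon⟩
  obtain ⟨hND, hNa, hNE, hNc⟩ := hN
  have hne : N ≠ ⊥ := fun e => hNc (e ▸ bot_le)
  have hlt : ⁅N, E⁆ < N := Coprime.commutator_lt_of_isNilpotent (hND.trans hDE) hne hNE
  have hM : ⁅N, E⁆ ≤ ctr E := by
    by_contra hM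
    exact hlt.not_ge (hmin ⟨hlt.le.trans hND, by
      rw [← Coprime.conj_smul_eq_self_iff, Coprime.conj_smul_commutator,
        Coprime.conj_smul_eq_self_iff.mpr hNa, Coprime.conj_smul_eq_self_iff.mpr h.norm],
      Subgroup.normalizer_commutator_ge_right N E, hM⟩ hlt.le)
  have h1 : ⁅⁅N, E⁆, E⁆ = ⊥ :=
    Subgroup.commutator_eq_bot_iff_le_centralizer.mpr (hM.trans inf_le_right)
  have h2 : ⁅⁅E, N⁆, E⁆ = ⊥ := by rw [Subgroup.commutator_comm E N]; exact h1
  have h3 := Subgroup.commutator_commutator_eq_bot_of_rotate (H₁ := E) (H₂ := E) (H₃ := N) h2 h1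
  have h4 : N ≤ Subgroup.centralizer (N : Set Y) :=
    (Coprime.commutator_eq_bot_iff_le_centralizer'.mp h3).trans
      (Subgroup.centralizer_le hND)
  exact hNc (h.central_of_abelian (hND.trans hDE) hNa hNE
    fun x hx y hy => (Subgroup.mem_centralizer_iff.mp (h4 hy) x hx))

/-- Fixed points of `a` lie in the derived group. -/
theorem Moved.fixed_le_commutator (h : Moved ρ a r E q) {x : Y} (hx : x ∈ E)
    (hax : a * x = x * a) : x ∈ ⁅E, E⁆ := by
  classical
  have hna : ∀ y : E, a * (y : Y) * a⁻¹ ∈ E := fun y => (Subgroup.mem_normalizer_iff.mp h.norm y).mp y.2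
  let c : E →* E :=
    { toFun := fun y => ⟨a * y * a⁻¹, hna y⟩
      map_one' := Subtype.ext (by simp)
      map_mul' := fun y z => Subtype.ext (by simp [mul_assoc]) }
  let α : Abelianization E →* Abelianization E := Abelianization.map c
  let δ : Abelianization E →* Abelianization E :=
    { toFun := fun u => α u * u⁻¹
      map_one' := by simp
      map_mul' := fun u v => by rw [map_mul, mul_inv]; exact mul_mul_mul_comm _ _ _ _ }
  have hδ : Function.Surjective δ := by
    have key : ∀ (i : ℕ) (y : E), ∀ z : E, (z : Y) = a ^ i * y * (a ^ i)⁻¹ →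
        Abelianization.of z * (Abelianization.of y)⁻¹ ∈ δ.range := by
      intro i
      induction i with
      | zero =>
        intro y z hz
        rw [pow_zero, one_mul, inv_one, mul_one] at hz
        rw [Subtype.ext hz, mul_inv_cancel]
        exact one_mem _
      | succ i ih =>
        intro y z hz
        have hzi : a⁻¹ * (z : Y) * a ∈ E := (Subgroup.mem_normalizer_iff''.mp h.norm _).mp z.2
        have h1 := ih y ⟨_, hzi⟩ (by show a⁻¹ * (z : Y) * a = _; rw [hz, pow_succ']; group)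
        have h2 : δ (Abelianization.of ⟨_, hzi⟩) = Abelianization.of z * (Abelianization.of ⟨_, hzi⟩)⁻¹ := by
          show α (Abelianization.of ⟨_, hzi⟩) * _ = _
          have hc : c ⟨_, hzi⟩ = z := Subtype.ext (show a * (a⁻¹ * (z : Y) * a) * a⁻¹ = z by group)
          rw [Abelianization.map_of, hc]
        have h3 := mul_mem (MonoidHom.mem_range.mpr ⟨_, h2⟩) h1
        simpa [mul_assoc] using h3
    have hpre : E ≤ (δ.range.comap Abelianization.of).map E.subtype := by
      conv_lhs => rw [← h.gen]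
      rw [Subgroup.commutator_le]
      intro y hy b hb
      obtain ⟨i, rfl⟩ : ∃ i : ℕ, a ^ i = b := by
        obtain ⟨i, -, hi⟩ := Finset.mem_image.mp ((mem_zpowers_iff_mem_range_orderOf).mp hb)
        exact ⟨i, hi⟩
      have hz : a ^ i * y⁻¹ * (a ^ i)⁻¹ ∈ E :=
        (Subgroup.mem_normalizer_iff.mp (Subgroup.pow_mem _ h.norm i) _).mp (inv_mem hy)
      refine ⟨⟨y, hy⟩ * ⟨_, hz⟩, ?_, by simp [commutatorElement_def, mul_assoc]⟩
      rw [SetLike.mem_coe, Subgroup.mem_comap, map_mul, mul_comm]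
      have := key i ⟨y⁻¹, inv_mem hy⟩ ⟨_, hz⟩ rfl
      rwa [show (⟨y⁻¹, inv_mem hy⟩ : E) = (⟨y, hy⟩ : E)⁻¹ from rfl, map_inv, inv_inv] at this
    intro u
    obtain ⟨⟨y, hy⟩, rfl⟩ := QuotientGroup.mk'_surjective _ u
    obtain ⟨y', hy', he⟩ := hpre hy
    have : y' = ⟨y, hy⟩ := Subtype.ext he
    exact this ▸ hy'
  have hinj : Function.Injective δ := Finite.injective_iff_surjective.mpr hδ
  have h1 : δ (Abelianization.of ⟨x, hx⟩) = 1 := by
    show α _ * _ = 1
    rw [mul_inv_eq_one, Abelianization.map_of]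
    exact congrArg Abelianization.of (Subtype.ext (show a * x * a⁻¹ = x by rw [hax, mul_inv_cancel_right]))
  have h2 : Abelianization.of (⟨x, hx⟩ : E) = 1 := hinj (h1.trans (map_one δ).symm)
  have h3 : (⟨x, hx⟩ : E) ∈ commutator E := (QuotientGroup.eq_one_iff _).mp h2
  have := Subgroup.mem_map_of_mem E.subtype h3
  rwa [Subgroup.map_subtype_commutator] at this

theorem Moved.comm_ctr (h : Moved ρ a r E q) {x : Y} (hx : x ∈ ctr E) : a * x = x * a := by
  refine h.comm_of_abelian (A := ctr E) inf_le_left ?_ (fun x hx y hy => (mem_ctr.mp hy).2 x hx.1) hx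
  rw [← Coprime.conj_smul_eq_self_iff]
  ext y
  rw [Coprime.mem_conj_smul, mem_ctr, mem_ctr]
  have hn := Subgroup.mem_normalizer_iff''.mp h.norm
  constructor
  · rintro ⟨h1, h2⟩
    refine ⟨(hn y).mpr h1, fun z hz => ?_⟩
    have h3 := h2 (a⁻¹ * z * a) ((hn z).mp hz)
    calc z * y = a * (a⁻¹ * z * a * (a⁻¹ * y * a)) * a⁻¹ := by group
      _ = a * (a⁻¹ * y * a * (a⁻¹ * z * a)) * a⁻¹ := by rw [h3]
      _ = y * z := by group
  · rintro ⟨h1, h2⟩
    refine ⟨(hn y).mp h1, fun z hz => ?_⟩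
    have h3 := h2 (a * z * a⁻¹) ((Subgroup.mem_normalizer_iff.mp h.norm z).mp hz)
    calc z * (a⁻¹ * y * a) = a⁻¹ * (a * z * a⁻¹ * y) * a := by group
      _ = a⁻¹ * (y * (a * z * a⁻¹)) * a := by rw [h3]
      _ = a⁻¹ * y * a * z := by group

theorem Moved.ctr_eq (h : Moved ρ a r E q) : ctr E = ⁅E, E⁆ :=
  le_antisymm (fun _ hx => h.fixed_le_commutator hx.1 (h.comm_ctr hx)) h.commutator_le_ctr

theorem Moved.mem_ctr_iff_fixed (h : Moved ρ a r E q) {x : Y} (hx : x ∈ E) :
    x ∈ ctr E ↔ a * x = x * a :=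
  ⟨h.comm_ctr, fun hf => h.commutator_le_ctr (h.fixed_le_commutator hx hf)⟩

end Cfsg.Agent.Lib.ShultFlavell
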