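import Cfsg.Agent.Lib.ShultFlavell.Orbit

/-!
No maximal invariant subgroup is mixed.
-/

set_option autoImplicit false
set_option linter.style.haveILetI false
set_option linter.unusedSectionVars false

namespace Cfsg.Agent.Lib.ShultFlavell

open Module (End)
open scoped commutatorElement

variable {K : Type*} [Field K] {W : Type*} [AddCommGroup W] [Module K W]
variable {Y : Type*} [Group Y] [Finite Y]

theorem mem_normalizer_of_conj_mem {g : Y} {S : Subgroup Y} (hS : ∀ x ∈ S, g * x * g⁻¹ ∈ S) :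
    g ∈ Subgroup.normalizer (S : Set Y) := by
  rw [Subgroup.mem_normalizer_iff_map_conj_eq]
  refine Subgroup.eq_of_le_of_card_ge ?_ (Subgroup.card_map_of_injective (MulEquiv.injective _)).ge
  rintro _ ⟨x, hx, rfl⟩
  exact hS x hx

theorem mem_normalizer_centralizer {g : Y} {S : Subgroup Y} (hg : g ∈ Subgroup.normalizer (S : Set Y)) :
    g ∈ Subgroup.normalizer (Subgroup.centralizer (S : Set Y) : Set Y) := by
  refine mem_normalizer_of_conj_mem fun u hu => Subgroup.mem_centralizer_iff.mpr fun y hy => ?_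
  have h1 := Subgroup.mem_centralizer_iff.mp hu _ ((Subgroup.mem_normalizer_iff''.mp hg y).mp hy)
  calc y * (g * u * g⁻¹) = g * (g⁻¹ * y * g * u) * g⁻¹ := by group
    _ = _ := by rw [h1]; group

/-- A functional separating an element from a subspace. -/
theorem exists_functional {M : Type*} [AddCommGroup M] {p : ℕ} [Fact p.Prime] (hM : ∀ x : M, p • x = 0)
    (S : AddSubgroup M) {x : M} (hx : x ∉ S) :
    ∃ f : M →+ ZMod p, (∀ u ∈ S, f u = 0) ∧ f x ≠ 0 := by
  letI : Module (ZMod p) M := AddCommGroup.zmodModule hM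
  let T : Submodule (ZMod p) M :=
    { carrier := S
      add_mem' := fun hu hv => S.add_mem hu hv
      zero_mem' := S.zero_mem
      smul_mem' := fun c u hu => by
        have h1 : (c.val • u : M) ∈ S := S.nsmul_mem hu _
        rwa [← Nat.cast_smul_eq_nsmul (ZMod p), ZMod.natCast_zmod_val] at h1 }
  obtain ⟨φ, hφ, hφS⟩ := Submodule.exists_le_ker_of_notMem (p := T) (v := x) hx
  exact ⟨φ.toAddMonoidHom, fun u hu => hφS hu, hφ⟩

variable {ρ : Y →* End K W} {a : Y} {r p : ℕ} {G : Subgroup Y}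
variable [IsAlgClosed K] [FiniteDimensional K W] [Nontrivial W] [CharP K p]

theorem Ctx.moved_two (h : Ctx ρ a r p G) {X : Subgroup Y} (hX : X ≤ G)
    (haX : a ∈ Subgroup.normalizer (X : Set Y)) (hne : ⁅pc 2 X, Subgroup.zpowers a⁆ ≠ ⊥) :
    Moved ρ a r ⁅pc 2 X, Subgroup.zpowers a⁆ 2 :=
  (h.moved Nat.prime_two h.two_ne_p (pc_le.trans hX) pc_isP (normalizer_le_normalizer_pc haX)).resolve_right hne

theorem Moved.ctr_ne_bot {D : Subgroup Y} (h : Moved ρ a r D 2) (hne : D ≠ ⊥) : ctr D ≠ ⊥ := by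
  intro e
  refine hne ?_
  rw [← h.gen]
  refine comm_zpowers_eq_bot fun x hx => h.comm_of_abelian le_rfl h.norm (fun u hu v hv => ?_) hx
  exact commutatorElement_eq_one_iff_mul_comm.mp ((Subgroup.eq_bot_iff_forall _).mp (h.ctr_eq ▸ e) _
    (Subgroup.commutator_mem_commutator hu hv))

theorem Ctx.exists_ctr_noncentral (h : Ctx ρ a r p G) {X : Subgroup Y} (hX : Member p a G X) :
    ∃ y ∈ ctr ⁅pc 2 X, Subgroup.zpowers a⁆, y ∉ Zc G := by
  by_contra! hcon
  set D := ⁅pc 2 X, Subgroup.zpowers a⁆ with hDdef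
  have hD : Moved ρ a r D 2 := h.moved_two hX.lt.le hX.norm hX.hD
  have haP := normalizer_le_normalizer_pc (l := p) hX.norm
  have hDle : D ≤ pc 2 X :=
    Coprime.commutator_le_of_le_normalizer (zpowers_le_normalizer (normalizer_le_normalizer_pc hX.norm))
  choose c hc using fun z : ctr D => h.center_scalar (hcon z z.2)
  have htop : ∀ w : W, w ∈ piece ρ D c := fun w => mem_piece.mpr fun z => hc z w
  rcases hD.piece_cases c with ht | he
  · exact hX.hD ((Subgroup.eq_bot_iff_forall D).mpr fun d hd =>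
      hD.faith d hd (LinearMap.ext fun w => ht d hd w (htop w)))
  · refine hX.hU ((Subgroup.eq_bot_iff_forall _).mpr fun u hu => ?_)
    have hUle : ⁅pc p X, Subgroup.zpowers a⁆ ≤ pc p X :=
      Coprime.commutator_le_of_le_normalizer (zpowers_le_normalizer haP)
    exact h.faith u ((hUle.trans (pc_le.trans hX.lt.le)) hu) (LinearMap.ext fun w =>
      he.fixed_of_centralized hD (h.comm_idem (pc_le.trans hX.lt.le) haP)
        (fun u hu d hd => (h.pc_comm d (hDle hd) u (hUle hu)).symm) u hu w (htop w))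

set_option maxHeartbeats 1000000 in
theorem Ctx.no_member (h : Ctx ρ a r p G) (X1 : Subgroup Y) : ¬ Member p a G X1 := by
  classical
  intro hX1
  haveI := Fact.mk h.pprime
  haveI : Fact (Nat.Prime 2) := ⟨Nat.prime_two⟩
  obtain ⟨X, hX, hmaxX⟩ := Set.exists_max_image {X : Subgroup Y | Member p a G X}
    (fun X => (Nat.card X).factorization p) (Set.toFinite _) ⟨X1, hX1⟩
  have hA := zpowers_le_normalizer hX.norm
  set D := ⁅pc 2 X, Subgroup.zpowers a⁆ with hDdef
  have hDle : D ≤ pc 2 X :=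
    Coprime.commutator_le_of_le_normalizer (zpowers_le_normalizer (normalizer_le_normalizer_pc hX.norm))
  have hDG : D ≤ G := (hDle.trans pc_le).trans hX.lt.le
  have hD : Moved ρ a r D 2 := h.moved_two hX.lt.le hX.norm hX.hD
  obtain ⟨Q, hQ⟩ := Coprime.exists_invariant_sylow p hA (h.coprime hX.lt.le)
    (Or.inl (Fpf.zpowers_solvable a))
  set P0 := (Q : Subgroup X).map X.subtype with hP0
  have haP0 : a ∈ Subgroup.normalizer (P0 : Set Y) := hQ (Subgroup.mem_zpowers a)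
  have hP0X : P0 ≤ X := Subgroup.map_subtype_le _
  have hP0G : P0 ≤ G := hP0X.trans hX.lt.le
  have hP0p : IsPGroup p P0 := Q.isPGroup'.map _
  have hP0card : Nat.card P0 = p ^ (Nat.card X).factorization p := by
    rw [hP0, Subgroup.card_map_of_injective X.subtype_injective, Q.card_eq_multiplicity]
  have hpcP0 : pc p X ≤ P0 := Subgroup.map_mono (PLocal.Cores.pCore_le_sylow Q)
  set U := ⁅P0, Subgroup.zpowers a⁆ with hUdef
  have hUpc : U ≤ pc p X := h.movedP_le_pc hX.lt hX.norm hP0p hP0X haP0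
  have hUne : U ≠ ⊥ := fun e => hX.hU (le_bot_iff.mp ((Subgroup.commutator_mono hpcP0 le_rfl).trans e.le))
  have hUP0 : U ≤ P0 := Coprime.commutator_le_of_le_normalizer (zpowers_le_normalizer haP0)
  have hUD : ∀ u ∈ U, ∀ d ∈ D, u * d = d * u := fun u hu d hd => (h.pc_comm d (hDle hd) u (hUpc hu)).symm
  -- no bigger invariant `p`-subgroup above the cores
  have hbig : ∀ Z R : Subgroup Y, Z < G → a ∈ Subgroup.normalizer (Z : Set Y) → pc p X ≤ Z → D ≤ Z →
      IsPGroup p R → P0 ≤ R → R ≤ Z → R = P0 := by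
    intro Z R hZ haZ h1 h2 hR hPR hRZ
    obtain ⟨X', hZX', hX'⟩ := h.member_extend hX hZ haZ h1 h2
    refine (Subgroup.eq_of_le_of_card_ge hPR ?_).symm
    obtain ⟨n, hn⟩ := IsPGroup.iff_card.mp hR
    rw [hn, hP0card]
    refine Nat.pow_le_pow_right h.pprime.pos (le_trans ?_ (hmaxX X' hX'))
    exact (h.pprime.pow_dvd_iff_le_factorization Nat.card_pos.ne').mp
      (hn ▸ Subgroup.card_dvd_of_le (hRZ.trans hZX'))
  obtain ⟨P, hP0P, hPa⟩ := Coprime.exists_invariant_sylow_ge h.A_norm (h.coprime le_rfl)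
    (Or.inl (Fpf.zpowers_solvable a)) hP0G hP0p (zpowers_le_normalizer haP0)
  set PY := (P : Subgroup G).map G.subtype with hPY
  have haPY : a ∈ Subgroup.normalizer (PY : Set Y) := hPa (Subgroup.mem_zpowers a)
  have hPYG : PY ≤ G := Subgroup.map_subtype_le _
  have hPYp : IsPGroup p PY := P.isPGroup'.map _
  rcases hP0P.lt_or_eq with hlt | heq
  swap
  · -- a Sylow `p`-subgroup of `G`
    obtain ⟨y, hy, hyZ⟩ := h.exists_ctr_noncentral hX
    obtain ⟨E, hE, hDE⟩ := h.exists_IsE_ge (pc_le.trans hX.lt.le) (pc_isP (l := 2))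
      (normalizer_le_normalizer_pc hX.norm)
    have hya := hD.comm_ctr hy
    refine h.not_both (h.centralizer_lt (hDG hy.1) hyZ) (h.a_norm_centralizer hya) hE
      (fun e he => ⟨hE.le h he, Subgroup.mem_centralizer_singleton_iff.mpr ?_⟩) P haPY ?_
    · exact (mem_ctr.mp (((hE.moved h).mem_ctr_iff_fixed (hDE hy.1)).mpr hya)).2 e he
    · show ⁅PY, Subgroup.zpowers a⁆ ≤ _
      rw [← heq]
      exact fun u hu => ⟨hP0G (hUP0 hu), Subgroup.mem_centralizer_singleton_iff.mpr (hUD u hu y hy.1)⟩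
  set N := PY ⊓ Subgroup.normalizer (P0 : Set Y) with hN
  have hNgt : P0 < N := by
    refine lt_of_le_of_ne (le_inf hP0P Subgroup.le_normalizer) fun e => ?_
    haveI := hPYp.isNilpotent
    have h1 : P0.subgroupOf PY < ⊤ := lt_top_iff_ne_top.mpr fun e1 => hlt.not_ge (Subgroup.subgroupOf_eq_top.mp e1)
    refine (Group.normalizerCondition_of_isNilpotent (P0.subgroupOf PY) h1).ne ?_
    rw [← Subgroup.subgroupOf_normalizer_eq hP0P]
    refine le_antisymm (Subgroup.comap_mono Subgroup.le_normalizer) fun x hx => ?_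
    rw [Subgroup.mem_subgroupOf] at hx ⊢
    exact e ▸ (⟨x.2, hx⟩ : (x : Y) ∈ N)
  have haN : a ∈ Subgroup.normalizer (N : Set Y) :=
    mem_normalizer_inf haPY (Subgroup.le_normalizer haP0)
  have hfix : ∀ g ∈ N, Commute g a → g ∈ P0 := by
    intro g hg hga
    have hgU : g ∈ Subgroup.normalizer (U : Set Y) := by
      rw [Subgroup.mem_normalizer_iff_map_conj_eq, hUdef, Subgroup.map_commutator, map_conj_zpowers hga,
        Subgroup.mem_normalizer_iff_map_conj_eq.mp hg.2]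
    have h1 := hbig (G ⊓ Subgroup.normalizer (U : Set Y)) (P0 ⊔ Subgroup.zpowers g)
      (h.normalizer_lt (hUP0.trans hP0G) (hP0p.to_le hUP0) hUne (Ctx.comm_norm haP0))
      (h.norm_norm (Ctx.comm_norm haP0))
      (le_inf (pc_le.trans hX.lt.le) (hpcP0.trans (Subgroup.normalizer_commutator_ge_left P0 _)))
      (le_inf hDG fun d hd => Subgroup.centralizer_le_normalizer _
        (Subgroup.mem_centralizer_iff.mpr fun u hu => hUD u hu d hd))
      (hPYp.to_le (sup_le hP0P (Subgroup.zpowers_le.mpr hg.1))) le_sup_left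
      (sup_le (le_inf hP0G (Subgroup.normalizer_commutator_ge_left P0 _))
        (Subgroup.zpowers_le.mpr ⟨hPYG hg.1, hgU⟩))
    exact h1 ▸ Subgroup.mem_sup_right (Subgroup.mem_zpowers g)
  obtain ⟨L, ⟨hP0L, hLN, haL⟩, hLmin⟩ := Set.Finite.exists_minimal
    (Set.toFinite {M : Subgroup Y | P0 < M ∧ M ≤ N ∧ a ∈ Subgroup.normalizer (M : Set Y)})
    ⟨N, hNgt, le_rfl, haN⟩
  have hLP : L ≤ PY := hLN.trans inf_le_left
  have hLG : L ≤ G := hLP.trans hPYG
  have hLp : IsPGroup p L := hPYp.to_le hLP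
  have hLn : L ≤ Subgroup.normalizer (P0 : Set Y) := hLN.trans inf_le_right
  have hmin : ∀ M : Subgroup Y, P0 ≤ M → M ≤ L → a ∈ Subgroup.normalizer (M : Set Y) → M = P0 ∨ M = L := by
    intro M h1 h2 h3
    rcases h1.lt_or_eq with h4 | h4
    · exact Or.inr (le_antisymm h2 (hLmin ⟨h4, h2.trans hLN, h3⟩ h2))
    · exact Or.inl h4.symm
  have hLgen : P0 ⊔ ⁅L, Subgroup.zpowers a⁆ = L := by
    have h1 : ⁅L, Subgroup.zpowers a⁆ ≤ L := Coprime.commutator_le_of_le_normalizer (zpowers_le_normalizer haL)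
    refine (hmin _ le_sup_left (sup_le hP0L.le h1) (mem_normalizer_sup haP0 (Ctx.comm_norm haL))).resolve_left
      fun e => hP0L.not_ge fun x hx => ?_
    obtain ⟨c, hc, u, hu, rfl⟩ := Coprime.exists_eq_centralizer_mul_commutator (zpowers_le_normalizer haL)
      (h.coprime hLG) (Or.inl (Fpf.zpowers_solvable a)) hx
    exact mul_mem (hfix c (hLN hc.1) (mem_centralizer_zpowers.mp hc.2)) (e ▸ Subgroup.mem_sup_right hu)
  -- `W`, its fixed points `B`, and `W₂`
  let Wz : Subgroup Y :=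
    { carrier := {w | w ∈ P0 ∧ w ^ p = 1 ∧ ∀ g ∈ P0, Commute w g}
      one_mem' := ⟨one_mem P0, one_pow p, fun g _ => Commute.one_left g⟩
      mul_mem' := fun {u v} hu hv => ⟨mul_mem hu.1 hv.1, by
        rw [(hu.2.2 v hv.1).mul_pow, hu.2.1, hv.2.1, one_mul], fun g hg => (hu.2.2 g hg).mul_left (hv.2.2 g hg)⟩
      inv_mem' := fun {u} hu => ⟨inv_mem hu.1, by rw [inv_pow, hu.2.1, inv_one],
        fun g hg => (hu.2.2 g hg).inv_left⟩ }
  have hWP0 : Wz ≤ P0 := fun w hw => hw.1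
  have hWn : ∀ g, g ∈ Subgroup.normalizer (P0 : Set Y) → g ∈ Subgroup.normalizer (Wz : Set Y) := fun g hg =>
    mem_normalizer_of_conj_mem fun w hw => ⟨(Subgroup.mem_normalizer_iff.mp hg w).mp hw.1, by
      rw [conj_pow, hw.2.1, mul_one, mul_inv_cancel], fun x hx => by
      have h1 := (hw.2.2 _ ((Subgroup.mem_normalizer_iff''.mp hg x).mp hx)).map
        (MulAut.conj g : Y ≃* Y).toMonoidHom
      simpa [mul_assoc] using h1⟩
  have hWW : ∀ u ∈ Wz, ∀ v ∈ Wz, Commute u v := fun u hu v hv => hu.2.2 v hv.1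
  let B : Subgroup Y := Wz ⊓ Subgroup.centralizer (L : Set Y)
  have hBL : ∀ b ∈ B, ∀ g ∈ L, Commute b g := fun b hb g hg =>
    ((Subgroup.mem_centralizer_iff.mp hb.2) g hg).symm
  have haB : a ∈ Subgroup.normalizer (B : Set Y) :=
    mem_normalizer_inf (hWn a haP0) (mem_normalizer_centralizer haL)
  have hBd : ∀ b ∈ B, (∀ d ∈ D, b * d = d * b) → b = 1 := by
    intro b hb hbd
    set B' := B ⊓ Subgroup.centralizer (D : Set Y) with hB'
    by_contra hb1
    have hB'ne : B' ≠ ⊥ := fun e => hb1 (by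
      have : b ∈ B' := ⟨hb, Subgroup.mem_centralizer_iff.mpr fun d hd => (hbd d hd).symm⟩
      rwa [e, Subgroup.mem_bot] at this)
    have haB' : a ∈ Subgroup.normalizer (B' : Set Y) :=
      mem_normalizer_inf haB (mem_normalizer_centralizer hD.norm)
    have hB'G : B' ≤ G := fun x hx => hP0G (hWP0 hx.1.1)
    have hlt' : G ⊓ Subgroup.centralizer (B' : Set Y) < G :=
      lt_of_le_of_lt (inf_le_inf_left G (Subgroup.centralizer_le_normalizer _))
        (h.normalizer_lt hB'G (hP0p.to_le fun x hx => hWP0 hx.1.1) hB'ne haB')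
    refine hP0L.ne (hbig _ L hlt' (mem_normalizer_inf h.a_norm (mem_normalizer_centralizer haB'))
      (le_inf (pc_le.trans hX.lt.le) fun g hg => Subgroup.mem_centralizer_iff.mpr fun x hx =>
        hx.1.1.2.2 g (hpcP0 hg))
      (le_inf hDG fun d hd => Subgroup.mem_centralizer_iff.mpr fun x hx =>
        ((Subgroup.mem_centralizer_iff.mp hx.2) d hd).symm)
      hLp hP0L.le (le_inf hLG fun g hg => Subgroup.mem_centralizer_iff.mpr fun x hx => hBL x hx.1 g hg)).symm
  have hBa : ∀ b ∈ B, Commute b a := fun b hb => by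
    refine commutatorElement_eq_one_iff_mul_comm.mp (hBd _ ?_ fun d hd =>
      hUD _ (Subgroup.commutator_mem_commutator (hWP0 hb.1) (Subgroup.mem_zpowers a)) d hd)
    rw [commutatorElement_def, show b * a * b⁻¹ * a⁻¹ = b * (a * b⁻¹ * a⁻¹) by group]
    exact mul_mem hb ((Subgroup.mem_normalizer_iff.mp haB _).mp (inv_mem hb))
  -- a moved element of `W₂`
  let W2 : Subgroup Y :=
    { carrier := {w | w ∈ Wz ∧ ∀ g ∈ L, ⁅w, g⁆ ∈ B}
      one_mem' := ⟨one_mem Wz, fun g _ => by rw [commutatorElement_one_left]; exact one_mem B⟩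
      mul_mem' := fun {u v} hu hv => ⟨mul_mem hu.1 hv.1, fun g hg => by
        rw [commutatorElement_mul_left_eq_conj_mul, (hWW u hu.1 _ (hv.2 g hg).1).eq, mul_inv_cancel_right]
        exact mul_mem (hv.2 g hg) (hu.2 g hg)⟩
      inv_mem' := fun {u} hu => ⟨inv_mem hu.1, fun g hg => by
        have e : ⁅u⁻¹, g⁆ = u⁻¹ * ⁅u, g⁆⁻¹ * u := by simp only [commutatorElement_def]; group
        rw [e, (hWW _ (inv_mem hu.1) _ (inv_mem (hu.2 g hg).1)).eq, inv_mul_cancel_right]
        exact inv_mem (hu.2 g hg)⟩ }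
  have haW2 : a ∈ Subgroup.normalizer (W2 : Set Y) := mem_normalizer_of_conj_mem fun w hw =>
    ⟨(Subgroup.mem_normalizer_iff.mp (hWn a haP0) w).mp hw.1, fun g hg => by
      have h1 := hw.2 _ ((Subgroup.mem_normalizer_iff''.mp haL g).mp hg)
      have e : ⁅a * w * a⁻¹, g⁆ = a * ⁅w, a⁻¹ * g * a⁆ * a⁻¹ := by simp only [commutatorElement_def]; group
      rw [e]
      exact (Subgroup.mem_normalizer_iff.mp haB _).mp h1⟩
  obtain ⟨w0, hw0, hw0B⟩ : ∃ w ∈ W2, w ∉ B := by
    haveI := hLp.isNilpotent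
    have hnot : ¬ Wz ≤ B := by
      intro hle
      haveI := hP0p.isNilpotent
      obtain ⟨H, ⟨hHX, hHne, hHn⟩, hHmin⟩ := Set.Finite.exists_minimal
        (Set.toFinite {H : Subgroup Y | H ≤ pc p X ∧ H ≠ ⊥ ∧ P0 ≤ Subgroup.normalizer (H : Set Y)})
        ⟨pc p X, le_rfl, hX.pc_ne, hP0X.trans le_normalizer_pc⟩
      have hlt'' := Coprime.commutator_lt_of_isNilpotent (hHX.trans hpcP0) hHne hHn
      have hbot : ⁅H, P0⁆ = ⊥ := by
        by_contra hne
        exact hlt''.not_ge (hHmin ⟨hlt''.le.trans hHX, hne, Subgroup.normalizer_commutator_ge_right H P0⟩ hlt''.le)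
      have hHp : IsPGroup p H := (pc_isP (l := p)).to_le hHX
      obtain ⟨n, hn⟩ := IsPGroup.iff_card.mp hHp
      have hn0 : n ≠ 0 := fun e => hHne (Subgroup.card_eq_one.mp (by rw [hn, e, pow_zero]))
      obtain ⟨x, hx⟩ := exists_prime_orderOf_dvd_card' (G := H) p (hn ▸ dvd_pow_self p hn0)
      have hxW : (x : Y) ∈ Wz := ⟨hpcP0 (hHX x.2), by rw [← Subgroup.coe_pow, ← hx, pow_orderOf_eq_one,
        Subgroup.coe_one], fun g hg => (Subgroup.mem_centralizer_iff.mp
          ((Subgroup.commutator_eq_bot_iff_le_centralizer.mp hbot) x.2) g hg).symm⟩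
      have hx1 := hBd _ (hle hxW) fun d hd => (h.pc_comm d (hDle hd) _ (hHX x.2)).symm
      rw [show x = 1 from Subtype.ext hx1, orderOf_one] at hx
      exact h.pprime.one_lt.ne hx
    obtain ⟨H, ⟨hHW, hHB, hHn⟩, hHmin⟩ := Set.Finite.exists_minimal
      (Set.toFinite {H : Subgroup Y | H ≤ Wz ∧ ¬ H ≤ B ∧ L ≤ Subgroup.normalizer (H : Set Y)})
      ⟨Wz, le_rfl, hnot, fun g hg => hWn g (hLn hg)⟩
    have hlt'' := Coprime.commutator_lt_of_isNilpotent (hHW.trans (hWP0.trans hP0L.le))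
      (fun e => hHB (e ▸ bot_le)) hHn
    have hcB : ⁅H, L⁆ ≤ B := by
      by_contra hne
      exact hlt''.not_ge (hHmin ⟨hlt''.le.trans hHW, hne, Subgroup.normalizer_commutator_ge_right H L⟩ hlt''.le)
    obtain ⟨w, hw, hwB⟩ := SetLike.not_le_iff_exists.mp hHB
    exact ⟨w, ⟨hHW hw, fun g hg => hcB (Subgroup.commutator_mem_commutator hw hg)⟩, hwB⟩
  obtain ⟨w, hw, hwa⟩ : ∃ w ∈ W2, ⁅w, a⁆ ≠ 1 := by
    by_contra! hall
    refine hw0B ⟨hw0.1, Subgroup.mem_centralizer_iff.mpr fun g hg => ?_⟩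
    have hwa : Commute w0 a := commutatorElement_eq_one_iff_mul_comm.mp (hall w0 hw0)
    have hwz : ∀ b ∈ Subgroup.zpowers a, Commute w0 b := fun b hb => commute_zpowers hwa hb
    have hle : L ≤ L ⊓ Subgroup.centralizer {w0} := by
      conv_lhs => rw [← hLgen]
      refine sup_le (fun x hx => ⟨hP0L.le hx, Subgroup.mem_centralizer_singleton_iff.mpr (hw0.1.2.2 x hx).eq.symm⟩)
        (Subgroup.commutator_le.mpr fun k hk b hb => ?_)
      have hbk : b * k⁻¹ * b⁻¹ ∈ L :=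
        (Subgroup.mem_normalizer_iff.mp (zpowers_le_normalizer haL hb) _).mp (inv_mem hk)
      have e0 : ⁅k, b⁆ = k * (b * k⁻¹ * b⁻¹) := by rw [commutatorElement_def]; group
      refine ⟨e0 ▸ mul_mem hk hbk, Subgroup.mem_centralizer_singleton_iff.mpr ?_⟩
      refine (commutatorElement_eq_one_iff_mul_comm.mp ?_).symm
      have hmul : ∀ x ∈ L, ∀ y ∈ L, ⁅w0, x * y⁆ = ⁅w0, x⁆ * ⁅w0, y⁆ := fun x hx y hy => by
        rw [commutatorElement_mul_right_eq_mul_conj, mul_assoc _ x, ← (hBL _ (hw0.2 y hy) x hx).eq]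
        group
      have h1 : ⁅w0, b * k⁻¹ * b⁻¹⁆ = ⁅w0, k⁻¹⁆ := by
        calc ⁅w0, b * k⁻¹ * b⁻¹⁆ = ⁅b * w0 * b⁻¹, b * k⁻¹ * b⁻¹⁆ := by
              rw [← (hwz b hb).eq, mul_inv_cancel_right]
          _ = b * ⁅w0, k⁻¹⁆ * b⁻¹ := by simp only [commutatorElement_def]; group
          _ = _ := by
              rw [← (commute_zpowers (hBa _ (hw0.2 _ (inv_mem hk))) hb).eq, mul_inv_cancel_right]
      rw [e0, hmul k hk _ hbk, h1, ← hmul k hk _ (inv_mem hk), mul_inv_cancel, commutatorElement_one_right]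
    exact Subgroup.mem_centralizer_singleton_iff.mp (hle hg).2
  set u := ⁅w, a⁆ with hu
  have huU : u ∈ U := Subgroup.commutator_mem_commutator (hWP0 hw.1) (Subgroup.mem_zpowers a)
  have huW2 : u ∈ W2 := by
    rw [hu, commutatorElement_def, show w * a * w⁻¹ * a⁻¹ = w * (a * w⁻¹ * a⁻¹) by group]
    exact mul_mem hw ((Subgroup.mem_normalizer_iff.mp haW2 _).mp (inv_mem hw))
  obtain ⟨g0, hg0, hb0⟩ : ∃ g ∈ L, ⁅u, g⁆ ≠ 1 := by
    by_contra! hall
    exact hwa (hBd u ⟨huW2.1, Subgroup.mem_centralizer_iff.mpr fun g hg =>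
      (commutatorElement_eq_one_iff_mul_comm.mp (hall g hg)).symm⟩ (hUD u huU))
  set b0 := ⁅u, g0⁆ with hb0def
  have hb0B : b0 ∈ B := huW2.2 g0 hg0
  have hP0D : P0 ≤ Subgroup.normalizer (D : Set Y) := by
    intro g hg
    obtain ⟨c, hc, v, hv, rfl⟩ := Coprime.exists_eq_centralizer_mul_commutator
      (zpowers_le_normalizer haP0) (h.coprime hP0G) (Or.inl (Fpf.zpowers_solvable a)) hg
    refine mul_mem ?_ (Subgroup.centralizer_le_normalizer _
      (Subgroup.mem_centralizer_iff.mpr fun d hd => (hUD v hv d hd).symm))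
    rw [Subgroup.mem_normalizer_iff_map_conj_eq, hDdef, Subgroup.map_commutator,
      map_conj_zpowers (mem_centralizer_zpowers.mp hc.2),
      Subgroup.mem_normalizer_iff_map_conj_eq.mp (le_normalizer_pc (hP0X hc.1))]
  obtain ⟨χ, he, z0, hz0, hz0'⟩ : ∃ χ : ctr D → K, Exc ρ a r D χ ∧ ∃ (z : ctr D)
      (hz : b0⁻¹ * z * b0 ∈ ctr D), χ ⟨_, hz⟩ ≠ χ z := by
    by_contra! hall
    refine hb0 (hBd b0 hb0B (hD.centralizes_of_ctr (hP0D (hWP0 hb0B.1)) (hBa b0 hb0B)
      (h.order_coprime (hP0G (hWP0 hb0B.1))) fun z hz => ?_))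
    have hz' := hD.conj_ctr (hP0D (hWP0 hb0B.1)) z hz
    have key : z⁻¹ * (b0⁻¹ * z * b0) = 1 := by
      refine hD.eq_one_of_pieces (mul_mem (inv_mem hz.1) hz'.1) fun χ v hv => ?_
      rcases hD.piece_cases χ with ht | he
      · exact ht _ (mul_mem (inv_mem hz.1) hz'.1) v hv
      · have h1 := mem_piece.mp hv ⟨_, hz'⟩
        rw [hall χ he ⟨z, hz⟩ hz', ← mem_piece.mp hv ⟨z, hz⟩] at h1
        rw [map_mul, Module.End.mul_apply, h1, map_cancel]
    have h2 : z = b0⁻¹ * z * b0 := inv_mul_eq_one.mp key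
    calc b0 * z = b0 * (b0⁻¹ * z * b0) := by rw [← h2]
      _ = z * b0 := by group
  -- a functional on `B`
  let H : Subgroup B :=
    { carrier := {b | ∀ (z : ctr D) (hz : (b : Y)⁻¹ * z * b ∈ ctr D), χ ⟨_, hz⟩ = χ z}
      one_mem' := fun z hz => congrArg χ (Subtype.ext (by simp))
      mul_mem' := fun {b c} hb hc z hz => by
        have hz1 : (b : Y)⁻¹ * z * b ∈ ctr D := hD.conj_ctr (hP0D (hWP0 b.2.1)) z z.2
        have hz2 : (c : Y)⁻¹ * ((b : Y)⁻¹ * z * b) * c ∈ ctr D := hD.conj_ctr (hP0D (hWP0 c.2.1)) _ hz1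
        rw [show (⟨((b * c : B) : Y)⁻¹ * z * (b * c : B), hz⟩ : ctr D) = ⟨_, hz2⟩ from
          Subtype.ext (by simp [mul_assoc]), hc ⟨_, hz1⟩ hz2, hb z hz1]
      inv_mem' := fun {b} hb z hz => by
        have h1 := hb ⟨_, hz⟩ (hD.conj_ctr (hP0D (hWP0 b.2.1)) _ hz)
        rw [← h1]
        exact congrArg χ (Subtype.ext (by simp [mul_assoc])) }
  letI : CommGroup B :=
    { (inferInstance : Group B) with mul_comm := fun u v => Subtype.ext (hWW u u.2.1 v v.2.1).eq }
  obtain ⟨φ', hφH, hφ⟩ := exists_functional (p := p) (M := Additive B) (fun x => by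
      show Additive.ofMul ((Additive.toMul x) ^ p) = 0
      rw [show (Additive.toMul x) ^ p = 1 from Subtype.ext (by
        rw [Subgroup.coe_pow]; exact (Additive.toMul x).2.1.2.1), ofMul_one])
    (Subgroup.toAddSubgroup H) (x := Additive.ofMul ⟨b0, hb0B⟩)
    (fun hmem => hz0' ((show (⟨b0, hb0B⟩ : B) ∈ H from hmem) z0 hz0))
  let Φ : Y → ZMod p := fun y => if hy : y ∈ B then φ' (Additive.ofMul ⟨y, hy⟩) else 0
  refine h.orbit_contra hD hLG hLp hP0L haP0 haL hmin hP0D hUD (fun b (hb : b ∈ B) => hWP0 hb.1)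
    (fun b (hb : b ∈ B) => hb.1.2.1) hBa hBL (hWP0 hw.1) hw.1.2.2 hw.2 he Φ (fun b hb b' hb' => ?_) (fun b hb hbfix => ?_)
    hg0 ?_
  · simp only [Φ, dif_pos hb, dif_pos hb', dif_pos (mul_mem hb hb')]
    rw [← map_add]; rfl
  · simp only [Φ, dif_pos hb]
    exact hφH _ (show (⟨b, hb⟩ : B) ∈ H from fun z hz => hbfix z hz)
  · show Φ b0 ≠ 0
    simp only [Φ, dif_pos hb0B]
    exact hφ

/-- In a maximal invariant subgroup one of the cores is not moved. -/
theorem Ctx.maxInv_cases (h : Ctx ρ a r p G) {X : Subgroup Y} (hX : MaxInv a G X) :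
    ⁅pc p X, Subgroup.zpowers a⁆ = ⊥ ∨ ⁅pc 2 X, Subgroup.zpowers a⁆ = ⊥ :=
  or_iff_not_imp_left.mpr fun hU => by_contra fun hD => h.no_member X ⟨hX, hU, hD⟩

end Cfsg.Agent.Lib.ShultFlavell
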