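import Cfsg.Agent.Lib.ShultFlavell.Member
import Cfsg.Agent.Lib.ShultFlavell.Fourier

/-!
The vector argument: a `p`-group `L` over `P₀` with no fixed points modulo `P₀`.
-/

set_option autoImplicit false
set_option linter.style.haveILetI false
set_option linter.unusedSectionVars false

namespace Cfsg.Agent.Lib.ShultFlavell

open Module (End)
open scoped commutatorElement

variable {K : Type*} [Field K] {W : Type*} [AddCommGroup W] [Module K W]
variable {Y : Type*} [Group Y] [Finite Y]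
variable {ρ : Y →* End K W} {a : Y} {r p : ℕ} {G : Subgroup Y}
variable [IsAlgClosed K] [FiniteDimensional K W] [Nontrivial W] [CharP K p]

set_option maxHeartbeats 2000000 in
theorem Ctx.orbit_contra (h : Ctx ρ a r p G) {D P0 L B : Subgroup Y} (hD : Moved ρ a r D 2)
    (hLG : L ≤ G) (hL : IsPGroup p L) (hP0L : P0 < L)
    (haP : a ∈ Subgroup.normalizer (P0 : Set Y))
    (haL : a ∈ Subgroup.normalizer (L : Set Y))
    (hmin : ∀ M : Subgroup Y, P0 ≤ M → M ≤ L → a ∈ Subgroup.normalizer (M : Set Y) → M = P0 ∨ M = L)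
    (hP0D : P0 ≤ Subgroup.normalizer (D : Set Y))
    (hUD : ∀ u ∈ ⁅P0, Subgroup.zpowers a⁆, ∀ d ∈ D, u * d = d * u)
    (hB : B ≤ P0) (hBp : ∀ b ∈ B, b ^ p = 1) (hBa : ∀ b ∈ B, Commute b a)
    (hBL : ∀ b ∈ B, ∀ g ∈ L, Commute b g)
    {w : Y} (hw : w ∈ P0) (hwP : ∀ g ∈ P0, Commute w g) (hwL : ∀ g ∈ L, ⁅w, g⁆ ∈ B)
    {χ : ctr D → K} (he : Exc ρ a r D χ)
    (Φ : Y → ZMod p) (hΦ : ∀ b ∈ B, ∀ b' ∈ B, Φ (b * b') = Φ b + Φ b')
    (hΦfix : ∀ b ∈ B, (∀ (z : ctr D) (hz : b⁻¹ * z * b ∈ ctr D), χ ⟨_, hz⟩ = χ z) → Φ b = 0)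
    {g0 : Y} (hg0 : g0 ∈ L) (hΦ0 : Φ ⁅⁅w, a⁆, g0⁆ ≠ 0) : False := by
  classical
  haveI := Fact.mk h.pprime
  haveI := Fact.mk h.fpf.prime
  haveI : Fact (1 < r) := ⟨h.fpf.prime.one_lt⟩
  have har := h.fpf.pow
  have hrK : (r : K) ≠ 0 := h.fpf.cast_ne_zero
  letI : Algebra (ZMod p) K := ZMod.algebra K p
  set U := ⁅P0, Subgroup.zpowers a⁆ with hUdef
  have haU : a ∈ Subgroup.normalizer (U : Set Y) := Ctx.comm_norm haP
  have hUP : U ≤ P0 := Coprime.commutator_le_of_le_normalizer (zpowers_le_normalizer haP)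
  have hPU : P0 ≤ Subgroup.normalizer (U : Set Y) := Subgroup.normalizer_commutator_ge_left P0 _
  have hgenU := h.comm_idem (hP0L.le.trans hLG) haP
  have hBP : ∀ b ∈ B, ∀ g ∈ P0, Commute b g := fun b hb g hg => hBL b hb g (hP0L.le hg)
  -- conjugates of `w`
  let cj : ZMod r → Y → Y := fun i g => a ^ i.val * g * (a ^ i.val)⁻¹
  have hcj_mem : ∀ (i : ZMod r) {S : Subgroup Y}, a ∈ Subgroup.normalizer (S : Set Y) → ∀ g ∈ S,
      cj i g ∈ S := fun i {S} hS g hg =>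
    (Subgroup.mem_normalizer_iff.mp (Subgroup.pow_mem _ hS i.val) g).mp hg
  have hcj_add : ∀ (i j : ZMod r) (g : Y), cj (i + j) g = cj i (cj j g) := fun i j g => by
    show a ^ (i + j).val * g * (a ^ (i + j).val)⁻¹ = _
    rw [pow_val_add' har]; show _ = a ^ i.val * (a ^ j.val * g * (a ^ j.val)⁻¹) * (a ^ i.val)⁻¹
    group
  have hcj_zero : ∀ g : Y, cj 0 g = g := fun g => by simp [cj]
  have hcj_one : ∀ g : Y, cj 1 g = a * g * a⁻¹ := fun g => by simp [cj, ZMod.val_one]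
  have hcj_B : ∀ (i : ZMod r), ∀ b ∈ B, cj i b = b := fun i b hb => by
    show a ^ i.val * b * (a ^ i.val)⁻¹ = b
    rw [((hBa b hb).pow_right _).symm.eq, mul_inv_cancel_right]
  have hcj_comm : ∀ (i : ZMod r) (x y : Y), cj i ⁅x, y⁆ = ⁅cj i x, cj i y⁆ := fun i x y => by
    simp only [cj, commutatorElement_def]; group
  let wj : ZMod r → Y := fun j => cj j w
  have hwjP : ∀ j, wj j ∈ P0 := fun j => hcj_mem j haP w hw
  have hwjL : ∀ j, ∀ g ∈ L, ⁅wj j, g⁆ ∈ B := fun j g hg => by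
    have h1 := hwL _ (hcj_mem (-j) haL g hg)
    have h2 : ⁅wj j, g⁆ = cj j ⁅w, cj (-j) g⁆ := by rw [hcj_comm, ← hcj_add, add_neg_cancel, hcj_zero]
    rw [h2, hcj_B j _ h1]; exact h1
  have hwjC : ∀ j, ∀ g ∈ P0, Commute (wj j) g := fun j g hg => by
    have h1 := hwP _ (hcj_mem (-j) haP g hg)
    have h2 : g = cj j (cj (-j) g) := by rw [← hcj_add, add_neg_cancel, hcj_zero]
    rw [h2]
    exact h1.map (MulAut.conj (a ^ j.val) : Y ≃* Y).toMonoidHom
  let uj : ZMod r → Y := fun j => ⁅wj j, a⁆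
  have huj : ∀ j, uj j = wj j * (wj (j + 1))⁻¹ := fun j => by
    show ⁅wj j, a⁆ = _
    rw [show wj (j + 1) = a * wj j * a⁻¹ by rw [add_comm, ← hcj_one]; exact hcj_add 1 j w,
      commutatorElement_def]
    group
  have hujU : ∀ j, uj j ∈ U := fun j => Subgroup.commutator_mem_commutator (hwjP j) (Subgroup.mem_zpowers a)
  have hujC : ∀ j, ∀ g ∈ P0, Commute (uj j) g := fun j g hg => by
    rw [huj]; exact (hwjC j g hg).mul_left (hwjC _ g hg).inv_left
  have hcomm_left : ∀ x ∈ P0, ∀ y g : Y, ⁅y, g⁆ ∈ B → ⁅x * y, g⁆ = ⁅y, g⁆ * ⁅x, g⁆ := fun x hx y g hyg => by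
    rw [commutatorElement_mul_left_eq_conj_mul, ← (hBP _ hyg x hx).eq, mul_inv_cancel_right]
  have hujB : ∀ j, ∀ g ∈ L, ⁅uj j, g⁆ ∈ B := fun j g hg => by
    have h1 : ⁅(wj (j + 1))⁻¹, g⁆ ∈ B := by
      have e : ⁅(wj (j + 1))⁻¹, g⁆ = (wj (j + 1))⁻¹ * ⁅wj (j + 1), g⁆⁻¹ * wj (j + 1) := by
        simp only [commutatorElement_def]; group
      rw [e, ← (hBP _ (inv_mem (hwjL (j + 1) g hg)) _ (inv_mem (hwjP _))).eq, inv_mul_cancel_right]
      exact inv_mem (hwjL (j + 1) g hg)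
    rw [huj, hcomm_left _ (hwjP j) _ _ h1]
    exact mul_mem h1 (hwjL j g hg)
  have hΦ1 : Φ 1 = 0 := by
    have h1 := hΦ 1 (one_mem B) 1 (one_mem B)
    rw [one_mul] at h1
    exact left_eq_add.mp h1
  have hΦinv : ∀ b ∈ B, Φ b⁻¹ = -Φ b := fun b hb => by
    have h1 := hΦ b hb b⁻¹ (inv_mem hb)
    rw [mul_inv_cancel, hΦ1] at h1
    exact eq_neg_of_add_eq_zero_right h1.symm
  have hΦpow : ∀ b ∈ B, ∀ n : ℕ, Φ (b ^ n) = n * Φ b := fun b hb n => by
    induction n with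
    | zero => simp [hΦ1]
    | succ n ih => rw [pow_succ, hΦ _ (pow_mem hb n) b hb, ih]; push_cast; ring
  let c : Y → ZMod r → K := fun g j => algebraMap (ZMod p) K (Φ ⁅uj j, g⁆)
  let gw : ZMod r → ZMod p := fun j => Φ ⁅wj j, g0⁆
  have hgw : ∀ j, Φ ⁅uj j, g0⁆ = gw j - gw (j + 1) := fun j => by
    have h1 : ⁅(wj (j + 1))⁻¹, g0⁆ = ⁅wj (j + 1), g0⁆⁻¹ := by
      have e : ⁅(wj (j + 1))⁻¹, g0⁆ = (wj (j + 1))⁻¹ * ⁅wj (j + 1), g0⁆⁻¹ * wj (j + 1) := by
        simp only [commutatorElement_def]; group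
      rw [e, ← (hBP _ (inv_mem (hwjL (j + 1) g0 hg0)) _ (inv_mem (hwjP _))).eq, inv_mul_cancel_right]
    rw [huj, hcomm_left _ (hwjP j) _ _ (h1 ▸ inv_mem (hwjL _ g0 hg0)), h1,
      hΦ _ (inv_mem (hwjL _ g0 hg0)) _ (hwjL j g0 hg0), hΦinv _ (hwjL _ g0 hg0)]
    ring
  have hw0 : wj 0 = w := hcj_zero w
  have hu0 : uj 0 = ⁅w, a⁆ := by show ⁅wj 0, a⁆ = _; rw [hw0]
  have hc0 : c g0 0 ≠ 0 := by
    show algebraMap (ZMod p) K (Φ ⁅uj 0, g0⁆) ≠ 0
    rw [hu0]
    exact (map_ne_zero _).mpr hΦ0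
  have hsum : ∑ j, c g0 j = 0 := by
    show ∑ j, algebraMap (ZMod p) K (Φ ⁅uj j, g0⁆) = 0
    rw [← map_sum, Finset.sum_congr rfl fun j _ => hgw j, Finset.sum_sub_distrib,
      Fintype.sum_equiv (Equiv.addRight (1 : ZMod r)) (fun j => gw (j + 1)) gw (fun j => rfl),
      sub_self, map_zero]
  obtain ⟨ω, hωr, hω1, hω⟩ := exists_omega hrK (c g0) hsum hc0
  -- the function `S` and its kernel
  let S : Y → K := fun g => ∑ j, ω ^ (-j).val * c g j
  have hS1 : ∀ g ∈ P0, S g = 0 := fun g hg => Finset.sum_eq_zero fun j _ => by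
    simp [c, commutatorElement_eq_one_iff_commute.mpr (hujC j g hg), hΦ1]
  have hSmul : ∀ g ∈ L, ∀ g' ∈ L, S (g * g') = S g + S g' := fun g hg g' hg' => by
    rw [← Finset.sum_add_distrib]
    refine Finset.sum_congr rfl fun j _ => ?_
    have e : ⁅uj j, g * g'⁆ = ⁅uj j, g⁆ * ⁅uj j, g'⁆ := by
      rw [commutatorElement_mul_right_eq_mul_conj, mul_assoc _ g, ← (hBL _ (hujB j g' hg') g hg).eq]
      group
    show ω ^ (-j).val * algebraMap (ZMod p) K (Φ ⁅uj j, g * g'⁆) = _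
    rw [e, hΦ _ (hujB j g hg) _ (hujB j g' hg'), map_add, mul_add]
  have hcshift : ∀ (i j : ZMod r), ∀ g ∈ L, c (cj i g) j = c g (j - i) := fun i j g hg => by
    show algebraMap (ZMod p) K (Φ ⁅uj j, cj i g⁆) = algebraMap (ZMod p) K (Φ ⁅uj (j - i), g⁆)
    have e : uj j = cj i (uj (j - i)) := by
      have ea : cj i a = a := by
        show a ^ i.val * a * (a ^ i.val)⁻¹ = a
        rw [← pow_succ, pow_succ', mul_inv_cancel_right]
      show ⁅wj j, a⁆ = cj i ⁅wj (j - i), a⁆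
      rw [hcj_comm, ea, ← hcj_add, add_sub_cancel]
    rw [e, ← hcj_comm, hcj_B i _ (hujB _ g hg)]
  have hωne : ω ≠ 0 := fun e => by simp [e, zero_pow h.fpf.prime.ne_zero] at hωr
  have hSa : ∀ g ∈ L, S g = 0 → S (a * g * a⁻¹) = 0 := fun g hg hSg => by
    rw [← hcj_one]
    have e : S (cj 1 g) = ω ^ (-(1 : ZMod r)).val * S g := by
      rw [Finset.mul_sum]
      refine Fintype.sum_equiv (Equiv.subRight (1 : ZMod r)) _ _ fun j => ?_
      rw [hcshift 1 j g hg, ← mul_assoc, ← pow_val_add' hωr]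
      show ω ^ (-j).val * c g (j - 1) = ω ^ (-1 + -(j - 1)).val * c g (j - 1)
      congr 3
      ring
    rw [e, hSg, mul_zero]
  let N0 : Subgroup Y :=
    { carrier := {g | g ∈ L ∧ S g = 0}
      one_mem' := ⟨one_mem L, hS1 1 (one_mem P0)⟩
      mul_mem' := fun {x y} hx hy => ⟨mul_mem hx.1 hy.1, by rw [hSmul x hx.1 y hy.1, hx.2, hy.2, add_zero]⟩
      inv_mem' := fun {x} hx => ⟨inv_mem hx.1, by
        have h1 := hSmul x hx.1 x⁻¹ (inv_mem hx.1)
        rw [mul_inv_cancel, hS1 1 (one_mem P0), hx.2, zero_add] at h1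
        exact h1.symm⟩ }
  have haN0 : a ∈ Subgroup.normalizer (N0 : Set Y) := by
    rw [Subgroup.mem_normalizer_iff_map_conj_eq]
    refine Subgroup.eq_of_le_of_card_ge ?_ (Subgroup.card_map_of_injective (MulEquiv.injective _)).ge
    rintro _ ⟨g, hg, rfl⟩
    exact ⟨(Subgroup.mem_normalizer_iff.mp haL g).mp hg.1, hSa g hg.1 hg.2⟩
  have hN0 : ∀ g ∈ L, S g = 0 → g ∈ P0 := by
    rcases hmin N0 (fun g hg => ⟨hP0L.le hg, hS1 g hg⟩) (fun g hg => hg.1) haN0 with e | e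
    · intro g hg hSg
      exact e ▸ (⟨hg, hSg⟩ : g ∈ N0)
    · exact absurd (e.symm ▸ hg0 : g0 ∈ N0).2 hω
  -- the stabiliser of the piece
  let Stab : Subgroup Y :=
    { carrier := {b | b ∈ B ∧ ∀ (z : ctr D) (hz : b⁻¹ * z * b ∈ ctr D), χ ⟨_, hz⟩ = χ z}
      one_mem' := ⟨one_mem B, fun z hz => congrArg χ (Subtype.ext (by simp))⟩
      mul_mem' := fun {b c} hb hc => ⟨mul_mem hb.1 hc.1, fun z hz => by
        have hz1 : b⁻¹ * z * b ∈ ctr D := hD.conj_ctr (hP0D (hB hb.1)) z z.2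
        have hz2 : c⁻¹ * (b⁻¹ * z * b) * c ∈ ctr D := hD.conj_ctr (hP0D (hB hc.1)) _ hz1
        rw [show (⟨(b * c)⁻¹ * z * (b * c), hz⟩ : ctr D) = ⟨_, hz2⟩ from Subtype.ext (by group),
          hc.2 ⟨_, hz1⟩ hz2, hb.2 z hz1]⟩
      inv_mem' := fun {b} hb => ⟨inv_mem hb.1, fun z hz => by
        have h1 := hb.2 ⟨_, hz⟩ (hD.conj_ctr (hP0D (hB hb.1)) _ hz)
        rw [← h1]
        exact congrArg χ (Subtype.ext (by group))⟩ }
  have hStabB : Stab ≤ B := fun b hb => hb.1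
  let H0 : Subgroup Y :=
    { carrier := {b | b ∈ B ∧ Φ b = 0}
      one_mem' := ⟨one_mem B, hΦ1⟩
      mul_mem' := fun {b c} hb hc => ⟨mul_mem hb.1 hc.1, by rw [hΦ b hb.1 c hc.1, hb.2, hc.2, add_zero]⟩
      inv_mem' := fun {b} hb => ⟨inv_mem hb.1, by rw [hΦinv b hb.1, hb.2, neg_zero]⟩ }
  have hSH : Stab ≤ H0 := fun b hb => ⟨hb.1, hΦfix b hb.1 hb.2⟩
  -- `y` with `Φ y = 1`
  have hb0 : ⁅uj 0, g0⁆ ∈ B := hujB 0 g0 hg0
  set y := ⁅uj 0, g0⁆ ^ ((Φ ⁅uj 0, g0⁆)⁻¹).val with hy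
  have hyB : y ∈ B := pow_mem hb0 _
  have hy1 : Φ y = 1 := by
    rw [hy, hΦpow _ hb0, ZMod.natCast_zmod_val, inv_mul_cancel₀ (by rw [hu0]; exact hΦ0)]
  -- a vector fixed by the stabiliser
  have hStabpc : ∀ b ∈ Stab, ∀ v ∈ piece ρ D χ, ρ b v ∈ piece ρ D χ := fun b hb =>
    piece_invariant fun z => ⟨⟨b⁻¹ * z * b, hD.conj_ctr (hP0D (hB hb.1)) z z.2⟩, by simp [mul_assoc],
      hb.2 z _⟩
  let F : Submodule K W :=
    { carrier := {v | v ∈ piece ρ D χ ∧ ∀ b ∈ Stab, ρ b v = v}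
      add_mem' := fun h1 h2 => ⟨add_mem h1.1 h2.1, fun b hb => by rw [map_add, h1.2 b hb, h2.2 b hb]⟩
      zero_mem' := ⟨zero_mem _, fun b _ => map_zero _⟩
      smul_mem' := fun k v hv => ⟨(piece ρ D χ).smul_mem k hv.1, fun b hb => by rw [map_smul, hv.2 b hb]⟩ }
  have hF0 : F ≠ ⊥ := by
    obtain ⟨v, hv, hv0, hvf⟩ := exists_fixed_vector (hL.to_le ((hStabB.trans hB).trans hP0L.le))
      he.piece_ne hStabpc
    exact fun e => hv0 ((Submodule.mem_bot K).mp (e ▸ (⟨hv, hvf⟩ : v ∈ F)))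
  have hFD : ∀ d ∈ D, ∀ v ∈ F, ρ d v ∈ F := fun d hd v hv => ⟨piece_mem_E hd v hv.1, fun b hb => by
    rw [he.commute_of_fix hD (hP0D (hB hb.1)) (hBa b hb.1) (h.order_coprime (hLG (hP0L.le (hB hb.1))))
      (fun z => hb.2 z _) d hd v hv.1, hv.2 b hb]⟩
  obtain ⟨w0, hw0F, hw00, hw0a⟩ := he.eigen F (fun v hv => hv.1) hF0 hFD ω hωr hω1
  have hUfix : ∀ u ∈ U, ∀ v ∈ piece ρ D χ, ρ u v = v := he.fixed_of_centralized hD hgenU hUD
  -- the sum over `H0 / Stab`
  letI := Fintype.ofFinite (H0 ⧸ Stab.subgroupOf H0)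
  let fq : H0 ⧸ Stab.subgroupOf H0 → W := fun q => Quotient.liftOn' q (fun b : H0 => ρ (b : Y) w0)
    fun b b' hbb => by
      rw [QuotientGroup.leftRel_apply, Subgroup.mem_subgroupOf] at hbb
      show ρ (b : Y) w0 = ρ (b' : Y) w0
      conv_rhs => rw [show (b' : Y) = b * ((b : Y)⁻¹ * b') by group, map_mul, Module.End.mul_apply,
        hw0F.2 _ (by simpa using hbb)]
  set x0 := ∑ q, fq q with hx0
  have hfixH : ∀ b ∈ H0, ρ b x0 = x0 := fun b hb => by
    rw [hx0, map_sum]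
    refine Fintype.sum_equiv (MulAction.toPerm (⟨b, hb⟩ : H0)) _ _ fun q => ?_
    obtain ⟨q, rfl⟩ := QuotientGroup.mk_surjective q
    show ρ b (ρ (q : Y) w0) = fq (QuotientGroup.mk (⟨b, hb⟩ * q))
    show ρ b (ρ (q : Y) w0) = ρ (b * (q : Y)) w0
    rw [map_mul, Module.End.mul_apply]
  have hfixU : ∀ u ∈ U, ρ u x0 = x0 := fun u hu => by
    rw [hx0, map_sum]
    refine Finset.sum_congr rfl fun q _ => ?_
    obtain ⟨q, rfl⟩ := QuotientGroup.mk_surjective q
    show ρ u (ρ (q : Y) w0) = ρ (q : Y) w0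
    rw [← Module.End.mul_apply, ← map_mul, ← (hBP _ q.2.1 u (hUP hu)).eq, map_mul, Module.End.mul_apply,
      hUfix u hu w0 hw0F.1]
  have hax0 : ρ a x0 = ω • x0 := by
    rw [hx0, map_sum, Finset.smul_sum]
    refine Finset.sum_congr rfl fun q _ => ?_
    obtain ⟨q, rfl⟩ := QuotientGroup.mk_surjective q
    show ρ a (ρ (q : Y) w0) = ω • ρ (q : Y) w0
    rw [← Module.End.mul_apply, ← map_mul, ← (hBa _ q.2.1).eq, map_mul, Module.End.mul_apply, hw0a, map_smul]
  have hproj : ∀ b ∈ B, b ∉ Stab → pieceProj ρ D χ (ρ b w0) = 0 := fun b hb hns => by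
    have hcc := hD.conj_ctr (hP0D (hB hb))
    refine hD.pieceProj_orth (piece_conj hcc hw0F.1) he.piece_ne fun e => hns ⟨hb, fun z hz => ?_⟩
    exact (congrFun e z).symm
  have hyx0 : ρ y x0 ≠ x0 := by
    intro e
    have h1 : pieceProj ρ D χ x0 = (Nat.card (ctr D) : K) • w0 := by
      rw [hx0, map_sum, Finset.sum_eq_single (QuotientGroup.mk (1 : H0))]
      · show pieceProj ρ D χ (ρ ((1 : H0) : Y) w0) = _
        rw [OneMemClass.coe_one, map_one, Module.End.one_apply, hD.pieceProj_self hw0F.1 he.piece_ne]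
      · intro q _ hq
        obtain ⟨q, rfl⟩ := QuotientGroup.mk_surjective q
        refine hproj _ q.2.1 fun hqs => hq ?_
        refine (QuotientGroup.eq.mpr ?_).symm
        rw [inv_one, one_mul, Subgroup.mem_subgroupOf]
        exact hqs
      · exact fun hq => absurd (Finset.mem_univ _) hq
    have h2 : pieceProj ρ D χ (ρ y x0) = 0 := by
      rw [hx0, map_sum, map_sum]
      refine Finset.sum_eq_zero fun q _ => ?_
      obtain ⟨q, rfl⟩ := QuotientGroup.mk_surjective q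
      show pieceProj ρ D χ (ρ y (ρ (q : Y) w0)) = 0
      rw [← Module.End.mul_apply (ρ y), ← map_mul]
      refine hproj _ (mul_mem hyB q.2.1) fun hs => ?_
      have h3 := (hSH hs).2
      rw [hΦ y hyB _ q.2.1, hy1, q.2.2, add_zero] at h3
      exact one_ne_zero h3
    rw [e, h1] at h2
    rcases smul_eq_zero.mp h2 with e1 | e1
    · exact hD.card_ctr_ne_zero e1
    · exact hw00 e1
  -- the vector `x`
  set Δ : End K W := ρ y - 1 with hΔ
  haveI : CharP (End K W) p := charP_of_injective_algebraMap (algebraMap K (End K W)).injective p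
  have hΔp : Δ ^ p = 0 := by
    rw [hΔ, sub_pow_char_of_commute p (Commute.one_right _), one_pow, ← map_pow, hBp y hyB, map_one, sub_self]
  let M : Submodule K W :=
    { carrier := {v | (∀ u ∈ U, ρ u v = v) ∧ (∀ b ∈ H0, ρ b v = v) ∧ ρ a v = ω • v}
      add_mem' := fun h1 h2 => ⟨fun u hu => by rw [map_add, h1.1 u hu, h2.1 u hu],
        fun b hb => by rw [map_add, h1.2.1 b hb, h2.2.1 b hb], by rw [map_add, h1.2.2, h2.2.2, smul_add]⟩
      zero_mem' := ⟨fun u _ => map_zero _, fun b _ => map_zero _, by rw [map_zero, smul_zero]⟩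
      smul_mem' := fun k v hv => ⟨fun u hu => by rw [map_smul, hv.1 u hu],
        fun b hb => by rw [map_smul, hv.2.1 b hb], by rw [map_smul, hv.2.2, smul_comm]⟩ }
  have hΔc : ∀ g, Commute y g → ∀ v, ρ g (Δ v) = Δ (ρ g v) := fun g hg v => by
    simp only [hΔ, LinearMap.sub_apply, Module.End.one_apply, map_sub]
    congr 1
    rw [← Module.End.mul_apply, ← map_mul, ← hg.eq, map_mul, Module.End.mul_apply]
  have hMΔ : ∀ v ∈ M, Δ v ∈ M := fun v hv => ⟨fun u hu => by rw [hΔc u (hBP y hyB u (hUP hu)), hv.1 u hu],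
    fun b hb => by rw [hΔc b (hBP y hyB b (hB hb.1)), hv.2.1 b hb],
    by rw [hΔc a (hBa y hyB), hv.2.2, map_smul]⟩
  have hMk : ∀ k : ℕ, (Δ ^ k) x0 ∈ M := fun k => by
    induction k with
    | zero => exact ⟨hfixU, hfixH, hax0⟩
    | succ k ih => rw [pow_succ', Module.End.mul_apply]; exact hMΔ _ ih
  have hex : ∃ n, (Δ ^ n) x0 = 0 := ⟨p, by rw [hΔp]; rfl⟩
  obtain ⟨x, hxM, hx1, hx2⟩ : ∃ x ∈ M, Δ x ≠ 0 ∧ Δ (Δ x) = 0 := by
    have hspec := Nat.find_spec hex
    have hΔx0 : Δ x0 ≠ 0 := by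
      rw [hΔ, LinearMap.sub_apply, Module.End.one_apply, sub_ne_zero]
      exact hyx0
    have hn2 : 2 ≤ Nat.find hex := by
      by_contra hlt
      interval_cases hn : Nat.find hex
      · rw [pow_zero, Module.End.one_apply] at hspec
        exact hΔx0 (by rw [hspec, map_zero])
      · rw [pow_one] at hspec
        exact hΔx0 hspec
    obtain ⟨k, hk⟩ := Nat.exists_eq_add_of_le hn2
    refine ⟨(Δ ^ k) x0, hMk k, fun e => ?_, ?_⟩
    · refine Nat.find_min hex (show k + 1 < Nat.find hex by omega) ?_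
      rw [pow_succ', Module.End.mul_apply, e]
    · rw [hk, add_comm, pow_succ', pow_succ', Module.End.mul_apply, Module.End.mul_apply] at hspec
      exact hspec
  -- a fixed vector of `P0`
  let M2 : Submodule K W := M ⊓ LinearMap.ker (Δ * Δ)
  have hM2P : ∀ g ∈ P0, ∀ v ∈ M2, ρ g v ∈ M2 := by
    rintro g hg v ⟨hv, hvk⟩
    refine ⟨⟨fun u hu => ?_, fun b hb => ?_, ?_⟩, ?_⟩
    · have h1 : g⁻¹ * u * g ∈ U := (Subgroup.mem_normalizer_iff''.mp (hPU hg) u).mp hu
      rw [← Module.End.mul_apply, ← map_mul, show u * g = g * (g⁻¹ * u * g) by group, map_mul,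
        Module.End.mul_apply, hv.1 _ h1]
    · rw [← Module.End.mul_apply, ← map_mul, (hBP b hb.1 g hg).eq, map_mul, Module.End.mul_apply, hv.2.1 b hb]
    · have h1 : ⁅g⁻¹, a⁆ ∈ U := Subgroup.commutator_mem_commutator (inv_mem hg) (Subgroup.mem_zpowers a)
      rw [← Module.End.mul_apply, ← map_mul,
        show a * g = g * ⁅g⁻¹, a⁆ * a by rw [commutatorElement_def]; group, map_mul, map_mul,
        Module.End.mul_apply, Module.End.mul_apply, hv.2.2, map_smul, hv.1 _ h1, map_smul]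
    · rw [SetLike.mem_coe, LinearMap.mem_ker, Module.End.mul_apply] at hvk ⊢
      rw [← hΔc g (hBP y hyB g hg), ← hΔc g (hBP y hyB g hg), hvk, map_zero]
  obtain ⟨v, ⟨x', hx', rfl⟩, hv0, hvfix⟩ := exists_fixed_vector (hL.to_le hP0L.le)
    (U := M2.map Δ) (fun e => hx1 ((Submodule.mem_bot K).mp
      (e ▸ Submodule.mem_map_of_mem (show x ∈ M2 from ⟨hxM, by rw [SetLike.mem_coe, LinearMap.mem_ker, Module.End.mul_apply, hx2]⟩))))
    (fun g hg v => by
      rintro ⟨u, hu, rfl⟩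
      exact ⟨_, hM2P g hg u hu, (hΔc g (hBP y hyB g hg) u).symm⟩)
  set v := Δ x' with hv
  have hyv : ρ y v = v := hvfix y (hB hyB)
  have hyx : ρ y x' = x' + v := by
    rw [hv, hΔ, LinearMap.sub_apply, Module.End.one_apply, add_sub_cancel]
  have hbx : ∀ b ∈ B, ρ b x' = x' + algebraMap (ZMod p) K (Φ b) • v := by
    intro b hb
    have hk : ∀ k : ℕ, ρ (y ^ k) x' = x' + (k : K) • v := by
      intro k
      induction k with
      | zero => simp
      | succ k ih =>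
        rw [pow_succ', map_mul, Module.End.mul_apply, ih, map_add, map_smul, hyx, hyv, Nat.cast_succ, add_smul,
          one_smul]
        abel
    set k := (Φ b).val with hkdef
    have hr' : (y ^ k)⁻¹ * b ∈ H0 := ⟨mul_mem (inv_mem (pow_mem hyB k)) hb, by
      rw [hΦ _ (inv_mem (pow_mem hyB k)) _ hb, hΦinv _ (pow_mem hyB k), hΦpow _ hyB, hy1, mul_one,
        ZMod.natCast_zmod_val, neg_add_cancel]⟩
    conv_lhs => rw [show b = y ^ k * ((y ^ k)⁻¹ * b) by group, map_mul, Module.End.mul_apply, hx'.1.2.1 _ hr', hk]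
    congr 2
    rw [← map_natCast (algebraMap (ZMod p) K), hkdef, ZMod.natCast_zmod_val]
  -- the relations
  let H : Y → ZMod r → W := fun g i => ρ (cj i g) v
  have hrel : ∀ g ∈ L, ∀ j : ZMod r, ∑ i, (ω ^ i.val * c g (j - i)) • H g i = 0 := by
    intro g hg j
    have hai : ∀ i : ℕ, (ρ a ^ i) x' = ω ^ i • x' := by
      intro i
      induction i with
      | zero => simp
      | succ i ih => rw [pow_succ', Module.End.mul_apply, ih, map_smul, hx'.1.2.2, smul_smul, pow_succ]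
    have hbase : ∑ i : ZMod r, ω ^ i.val • ρ (cj i g) x' = 0 := by
      have h1 : ∀ i : ZMod r, ω ^ i.val • ρ (cj i g) x' = (ρ a ^ i.val) (ρ g x') := fun i => by
        rw [← map_smul, ← hai, ← map_pow, ← Module.End.mul_apply, ← map_mul, ← Module.End.mul_apply, ← map_mul]
        congr 2
        show a ^ i.val * g * (a ^ i.val)⁻¹ * a ^ i.val = _
        rw [inv_mul_cancel_right]
      rw [Finset.sum_congr rfl fun i _ => h1 i, sum_zmod_val fun i => (ρ a ^ i) (ρ g x')]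
      exact h.fpf.sum_eq_zero _
    have h2 := congrArg (ρ (uj j)) hbase
    rw [map_zero, map_sum] at h2
    have h3 : ∀ i : ZMod r, ρ (uj j) (ω ^ i.val • ρ (cj i g) x') =
        ω ^ i.val • ρ (cj i g) x' + (ω ^ i.val * c g (j - i)) • H g i := by
      intro i
      have hgi := hcj_mem i haL g hg
      rw [map_smul, ← Module.End.mul_apply, ← map_mul,
        show uj j * cj i g = ⁅uj j, cj i g⁆ * cj i g * uj j by rw [commutatorElement_def]; group,
        (hBL _ (hujB j _ hgi) _ hgi).eq, map_mul, map_mul, Module.End.mul_apply, Module.End.mul_apply,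
        hx'.1.1 _ (hujU j), hbx _ (hujB j _ hgi),
        show algebraMap (ZMod p) K (Φ ⁅uj j, cj i g⁆) = c g (j - i) from hcshift i j g hg, map_add, map_smul,
        smul_add, smul_smul]
    rw [Finset.sum_congr rfl fun i _ => h3 i, Finset.sum_add_distrib, hbase, zero_add] at h2
    exact h2
  have horb : ∀ g ∈ L, g ∉ P0 → ∑ i, H g i = 0 := by
    intro g hg hgP
    have h1 : ∑ j : ZMod r, ω ^ (-j).val • ∑ i, (ω ^ i.val * c g (j - i)) • H g i = 0 :=
      Finset.sum_eq_zero fun j _ => by rw [hrel g hg j, smul_zero]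
    have h2 : ∑ j : ZMod r, ω ^ (-j).val • ∑ i, (ω ^ i.val * c g (j - i)) • H g i = S g • ∑ i, H g i := by
      simp only [Finset.smul_sum, smul_smul]
      rw [Finset.sum_comm]
      refine Finset.sum_congr rfl fun i _ => ?_
      rw [← Finset.sum_smul]
      congr 1
      refine Fintype.sum_equiv (Equiv.subRight i) _ _ fun j => ?_
      show _ = ω ^ (-(j - i)).val * c g (j - i)
      rw [← mul_assoc, ← pow_val_add' hωr]
      congr 3
      ring
    rw [h2, smul_eq_zero] at h1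
    exact h1.resolve_left fun e => hgP (hN0 g hg e)
  -- summing over `L / P0`
  letI := Fintype.ofFinite (L ⧸ P0.subgroupOf L)
  let f : L ⧸ P0.subgroupOf L → W := fun q => Quotient.liftOn' q (fun g : L => ρ (g : Y) v) fun g g' hgg => by
    rw [QuotientGroup.leftRel_apply, Subgroup.mem_subgroupOf] at hgg
    show ρ (g : Y) v = ρ (g' : Y) v
    conv_rhs => rw [show (g' : Y) = g * ((g : Y)⁻¹ * g') by group, map_mul, Module.End.mul_apply,
      hvfix _ (by simpa using hgg)]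
  let σ : ZMod r → L ⧸ P0.subgroupOf L → L ⧸ P0.subgroupOf L := fun i q =>
    Quotient.map' (fun g : L => (⟨cj i g, hcj_mem i haL _ g.2⟩ : L)) (fun g g' hgg => by
      rw [QuotientGroup.leftRel_apply, Subgroup.mem_subgroupOf] at hgg ⊢
      have h1 := hcj_mem i haP _ hgg
      simp only [Subgroup.coe_mul, Subgroup.coe_inv, cj] at h1 ⊢
      convert h1 using 1
      group) q
  have hσ : ∀ i, Function.Bijective (σ i) := fun i => by
    refine Finite.injective_iff_bijective.mp fun q q' e => ?_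
    have h2 : ∀ q, σ (-i) (σ i q) = q := fun q => by
      obtain ⟨q, rfl⟩ := QuotientGroup.mk_surjective q
      refine congrArg QuotientGroup.mk (Subtype.ext ?_)
      show cj (-i) (cj i q) = q
      rw [← hcj_add, neg_add_cancel, hcj_zero]
    rw [← h2 q, e, h2]
  have hf1 : (r : K) • ∑ q, f q = (r : K) • v := by
    calc (r : K) • ∑ q, f q = ∑ _i : ZMod r, ∑ q, f q := by
          rw [Finset.sum_const, Finset.card_univ, ZMod.card, Nat.cast_smul_eq_nsmul]
      _ = ∑ i : ZMod r, ∑ q, f (σ i q) := Finset.sum_congr rfl fun i _ => ((hσ i).sum_comp f).symm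
      _ = ∑ q, ∑ i : ZMod r, f (σ i q) := Finset.sum_comm
      _ = ∑ i : ZMod r, f (σ i (QuotientGroup.mk 1)) := by
          refine Finset.sum_eq_single _ (fun q _ hq => ?_) fun hq => absurd (Finset.mem_univ _) hq
          obtain ⟨q, rfl⟩ := QuotientGroup.mk_surjective q
          exact horb q q.2 fun hqP => hq ((QuotientGroup.eq.mpr (by
            rw [inv_one, one_mul, Subgroup.mem_subgroupOf]; exact hqP)).symm)
      _ = ∑ _i : ZMod r, v := Finset.sum_congr rfl fun i _ => by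
          show ρ (cj i ((1 : L) : Y)) v = v
          simp [cj]
      _ = _ := by rw [Finset.sum_const, Finset.card_univ, ZMod.card, Nat.cast_smul_eq_nsmul]
  have hf : ∑ q, f q = v := smul_right_injective W hrK hf1
  have hLfix : ∀ g ∈ L, ρ g v = v := fun g hg => by
    conv_lhs => rw [← hf, map_sum]
    conv_rhs => rw [← hf]
    refine Fintype.sum_equiv (MulAction.toPerm (⟨g, hg⟩ : L)) _ _ fun q => ?_
    obtain ⟨q, rfl⟩ := QuotientGroup.mk_surjective q
    show ρ g (ρ (q : Y) v) = ρ (g * (q : Y)) v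
    rw [map_mul, Module.End.mul_apply]
  have hconst : ∀ q, f q = v := fun q => by
    obtain ⟨q, rfl⟩ := QuotientGroup.mk_surjective q
    exact hLfix q q.2
  rw [Finset.sum_congr rfl fun q _ => hconst q, Finset.sum_const, Finset.card_univ] at hf
  obtain ⟨n, hn⟩ := hL.index (P0.subgroupOf L)
  rw [← Nat.card_eq_fintype_card, ← Subgroup.index_eq_card, hn, ← Nat.cast_smul_eq_nsmul K, Nat.cast_pow,
    CharP.cast_eq_zero, zero_pow, zero_smul] at hf
  · exact hv0 hf.symm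
  · rintro rfl
    rw [pow_zero] at hn
    exact hP0L.not_ge (Subgroup.subgroupOf_eq_top.mp (Subgroup.index_eq_one.mp hn))

end Cfsg.Agent.Lib.ShultFlavell
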