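import Cfsg.Agent.Lib.ShultFlavell.Basic

/-!
Tools for pairs of points.
-/

set_option autoImplicit false
set_option linter.style.haveILetI false
set_option linter.unusedSectionVars false

namespace Cfsg.Agent.Lib.ShultFlavell

open Module (End)
open scoped commutatorElement Pointwise

variable {K : Type*} [Field K] {W : Type*} [AddCommGroup W] [Module K W]
variable {Y : Type*} [Group Y]
variable {ρ : Y →* End K W} {a : Y} {r q p : ℕ} {G E : Subgroup Y} {χ : ctr E → K}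

theorem comm_inv_swap (x y : Y) : ⁅x, y⁆⁻¹ = ⁅y, x⁆ := commutatorElement_inv x y

variable [IsAlgClosed K] [FiniteDimensional K W] [Finite Y]

theorem Moved.conj_a_mem (h : Moved ρ a r E q) (i : ℕ) {x : Y} (hx : x ∈ E) :
    a ^ i * x * (a ^ i)⁻¹ ∈ E :=
  (Subgroup.mem_normalizer_iff.mp (Subgroup.pow_mem _ h.norm i) x).mp hx

theorem Moved.conj_pow_ctr (h : Moved ρ a r E q) (i : ℕ) {z : Y} (hz : z ∈ ctr E) :
    a ^ i * z * (a ^ i)⁻¹ = z := by
  rw [((show Commute a z from h.comm_ctr hz).pow_left i).eq, mul_inv_cancel_right]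

/-- Commutators in `E` do not change when the arguments change by central elements. -/
theorem comm_mul_ctr {x y u v : Y} (hx : x ∈ E) (hy : y ∈ E) (hu : u ∈ ctr E) (hv : v ∈ ctr E) :
    ⁅x * u, y * v⁆ = ⁅x, y⁆ := by
  have h1 : Commute u (y * v) :=
    ((mem_ctr.mp hu).2 _ (mul_mem hy hv.1) : y * v * u = u * (y * v)).symm
  have h2 : Commute x v := (mem_ctr.mp hv).2 x hx
  rw [commutatorElement_mul_left_eq_conj_mul, commutatorElement_eq_one_iff_commute.mpr h1,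
    commutatorElement_mul_right_eq_mul_conj, commutatorElement_eq_one_iff_commute.mpr h2]
  group

/-- An element commuting with `a` and centralising `E` modulo the centre centralises `E`. -/
theorem Moved.commute_of_mod_ctr (h : Moved ρ a r E q) {v : Y} (hva : Commute v a)
    (hc : ∀ x ∈ E, ⁅v, x⁆ ∈ ctr E) {x : Y} (hx : x ∈ E) : Commute v x := by
  let f : E →* ctr E := MonoidHom.mk' (fun x => ⟨⁅v, (x : Y)⁆, hc x x.2⟩) fun x y => Subtype.ext (by
    show ⁅v, (x : Y) * y⁆ = ⁅v, (x : Y)⁆ * ⁅v, (y : Y)⁆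
    rw [commutatorElement_mul_right_eq_mul_conj, mul_assoc _ (x : Y), (mem_ctr.mp (hc y y.2)).2 x x.2]
    group)
  have hf := h.hom_eq_one f (fun x hx => Subtype.ext (by
    show ⁅v, a * x * a⁻¹⁆ = ⁅v, x⁆
    have e : ⁅v, a * x * a⁻¹⁆ = a * ⁅v, x⁆ * a⁻¹ := by
      calc ⁅v, a * x * a⁻¹⁆ = ⁅a * v * a⁻¹, a * x * a⁻¹⁆ := by rw [← hva.eq, mul_inv_cancel_right]
        _ = _ := by simp [commutatorElement_def, mul_assoc]
    rw [e, h.comm_ctr (hc x hx), mul_inv_cancel_right])) ⟨x, hx⟩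
  exact commutatorElement_eq_one_iff_commute.mp (congrArg Subtype.val hf)

/-- The elements of `E` centralised by `v` modulo the centre. -/
theorem Moved.exists_centralized_part (h : Moved ρ a r E q) {v : Y} (hva : Commute v a) :
    ∃ E1 : Subgroup Y, E1 ≤ E ∧ a ∈ Subgroup.normalizer (E1 : Set Y) ∧
      (∀ x, x ∈ E1 ↔ x ∈ E ∧ ⁅v, x⁆ ∈ ctr E) ∧
      (∀ x ∈ ⁅E1, Subgroup.zpowers a⁆, Commute v x) ∧
      ∀ x ∈ E1, ∃ x0 ∈ ⁅E1, Subgroup.zpowers a⁆, x0⁻¹ * x ∈ ctr E := by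
  let E1 : Subgroup Y :=
    { carrier := {x | x ∈ E ∧ ⁅v, x⁆ ∈ ctr E}
      one_mem' := ⟨one_mem E, by rw [commutatorElement_one_right]; exact one_mem _⟩
      mul_mem' := fun {x y} hx hy => ⟨mul_mem hx.1 hy.1, by
        rw [commutatorElement_mul_right_eq_mul_conj, mul_assoc _ x, (mem_ctr.mp hy.2).2 x hx.1,
          show ⁅v, x⁆ * (⁅v, y⁆ * x) * x⁻¹ = ⁅v, x⁆ * ⁅v, y⁆ by group]
        exact mul_mem hx.2 hy.2⟩
      inv_mem' := fun {x} hx => ⟨inv_mem hx.1, by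
        have e : ⁅v, x⁻¹⁆ = x⁻¹ * ⁅v, x⁆⁻¹ * x := by simp [commutatorElement_def, mul_assoc]
        rw [e, mul_assoc, ← (mem_ctr.mp (inv_mem hx.2)).2 x hx.1, inv_mul_cancel_left]
        exact inv_mem hx.2⟩ }
  have hE1 : E1 ≤ E := fun x hx => hx.1
  have hconj : ∀ x ∈ E1, a * x * a⁻¹ ∈ E1 := fun x hx => by
    refine ⟨(Subgroup.mem_normalizer_iff.mp h.norm x).mp hx.1, ?_⟩
    have e : ⁅v, a * x * a⁻¹⁆ = a * ⁅v, x⁆ * a⁻¹ := by
      calc ⁅v, a * x * a⁻¹⁆ = ⁅a * v * a⁻¹, a * x * a⁻¹⁆ := by rw [← hva.eq, mul_inv_cancel_right]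
        _ = _ := by simp [commutatorElement_def, mul_assoc]
    rw [e, h.comm_ctr hx.2, mul_inv_cancel_right]
    exact hx.2
  have hn : a ∈ Subgroup.normalizer (E1 : Set Y) := by
    rw [Subgroup.mem_normalizer_iff_map_conj_eq]
    refine Subgroup.eq_of_le_of_card_ge ?_ (Subgroup.card_map_of_injective (MulEquiv.injective _)).ge
    rintro _ ⟨x, hx, rfl⟩
    exact hconj x hx
  let f : E1 →* Y := MonoidHom.mk' (fun x => ⁅v, (x : Y)⁆) fun x y => by
    rw [Subgroup.coe_mul, commutatorElement_mul_right_eq_mul_conj, mul_assoc _ (x : Y),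
      (mem_ctr.mp y.2.2).2 x (hE1 x.2)]
    group
  refine ⟨E1, hE1, hn, fun x => Iff.rfl, ?_, fun x hx => ?_⟩
  · have hle : ⁅E1, Subgroup.zpowers a⁆ ≤ f.ker.map E1.subtype := by
      refine Subgroup.commutator_le.mpr fun x hx b hb => ?_
      have hb' : b * x⁻¹ * b⁻¹ ∈ E1 :=
        (Subgroup.mem_normalizer_iff.mp ((Subgroup.zpowers_le.mpr hn) hb) _).mp (inv_mem hx)
      refine ⟨⟨x, hx⟩ * ⟨_, hb'⟩, ?_, by simp [commutatorElement_def, mul_assoc]⟩
      rw [SetLike.mem_coe, MonoidHom.mem_ker, map_mul]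
      have hab : Commute v b := commute_zpowers hva hb
      have hfb : Commute b ⁅v, x⁻¹⁆ := by
        have h1 : ⁅v, x⁻¹⁆ ∈ ctr E := (inv_mem hx : x⁻¹ ∈ E1).2
        exact (commute_zpowers (show Commute ⁅v, x⁻¹⁆ a from (h.comm_ctr h1).symm) hb).symm
      show ⁅v, x⁆ * ⁅v, b * x⁻¹ * b⁻¹⁆ = 1
      have e : ⁅v, b * x⁻¹ * b⁻¹⁆ = b * ⁅v, x⁻¹⁆ * b⁻¹ := by
        calc ⁅v, b * x⁻¹ * b⁻¹⁆ = ⁅b * v * b⁻¹, b * x⁻¹ * b⁻¹⁆ := by rw [← hab.eq, mul_inv_cancel_right]
          _ = _ := by simp [commutatorElement_def, mul_assoc]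
      rw [e, hfb.eq, mul_inv_cancel_right]
      have h2 := map_mul f ⟨x, hx⟩ ⟨x, hx⟩⁻¹
      rw [mul_inv_cancel, map_one] at h2
      exact h2.symm
    intro x hx
    obtain ⟨y, hy, rfl⟩ := hle hx
    exact commutatorElement_eq_one_iff_commute.mp (MonoidHom.mem_ker.mp hy)
  · have h1 := Coprime.commutator_sup_inf_centralizer (zpowers_le_normalizer hn) (h.coprime hE1)
      (Or.inl (Fpf.zpowers_solvable a))
    have hle : E1 ⊓ Subgroup.centralizer ((Subgroup.zpowers a : Subgroup Y) : Set Y) ≤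
        Subgroup.normalizer ((⁅E1, Subgroup.zpowers a⁆ : Subgroup Y) : Set Y) :=
      inf_le_left.trans (Subgroup.normalizer_commutator_ge_left E1 _)
    have h2 : x ∈ ((⁅E1, Subgroup.zpowers a⁆ ⊔ (E1 ⊓ Subgroup.centralizer
        ((Subgroup.zpowers a : Subgroup Y) : Set Y)) : Subgroup Y) : Set Y) := by rw [h1]; exact hx
    rw [Subgroup.coe_mul_of_right_le_normalizer_left _ _ hle] at h2
    obtain ⟨x0, hx0, c, ⟨hc, hca⟩, e⟩ := Set.mem_mul.mp h2
    refine ⟨x0, hx0, ?_⟩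
    rw [← e, inv_mul_cancel_left]
    exact (h.mem_ctr_iff_fixed (hE1 hc)).mpr (mem_centralizer_zpowers.mp hca).symm

/-- An element of `E` centralised by `v` modulo the centre is centralised up to a central factor. -/
theorem Moved.ker_split (h : Moved ρ a r E q) {v x : Y} (hva : Commute v a) (hx : x ∈ E)
    (hc : ⁅v, x⁆ ∈ ctr E) : ∃ x0 ∈ E, Commute v x0 ∧ x0⁻¹ * x ∈ ctr E := by
  obtain ⟨E1, hE1, hn, hmem, hcom, hsp⟩ := h.exists_centralized_part hva
  obtain ⟨x0, hx0, hd⟩ := hsp x ((hmem x).mpr ⟨hx, hc⟩)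
  exact ⟨x0, (Coprime.commutator_le_of_le_normalizer (zpowers_le_normalizer hn)).trans hE1 hx0,
    hcom x0 hx0, hd⟩

/-- An invariant subgroup covers `E` modulo the radical of a piece or lies in it. -/
theorem Exc.cover (he : Exc ρ a r E χ) (h : Moved ρ a r E q) {X : Subgroup Y} (hXE : X ≤ E)
    (hXa : ∀ x ∈ X, a * x * a⁻¹ ∈ X) (hX : ¬ X ≤ rad ρ E χ) {e : Y} (hee : e ∈ E) :
    ∃ s ∈ X, s⁻¹ * e ∈ rad ρ E χ := by
  obtain ⟨-, m, hm, hr, -⟩ := h.exc_data he
  obtain ⟨C⟩ := h.exists_coord he hr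
  have hp : (2 ^ m + 1).Prime := hr ▸ h.fpf.prime
  let U : AddSubgroup (Fl m) :=
    { carrier := {u | ∃ x ∈ X, C.φ x = u}
      add_mem' := fun {u v} ⟨x, hx, ex⟩ ⟨y, hy, ey⟩ =>
        ⟨x * y, mul_mem hx hy, by rw [C.add x (hXE hx) y (hXE hy), ex, ey]⟩
      zero_mem' := ⟨1, one_mem X, C.phi_one⟩
      neg_mem' := fun {u} hu => by rw [CharTwo.neg_eq]; exact hu }
  obtain ⟨x, hx, hxr⟩ := SetLike.not_le_iff_exists.mp hX
  have htop := C.eq_top_of_omega hp hm U (u := C.φ x) ⟨x, hx, rfl⟩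
    (fun e0 => hxr ((C.ker x (hXE hx)).mp e0))
    (fun v ⟨y, hy, ey⟩ => ⟨a * y * a⁻¹, hXa y hy, by rw [C.equiv y (hXE hy), ey]⟩)
  obtain ⟨s, hs, es⟩ : C.φ e ∈ U := htop ▸ AddSubgroup.mem_top _
  refine ⟨s, hs, (C.ker _ (mul_mem (inv_mem (hXE hs)) hee)).mp ?_⟩
  rw [C.add _ (inv_mem (hXE hs)) _ hee, C.phi_inv (hXE hs), es, CharTwo.add_self_eq_zero]

/-- An element commuting on the piece with all its translates lies in the radical. -/
theorem Exc.mem_rad_of_translates (he : Exc ρ a r E χ) (h : Moved ρ a r E 2) {x : Y} (hx : x ∈ E)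
    (hb : ∀ i : ℕ, bit χ ⁅x, a ^ i * x * (a ^ i)⁻¹⁆ = 0) : x ∈ rad ρ E χ := by
  have hne := he.piece_ne
  by_contra hxr
  let X : Subgroup Y :=
    Subgroup.closure (Set.range fun i : ℕ => a ^ i * x * (a ^ i)⁻¹)
  have hgen : ∀ i : ℕ, a ^ i * x * (a ^ i)⁻¹ ∈ X := fun i => Subgroup.subset_closure ⟨i, rfl⟩
  have hXE : X ≤ E := (Subgroup.closure_le _).mpr (by rintro _ ⟨i, rfl⟩; exact h.conj_a_mem i hx)
  have hXa : ∀ u ∈ X, a * u * a⁻¹ ∈ X := by
    intro u hu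
    induction hu using Subgroup.closure_induction with
    | mem u hu =>
      obtain ⟨i, rfl⟩ := hu
      have := hgen (i + 1)
      rwa [pow_succ', show a * a ^ i * x * (a * a ^ i)⁻¹ = a * (a ^ i * x * (a ^ i)⁻¹) * a⁻¹ by group]
        at this
    | one => rw [mul_one, mul_inv_cancel]; exact one_mem X
    | mul u v _ _ hu hv =>
      rw [show a * (u * v) * a⁻¹ = a * u * a⁻¹ * (a * v * a⁻¹) by group]
      exact mul_mem hu hv
    | inv u _ hu =>
      rw [show a * u⁻¹ * a⁻¹ = (a * u * a⁻¹)⁻¹ by group]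
      exact inv_mem hu
  have hX0 : ∀ u ∈ X, bit χ ⁅x, u⁆ = 0 := by
    intro u hu
    induction hu using Subgroup.closure_induction with
    | mem u hu =>
      obtain ⟨i, rfl⟩ := hu
      exact hb i
    | one => rw [commutatorElement_one_right]; exact Moved.bit_one (ρ := ρ) hne
    | mul u v hu' hv' hu hv => rw [h.bit_comm_right hne rfl hx (hXE hu') (hXE hv'), hu, hv, add_zero]
    | inv u hu' hu =>
      have := h.bit_comm_right hne rfl hx (hXE hu') (inv_mem (hXE hu'))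
      rw [mul_inv_cancel, commutatorElement_one_right, Moved.bit_one (ρ := ρ) hne, hu, zero_add] at this
      exact this.symm
  refine hxr ((h.mem_rad_iff_bit hne hx).mpr fun e hee => ?_)
  obtain ⟨s, hs, hsr⟩ := he.cover h hXE hXa (fun hle => hxr (hle (by simpa using hgen 0))) hee
  have h1 := h.bit_comm_right hne rfl hx (hXE hs) (rad_le hsr)
  rw [mul_inv_cancel_left, hX0 s hs, h.bit_comm_swap hx (rad_le hsr),
    (h.mem_rad_iff_bit hne (rad_le hsr)).mp hsr x hx, add_zero] at h1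
  exact h1

/-- The product of opposite translates of `x` commutes with `x`, and its square is a commutator. -/
theorem Moved.scaled (h : Moved ρ a r E q) {x : Y} (hx : x ∈ E) (j : ℕ) :
    ∃ y ∈ E, Commute y x ∧ y ^ 2 = ⁅x, a ^ (2 * j) * x * (a ^ (2 * j))⁻¹⁆ ∧
      ∀ v, Commute v a → Commute v x → Commute v y := by
  set s := a ^ j
  set u := s * x * s⁻¹ with hu
  set w := s⁻¹ * x * s with hw
  have huE : u ∈ E := h.conj_a_mem j hx
  have hwE : w ∈ E := (Subgroup.mem_normalizer_iff''.mp (Subgroup.pow_mem _ h.norm j) x).mp hx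
  have hfix : ∀ z ∈ ctr E, s⁻¹ * z * s = z ∧ s * z * s⁻¹ = z := fun z hz =>
    ⟨by rw [mul_assoc, ← ((show Commute a z from h.comm_ctr hz).pow_left j).eq, inv_mul_cancel_left],
      h.conj_pow_ctr j hz⟩
  refine ⟨u * w, mul_mem huE hwE, ?_, ?_, fun v hva hvx => ?_⟩
  · rw [← commutatorElement_eq_one_iff_commute, commutatorElement_mul_left_eq_conj_mul,
      (mem_ctr.mp (h.comm_mem_ctr hwE hx)).2 u huE, mul_inv_cancel_right]
    have e1 : ⁅w, x⁆ = ⁅x, u⁆ := by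
      have e : ⁅w, x⁆ = s⁻¹ * ⁅x, u⁆ * s := by
        simp only [hw, hu, commutatorElement_def]; group
      rw [e, (hfix _ (h.comm_mem_ctr hx huE)).1]
    rw [e1, ← comm_inv_swap u x, inv_mul_cancel]
  · have e1 : w ^ 2 = x ^ 2 := by
      have e : w ^ 2 = s⁻¹ * x ^ 2 * s := by simp only [hw, sq]; group
      rw [e, (hfix _ (h.sq_mem_ctr hx)).1]
    have e2 : u ^ 2 = x ^ 2 := by
      have e : u ^ 2 = s * x ^ 2 * s⁻¹ := by simp only [hu, sq]; group
      rw [e, (hfix _ (h.sq_mem_ctr hx)).2]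
    have hc := h.comm_mem_ctr hwE huE
    have e3 : (u * w) ^ 2 = u ^ 2 * w ^ 2 * ⁅w, u⁆ := by
      have e : (u * w) ^ 2 = u * ⁅w, u⁆ * u * w * w := by
        simp only [commutatorElement_def, sq]; group
      rw [e, (mem_ctr.mp hc).2 u huE, mul_assoc _ u u, mul_assoc _ (u * u) w, mul_assoc _ (u * u * w) w,
        mul_assoc (u * u) w w, ← (mem_ctr.mp hc).2 _ (mul_mem (mul_mem huE huE) (mul_mem hwE hwE)),
        sq, sq]
    rw [e3, e1, e2, h.ctr_sq (h.sq_mem_ctr hx), one_mul]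
    have e4 : ⁅w, u⁆ = s⁻¹ * ⁅x, a ^ (2 * j) * x * (a ^ (2 * j))⁻¹⁆ * s := by
      rw [two_mul, pow_add]
      simp only [hw, hu, commutatorElement_def, s]; group
    rw [e4, (hfix _ (h.comm_mem_ctr hx (h.conj_a_mem _ hx))).1]
  · have hvs : Commute v s := hva.pow_right j
    exact ((hvs.mul_right hvx).mul_right hvs.inv_right).mul_right
      ((hvs.inv_right.mul_right hvx).mul_right hvs)

/-- A property of the translates by even powers holds for all translates. -/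
theorem exists_pow_two_mul (har : a ^ r = 1) (hodd : Odd r) (i : ℕ) : ∃ j : ℕ, a ^ i = a ^ (2 * j) := by
  obtain ⟨t, rfl⟩ := hodd
  exact ⟨i * (t + 1), by rw [show 2 * (i * (t + 1)) = i + i * (2 * t + 1) by ring, pow_add,
    mul_comm i, pow_mul, har, one_pow, mul_one]⟩

section Ctx

variable [Nontrivial W] [CharP K p]

/-- A central element fixing a non-zero vector is trivial. -/
theorem Ctx.eq_one_of_fix (h : Ctx ρ a r p G) {z : Y} (hz : z ∈ Zc G) {w : W} (hw : w ≠ 0)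
    (hzw : ρ z w = w) : z = 1 := by
  obtain ⟨c, hc⟩ := h.center_scalar hz
  have h1 : c = 1 := smul_left_injective K hw (by
    show c • w = (1 : K) • w
    rw [← hc w, hzw, one_smul])
  exact h.faith z (Zc_le hz) (LinearMap.ext fun v => by rw [hc v, h1, one_smul, Module.End.one_apply])

theorem Ctx.eq_one_of_bit (h : Ctx ρ a r p G) (he : Exc ρ a r E χ) {z : Y} (hz : z ∈ ctr E)
    (hzZ : z ∈ Zc G) (hb : bit χ z = 0) : z = 1 := by
  obtain ⟨w, hw, hw0⟩ := Submodule.exists_mem_ne_zero_of_ne_bot he.piece_ne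
  refine h.eq_one_of_fix hzZ hw0 ?_
  rw [mem_piece.mp hw ⟨z, hz⟩, (bit_eq_zero_iff hz).mp hb, one_smul]

/-- If the commutators of `x` with its translates are central and `x` is in one radical, `x` is
central in `E`. -/
theorem Ctx.mem_ctr_of_translates (h : Ctx ρ a r p G) (hm : Moved ρ a r E 2) (he : Exc ρ a r E χ)
    {x : Y} (hx : x ∈ E) (hxr : x ∈ rad ρ E χ)
    (hc : ∀ i : ℕ, ⁅x, a ^ i * x * (a ^ i)⁻¹⁆ ∈ Zc G) : x ∈ ctr E := by
  have h1 : ∀ i : ℕ, ⁅x, a ^ i * x * (a ^ i)⁻¹⁆ = 1 := fun i =>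
    h.eq_one_of_bit he (hm.comm_mem_ctr hx (hm.conj_a_mem i hx)) (hc i)
      ((hm.mem_rad_iff_bit he.piece_ne hx).mp hxr _ (hm.conj_a_mem i hx))
  exact hm.mem_ctr_of_pieces hx fun ψ hψ => hψ.mem_rad_of_translates hm hx fun i => by
    rw [h1 i]; exact Moved.bit_one (ρ := ρ) hψ.piece_ne

end Ctx

end Cfsg.Agent.Lib.ShultFlavell
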