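import Cfsg.Agent.Lib.ShultFlavell.Moved
import Cfsg.Agent.Lib.Coprime.CommGen.Theorem

/-!
The eigenspaces of the centre of `E = [E, a]`: on each of them on which `E` acts non-trivially, `E`
acts as an extraspecial group of degree `r - 1` and `a` lies in the span of `E`.
-/

set_option autoImplicit false
set_option linter.style.haveILetI false
set_option linter.unusedSectionVars false

namespace Cfsg.Agent.Lib.ShultFlavell

open Module (End)
open scoped commutatorElement
open Cfsg.Agent.GenA.ShultGross (scalarSub)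
open Cfsg.Agent.GenA.ShultGross.Two (eigs mem_eigs eq_one_of_joint)

variable {K : Type*} [Field K] {W : Type*} [AddCommGroup W] [Module K W]
variable {Y : Type*} [Group Y]

/-- The eigenspace of the centre of `E`. -/
def piece (ρ : Y →* End K W) (E : Subgroup Y) (χ : ctr E → K) : Submodule K W :=
  eigs (fun z : ctr E => ρ (z : Y)) χ

variable {ρ : Y →* End K W} {E : Subgroup Y} {χ : ctr E → K}

theorem mem_piece {w : W} : w ∈ piece ρ E χ ↔ ∀ z : ctr E, ρ (z : Y) w = χ z • w := mem_eigs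

/-- An element moving the centre compatibly with `χ` preserves the piece. -/
theorem piece_invariant {g : Y}
    (hg : ∀ z : ctr E, ∃ z' : ctr E, (z : Y) * g = g * z' ∧ χ z' = χ z) :
    ∀ w ∈ piece ρ E χ, ρ g w ∈ piece ρ E χ := by
  intro w hw
  rw [mem_piece]
  intro z
  obtain ⟨z', hz, hχ⟩ := hg z
  rw [← Module.End.mul_apply, ← map_mul, hz, map_mul, Module.End.mul_apply, mem_piece.mp hw z', map_smul,
    hχ]

theorem piece_invariant_of_comm {g : Y} (hg : ∀ z : ctr E, (z : Y) * g = g * z) :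
    ∀ w ∈ piece ρ E χ, ρ g w ∈ piece ρ E χ :=
  piece_invariant fun z => ⟨z, hg z, rfl⟩

theorem piece_mem_E {g : Y} (hg : g ∈ E) : ∀ w ∈ piece ρ E χ, ρ g w ∈ piece ρ E χ :=
  piece_invariant_of_comm fun z => ((mem_ctr.mp z.2).2 g hg).symm

/-- The elements of `E` whose images on the piece are central. -/
def rad (ρ : Y →* End K W) (E : Subgroup Y) (χ : ctr E → K) : Subgroup Y where
  carrier := {x | x ∈ E ∧ ∀ y ∈ E, ∀ w ∈ piece ρ E χ, ρ x (ρ y w) = ρ y (ρ x w)}
  one_mem' := ⟨one_mem E, fun y _ w _ => by simp⟩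
  mul_mem' := by
    rintro x y ⟨hx, hx'⟩ ⟨hy, hy'⟩
    refine ⟨mul_mem hx hy, fun z hz w hw => ?_⟩
    rw [map_mul, Module.End.mul_apply, Module.End.mul_apply, hy' z hz w hw,
      hx' z hz _ (piece_mem_E hy w hw)]
  inv_mem' := by
    rintro x ⟨hx, hx'⟩
    refine ⟨inv_mem hx, fun z hz w hw => ?_⟩
    have h1 := hx' z hz (ρ x⁻¹ w) (piece_mem_E (inv_mem hx) w hw)
    have h2 : ∀ v, ρ x⁻¹ (ρ x v) = v := fun v => by
      rw [← Module.End.mul_apply, ← map_mul, inv_mul_cancel, map_one, Module.End.one_apply]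
    have h3 : ∀ v, ρ x (ρ x⁻¹ v) = v := fun v => by
      rw [← Module.End.mul_apply, ← map_mul, mul_inv_cancel, map_one, Module.End.one_apply]
    rw [h3] at h1
    rw [← h1, h2]

theorem mem_rad {x : Y} :
    x ∈ rad ρ E χ ↔ x ∈ E ∧ ∀ y ∈ E, ∀ w ∈ piece ρ E χ, ρ x (ρ y w) = ρ y (ρ x w) := Iff.rfl

theorem rad_le : rad ρ E χ ≤ E := fun _ hx => hx.1

theorem ctr_le_rad : ctr E ≤ rad ρ E χ := fun x hx => ⟨hx.1, fun y hy w _ => by
  rw [← Module.End.mul_apply, ← map_mul, ← (mem_ctr.mp hx).2 y hy, map_mul, Module.End.mul_apply]⟩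

variable {a : Y} {r q : ℕ} [IsAlgClosed K] [FiniteDimensional K W] [Finite Y]

theorem Moved.piece_a (h : Moved ρ a r E q) : ∀ w ∈ piece ρ E χ, ρ a w ∈ piece ρ E χ :=
  piece_invariant_of_comm fun z => (h.comm_ctr z.2).symm

theorem Moved.le_normalizer_rad_a (h : Moved ρ a r E q) :
    a ∈ Subgroup.normalizer (rad ρ E χ : Set Y) := by
  have hn := Subgroup.mem_normalizer_iff.mp h.norm
  have hn' := Subgroup.mem_normalizer_iff''.mp h.norm
  have ha : ∀ v, ρ a (ρ a⁻¹ v) = v := fun v => by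
    rw [← Module.End.mul_apply, ← map_mul, mul_inv_cancel, map_one, Module.End.one_apply]
  have hai : ∀ w ∈ piece ρ E χ, ρ a⁻¹ w ∈ piece ρ E χ := piece_invariant_of_comm fun z =>
    ((Commute.inv_left (show Commute a (z : Y) from h.comm_ctr z.2)).eq).symm
  rw [Subgroup.mem_normalizer_iff]
  intro x
  constructor
  · rintro ⟨hx, hx'⟩
    refine ⟨(hn x).mp hx, fun y hy w hw => ?_⟩
    have h1 := congrArg (ρ a) (hx' (a⁻¹ * y * a) ((hn' y).mp hy) (ρ a⁻¹ w) (hai w hw))
    simpa only [map_mul, Module.End.mul_apply, ha] using h1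
  · rintro ⟨hx, hx'⟩
    refine ⟨(hn x).mpr hx, fun y hy w hw => ?_⟩
    have h1 := hx' (a * y * a⁻¹) ((hn y).mp hy) (ρ a w) (h.piece_a w hw)
    have ha' : ∀ v, ρ a⁻¹ (ρ a v) = v := fun v => by
      rw [← Module.End.mul_apply, ← map_mul, inv_mul_cancel, map_one, Module.End.one_apply]
    have h2 := congrArg (ρ a⁻¹) h1
    simpa only [map_mul, Module.End.mul_apply, ha'] using h2

theorem Moved.le_normalizer_rad (h : Moved ρ a r E q) : E ≤ Subgroup.normalizer (rad ρ E χ : Set Y) :=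
  Coprime.CommGen.le_normalizer_of_commutator_le rad_le (h.commutator_le_ctr.trans ctr_le_rad)

/-- The conclusions on a piece where `E` acts non-trivially. -/
structure Exc (ρ : Y →* End K W) (a : Y) (r : ℕ) (E : Subgroup Y) (χ : ctr E → K) : Prop where
  degree : ∃ d : ℕ, d * d = (rad ρ E χ).relIndex E ∧ d + 1 = r
  ne : rad ρ E χ ≠ E
  span : ∀ Z : End K W, (∀ w ∈ piece ρ E χ, Z w ∈ piece ρ E χ) →
    (∀ e ∈ E, ∀ w ∈ piece ρ E χ, Z (ρ e w) = ρ e (Z w)) →
    ∀ w ∈ piece ρ E χ, Z (ρ a w) = ρ a (Z w)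
  scalar : ∀ x ∈ rad ρ E χ, ∃ z : ctr E, ∀ w ∈ piece ρ E χ, ρ x w = χ z • w
  fixed : ∀ k : ℕ, ¬ r ∣ k → ∀ x ∈ E, x⁻¹ * (a ^ k * x * (a ^ k)⁻¹) ∈ rad ρ E χ → x ∈ rad ρ E χ
  eigen : ∀ U : Submodule K W, U ≤ piece ρ E χ → U ≠ ⊥ → (∀ e ∈ E, ∀ w ∈ U, ρ e w ∈ U) →
    ∀ c : K, c ^ r = 1 → c ≠ 1 → ∃ w ∈ U, w ≠ 0 ∧ ρ a w = c • w

/-- The dichotomy on a piece. -/
theorem Moved.piece_cases (h : Moved ρ a r E q) (χ : ctr E → K) :
    (∀ e ∈ E, ∀ w ∈ piece ρ E χ, ρ e w = w) ∨ Exc ρ a r E χ := by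
  classical
  refine or_iff_not_imp_left.mpr fun hnt => ?_
  set P := piece ρ E χ with hP
  set S := rad ρ E χ with hS
  haveI : Nontrivial P := by
    rw [Submodule.nontrivial_iff_ne_bot]
    exact fun e0 => hnt fun e _ w hw => by
      rw [hP] at e0
      rw [hP, e0, Submodule.mem_bot] at hw
      rw [hw, map_zero]
  have hPE : ∀ g ∈ E, ∀ w ∈ P, ρ g w ∈ P := fun g hg => piece_mem_E hg
  have hPa : ∀ w ∈ P, ρ a w ∈ P := h.piece_a
  -- the representation of `E⟨a⟩` on the piece
  set L := E ⊔ Subgroup.zpowers a with hL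
  have hPL : ∀ g ∈ L, ∀ w ∈ P, ρ g w ∈ P := by
    intro g hg
    refine piece_invariant_of_comm (fun z => ?_)
    have : L ≤ Subgroup.centralizer ({(z : Y)} : Set Y) :=
      sup_le (fun y hy => Subgroup.mem_centralizer_singleton_iff.mpr ((mem_ctr.mp z.2).2 y hy))
        (Subgroup.zpowers_le.mpr (Subgroup.mem_centralizer_singleton_iff.mpr (h.comm_ctr z.2)))
    exact (Subgroup.mem_centralizer_singleton_iff.mp (this hg)).symm
  let σ : L →* End K P :=
    { toFun := fun g => (ρ (g : Y)).restrict (hPL g g.2)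
      map_one' := by ext w; simp [LinearMap.restrict_apply]
      map_mul' := fun x y => by ext w; simp [LinearMap.restrict_apply] }
  let aL : L := ⟨a, Subgroup.mem_sup_right (Subgroup.mem_zpowers a)⟩
  have hfpf : Fpf σ aL r := ⟨h.fpf.prime, Subtype.ext h.fpf.pow,
    fun w hw => Subtype.ext (h.fpf.fix w (congrArg Subtype.val hw))⟩
  have hSE : S ≤ E := rad_le
  have hSn : a ∈ Subgroup.normalizer (S : Set Y) := h.le_normalizer_rad_a
  -- the image of `S` on the piece commutes with `a`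
  have hSfix : ∀ x ∈ S, ∀ w ∈ P, ρ (a * x * a⁻¹) w = ρ x w := by
    intro x hx w hw
    have hSL : S ≤ L := hSE.trans le_sup_left
    haveI : Finite L := inferInstance
    have h1 := hfpf.centralized (S.subgroupOf L)
      (by rw [Nat.card_congr (Subgroup.subgroupOfEquivOfLe hSL).toEquiv]; exact h.card_ne_zero hSE)
      (by
        rw [Subgroup.mem_normalizer_iff]
        intro y
        simp only [Subgroup.mem_subgroupOf]
        exact Subgroup.mem_normalizer_iff.mp hSn y)
      (fun y hy z hz => LinearMap.ext fun v => Subtype.ext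
        ((Subgroup.mem_subgroupOf.mp hy).2 z (hSE (Subgroup.mem_subgroupOf.mp hz)) v v.2))
      (x := ⟨x, hSL hx⟩) hx
    exact congrArg Subtype.val (LinearMap.congr_fun h1 ⟨w, hw⟩)
  -- the kernel on the piece
  let N : Subgroup Y :=
    { carrier := {x | x ∈ E ∧ ∀ w ∈ P, ρ x w = w}
      one_mem' := ⟨one_mem E, fun w _ => by simp⟩
      mul_mem' := fun {x y} hx hy => ⟨mul_mem hx.1 hy.1, fun w hw => by
        rw [map_mul, Module.End.mul_apply, hy.2 w hw, hx.2 w hw]⟩
      inv_mem' := fun {x} hx => ⟨inv_mem hx.1, fun w hw => by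
        conv_lhs => rw [← hx.2 w hw]
        rw [← Module.End.mul_apply, ← map_mul, inv_mul_cancel, map_one, Module.End.one_apply]⟩ }
  have hNa : Subgroup.zpowers a ≤ Subgroup.normalizer (N : Set Y) := by
    refine Subgroup.zpowers_le.mpr ?_
    rw [Subgroup.mem_normalizer_iff]
    intro x
    have hai : ∀ w ∈ P, ρ a⁻¹ w ∈ P := fun w hw => hPL a⁻¹ (inv_mem aL.2) w hw
    constructor
    · rintro ⟨hx, hx'⟩
      refine ⟨(Subgroup.mem_normalizer_iff.mp h.norm x).mp hx, fun w hw => ?_⟩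
      rw [map_mul, Module.End.mul_apply, map_mul, Module.End.mul_apply, hx' _ (hai w hw),
        ← Module.End.mul_apply, ← map_mul, mul_inv_cancel, map_one, Module.End.one_apply]
    · rintro ⟨hx, hx'⟩
      refine ⟨(Subgroup.mem_normalizer_iff.mp h.norm x).mpr hx, fun w hw => ?_⟩
      have h2 := hx' (ρ a w) (hPa w hw)
      rw [map_mul, Module.End.mul_apply, map_mul, Module.End.mul_apply, ← Module.End.mul_apply (ρ a⁻¹),
        ← map_mul, inv_mul_cancel, map_one, Module.End.one_apply] at h2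
      have := congrArg (ρ a⁻¹) h2
      rwa [← Module.End.mul_apply, ← map_mul, inv_mul_cancel, map_one, Module.End.one_apply,
        ← Module.End.mul_apply, ← map_mul, inv_mul_cancel, map_one, Module.End.one_apply] at this
  have hfixZ : ∀ x ∈ E, x ∈ Subgroup.centralizer (Subgroup.zpowers a : Set Y) → x ∈ ctr E :=
    fun x hx hc => (h.mem_ctr_iff_fixed hx).mpr
      (Subgroup.mem_centralizer_iff.mp hc a (Subgroup.mem_zpowers a))
  -- elements of `S` act as scalars
  have hscal : ∀ x ∈ S, ∃ z : ctr E, ∀ w ∈ P, ρ x w = χ z • w := by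
    intro x hx
    have hfix : ∀ b ∈ Subgroup.zpowers a, x⁻¹ * (b * x * b⁻¹) ∈ N := by
      intro b hb
      obtain ⟨i, -, rfl⟩ := Finset.mem_image.mp ((mem_zpowers_iff_mem_range_orderOf).mp hb)
      induction i with
      | zero => simpa only [pow_zero, one_mul, inv_one, mul_one, inv_mul_cancel] using N.one_mem
      | succ i ih =>
        have ihm := ih (Subgroup.pow_mem _ (Subgroup.mem_zpowers a) i)
        have hy : a ^ i * x * (a ^ i)⁻¹ ∈ S :=
          (Subgroup.mem_normalizer_iff.mp (Subgroup.pow_mem _ hSn i) x).mp hx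
        refine ⟨mul_mem (inv_mem hx.1)
          ((Subgroup.mem_normalizer_iff.mp (Subgroup.pow_mem _ h.norm (i + 1)) x).mp hx.1), fun w hw => ?_⟩
        rw [map_mul, Module.End.mul_apply,
          show a ^ (i + 1) * x * (a ^ (i + 1))⁻¹ = a * (a ^ i * x * (a ^ i)⁻¹) * a⁻¹ by
            rw [pow_succ']; group, hSfix _ hy w hw, ← Module.End.mul_apply, ← map_mul]
        exact ihm.2 w hw
    obtain ⟨n, hn, hxn⟩ := Coprime.exists_fixed_in_coset (k := x) hNa (h.coprime fun y hy => hy.1)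
      (Or.inr (h.solvable fun y hy => hy.1)) hfix
    refine ⟨⟨x * n, hfixZ _ (mul_mem hx.1 hn.1) hxn⟩, fun w hw => ?_⟩
    rw [← mem_piece.mp hw ⟨x * n, _⟩]
    show ρ x w = ρ (x * n) w
    rw [map_mul, Module.End.mul_apply, hn.2 w hw]
  have hfix : ∀ k : ℕ, ¬ r ∣ k → ∀ x ∈ E, x⁻¹ * (a ^ k * x * (a ^ k)⁻¹) ∈ S → x ∈ S := by
    intro k hk x hx hxk
    have hgen : a ∈ Subgroup.zpowers (a ^ k) :=
      mem_zpowers_pow_iff.mpr (by
        refine ((Nat.Coprime.coprime_dvd_right (orderOf_dvd_of_pow_eq_one h.fpf.pow) ?_).gcd_eq_one)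
        exact ((h.fpf.prime.coprime_iff_not_dvd).mpr hk).symm)
    have hle : Subgroup.zpowers a = Subgroup.zpowers (a ^ k) :=
      le_antisymm (Subgroup.zpowers_le.mpr hgen) (Subgroup.zpowers_le.mpr (Subgroup.pow_mem _ (Subgroup.mem_zpowers a) k))
    obtain ⟨n, hn, hxn⟩ := Coprime.exists_fixed_in_coset (A := Subgroup.zpowers a) (k := x)
      (Subgroup.zpowers_le.mpr hSn) (h.coprime hSE) (Or.inr (h.solvable hSE)) (by
        intro b hb
        rw [hle] at hb
        obtain ⟨i, -, rfl⟩ := Finset.mem_image.mp ((mem_zpowers_iff_mem_range_orderOf).mp hb)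
        induction i with
        | zero => simpa only [pow_zero, one_mul, inv_one, mul_one, inv_mul_cancel] using S.one_mem
        | succ i ih =>
          have ihm := ih (Subgroup.pow_mem _ (Subgroup.mem_zpowers _) i)
          have h2 := (Subgroup.mem_normalizer_iff.mp (Subgroup.pow_mem _ (Subgroup.pow_mem _ hSn k) i) _).mp hxk
          have h3 := mul_mem ihm h2
          convert h3 using 1
          rw [pow_succ]
          group)
    have := mul_mem (ctr_le_rad (ρ := ρ) (χ := χ) (hfixZ _ (mul_mem hx (hSE hn)) hxn)) (inv_mem hn)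
    simpa using this
  -- the general lemma
  let τ : E →* End K P := σ.comp (Subgroup.inclusion le_sup_left)
  have hτ : ∀ (x : E) (w : P), ((τ x w : P) : W) = ρ (x : Y) w := fun x w => rfl
  have hscalS : ∀ x : E, x ∈ scalarSub τ ↔ (x : Y) ∈ S := by
    intro x
    constructor
    · rintro ⟨c, hc⟩
      refine ⟨x.2, fun y hy w hw => ?_⟩
      have e1 : ∀ v ∈ P, ρ (x : Y) v = c • v := fun v hv =>
        congrArg Subtype.val (LinearMap.congr_fun hc ⟨v, hv⟩)
      rw [e1 _ (hPE y hy w hw), e1 w hw, map_smul]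
    · intro hx
      obtain ⟨c, hc⟩ := hscal _ hx
      exact ⟨χ c, LinearMap.ext fun w => Subtype.ext (hc w w.2)⟩
  have hβmem : ∀ x : E, a * (x : Y) * a⁻¹ ∈ E := fun x => (Subgroup.mem_normalizer_iff.mp h.norm x).mp x.2
  let β : MulAut E := MulEquiv.ofBijective
    ({ toFun := fun x => ⟨a * x * a⁻¹, hβmem x⟩
       map_one' := Subtype.ext (by simp)
       map_mul' := fun x y => Subtype.ext (by simp [mul_assoc]) } : E →* E)
    (Finite.injective_iff_bijective.mp fun x y e => Subtype.ext (by simpa using congrArg Subtype.val e))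
  have hβk : ∀ (k : ℕ) (x : E), (((β ^ k) x : E) : Y) = a ^ k * x * (a ^ k)⁻¹ := by
    intro k
    induction k with
    | zero => intro x; simp
    | succ k ih =>
      intro x
      rw [pow_succ', MulAut.mul_apply, pow_succ']
      show a * _ * a⁻¹ = _
      rw [ih]; group
  haveI : Nontrivial P := inferInstance
  have hcardE : (Nat.card E : K) ≠ 0 := h.card_ne_zero le_rfl
  have hrK : (r : K) ≠ 0 := by
    have : Nontrivial W := by
      obtain ⟨w, hw⟩ := exists_ne (0 : P)
      exact ⟨(w : W), 0, fun e => hw (Subtype.ext e)⟩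
    exact h.fpf.cast_ne_zero
  have htop : scalarSub τ ≠ ⊤ := by
    intro e
    apply hnt
    -- all of `E` is scalar, so its commutators with `a` are trivial
    have hall : ∀ x ∈ E, x ∈ S := fun x hx => (hscalS ⟨x, hx⟩).mp (e ▸ Subgroup.mem_top _)
    intro g hg
    have hle : E ≤ N := by
      conv_lhs => rw [← h.gen]
      rw [Subgroup.commutator_le]
      intro y hy b hb
      obtain ⟨i, -, rfl⟩ := Finset.mem_image.mp ((mem_zpowers_iff_mem_range_orderOf).mp hb)
      have hz : a ^ i * y⁻¹ * (a ^ i)⁻¹ ∈ E :=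
        (Subgroup.mem_normalizer_iff.mp (Subgroup.pow_mem _ h.norm i) _).mp (inv_mem hy)
      have hiter : ∀ (j : ℕ) (z : Y), z ∈ E → ∀ w ∈ P, ρ (a ^ j * z * (a ^ j)⁻¹) w = ρ z w := by
        intro j z hz w hw
        induction j with
        | zero => simp
        | succ j ih =>
          rw [show a ^ (j + 1) * z * (a ^ (j + 1))⁻¹ = a * (a ^ j * z * (a ^ j)⁻¹) * a⁻¹ by rw [pow_succ']; group,
            hSfix _ (hall _ ((Subgroup.mem_normalizer_iff.mp (Subgroup.pow_mem _ h.norm j) z).mp hz)) w hw, ih]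
      refine ⟨by rw [commutatorElement_def]; simpa [mul_assoc] using mul_mem hy hz, fun w hw => ?_⟩
      rw [commutatorElement_def, show y * a ^ i * y⁻¹ * (a ^ i)⁻¹ = y * (a ^ i * y⁻¹ * (a ^ i)⁻¹) by group,
        map_mul, Module.End.mul_apply, hiter i _ (inv_mem hy) w hw, ← Module.End.mul_apply, ← map_mul,
        mul_inv_cancel, map_one, Module.End.one_apply]
    exact (hle hg).2
  rcases fixed_or_span (P := r) τ hcardE β (σ aL) (fun x => LinearMap.ext fun w => Subtype.ext (by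
      show ρ a (ρ (x : Y) w) = ρ (a * (x : Y) * a⁻¹) (ρ a w)
      rw [← Module.End.mul_apply, ← Module.End.mul_apply, ← map_mul, ← map_mul, inv_mul_cancel_right]))
      h.fpf.prime.two_le hrK (by rw [← map_pow, show aL ^ r = 1 from Subtype.ext h.fpf.pow, map_one])
      (fun g g' => by
        have hm : ((⁅g, g'⁆ : E) : Y) ∈ ctr E := h.commutator_le_ctr
          (by simpa [commutatorElement_def] using Subgroup.commutator_mem_commutator g.2 g'.2)
        exact ⟨χ ⟨_, hm⟩, LinearMap.ext fun w => Subtype.ext (mem_piece.mp w.2 ⟨_, hm⟩)⟩)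
      (fun x hx => (hscalS x).mpr ⟨x.2, fun y hy w hw =>
        congrArg Subtype.val (LinearMap.congr_fun (hx ⟨y, hy⟩).eq ⟨w, hw⟩)⟩)
      htop
      (fun k x hx => or_iff_not_imp_left.mpr fun hk => (hscalS x).mpr (hfix k hk _ x.2 (by
        have := (hscalS _).mp hx
        rwa [Subgroup.coe_mul, Subgroup.coe_inv, hβk] at this))) with ⟨w, hw0, hw⟩ | ⟨⟨d, hd, hdr⟩, hspan, heig⟩
  · exact absurd (hfpf.fix w hw) hw0
  have hidx : scalarSub τ = S.subgroupOf E := by
    ext x; rw [hscalS, Subgroup.mem_subgroupOf]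
  refine ⟨⟨d, by rw [hd, hidx, Subgroup.relIndex], hdr⟩, ?_, fun Z hZP hZ w hw => ?_, hscal, hfix,
    fun U hUP hU0 hUE c hcr hc1 => ?_⟩
  · intro e
    exact htop (eq_top_iff.mpr fun x _ => (hscalS x).mpr (by rw [hS, e]; exact x.2))
  · have := hspan (Z.restrict hZP) (fun x => LinearMap.ext fun v => Subtype.ext (hZ _ x.2 v v.2))
    exact congrArg Subtype.val (LinearMap.congr_fun this.eq ⟨w, hw⟩)
  · obtain ⟨w, hw, hw0, hwc⟩ := heig (U.comap P.subtype)
      (fun e => hU0 (by
        rw [← Submodule.map_comap_eq_of_le (f := P.subtype) (p := U) (by rwa [Submodule.range_subtype]), e,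
          Submodule.map_bot]))
      (fun x v hv => hUE _ x.2 _ hv) c hcr hc1
    exact ⟨(w : W), hw, fun e => hw0 (Subtype.ext e), congrArg Subtype.val hwc⟩

/-- An element acting trivially on every piece is trivial. -/
theorem Moved.eq_one_of_pieces (h : Moved ρ a r E q) {x : Y} (hx : x ∈ E)
    (hp : ∀ χ : ctr E → K, ∀ w ∈ piece ρ E χ, ρ x w = w) : x = 1 := by
  refine h.faith x hx (eq_one_of_joint (fun z : ctr E => ρ (z : Y)) (fun z z' => ?_) _ (fun z => ?_)
    (h.card_ne_zero le_rfl) ?_ hp)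
  · rw [Commute, SemiconjBy, ← map_mul, ← map_mul, (mem_ctr.mp z'.2).2 _ (mem_ctr.mp z.2).1]
  · rw [Commute, SemiconjBy, ← map_mul, ← map_mul, (mem_ctr.mp z.2).2 x hx]
  · have hp1 : x ^ Nat.card E = 1 := by
      rw [← SubmonoidClass.coe_pow (⟨x, hx⟩ : E), pow_card_eq_one', OneMemClass.coe_one]
    rw [← map_pow, hp1, map_one]

end Cfsg.Agent.Lib.ShultFlavell
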