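import Cfsg.Agent.Lib.ShultFlavell.Base
import Cfsg.Agent.Lib.ShultFlavell.Conj
import Cfsg.Agent.Lib.ShultFlavell.Frob
import Cfsg.Agent.Solvable.Basics
import Cfsg.Agent.Lib.Coprime.OmegaDetect

/-!
A moved `p`-subgroup centralises every `2`-subgroup it normalises.
-/

set_option autoImplicit false
set_option linter.style.haveILetI false
set_option linter.unusedSectionVars false

namespace Cfsg.Agent.Lib.ShultFlavell

open Module (End finrank)
open scoped commutatorElement

variable {K : Type*} [Field K] {W : Type*} [AddCommGroup W] [Module K W]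
variable {Y : Type*} [Group Y] [Finite Y]
variable {ρ : Y →* End K W} {a : Y} {r p : ℕ} {G : Subgroup Y}
variable [IsAlgClosed K] [FiniteDimensional K W] [Nontrivial W] [CharP K p]

theorem mem_normalizer_sup {g : Y} {A B : Subgroup Y} (hA : g ∈ Subgroup.normalizer (A : Set Y))
    (hB : g ∈ Subgroup.normalizer (B : Set Y)) : g ∈ Subgroup.normalizer ((A ⊔ B : Subgroup Y) : Set Y) := by
  rw [Subgroup.mem_normalizer_iff_map_conj_eq] at hA hB ⊢
  rw [Subgroup.map_sup, hA, hB]

theorem mem_normalizer_inf {g : Y} {A B : Subgroup Y} (hA : g ∈ Subgroup.normalizer (A : Set Y))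
    (hB : g ∈ Subgroup.normalizer (B : Set Y)) : g ∈ Subgroup.normalizer ((A ⊓ B : Subgroup Y) : Set Y) := by
  rw [Subgroup.mem_normalizer_iff_map_conj_eq] at hA hB ⊢
  rw [Subgroup.map_inf_eq A B _ (MulEquiv.injective _), hA, hB]

/-- The case of a proper product. -/
theorem Ctx.centralizes_of_lt (h : Ctx ρ a r p G) {D P : Subgroup Y} (hD : IsPGroup 2 D)
    (hP : IsPGroup p P) (hPa : a ∈ Subgroup.normalizer (P : Set Y))
    (hgen : ⁅P, Subgroup.zpowers a⁆ = P) (hDa : a ∈ Subgroup.normalizer (D : Set Y))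
    (hPD : P ≤ Subgroup.normalizer (D : Set Y)) (hlt : D ⊔ P < G) :
    P ≤ Subgroup.centralizer (D : Set Y) := by
  haveI := Fact.mk h.pprime
  haveI : Fact (Nat.Prime 2) := ⟨Nat.prime_two⟩
  have hp2 : p ≠ 2 := h.fermat.1
  have haX : a ∈ Subgroup.normalizer ((D ⊔ P : Subgroup Y) : Set Y) := mem_normalizer_sup hDa hPa
  obtain ⟨N, hNT, hTN, hNp, hq⟩ := h.ih (D ⊔ P) hlt haX
  set X := D ⊔ P
  set T := ⁅X, Subgroup.zpowers a⁆ with hT
  have hXT : X ≤ Subgroup.normalizer (T : Set Y) := Subgroup.normalizer_commutator_ge_left X _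
  have hTX : T ≤ X := Coprime.commutator_le_of_le_normalizer (zpowers_le_normalizer haX)
  have hPT : P ≤ T := hgen.symm.le.trans (Subgroup.commutator_mono le_sup_right le_rfl)
  have hPN : P ≤ N := by
    intro x hx
    obtain ⟨k, hk⟩ := hq x (hPT hx)
    obtain ⟨n, hn⟩ := hP ⟨x, hx⟩
    have hn' : x ^ p ^ n = 1 := by simpa using congrArg Subtype.val hn
    have hcop : Nat.Coprime (2 ^ k) (orderOf x) :=
      ((Nat.coprime_primes Nat.prime_two h.pprime).mpr hp2.symm).pow k n |>.coprime_dvd_right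
        (orderOf_dvd_of_pow_eq_one hn')
    obtain ⟨j, hj⟩ := exists_pow_eq_self_of_coprime hcop
    rw [← hj]
    exact pow_mem hk j
  set O := (Cfsg.pCore p T).map T.subtype with hO
  haveI := PLocal.Cores.pCore_characteristic (G := T) (p := p)
  have hXO : X ≤ Subgroup.normalizer (O : Set Y) :=
    hXT.trans (Coprime.OmegaDetect.normalizer_le_normalizer_char T _)
  have hNO : N ≤ O := PLocal.Cores.le_map_pCore_of_le_normalizer hNp hNT hTN
  have hOX : O ≤ Subgroup.normalizer (D : Set Y) :=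
    ((Subgroup.map_subtype_le _).trans hTX).trans (sup_le Subgroup.le_normalizer hPD)
  have hDO : D ≤ Subgroup.normalizer (O : Set Y) := le_sup_left.trans hXO
  have hdis : D ⊓ O = ⊥ := disjoint_iff.mp
    (IsPGroup.disjoint_of_ne 2 p hp2.symm D O hD (PLocal.Cores.isPGroup_pCore.map _))
  have hc : ⁅O, D⁆ = ⊥ := le_bot_iff.mp (hdis ▸ le_inf
    (Subgroup.le_normalizer_iff_commutator_le_right.mp hOX)
    (Subgroup.le_normalizer_iff_commutator_le_left.mp hDO))
  exact (hPN.trans hNO).trans ((Subgroup.commutator_eq_bot_iff_le_centralizer).mp hc)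

/-- The remaining case: `G = D ⋊ P` is impossible. -/
theorem Ctx.not_semidirect (h : Ctx ρ a r p G) {D P : Subgroup Y} [hDn : D.Normal] (hDG : D ≤ G)
    (hD : IsPGroup 2 D) (hPG : P ≤ G) (hP : IsPGroup p P) (hPa : a ∈ Subgroup.normalizer (P : Set Y))
    (hgen : ⁅P, Subgroup.zpowers a⁆ = P) (hsup : D ⊔ P = G)
    (hsub : ∀ D₀ : Subgroup Y, D₀ < D → a ∈ Subgroup.normalizer (D₀ : Set Y) →
      P ≤ Subgroup.normalizer (D₀ : Set Y) → P ≤ Subgroup.centralizer (D₀ : Set Y)) : False := by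
  classical
  haveI := Fact.mk h.pprime
  haveI : Fact (Nat.Prime 2) := ⟨Nat.prime_two⟩
  haveI := h.normal
  obtain ⟨hp2, m, hm, hr⟩ := h.fermat
  have hA : ∀ H : Subgroup Y, a ∈ Subgroup.normalizer (H : Set Y) →
      Subgroup.zpowers a ≤ Subgroup.normalizer (H : Set Y) := fun H => zpowers_le_normalizer
  have hnD : ∀ g : Y, g ∈ Subgroup.normalizer (D : Set Y) := fun g => by
    rw [Subgroup.normalizer_eq_top]; trivial
  have hcopPD : (Nat.card P).Coprime (Nat.card D) := IsPGroup.coprime_card_of_ne p 2 hp2 P D hP hD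
  have hcopDP := hcopPD.symm
  have hsolvP : Group.IsSolvable P := Coprime.isSolvable_of_isPGroup hP
  -- `P` is faithful on `D`
  have hfP : P ⊓ Subgroup.centralizer (D : Set Y) = ⊥ := by
    set P1 := P ⊓ Subgroup.centralizer (D : Set Y)
    have ha1 : a ∈ Subgroup.normalizer (P1 : Set Y) :=
      mem_normalizer_inf hPa (by rw [Subgroup.normalizer_eq_top]; trivial)
    haveI : P1.Normal := h.normal_of (by
      rw [← hsup]
      refine sup_le (fun d hd => ?_) (fun g hg => mem_normalizer_inf (Subgroup.le_normalizer hg)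
        (by rw [Subgroup.normalizer_eq_top]; trivial))
      refine (Subgroup.centralizer_le_normalizer _) (Subgroup.mem_centralizer_iff.mpr fun x hx => ?_)
      exact ((Subgroup.mem_centralizer_iff.mp hx.2) d hd).symm) ha1
    exact h.pgroup_eq_bot (inf_le_left.trans hPG) (hP.to_le inf_le_left)
  have hPne : P ≠ ⊥ := fun e => h.not_two (by rw [← hsup, e, sup_bot_eq]; exact hD)
  have hnc : ¬ P ≤ Subgroup.centralizer (D : Set Y) := fun e =>
    hPne (le_bot_iff.mp (hfP ▸ le_inf le_rfl e))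
  -- proper invariant subgroups of `P` are centralised by `a`
  have hP0 : ∀ P₀ : Subgroup Y, P₀ < P → a ∈ Subgroup.normalizer (P₀ : Set Y) →
      ∀ x ∈ P₀, a * x = x * a := by
    intro P₀ hlt ha0
    refine comm_of_zpowers_eq_bot (le_bot_iff.mp ?_)
    set P1 := ⁅P₀, Subgroup.zpowers a⁆
    have hP1 : P1 ≤ P₀ := Coprime.commutator_le_of_le_normalizer (hA _ ha0)
    have hltG : D ⊔ P1 < G := by
      refine (sup_le hDG ((hP1.trans hlt.le).trans hPG)).lt_of_ne fun e => ?_
      have hle : P ≤ D ⊔ P1 := e ▸ hPG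
      refine absurd ((?_ : P ≤ P1).trans hP1) hlt.not_ge
      intro x hx
      have hx2 := hle hx
      rw [← SetLike.mem_coe, Subgroup.normal_mul] at hx2
      obtain ⟨d, hd, y, hy, rfl⟩ := hx2
      have hdP : d ∈ P := by
        have := mul_mem hx (inv_mem ((hP1.trans hlt.le) hy))
        rwa [mul_inv_cancel_right] at this
      have : d ∈ D ⊓ P := ⟨hd, hdP⟩
      rw [disjoint_iff.mp (IsPGroup.disjoint_of_ne 2 p hp2.symm D P hD hP), Subgroup.mem_bot] at this
      simp only [this, one_mul]; exact hy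
    exact hfP ▸ le_inf (hP1.trans hlt.le) (h.centralizes_of_lt hD (hP.to_le (hP1.trans hlt.le))
      (Ctx.comm_norm ha0) (h.comm_idem (hlt.le.trans hPG) ha0) (hnD a) (fun g _ => hnD g) hltG)
  -- `D = [D, P]`
  have hPN : P ≤ Subgroup.normalizer (D : Set Y) := fun g _ => hnD g
  have hDP : ⁅D, P⁆ = D := by
    by_contra hne
    have hle : ⁅D, P⁆ ≤ D := Coprime.commutator_le_of_le_normalizer hPN
    have h1 := hsub _ (hle.lt_of_ne hne) ?_ (Subgroup.normalizer_commutator_ge_right D P)
    · exact hnc (Coprime.le_centralizer_of_commutator_commutator_eq_bot hPN hcopPD (Or.inl hsolvP)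
        (Coprime.commutator_eq_bot_iff_le_centralizer'.mpr h1))
    · rw [Subgroup.mem_normalizer_iff_map_conj_eq, Subgroup.map_commutator,
        Subgroup.mem_normalizer_iff_map_conj_eq.mp (hnD a), Subgroup.mem_normalizer_iff_map_conj_eq.mp hPa]
  have hDne : D ≠ ⊥ := fun e => hnc (by rw [e]; intro x _; rw [Subgroup.mem_centralizer_iff]; simp)
  haveI : Nontrivial D := (Subgroup.nontrivial_iff_ne_bot D).mpr hDne
  -- the Frattini subgroup is centralised by `P` and central in `D`
  set Φ := (frattini D).map D.subtype with hΦdef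
  have hΦn : ∀ g : Y, g ∈ Subgroup.normalizer (Φ : Set Y) := fun g =>
    Coprime.OmegaDetect.normalizer_le_normalizer_char D (frattini D) (hnD g)
  have hΦD : Φ < D := by
    refine (Subgroup.map_subtype_le _).lt_of_ne fun e => ?_
    have : frattini D = ⊤ := by
      rw [← Subgroup.map_subtype_inj, e, ← MonoidHom.range_eq_map, Subgroup.range_subtype]
    exact frattini_nongenerating (G := D) (K := ⊥) (by rw [this]; simp) |> fun e0 => bot_ne_top e0
  have hPΦ : P ≤ Subgroup.centralizer (Φ : Set Y) := hsub Φ hΦD (hΦn a) fun g _ => hΦn g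
  have hΦP : ⁅Φ, P⁆ = ⊥ := Coprime.commutator_eq_bot_iff_le_centralizer'.mpr hPΦ
  have hΦc : ∀ z ∈ Φ, ∀ d ∈ D, d * z = z * d := by
    have h1 : ⁅⁅P, Φ⁆, D⁆ = ⊥ := by
      rw [Subgroup.commutator_comm P Φ, hΦP, Subgroup.commutator_bot_left]
    have h2 : ⁅⁅Φ, D⁆, P⁆ = ⊥ := le_bot_iff.mp (hΦP ▸ Subgroup.commutator_mono
      (Subgroup.le_normalizer_iff_commutator_le_left.mp fun g _ => hΦn g) le_rfl)
    have h3 := Subgroup.commutator_commutator_eq_bot_of_rotate (H₁ := D) (H₂ := P) (H₃ := Φ) h1 h2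
    rw [hDP, Subgroup.commutator_eq_bot_iff_le_centralizer] at h3
    exact fun z hz d hd => ((Subgroup.mem_centralizer_iff.mp (h3 hd)) z hz).symm
  have hΦsq : ∀ d ∈ D, d ^ 2 ∈ Φ := fun d hd =>
    ⟨⟨d, hd⟩ ^ 2, Solvable.Basics.pow_mem_frattini hD _, rfl⟩
  have hΦcomm : ∀ d ∈ D, ∀ e ∈ D, ⁅d, e⁆ ∈ Φ := fun d hd e he => by
    haveI := hD.isNilpotent
    refine ⟨⁅(⟨d, hd⟩ : D), ⟨e, he⟩⁆, Coprime.commutator_le_frattini D ?_, rfl⟩
    rw [commutator_def]
    exact Subgroup.commutator_mem_commutator (Subgroup.mem_top _) (Subgroup.mem_top _)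
  -- the centre of `D` is proper, hence central in `Y` and scalar
  set Z := D ⊓ Subgroup.centralizer (D : Set Y) with hZdef
  haveI hZn : Z.Normal := Subgroup.normal_inf_normal _ _
  have hZD : Z < D := by
    refine inf_le_left.lt_of_ne fun e => hnc ?_
    have hab : ∀ x ∈ D, ∀ y ∈ D, x * y = y * x := fun x hx y hy => by
      have hy' : y ∈ Z := by rw [show Z = D from e]; exact hy
      exact (Subgroup.mem_centralizer_iff.mp hy'.2) x hx
    have hqD : ((Nat.card D : ℕ) : K) ≠ 0 := by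
      obtain ⟨n, hn⟩ := IsPGroup.iff_card.mp hD
      rw [hn, Nat.cast_pow]
      refine pow_ne_zero _ fun e2 => hp2 ?_
      exact (Nat.prime_dvd_prime_iff_eq h.pprime Nat.prime_two).mp ((CharP.cast_eq_zero_iff K p 2).mp e2)
    have haD : ⁅D, Subgroup.zpowers a⁆ = ⊥ := comm_zpowers_eq_bot fun x hx => by
      have h2 := h.fpf.centralized D hqD (hnD a) (fun x hx y hy => by
        rw [Commute, SemiconjBy, ← map_mul, ← map_mul, hab x hx y hy]) hx
      have h3 : a * x * a⁻¹ = x := by
        have hmem : a * x * a⁻¹ * x⁻¹ ∈ G := mul_mem ((Subgroup.mem_normalizer_iff.mp h.a_norm x).mp (hDG hx))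
          (inv_mem (hDG hx))
        refine mul_inv_eq_one.mp (h.faith _ hmem ?_)
        rw [map_mul, h2, ← map_mul, mul_inv_cancel, map_one]
      exact mul_inv_eq_iff_eq_mul.mp h3
    have h1 : ⁅⁅Subgroup.zpowers a, D⁆, P⁆ = ⊥ := by
      rw [Subgroup.commutator_comm _ D, haD, Subgroup.commutator_bot_left]
    have h2 : ⁅⁅D, P⁆, Subgroup.zpowers a⁆ = ⊥ := by rw [hDP, haD]
    have h3 := Subgroup.commutator_commutator_eq_bot_of_rotate
      (H₁ := P) (H₂ := Subgroup.zpowers a) (H₃ := D) h1 h2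
    rw [hgen, Subgroup.commutator_eq_bot_iff_le_centralizer] at h3
    exact h3
  have hPZ : P ≤ Subgroup.centralizer (Z : Set Y) :=
    hsub Z hZD (by rw [Subgroup.normalizer_eq_top]; trivial) (fun g _ => by rw [Subgroup.normalizer_eq_top]; trivial)
  have haZ : ∀ z ∈ Z, a * z = z * a := by
    intro z hz
    have hqZ : ((Nat.card Z : ℕ) : K) ≠ 0 := by
      obtain ⟨n, hn⟩ := IsPGroup.iff_card.mp (hD.to_le hZD.le)
      rw [hn, Nat.cast_pow]
      refine pow_ne_zero _ fun e2 => hp2 ?_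
      exact (Nat.prime_dvd_prime_iff_eq h.pprime Nat.prime_two).mp ((CharP.cast_eq_zero_iff K p 2).mp e2)
    have hzn : a ∈ Subgroup.normalizer (Z : Set Y) := by rw [Subgroup.normalizer_eq_top]; trivial
    have h2 := h.fpf.centralized Z hqZ hzn (fun x hx y hy => by
      rw [Commute, SemiconjBy, ← map_mul, ← map_mul, (Subgroup.mem_centralizer_iff.mp hy.2) x hx.1]) hz
    have hmem : a * z * a⁻¹ * z⁻¹ ∈ G := mul_mem ((Subgroup.mem_normalizer_iff.mp h.a_norm z).mp (hDG hz.1))
      (inv_mem (hDG hz.1))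
    have h3 := mul_inv_eq_one.mp (h.faith _ hmem (by rw [map_mul, h2, ← map_mul, mul_inv_cancel, map_one]))
    exact mul_inv_eq_iff_eq_mul.mp h3
  have hZY : ∀ z ∈ Z, ∀ y : Y, Commute y z := by
    intro z hz y
    have hy : y ∈ (G ⊔ Subgroup.zpowers a : Subgroup Y) := h.top ▸ Subgroup.mem_top y
    rw [← hsup] at hy
    have hle : D ⊔ P ⊔ Subgroup.zpowers a ≤ Subgroup.centralizer {z} := by
      refine sup_le (sup_le ?_ ?_) ?_
      · intro d hd; exact Subgroup.mem_centralizer_singleton_iff.mpr (Subgroup.mem_centralizer_iff.mp hz.2 d hd)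
      · intro g hg; exact Subgroup.mem_centralizer_singleton_iff.mpr ((Subgroup.mem_centralizer_iff.mp (hPZ hg)) z hz).symm
      · rw [Subgroup.zpowers_le]; exact Subgroup.mem_centralizer_singleton_iff.mpr (haZ z hz)
    exact Subgroup.mem_centralizer_singleton_iff.mp (hle hy)
  have hscal : ∀ z ∈ Z, ∃ c : K, ∀ w : W, ρ z w = c • w := by
    intro z hz
    obtain ⟨c, hc⟩ := Module.End.exists_eigenvalue (ρ z)
    refine ⟨c, fun w => ?_⟩
    have htop := (h.irr (Module.End.eigenspace (ρ z) c) fun y u hu => by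
      rw [Module.End.mem_eigenspace_iff] at hu ⊢
      rw [← Module.End.mul_apply, ← map_mul, ← (hZY z hz y).eq, map_mul, Module.End.mul_apply, hu, map_smul]).resolve_left hc
    exact Module.End.mem_eigenspace_iff.mp (htop ▸ Submodule.mem_top)
  have hΦZ : Φ ≤ Z := fun z hz => ⟨hΦD.le hz, Subgroup.mem_centralizer_iff.mpr fun d hd => hΦc z hz d hd⟩
  -- the moved part of `D`
  set E := ⁅D, Subgroup.zpowers a⁆ with hEdef
  have hED : E ≤ D := Coprime.commutator_le_of_le_normalizer (hA _ (hnD a))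
  have hEne : E ≠ ⊥ := by
    intro e
    refine hnc ?_
    have h1 : ⁅⁅Subgroup.zpowers a, D⁆, P⁆ = ⊥ := by
      rw [Subgroup.commutator_comm _ D, show ⁅D, Subgroup.zpowers a⁆ = ⊥ from e, Subgroup.commutator_bot_left]
    have h2 : ⁅⁅D, P⁆, Subgroup.zpowers a⁆ = ⊥ := by rw [hDP]; exact e
    have h3 := Subgroup.commutator_commutator_eq_bot_of_rotate
      (H₁ := P) (H₂ := Subgroup.zpowers a) (H₃ := D) h1 h2
    rw [hgen, Subgroup.commutator_eq_bot_iff_le_centralizer] at h3
    exact h3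
  obtain hM | hM := h.moved Nat.prime_two hp2.symm hDG hD (hnD a)
  swap
  · exact hEne hM
  have hEZ : ctr E ≤ Z := by
    rw [hM.ctr_eq, Subgroup.commutator_le]
    exact fun x hx y hy => hΦZ (hΦcomm x (hED hx) y (hED hy))
  choose cz hcz using hscal
  let χ : ctr E → K := fun z => cz z (hEZ z.2)
  have hpiece : ∀ w : W, w ∈ piece ρ E χ := fun w => mem_piece.mpr fun z => hcz _ (hEZ z.2) w
  have hne : piece ρ E χ ≠ ⊥ := fun e => by
    obtain ⟨w, hw⟩ := exists_ne (0 : W)
    exact hw ((Submodule.mem_bot K).mp (e ▸ hpiece w))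
  have hExc : Exc ρ a r E χ := (hM.piece_cases χ).resolve_left fun e => hEne
    ((Subgroup.eq_bot_iff_forall E).mpr fun x hx => hM.faith x hx (LinearMap.ext fun w => e x hx w (hpiece w)))
  obtain ⟨C⟩ := hM.exists_coord hExc hr
  have hrad : rad ρ E χ ≤ Z := by
    intro x hx
    refine hEZ (mem_ctr.mpr ⟨rad_le hx, fun y hy => ?_⟩)
    have he : ρ (x * y) = ρ (y * x) := LinearMap.ext fun w => by
      rw [map_mul, map_mul]; exact hx.2 y hy w (hpiece w)
    refine (mul_inv_eq_one.mp (hM.faith _ (mul_mem (mul_mem (rad_le hx) hy) (inv_mem (mul_mem hy (rad_le hx)))) ?_)).symm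
    rw [map_mul, he, ← map_mul, mul_inv_cancel, map_one]
  have hEnorm : ∀ g : Y, Commute g a → g ∈ Subgroup.normalizer (E : Set Y) := by
    intro g hg
    have e1 : (Subgroup.zpowers a).map ((MulAut.conj g : Y ≃* Y) : Y →* Y) = Subgroup.zpowers a := by
      rw [MonoidHom.map_zpowers]
      congr 1
      show g * a * g⁻¹ = a
      rw [hg.eq, mul_inv_cancel_right]
    rw [Subgroup.mem_normalizer_iff_map_conj_eq, hEdef, Subgroup.map_commutator,
      Subgroup.mem_normalizer_iff_map_conj_eq.mp (hnD g), e1]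
  have hB4 : ∀ g : Y, Commute g a → (orderOf g).Coprime r → (∀ z ∈ Z, Commute g z) →
      ∀ x ∈ E, x⁻¹ * (g * x * g⁻¹) ∈ Z := by
    intro g hg hord hgz x hx
    refine hrad (C.conj_eq hM hne hr hm (hEnorm g hg) hg.eq (fun z hz => ?_) hord hx).2
    rw [(hgz z (hEZ hz)).eq, mul_inv_cancel_right]
  -- the module `D / Z`
  haveI : (Z.subgroupOf D).Normal := Subgroup.normal_subgroupOf
  let Q := D ⧸ Z.subgroupOf D
  let π : D →* Q := QuotientGroup.mk' _
  have hπ : ∀ x : D, π x = 1 ↔ (x : Y) ∈ Z := fun x => by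
    rw [QuotientGroup.mk'_apply, QuotientGroup.eq_one_iff, Subgroup.mem_subgroupOf]
  have hsq : ∀ u : Q, u * u = 1 := by
    intro u
    obtain ⟨x, rfl⟩ := QuotientGroup.mk'_surjective _ u
    rw [← map_mul, hπ, Subgroup.coe_mul, ← sq]
    exact hΦZ (hΦsq x x.2)
  have hinv : ∀ u : Q, u⁻¹ = u := fun u => inv_eq_of_mul_eq_one_right (hsq u)
  have hcomm : ∀ u v : Q, u * v = v * u := fun u v => by
    have := hinv (u * v)
    rwa [mul_inv_rev, hinv, hinv, eq_comm] at this
  letI : CommGroup Q := { (inferInstance : Group Q) with mul_comm := hcomm }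
  letI : Module (ZMod 2) (Additive Q) := AddCommGroup.zmodModule fun v => by
    rw [two_nsmul]; exact hsq v.toMul
  haveI : Module.Finite (ZMod 2) (Additive Q) := Module.Finite.of_finite
  let cj : Y → (D →* D) := fun g =>
    { toFun := fun y => ⟨g * y * g⁻¹, hDn.conj_mem _ y.2 g⟩
      map_one' := Subtype.ext (by simp)
      map_mul' := fun y z => Subtype.ext (by simp [mul_assoc]) }
  let op : Y → End (ZMod 2) (Additive Q) := fun g => (MonoidHom.toAdditive
    (QuotientGroup.map _ _ (cj g) fun y hy => Subgroup.mem_comap.mpr (Subgroup.mem_subgroupOf.mpr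
      (hZn.conj_mem _ (Subgroup.mem_subgroupOf.mp hy) g)))).toZModLinearMap 2
  have hop : ∀ g (x : D), op g (Additive.ofMul (π x)) = Additive.ofMul (π (cj g x)) := fun g x => rfl
  have hrep : ∀ v : Additive Q, ∃ x : D, v = Additive.ofMul (π x) := fun v => by
    obtain ⟨x, hx⟩ := QuotientGroup.mk'_surjective _ v.toMul
    exact ⟨x, by rw [hx]; rfl⟩
  let opH : Y →* End (ZMod 2) (Additive Q) :=
    { toFun := op
      map_one' := LinearMap.ext fun v => by
        obtain ⟨x, rfl⟩ := hrep v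
        rw [hop, Module.End.one_apply]
        congr 2
        exact Subtype.ext (by simp [cj])
      map_mul' := fun g g' => LinearMap.ext fun v => by
        obtain ⟨x, rfl⟩ := hrep v
        rw [hop, Module.End.mul_apply, hop, hop]
        congr 2
        exact Subtype.ext (by simp [cj, mul_assoc]) }
  have hopfix : ∀ g (x : D), op g (Additive.ofMul (π x)) = Additive.ofMul (π x) →
      (x : Y)⁻¹ * (g * x * g⁻¹) ∈ Z := by
    intro g x hx
    rw [hop] at hx
    have h1 : π (cj g x) = π x := Additive.ofMul.injective hx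
    exact (hπ (x⁻¹ * cj g x)).mp (by rw [map_mul, map_inv, h1, inv_mul_cancel])
  -- `P` has no fixed points on `D / Z`
  have hCP : D ⊓ Subgroup.centralizer (P : Set Y) ≤ Z := by
    set C1 := D ⊓ Subgroup.centralizer (P : Set Y)
    have h1 : ⁅⁅P, C1⁆, D⁆ = ⊥ := by
      rw [(Subgroup.commutator_eq_bot_iff_le_centralizer).mpr (fun g hg => Subgroup.mem_centralizer_iff.mpr
        fun c hc => ((Subgroup.mem_centralizer_iff.mp (Subgroup.mem_inf.mp hc).2) g hg).symm), Subgroup.commutator_bot_left]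
    have h2 : ⁅⁅C1, D⁆, P⁆ = ⊥ := by
      refine le_bot_iff.mp (hΦP ▸ Subgroup.commutator_mono ?_ le_rfl)
      rw [Subgroup.commutator_le]
      exact fun x hx y hy => hΦcomm x hx.1 y hy
    have h3 := Subgroup.commutator_commutator_eq_bot_of_rotate (H₁ := D) (H₂ := P) (H₃ := C1) h1 h2
    rw [hDP, Subgroup.commutator_eq_bot_iff_le_centralizer] at h3
    exact fun c hc => ⟨hc.1, Subgroup.mem_centralizer_iff.mpr fun d hd =>
      ((Subgroup.mem_centralizer_iff.mp (h3 hd)) c hc).symm⟩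
  have hfixP : ∀ v : Additive Q, (∀ g ∈ P, op g v = v) → v = 0 := by
    intro v hv
    obtain ⟨x, rfl⟩ := hrep v
    have hfx : ∀ g ∈ P, g * (x : Y) * g⁻¹ * (x : Y)⁻¹ ∈ Z := by
      intro g hg
      have h1 := hopfix g x (hv g hg)
      rw [show g * (x : Y) * g⁻¹ * (x : Y)⁻¹ = (x : Y) * ((x : Y)⁻¹ * (g * x * g⁻¹)) * (x : Y)⁻¹ by group]
      exact hZn.conj_mem _ h1 _
    obtain ⟨c, hc, hxc⟩ := Coprime.exists_fixed_mod hcopPD (Or.inl hsolvP) hZD.le
      (fun g _ => by rw [Subgroup.normalizer_eq_top]; trivial) (fun g _ => by rw [Subgroup.normalizer_eq_top]; trivial)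
      x.2 hfx
    rw [show π x = 1 from (hπ x).mpr (by
      have h4 := hCP hc
      have := mul_mem h4 (inv_mem hxc)
      rwa [mul_inv_rev, inv_inv, mul_inv_cancel_left] at this)]
    rfl
  have hopA : (op a) ^ r = 1 := by
    show (opH a) ^ r = 1
    rw [← map_pow, h.fpf.pow, map_one]
  -- central elements of `P` fixed by `a` are trivial
  have hcentral : ∀ c ∈ P, (∀ g ∈ P, Commute g c) → Commute c a → c = 1 := by
    intro c hc hcP hca
    have hord : (orderOf c).Coprime r := by
      refine Nat.Coprime.symm ((h.fpf.prime.coprime_iff_not_dvd).mpr fun e => h.not_dvd hPG ?_)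
      exact e.trans (Subgroup.orderOf_dvd_natCard P hc)
    have hE := hB4 c hca hord fun z hz => hZY z hz c
    have hEfix : ∀ x (hx : x ∈ E), op c (Additive.ofMul (π ⟨x, hED hx⟩)) = Additive.ofMul (π ⟨x, hED hx⟩) := by
      intro x hx
      rw [hop]
      congr 1
      refine (inv_mul_eq_one.mp ?_).symm
      rw [← map_inv, ← map_mul, hπ]
      exact hE x hx
    have hprod : (op c - 1) * (op a - 1) = 0 := by
      refine LinearMap.ext fun v => ?_
      obtain ⟨x, rfl⟩ := hrep v
      have he : a * x * a⁻¹ * (x : Y)⁻¹ ∈ E := by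
        rw [hEdef, Subgroup.commutator_comm]
        exact Subgroup.commutator_mem_commutator (Subgroup.mem_zpowers a) x.2
      have h5 : op a (Additive.ofMul (π x)) = Additive.ofMul (π ⟨_, hED he⟩) + Additive.ofMul (π x) := by
        rw [hop, ← ofMul_mul, ← map_mul]
        congr 2
        exact Subtype.ext (by simp [cj])
      rw [Module.End.mul_apply, LinearMap.zero_apply, LinearMap.sub_apply (op a), Module.End.one_apply, h5,
        add_sub_cancel_right, LinearMap.sub_apply, Module.End.one_apply, hEfix _ he, sub_self]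
    let U' := LinearMap.range (op c - 1)
    have hcomm' : ∀ g : Y, Commute g c → Commute (op g) (op c - 1) := fun g hg =>
      ((hg.map opH).sub_right (Commute.one_right _))
    have haU : ∀ u ∈ U', op a u = u := by
      rintro _ ⟨v, rfl⟩
      have h6 : (op a - 1) * (op c - 1) = 0 := by
        rw [sub_mul, one_mul, (hcomm' a hca.symm).eq]
        rw [← hprod, mul_sub (op c - 1) (op a) 1, mul_one]
      have h7 : ((op a - 1) * (op c - 1)) v = 0 := by rw [h6]; rfl
      rw [Module.End.mul_apply, LinearMap.sub_apply, Module.End.one_apply, sub_eq_zero] at h7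
      exact h7
    let S : Subgroup Y :=
      { carrier := {g | Commute g c ∧ ∀ u ∈ U', op g u = u}
        mul_mem' := fun {g g'} hg hg' => ⟨hg.1.mul_left hg'.1, fun u hu => by
          show opH (g * g') u = u
          rw [map_mul, Module.End.mul_apply]; show op g (op g' u) = u; rw [hg'.2 u hu, hg.2 u hu]⟩
        one_mem' := ⟨Commute.one_left c, fun u _ => by show opH 1 u = u; rw [map_one]; rfl⟩
        inv_mem' := fun {g} hg => ⟨hg.1.inv_left, fun u hu => by
          conv_lhs => rw [← hg.2 u hu]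
          show opH g⁻¹ (opH g u) = u
          rw [← Module.End.mul_apply, ← map_mul, inv_mul_cancel, map_one]; rfl⟩ }
    have hPS : P ≤ S := by
      refine hgen.symm.le.trans (Subgroup.commutator_le.mpr fun g hg b hb => ?_)
      have hbS : b ∈ S := (Subgroup.zpowers_le (H := S)).mpr (⟨hca.symm, haU⟩ : a ∈ S) hb
      refine ⟨?_, fun u hu => ?_⟩
      · rw [commutatorElement_def]
        exact (((hcP g hg).mul_left hbS.1).mul_left (hcP g hg).inv_left).mul_left hbS.1.inv_left
      · have hgu : op g⁻¹ u ∈ U' := by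
          obtain ⟨v, rfl⟩ := hu
          exact ⟨op g⁻¹ v, by rw [← Module.End.mul_apply, ← (hcomm' g⁻¹ (hcP g hg).inv_left).eq, Module.End.mul_apply]⟩
        have hb1 : op b⁻¹ u = u := (inv_mem hbS).2 u hu
        show opH ⁅g, b⁆ u = u
        rw [commutatorElement_def, map_mul, map_mul, map_mul, Module.End.mul_apply, Module.End.mul_apply,
          Module.End.mul_apply]
        show op g (op b (op g⁻¹ (op b⁻¹ u))) = u
        rw [hb1, hbS.2 _ hgu]
        show opH g (opH g⁻¹ u) = u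
        rw [← Module.End.mul_apply, ← map_mul, mul_inv_cancel, map_one]; rfl
    have hc1 : op c = 1 := by
      refine LinearMap.ext fun v => ?_
      have := hfixP ((op c - 1) v) fun g hg => (hPS hg).2 _ ⟨v, rfl⟩
      rwa [LinearMap.sub_apply, sub_eq_zero] at this
    have hcZ : ∀ d ∈ D, d⁻¹ * (c * d * c⁻¹) ∈ Z := fun d hd =>
      hopfix c ⟨d, hd⟩ (by rw [hc1]; rfl)
    have hcc : Subgroup.zpowers c ≤ Subgroup.centralizer (D : Set Y) := by
      have hcP' : Subgroup.zpowers c ≤ P := Subgroup.zpowers_le.mpr hc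
      refine Coprime.le_centralizer_of_series (N := Z) (fun g _ => hnD g)
        (hcopPD.coprime_dvd_left (Subgroup.card_dvd_of_le hcP')) (Or.inl (Fpf.zpowers_solvable c))
        (fun g hg => hPZ (hcP' hg)) ?_
      rw [Subgroup.commutator_comm]
      have hle : Subgroup.zpowers c ≤
          (⟨⟨⟨{g | ∀ d ∈ D, d⁻¹ * (g * d * g⁻¹) ∈ Z}, fun {g g'} hg hg' d hd => by
            have h8 := hg (g' * d * g'⁻¹) (hDn.conj_mem _ hd g')
            have h9 := mul_mem (hg' d hd) h8
            rwa [show d⁻¹ * (g' * d * g'⁻¹) * ((g' * d * g'⁻¹)⁻¹ * (g * (g' * d * g'⁻¹) * g⁻¹)) =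
              d⁻¹ * (g * g' * d * (g * g')⁻¹) by group] at h9⟩,
            fun d _ => by simp⟩, fun {g} hg d hd => by
            have h8 := inv_mem (hg (g⁻¹ * d * g) (hDn.conj_mem' _ hd g))
            have e : d⁻¹ * (g⁻¹ * d * g⁻¹⁻¹) = ((g⁻¹ * d * g)⁻¹ * (g * (g⁻¹ * d * g) * g⁻¹))⁻¹ := by group
            show d⁻¹ * (g⁻¹ * d * g⁻¹⁻¹) ∈ Z
            rw [e]; exact h8⟩ : Subgroup Y) :=
        Subgroup.zpowers_le.mpr hcZ
      refine Subgroup.commutator_le.mpr fun g hg d hd => ?_
      have h10 := hle hg d hd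
      rw [show ⁅g, d⁆ = d * (d⁻¹ * (g * d * g⁻¹)) * d⁻¹ by rw [commutatorElement_def]; group]
      exact hZn.conj_mem _ h10 _
    have : c ∈ P ⊓ Subgroup.centralizer (D : Set Y) := ⟨hc, hcc (Subgroup.mem_zpowers c)⟩
    rwa [hfP, Subgroup.mem_bot] at this
  -- `P` is abelian
  have hPab : ∀ x ∈ P, ∀ y ∈ P, x * y = y * x := by
    by_contra hcon
    haveI := hP.isNilpotent
    set P' := ⁅P, P⁆
    have hP'P : P' ≤ P := Subgroup.commutator_le_self P
    have hlt : P' < P := by
      haveI : Nontrivial P := (Subgroup.nontrivial_iff_ne_bot P).mpr hPne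
      exact Coprime.commutator_lt_of_isNilpotent le_rfl hPne Subgroup.le_normalizer
    have ha' : a ∈ Subgroup.normalizer (P' : Set Y) := by
      rw [Subgroup.mem_normalizer_iff_map_conj_eq, Subgroup.map_commutator, Subgroup.mem_normalizer_iff_map_conj_eq.mp hPa]
    have hcen : P' ⊓ Subgroup.centralizer (P : Set Y) = ⊥ := (Subgroup.eq_bot_iff_forall _).mpr fun c hc =>
      hcentral c (hP'P hc.1) (fun g hg => (Subgroup.mem_centralizer_iff.mp hc.2) g hg)
        (hP0 P' hlt ha' c hc.1).symm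
    have hP'bot : P' = ⊥ := by
      by_contra hne'
      have hfilt : ∀ H : Subgroup Y, H ≤ P' → P ≤ Subgroup.normalizer (H : Set Y) → H = ⊥ := by
        intro H
        induction hn : Nat.card H using Nat.strongRecOn generalizing H with
        | ind n ih =>
          intro hH hHn
          by_contra hH0
          have hlt' := Coprime.commutator_lt_of_isNilpotent (hH.trans hP'P) hH0 hHn
          have h11 := ih _ (hn ▸ lt_of_not_ge fun e => hlt'.ne (Subgroup.eq_of_le_of_card_ge hlt'.le e))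
            ⁅H, P⁆ rfl (hlt'.le.trans hH) (Subgroup.normalizer_commutator_ge_right H P)
          refine hH0 (le_bot_iff.mp (hcen ▸ le_inf hH ?_))
          exact Subgroup.commutator_eq_bot_iff_le_centralizer.mp h11
      exact hne' (hfilt P' le_rfl (Subgroup.normalizer_commutator_ge_left P P))
    refine hcon fun x hx y hy => ?_
    exact commutatorElement_eq_one_iff_mul_comm.mp
      ((Subgroup.eq_bot_iff_forall _).mp hP'bot _ (Subgroup.commutator_mem_commutator hx hy))
  letI : CommGroup P :=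
    { (inferInstance : Group P) with mul_comm := fun x y => Subtype.ext (hPab x x.2 y y.2) }
  have hPconj : ∀ x ∈ P, a * x * a⁻¹ ∈ P := fun x hx => (Subgroup.mem_normalizer_iff.mp hPa x).mp hx
  let α : P ≃* P :=
    { toFun := fun x => ⟨a * x * a⁻¹, hPconj x x.2⟩
      invFun := fun x => ⟨a⁻¹ * x * a, (Subgroup.mem_normalizer_iff''.mp hPa x).mp x.2⟩
      left_inv := fun x => Subtype.ext (by group)
      right_inv := fun x => Subtype.ext (by group)
      map_mul' := fun x y => Subtype.ext (by simp [mul_assoc]) }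
  have hαk : ∀ (k : ℕ) (x : P), (((⇑α)^[k] x : P) : Y) = a ^ k * x * (a ^ k)⁻¹ := by
    intro k x
    induction k with
    | zero => simp
    | succ k ih =>
      rw [Function.iterate_succ_apply', pow_succ']
      show a * _ * a⁻¹ = _
      rw [ih]; group
  obtain ⟨hfr1, hfr2⟩ := frob_module (opH.comp P.subtype) (op a) α
    (fun x => by
      show opH a * opH (x : Y) = opH (a * x * a⁻¹) * opH a
      rw [← map_mul, ← map_mul, inv_mul_cancel_right])
    h.fpf.prime (r := r) (by
      rw [hr, Nat.cast_add, Nat.cast_pow, show ((2 : ℕ) : ZMod 2) = 0 from rfl, zero_pow (by omega), zero_add, Nat.cast_one]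
      exact one_ne_zero) (by
      obtain ⟨n, hn⟩ := IsPGroup.iff_card.mp hP
      rw [hn, Nat.cast_pow]
      refine pow_ne_zero _ fun e => hp2 ?_
      exact ((Nat.prime_dvd_prime_iff_eq Nat.prime_two h.pprime).mp ((CharP.cast_eq_zero_iff (ZMod 2) 2 p).mp e)).symm)
    hopA (fun x hx => Subtype.ext (hcentral x x.2 (fun g hg => hPab g hg x x.2) (by
      have := congrArg Subtype.val hx
      exact (mul_inv_eq_iff_eq_mul.mp this).symm)))
    (fun x => Subtype.ext (by rw [hαk, h.fpf.pow]; simp))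
    (fun v hv => hfixP v fun g hg => hv ⟨g, hg⟩)
  set k := finrank (ZMod 2) (LinearMap.ker (op a - 1)) with hk
  have hk1 : 1 ≤ k := by
    by_contra h0
    have hbot : LinearMap.ker (op a - 1) = ⊥ := Submodule.finrank_eq_zero.mp (by omega)
    haveI := hfr2 hbot
    refine hZD.not_ge fun d hd => (hπ ⟨d, hd⟩).mp ?_
    exact Additive.ofMul.injective (Subsingleton.elim _ _)
  have hrange : finrank (ZMod 2) (LinearMap.range (op a - 1)) ≤ 2 * m := by
    let f : E →* Q := π.comp (Subgroup.inclusion hED)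
    have hker : (rad ρ E χ).subgroupOf E ≤ f.ker := fun x hx =>
      MonoidHom.mem_ker.mpr ((hπ _).mpr (hrad (Subgroup.mem_subgroupOf.mp hx)))
    obtain ⟨-, m', -, hr', hidx⟩ := hM.exc_data hExc
    obtain rfl : m' = m := Nat.pow_right_injective le_rfl (by omega : 2 ^ m' = 2 ^ m)
    have hcard : Nat.card f.range ≤ 2 ^ (2 * m') := by
      rw [← hidx, ← Subgroup.index_ker]
      exact Nat.le_of_dvd (Nat.pos_of_ne_zero Subgroup.index_ne_zero_of_finite)
        (Subgroup.index_dvd_of_le hker)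
    have hsub' : (LinearMap.range (op a - 1) : Set (Additive Q)) ⊆ Additive.ofMul '' (f.range : Set Q) := by
      rintro _ ⟨v, rfl⟩
      obtain ⟨x, rfl⟩ := hrep v
      have he : a * x * a⁻¹ * (x : Y)⁻¹ ∈ E := by
        rw [hEdef, Subgroup.commutator_comm]
        exact Subgroup.commutator_mem_commutator (Subgroup.mem_zpowers a) x.2
      refine ⟨f ⟨_, he⟩, ⟨_, rfl⟩, ?_⟩
      rw [LinearMap.sub_apply, Module.End.one_apply, hop, ← ofMul_div, ← map_div]
      show Additive.ofMul (π ⟨_, hED he⟩) = Additive.ofMul (π (cj a x / x))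
      rw [show (⟨_, hED he⟩ : D) = cj a x / x from Subtype.ext (div_eq_mul_inv (a * (x : Y) * a⁻¹) (x : Y)).symm]
    have h12 : Nat.card (LinearMap.range (op a - 1)) ≤ 2 ^ (2 * m') := by
      exact le_trans ((Nat.card_mono (Set.toFinite _) hsub').trans
        (Nat.card_image_of_injective Additive.ofMul.injective (f.range : Set Q)).le) hcard
    rw [Module.natCard_eq_pow_finrank (K := ZMod 2), Nat.card_zmod] at h12
    exact (Nat.pow_le_pow_iff_right one_lt_two).mp h12
  have hrn := LinearMap.finrank_range_add_finrank_ker (op a - 1)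
  have hk2 : k = 1 := by
    have h13 : 2 * m ≤ 2 ^ m := by
      clear * - hm
      induction m, hm using Nat.le_induction with
      | base => norm_num
      | succ m hm ih => rw [pow_succ]; omega
    have h14 : r * k ≤ 2 * m + k := by
      have hk' : finrank (ZMod 2) (LinearMap.ker (op a - 1)) = k := rfl
      nlinarith only [hfr1, hrn, hrange, hk']
    rw [hr, add_mul, one_mul] at h14
    have h15 : 2 ^ m * k ≤ 2 * m := by omega
    by_contra h16
    have h17 : 2 ^ m * 2 ≤ 2 ^ m * k := Nat.mul_le_mul_left _ (by omega)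
    have h18 := Nat.two_pow_pos m
    omega
  -- the fixed vector is central
  obtain ⟨v, hv, hv0⟩ : ∃ v, v ∈ LinearMap.ker (op a - 1) ∧ v ≠ 0 :=
    Submodule.exists_mem_ne_zero_of_ne_bot fun e => by
      rw [hk, e, finrank_bot] at hk2
      exact zero_ne_one hk2
  obtain ⟨x, rfl⟩ := hrep v
  have hxa := hopfix a x (sub_eq_zero.mp (LinearMap.mem_ker.mp hv))
  obtain ⟨d, hd, hxd⟩ := Coprime.exists_fixed_mod (h.coprime hDG) (Or.inl (Fpf.zpowers_solvable a)) hZD.le
    (fun g _ => by rw [Subgroup.normalizer_eq_top]; trivial) (fun g _ => by rw [Subgroup.normalizer_eq_top]; trivial)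
    x.2 (fun b hb => by
      have hS : Subgroup.zpowers a ≤ (⟨⟨⟨{g | (x : Y)⁻¹ * (g * x * g⁻¹) ∈ Z}, fun {g g'} hg hg' => by
          have h19 := mul_mem (hZn.conj_mem _ hg' g) hg
          have e : g * ((x : Y)⁻¹ * (g' * x * g'⁻¹)) * g⁻¹ = (x : Y)⁻¹ * (g' * x * g'⁻¹) :=
            by rw [(hZY _ hg' g).eq, mul_inv_cancel_right]
          show (x : Y)⁻¹ * (g * g' * x * (g * g')⁻¹) ∈ Z
          rw [show (x : Y)⁻¹ * (g * g' * x * (g * g')⁻¹) =
            (x : Y)⁻¹ * (g * x * g⁻¹) * (g * ((x : Y)⁻¹ * (g' * x * g'⁻¹)) * g⁻¹) by group, e]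
          exact mul_mem hg hg'⟩, by simp⟩, fun {g} hg => by
          show (x : Y)⁻¹ * (g⁻¹ * x * g⁻¹⁻¹) ∈ Z
          have h20 := inv_mem (hZn.conj_mem' _ hg g)
          have e : (x : Y)⁻¹ * (g⁻¹ * x * g⁻¹⁻¹) = (g⁻¹ * ((x : Y)⁻¹ * (g * x * g⁻¹)) * g)⁻¹ := by
            group
          rw [e]; exact h20⟩ : Subgroup Y) := Subgroup.zpowers_le.mpr hxa
      have := hS hb
      rw [show b * (x : Y) * b⁻¹ * (x : Y)⁻¹ = (x : Y) * ((x : Y)⁻¹ * (b * x * b⁻¹)) * (x : Y)⁻¹ by group]
      exact hZn.conj_mem _ this _)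
  have hda : Commute d a := ((Subgroup.mem_centralizer_iff.mp hd.2) a (Subgroup.mem_zpowers a)).symm
  have hdE : ∀ e ∈ E, d * e = e * d := by
    have hord : (orderOf d).Coprime r := by
      refine Nat.Coprime.symm ((h.fpf.prime.coprime_iff_not_dvd).mpr fun e => h.not_dvd hDG ?_)
      exact e.trans (Subgroup.orderOf_dvd_natCard D hd.1)
    have hsq' := hB4 d hda hord fun z hz => hZY z hz d
    have hcm : ∀ e ∈ E, ⁅d, e⁆ ∈ Z := fun e he => hΦZ (hΦcomm d hd.1 e (hED he))
    let S2 : Subgroup Y := E ⊓ Subgroup.centralizer {d}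
    suffices hE2 : E ≤ S2 from fun e he => (Subgroup.mem_centralizer_singleton_iff.mp (hE2 he).2).symm
    refine hM.gen.symm.le.trans (Subgroup.commutator_le.mpr fun e he b hb => ?_)
    refine ⟨(Coprime.commutator_le_of_le_normalizer (zpowers_le_normalizer hM.norm))
      (Subgroup.commutator_mem_commutator he hb), Subgroup.mem_centralizer_singleton_iff.mpr ?_⟩
    have hbd : Commute d b := by
      obtain ⟨i, rfl⟩ := Subgroup.mem_zpowers_iff.mp hb
      exact hda.zpow_right i
    have hb' : b * e⁻¹ * b⁻¹ ∈ E := (Subgroup.mem_normalizer_iff.mp (zpowers_le_normalizer hM.norm hb) _).mp (inv_mem he)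
    have e1 : d * e * d⁻¹ = ⁅d, e⁆ * e := by rw [commutatorElement_def]; group
    have e2 : d * (b * e⁻¹ * b⁻¹) * d⁻¹ = b * e⁻¹ * b⁻¹ * ⁅d, e⁆⁻¹ := by
      calc d * (b * e⁻¹ * b⁻¹) * d⁻¹ = (d * b) * e⁻¹ * (d * b)⁻¹ := by group
        _ = b * (d * e * d⁻¹)⁻¹ * b⁻¹ := by rw [hbd.eq]; group
        _ = b * e⁻¹ * (⁅d, e⁆⁻¹ * b⁻¹) := by rw [e1]; group
        _ = _ := by rw [(hZY _ (inv_mem (hcm e he)) b⁻¹).symm.eq]; group
    rw [commutatorElement_def, eq_comm, ← mul_inv_eq_iff_eq_mul]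
    calc d * (e * b * e⁻¹ * b⁻¹) * d⁻¹ = (d * e * d⁻¹) * (d * (b * e⁻¹ * b⁻¹) * d⁻¹) := by group
      _ = ⁅d, e⁆ * (e * (b * e⁻¹ * b⁻¹)) * ⁅d, e⁆⁻¹ := by rw [e1, e2]; group
      _ = e * b * e⁻¹ * b⁻¹ := by rw [← (hZY _ (hcm e he) (e * (b * e⁻¹ * b⁻¹))).eq]; group
  have hdZ : d ∈ Z := by
    refine ⟨hd.1, Subgroup.mem_centralizer_iff.mpr fun y hy => ?_⟩
    obtain ⟨c, hc, u, hu, rfl⟩ := Coprime.exists_eq_centralizer_mul_commutator (hA _ (hnD a))
      (h.coprime hDG) (Or.inl (Fpf.zpowers_solvable a)) hy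
    have hcd : Commute d c := by
      have hcfix : Additive.ofMul (π ⟨c, hc.1⟩) ∈ LinearMap.ker (op a - 1) := by
        rw [LinearMap.mem_ker, LinearMap.sub_apply, sub_eq_zero, Module.End.one_apply, hop]
        congr 2
        refine Subtype.ext ?_
        show a * c * a⁻¹ = c
        rw [(Subgroup.mem_centralizer_iff.mp hc.2) a (Subgroup.mem_zpowers a), mul_inv_cancel_right]
      have h21 : Additive.ofMul (π ⟨c, hc.1⟩) = 0 ∨ Additive.ofMul (π ⟨c, hc.1⟩) = Additive.ofMul (π x) := by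
        obtain ⟨t, ht⟩ := (finrank_eq_one_iff_of_nonzero' (⟨_, hv⟩ : LinearMap.ker (op a - 1))
          (fun e => hv0 (congrArg Subtype.val e))).mp hk2 ⟨_, hcfix⟩
        have ht' : t • Additive.ofMul (π x) = Additive.ofMul (π ⟨c, hc.1⟩) := congrArg Subtype.val ht
        rcases (show t = 0 ∨ t = 1 by fin_cases t; exacts [Or.inl rfl, Or.inr rfl]) with rfl | rfl
        · left; rw [← ht', zero_smul]
        · right; rw [← ht', one_smul]
      rcases h21 with e | e
      · exact (hZY c ((hπ _).mp (Additive.ofMul.injective e)) d)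
      · have e' : (x : Y)⁻¹ * c ∈ Z := (hπ (x⁻¹ * ⟨c, hc.1⟩)).mp (by
          rw [map_mul, map_inv, Additive.ofMul.injective e, inv_mul_cancel])
        have h22 : c = d * ((x : Y)⁻¹ * d)⁻¹ * ((x : Y)⁻¹ * c) := by group
        rw [h22]
        exact ((Commute.refl d).mul_right (hZY _ (inv_mem hxd) d)).mul_right (hZY _ e' d)
    exact ((hcd.mul_right (hdE u hu)).eq).symm
  refine hv0 ?_
  rw [show π x = 1 from (hπ x).mpr (by
    have := mul_mem hdZ (inv_mem hxd)
    rwa [mul_inv_rev, inv_inv, mul_inv_cancel_left] at this)]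
  rfl

/-- A moved `p`-subgroup centralises every invariant `2`-subgroup which it normalises. -/
theorem Ctx.centralizes_two (h : Ctx ρ a r p G) {D P : Subgroup Y} (hDG : D ≤ G) (hD : IsPGroup 2 D)
    (hPG : P ≤ G) (hP : IsPGroup p P) (hPa : a ∈ Subgroup.normalizer (P : Set Y))
    (hgen : ⁅P, Subgroup.zpowers a⁆ = P) (hDa : a ∈ Subgroup.normalizer (D : Set Y))
    (hPD : P ≤ Subgroup.normalizer (D : Set Y)) : P ≤ Subgroup.centralizer (D : Set Y) := by
  induction hn : Nat.card D using Nat.strongRecOn generalizing D with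
  | ind n ih =>
    by_cases hlt : D ⊔ P < G
    · exact h.centralizes_of_lt hD hP hPa hgen hDa hPD hlt
    · have hsup : D ⊔ P = G := (sup_le hDG hPG).eq_of_not_lt hlt
      haveI : D.Normal := h.normal_of (hsup ▸ sup_le Subgroup.le_normalizer hPD) hDa
      exact (h.not_semidirect hDG hD hPG hP hPa hgen hsup fun D₀ hD0 ha0 hP0 =>
        ih _ (hn ▸ lt_of_not_ge fun e => hD0.ne (Subgroup.eq_of_le_of_card_ge hD0.le e))
          (hD0.le.trans hDG) (hD.to_le hD0.le) ha0 hP0 rfl).elim

end Cfsg.Agent.Lib.ShultFlavell
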