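import Cfsg.Agent.Lib.ShultFlavell.LemmaQ
import Cfsg.Agent.Lib.PLocal.ZJCenter

/-!
In a `p`-constrained group `H⟨a⟩` with `H = O_p(H) E C`, the centre of the Thompson subgroup of a
Sylow `p`-subgroup is normal.
-/

set_option autoImplicit false
set_option linter.style.haveILetI false
set_option linter.unusedSectionVars false

namespace Cfsg.Agent.Lib.ShultFlavell

open scoped commutatorElement

variable {Z : Type*} [Group Z] [Finite Z] {a : Z} {H E : Subgroup Z} {r p : ℕ}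

/-- The hypotheses. -/
structure ZJData (a : Z) (H E : Subgroup Z) (r p : ℕ) : Prop where
  pprime : p.Prime
  ptwo : p ≠ 2
  rprime : r.Prime
  rp : r ≠ p
  rfive : p = 3 → 5 ≤ r
  pow : a ^ r = 1
  normal : H.Normal
  top : H ⊔ Subgroup.zpowers a = ⊤
  decomp : ∀ x ∈ H, ∃ o ∈ Cfsg.pCore p Z, ∃ e ∈ E, ∃ c : Z, c ∈ Subgroup.normalizer (E : Set Z) ∧
    Commute c a ∧ x = o * (e * c)
  quot : ∀ x ∈ H, ∃ k : ℕ, x ^ p ^ k ∈ Cfsg.pCore p Z ⊔ E
  le : E ≤ H
  two : IsPGroup 2 E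
  anorm : a ∈ Subgroup.normalizer (E : Set Z)
  cop : (Nat.card (Subgroup.zpowers a)).Coprime (Nat.card E)
  central : ∀ z ∈ ⁅E, E⁆, ∀ e ∈ E, Commute z e
  inv : ∀ z ∈ ⁅E, E⁆, z * z = 1
  sq : ∀ e ∈ E, e * e ∈ ⁅E, E⁆
  fixed : ∀ e ∈ E, Commute e a → e ∈ ⁅E, E⁆
  afix : ∀ z ∈ ⁅E, E⁆, Commute z a
  constrained : Subgroup.centralizer (Cfsg.pCore p Z : Set Z) ≤ Cfsg.pCore p Z

/-- A `p`-element of `E⟨c⟩` is conjugate under `E` into `⟨c⟩`, up to an element killed by `τ`. -/
theorem exists_conj_pow {R : Type*} [Monoid R] (τ : Z →* R) [Fact p.Prime] (hp2 : p ≠ 2)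
    {e₀ c : Z} (he₀ : e₀ ∈ E) (hE : IsPGroup 2 E) (hc : c ∈ Subgroup.normalizer (E : Set Z))
    (hq : τ (e₀ * c) ^ p = 1) :
    ∃ j : ℕ, ∃ e ∈ E, τ (e₀ * c) = τ (e * c ^ j * e⁻¹) := by
  classical
  haveI : Fact (Nat.Prime 2) := ⟨Nat.prime_two⟩
  have hp := (Fact.out : p.Prime)
  set g := e₀ * c with hg
  -- an exponent
  set n1 := orderOf g * orderOf c with hn1
  have hn0 : n1 ≠ 0 := Nat.mul_ne_zero (orderOf_pos g).ne' (orderOf_pos c).ne'
  set pk := p ^ (n1.factorization p + 1) with hpk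
  set m' := n1 / p ^ n1.factorization p with hm'
  have hcop : pk.Coprime m' := (Nat.Coprime.pow_left _ (Nat.coprime_ordCompl hp hn0))
  obtain ⟨M, hM1, hM2⟩ := Nat.chineseRemainder hcop 1 0
  have hmdvd : m' ∣ M := (Nat.modEq_zero_iff_dvd).mp hM2
  have hord : ∀ u : Z, orderOf u ∣ n1 → (u ^ M) ^ pk = 1 := fun u hu => by
    rw [← pow_mul]
    refine orderOf_dvd_iff_pow_eq_one.mp (hu.trans ?_)
    rw [← Nat.ordProj_mul_ordCompl_eq_self n1 p, mul_comm M]
    exact mul_dvd_mul (pow_dvd_pow p (Nat.le_succ _)) hmdvd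
  set g3 := g ^ M
  set c3 := c ^ M
  have hg3 : τ g3 = τ g := by
    rw [map_pow]
    have h1 : M % p = 1 := by
      have := (Nat.ModEq.of_dvd (dvd_pow_self p (Nat.succ_ne_zero _)) hM1 : M ≡ 1 [MOD p])
      rw [Nat.ModEq, Nat.mod_eq_of_lt hp.one_lt] at this
      exact this
    rw [← Nat.div_add_mod M p, h1, pow_succ, pow_mul, hq, one_pow, one_mul]
  have hgN : g ∈ Subgroup.normalizer (E : Set Z) := mul_mem (Subgroup.le_normalizer he₀) hc
  have hdiff : g3 * c3⁻¹ ∈ E := by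
    suffices ∀ k : ℕ, g ^ k * (c ^ k)⁻¹ ∈ E from this M
    intro k
    induction k with
    | zero => simp
    | succ k ih =>
      rw [pow_succ', pow_succ',
        show g * g ^ k * (c * c ^ k)⁻¹ = (g * (g ^ k * (c ^ k)⁻¹) * g⁻¹) * e₀ by rw [hg]; group]
      exact mul_mem ((Subgroup.mem_normalizer_iff.mp hgN _).mp ih) he₀
  have hpg : ∀ u : Z, u ^ pk = 1 → IsPGroup p (Subgroup.zpowers u) := fun u hu =>
    IsPGroup.of_card_dvd_pow (n := n1.factorization p + 1) (by rw [Nat.card_zpowers]; exact orderOf_dvd_of_pow_eq_one hu)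
  have hc3p := hpg c3 (hord c (dvd_mul_left _ _))
  have hg3p := hpg g3 (hord g (dvd_mul_right _ _))
  set L := E ⊔ Subgroup.zpowers c3 with hL
  have hg3L : g3 ∈ L := by
    have := mul_mem (Subgroup.mem_sup_left (T := Subgroup.zpowers c3) hdiff)
      (Subgroup.mem_sup_right (Subgroup.mem_zpowers c3))
    simpa using this
  haveI hEn : (E.subgroupOf L).Normal := (Subgroup.normal_subgroupOf_iff_le_normalizer le_sup_left).mpr
    (sup_le Subgroup.le_normalizer (Subgroup.zpowers_le.mpr (Subgroup.pow_mem _ hc M)))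
  let φ := QuotientGroup.mk' (E.subgroupOf L)
  have hker : ∀ u : L, φ u = 1 ↔ (u : Z) ∈ E := fun u => by
    show (QuotientGroup.mk u : L ⧸ E.subgroupOf L) = 1 ↔ _
    rw [QuotientGroup.eq_one_iff, Subgroup.mem_subgroupOf]
  have hinj : ∀ u : L, IsPGroup p (Subgroup.zpowers (u : Z)) → orderOf (φ u) = orderOf (u : Z) := by
    intro u hu
    refine Nat.dvd_antisymm ((orderOf_map_dvd φ u).trans (Subgroup.orderOf_coe u).symm.dvd) ?_
    refine orderOf_dvd_of_pow_eq_one ?_
    have h1 : (u : Z) ^ orderOf (φ u) ∈ E := by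
      have := (hker (u ^ orderOf (φ u))).mp (by rw [map_pow, pow_orderOf_eq_one])
      simpa using this
    refine (Subgroup.eq_bot_iff_forall _).mp (disjoint_iff.mp (IsPGroup.disjoint_of_ne p 2 hp2
      (Subgroup.zpowers (u : Z)) E hu hE)) _ ⟨?_, h1⟩
    exact Subgroup.pow_mem _ (Subgroup.mem_zpowers _) _
  let c3L : L := ⟨c3, Subgroup.mem_sup_right (Subgroup.mem_zpowers c3)⟩
  let g3L : L := ⟨g3, hg3L⟩
  have hφ : φ g3L = φ c3L := by
    rw [← mul_inv_eq_one, ← map_inv, ← map_mul]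
    exact (hker _).mpr hdiff
  have heq : orderOf g3 = orderOf c3 :=
    ((hinj g3L hg3p).symm.trans (congrArg orderOf hφ)).trans (hinj c3L hc3p)
  have hcardL : ∀ P : Sylow p L, Nat.card P ≤ orderOf c3 := fun P => by
    let f := φ.comp (P : Subgroup L).subtype
    have hf : Function.Injective f := (injective_iff_map_eq_one f).mpr fun u hu => by
      have h1 : ((u : L) : Z) ∈ E := (hker _).mp hu
      have h2 : ((u : L) : Z) = 1 := (Subgroup.eq_bot_iff_forall _).mp (disjoint_iff.mp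
        (IsPGroup.disjoint_of_ne p 2 hp2 ((P : Subgroup L).map L.subtype) E (P.isPGroup'.map _) hE)) _
        ⟨⟨u, u.2, rfl⟩, h1⟩
      exact Subtype.ext (Subtype.ext h2)
    refine (Nat.card_le_card_of_injective f hf).trans ?_
    have hgen : ∀ v : L ⧸ E.subgroupOf L, v ∈ Subgroup.zpowers (φ c3L) := by
      intro v
      obtain ⟨⟨v, hv⟩, rfl⟩ := QuotientGroup.mk'_surjective _ v
      obtain ⟨e, he, w, hw, rfl⟩ := (Coprime.mem_sup_of_le_normalizer (N := E) (H := Subgroup.zpowers c3)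
        (Subgroup.zpowers_le.mpr (Subgroup.pow_mem _ hc M))).mp hv
      obtain ⟨i, rfl⟩ := Subgroup.mem_zpowers_iff.mp hw
      refine Subgroup.mem_zpowers_iff.mpr ⟨i, ?_⟩
      rw [← map_zpow, eq_comm, ← mul_inv_eq_one, ← map_inv, ← map_mul]
      refine (hker _).mpr ?_
      simp only [Subgroup.coe_mul, Subgroup.coe_inv, Subgroup.coe_zpow, c3L]
      rwa [mul_inv_cancel_right]
    rw [← Nat.card_zpowers c3, Nat.card_zpowers, ← hinj c3L hc3p, ← Nat.card_zpowers,
      show Subgroup.zpowers (φ c3L) = ⊤ from eq_top_iff.mpr fun v _ => hgen v, Subgroup.card_top]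
  have hP : ∀ u : Z, u ∈ L → IsPGroup p (Subgroup.zpowers u) → orderOf u = orderOf c3 →
      ∃ P : Sylow p L, (P : Subgroup L).map L.subtype = Subgroup.zpowers u := fun u hu hup hou => by
    obtain ⟨P, hP⟩ := (hup.comap_subtype (K := L)).exists_le_sylow
    refine ⟨P, (Subgroup.eq_of_le_of_card_ge ?_ ?_).symm⟩
    · rw [← Subgroup.map_subgroupOf_eq_of_le ((Subgroup.zpowers_le).mpr hu : Subgroup.zpowers u ≤ L)]
      exact Subgroup.map_mono hP
    · rw [Subgroup.card_map_of_injective L.subtype_injective, Nat.card_zpowers, hou]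
      exact hcardL P
  obtain ⟨P, hPe⟩ := hP g3 hg3L hg3p heq
  obtain ⟨Q, hQe⟩ := hP c3 c3L.2 hc3p rfl
  obtain ⟨⟨k, hk⟩, hkQ⟩ := MulAction.exists_smul_eq L Q P
  obtain ⟨e, he, w, hw, rfl⟩ := (Coprime.mem_sup_of_le_normalizer (N := E) (H := Subgroup.zpowers c3)
    (Subgroup.zpowers_le.mpr (Subgroup.pow_mem _ hc M))).mp hk
  have h1 : g3 ∈ (Subgroup.zpowers c3).map (MulAut.conj (e * w) : Z ≃* Z).toMonoidHom := by
    have h2 := congrArg (fun S : Sylow p L => (S : Subgroup L).map L.subtype) hkQ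
    simp only [show (⟨e * w, hk⟩ : L) • Q = MulAut.conj (⟨e * w, hk⟩ : L) • Q from rfl, Coprime.sylow_map_smul,
      hPe, hQe, Coprime.conj_smul_eq_map] at h2
    have h3 : g3 ∈ Subgroup.zpowers g3 := Subgroup.mem_zpowers g3
    rw [← h2] at h3
    exact h3
  obtain ⟨x, hx, hxe⟩ := h1
  obtain ⟨i, rfl⟩ := (mem_powers_iff_mem_zpowers.mpr hx : x ∈ Submonoid.powers c3)
  have hwi : Commute w (c3 ^ i) := by
    obtain ⟨j, rfl⟩ := Subgroup.mem_zpowers_iff.mp hw
    exact ((Commute.refl c3).zpow_left j).pow_right i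
  refine ⟨M * i, e, he, ?_⟩
  rw [← hg3, ← hxe]
  congr 1
  show e * w * c3 ^ i * (e * w)⁻¹ = e * c ^ (M * i) * e⁻¹
  rw [pow_mul, mul_assoc e w, hwi.eq, show c3 = c ^ M from rfl]
  group

variable {R : Type*} [Ring R]

theorem ZJData.qdata (D : ZJData a H E r p) (τ : Z →* R) (hR : (p : R) = 0) {c : Z}
    (hc : c ∈ Subgroup.normalizer (E : Set Z)) (hca : Commute c a)
    (hq : (τ c - 1) * (τ c - 1) = 0) : QData τ a c E r p :=
  ⟨D.pprime, D.ptwo, hR, D.rprime, D.rfive, D.pow, D.anorm, hc, hca, D.cop, D.central, D.inv, D.sq, D.fixed,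
    D.afix, hq⟩

theorem unip_pow (hR : (p : R) = 0) {y : R} (hy : (y - 1) * (y - 1) = 0) : y ^ p = 1 := by
  have h : ∀ k : ℕ, y ^ k = 1 + (k : R) * (y - 1) := by
    intro k
    induction k with
    | zero => simp
    | succ k ih =>
      rw [pow_succ, ih, Nat.cast_succ]
      calc (1 + (k : R) * (y - 1)) * y = (1 + (k : R) * (y - 1)) * ((y - 1) + 1) := by rw [sub_add_cancel]
        _ = _ := by
          rw [mul_add, add_mul, one_mul, mul_one, mul_assoc, hy, mul_zero, add_zero, add_mul, one_mul]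
          abel
  rw [h, hR, zero_mul, add_zero]

/-- In any module on which `O_p` is trivial a quadratic element centralises `E`. -/
theorem ZJData.commute (D : ZJData a H E r p) (τ : Z →* R) (hR : (p : R) = 0)
    (hO : ∀ o ∈ Cfsg.pCore p Z, τ o = 1) {g : Z} (hg : g ∈ H) (hq : (τ g - 1) * (τ g - 1) = 0) :
    ∀ e ∈ E, Commute (τ g) (τ e) := by
  haveI := Fact.mk D.pprime
  obtain ⟨o, ho, e₀, he₀, c, hc, hca, rfl⟩ := D.decomp g hg
  rw [map_mul, hO o ho, one_mul] at hq ⊢
  obtain ⟨j, e₁, he₁, hj⟩ := exists_conj_pow τ D.ptwo he₀ D.two hc (unip_pow hR hq)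
  have hcj : Commute (c ^ j) a := hca.pow_left j
  have hconj : τ (c ^ j) = τ e₁⁻¹ * τ (e₀ * c) * τ e₁ := by
    rw [hj, ← map_mul, ← map_mul]; congr 1; group
  have hq' : (τ (c ^ j) - 1) * (τ (c ^ j) - 1) = 0 := by
    have h1 : τ (c ^ j) - 1 = τ e₁⁻¹ * (τ (e₀ * c) - 1) * τ e₁ := by
      rw [hconj, mul_sub, sub_mul, mul_one, tau_cancel']
    rw [h1]
    simp only [mul_assoc]
    rw [← mul_assoc (τ e₁) (τ e₁⁻¹), tau_cancel, one_mul, ← mul_assoc (τ (e₀ * c) - 1) (τ (e₀ * c) - 1),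
      hq, zero_mul, mul_zero]
  have hQ := (D.qdata τ hR (Subgroup.pow_mem _ hc j) hcj hq').commute
  have hsame : τ (e₀ * c) = τ (c ^ j) := by
    rw [hj, map_mul, map_mul, ← (hQ e₁ he₁).eq, mul_assoc, tau_cancel, mul_one]
  intro e he
  rw [hsame]
  exact hQ e he

variable [Fact p.Prime]

/-- A normal subgroup acting as a `p`-group on `P` and containing `⁅E, g⁆`, for `g` quadratic on `P`. -/
theorem ZJData.exists_kernel (D : ZJData a H E r p) {g : Z} (hg : g ∈ H) (P : Subgroup Z) (hPn : P.Normal)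
    (hP : IsPGroup p P) (hq : ∀ v ∈ P, ⁅g, ⁅g, v⁆⁆ = 1) :
    ∃ K : Subgroup Z, K.Normal ∧ Subgroup.centralizer (P : Set Z) ≤ K ∧
      (∀ x ∈ K, ∃ k : ℕ, x ^ p ^ k ∈ Subgroup.centralizer (P : Set Z)) ∧ ∀ e ∈ E, ⁅e, g⁆ ∈ K := by
  induction hn : Nat.card P using Nat.strongRecOn generalizing P with
  | ind n ih =>
  haveI := hPn
  by_cases hbot : P = ⊥
  · subst hbot
    exact ⟨⊤, inferInstance, le_top, fun x _ => ⟨0, Subgroup.mem_centralizer_iff.mpr fun v hv => by
      rw [Subgroup.mem_bot.mp hv]; simp⟩, fun e _ => Subgroup.mem_top _⟩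
  obtain ⟨P2, ⟨hP2P, hP2n⟩, hP2max⟩ := Set.Finite.exists_maximal
    (Set.toFinite {M : Subgroup Z | M < P ∧ M.Normal}) ⟨⊥, bot_lt_iff_ne_bot.mpr hbot, inferInstance⟩
  haveI := hP2n
  obtain ⟨K2, hK2n, hK2c, hK2p, hK2e⟩ := ih _ (hn ▸ lt_of_not_ge fun e =>
    hP2P.ne (Subgroup.eq_of_le_of_card_ge hP2P.le e)) P2 hP2n (hP.to_le hP2P.le)
    (fun v hv => hq v (hP2P.le hv)) rfl
  let q := QuotientGroup.mk' P2
  have hqs : Function.Surjective q := QuotientGroup.mk'_surjective P2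
  have hq1 : ∀ x : Z, q x = 1 ↔ x ∈ P2 := fun x => QuotientGroup.eq_one_iff x
  set V := P.map q with hV
  haveI hVn : V.Normal := hPn.map q hqs
  have hVp : IsPGroup p V := hP.map q
  have hmin : ∀ M : Subgroup (Z ⧸ P2), M.Normal → M ≤ V → M = ⊥ ∨ M = V := by
    intro M hM hMV
    refine or_iff_not_imp_right.mpr fun hne => ?_
    have hle : M.comap q ≤ P := fun x hx => by
      obtain ⟨v, hv, he⟩ := hMV hx
      have h1 : v⁻¹ * x ∈ P2 := (hq1 _).mp (by rw [map_mul, map_inv, he, inv_mul_cancel])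
      have := mul_mem hv (hP2P.le h1)
      rwa [mul_inv_cancel_left] at this
    have hlt : M.comap q < P := hle.lt_of_ne fun e => hne (by
      rw [hV, ← e, Subgroup.map_comap_eq_self_of_surjective hqs])
    have heq : M.comap q ≤ P2 := hP2max ⟨hlt, hM.comap q⟩ fun x hx => by
      rw [Subgroup.mem_comap, (hq1 x).mpr hx]; exact one_mem M
    refine (Subgroup.eq_bot_iff_forall M).mpr fun y hy => ?_
    obtain ⟨x, rfl⟩ := hqs y
    exact (hq1 x).mpr (heq hy)
  have hVne : V ≠ ⊥ := fun e => hP2P.not_ge fun x hx => (hq1 x).mp (by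
    have h1 : q x ∈ V := Subgroup.mem_map_of_mem q hx
    rwa [e, Subgroup.mem_bot] at h1)
  have hVab : ∀ u ∈ V, ∀ v ∈ V, u * v = v * u := by
    haveI := hVp.isNilpotent
    have hlt := Coprime.commutator_lt_of_isNilpotent (le_refl V) hVne Subgroup.le_normalizer
    have hb := (hmin _ inferInstance hlt.le).resolve_right hlt.ne
    exact fun u hu v hv => commutatorElement_eq_one_iff_mul_comm.mp
      ((Subgroup.eq_bot_iff_forall _).mp hb _ (Subgroup.commutator_mem_commutator hu hv))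
  have hVe : ∀ v ∈ V, v ^ p = 1 := by
    let M : Subgroup (Z ⧸ P2) :=
      { carrier := {v | v ∈ V ∧ v ^ p = 1}
        one_mem' := ⟨one_mem V, one_pow p⟩
        mul_mem' := fun {u v} hu hv => ⟨mul_mem hu.1 hv.1, by
          rw [(show Commute u v from hVab u hu.1 v hv.1).mul_pow, hu.2, hv.2, one_mul]⟩
        inv_mem' := fun {u} hu => ⟨inv_mem hu.1, by rw [inv_pow, hu.2, inv_one]⟩ }
    have hMn : M.Normal := ⟨fun v hv x => ⟨hVn.conj_mem v hv.1 x, by
      rw [conj_pow, hv.2, mul_one, mul_inv_cancel]⟩⟩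
    have hMne : M ≠ ⊥ := by
      obtain ⟨m, hm⟩ := IsPGroup.iff_card.mp hVp
      have hm0 : m ≠ 0 := fun e => hVne (Subgroup.card_eq_one.mp (by rw [hm, e, pow_zero]))
      obtain ⟨x, hx⟩ := exists_prime_orderOf_dvd_card' (G := V) p (hm ▸ dvd_pow_self p hm0)
      intro e
      have hxM : (x : Z ⧸ P2) ∈ M :=
        ⟨x.2, by rw [← hx, Subgroup.orderOf_coe x |>.symm, pow_orderOf_eq_one]⟩
      rw [e, Subgroup.mem_bot] at hxM
      rw [show x = 1 from Subtype.ext hxM, orderOf_one] at hx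
      exact (Fact.out : p.Prime).one_lt.ne hx
    have hMV := (hmin M hMn fun v hv => hv.1).resolve_left hMne
    exact fun v hv => (hMV.symm ▸ hv : v ∈ M).2
  -- the module
  letI : CommGroup V :=
    { (inferInstance : Group V) with mul_comm := fun u v => Subtype.ext (hVab u u.2 v v.2) }
  let τ : Z →* AddMonoid.End (Additive V) :=
    { toFun := fun x => MonoidHom.toAdditive (MulAut.conjNormal (q x) : V ≃* V).toMonoidHom
      map_one' := AddMonoidHom.ext fun v => by
        show Additive.ofMul ((MulAut.conjNormal (q 1) : MulAut V) (Additive.toMul v)) = v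
        rw [map_one, map_one]; rfl
      map_mul' := fun x y => AddMonoidHom.ext fun v => by
        show Additive.ofMul ((MulAut.conjNormal (q (x * y)) : MulAut V) (Additive.toMul v)) =
          Additive.ofMul ((MulAut.conjNormal (q x) : MulAut V) ((MulAut.conjNormal (q y) : MulAut V) (Additive.toMul v)))
        rw [map_mul, map_mul]; rfl }
  have hτ : ∀ (x : Z) (v : Additive V),
      ((Additive.toMul (τ x v) : V) : Z ⧸ P2) = q x * (Additive.toMul v : V) * (q x)⁻¹ := fun x v =>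
    MulAut.conjNormal_apply (q x) (Additive.toMul v)
  have hτ1 : ∀ x : Z, (∀ v ∈ V, q x * v = v * q x) → τ x = 1 := fun x hx => DFunLike.ext _ _ fun v => by
    refine Additive.toMul.injective (Subtype.ext ?_)
    rw [hτ, hx _ (Additive.toMul v).2, mul_inv_cancel_right]
    rfl
  have hτ1' : ∀ x : Z, τ x = 1 → ∀ v ∈ V, q x * v = v * q x := fun x hx v hv => by
    have h1 := hτ x (Additive.ofMul ⟨v, hv⟩)
    rw [hx] at h1
    exact (eq_mul_inv_iff_mul_eq.mp h1).symm
  have hR : (p : AddMonoid.End (Additive V)) = 0 := DFunLike.ext _ _ fun v => by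
    rw [AddMonoid.End.natCast_apply]
    refine Additive.toMul.injective (Subtype.ext ?_)
    rw [toMul_nsmul, Subgroup.coe_pow, hVe _ (Additive.toMul v).2]
    rfl
  have hO : ∀ o ∈ Cfsg.pCore p Z, τ o = 1 := by
    set Ob := (Cfsg.pCore p Z).map q with hOb
    haveI : Ob.Normal := Subgroup.Normal.map inferInstance q hqs
    have hJ : IsPGroup p ↥(V ⊔ Ob) :=
      hVp.to_sup_of_normal_left' (PLocal.Cores.isPGroup_pCore.map q)
        (by rw [Subgroup.normalizer_eq_top]; exact le_top)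
    haveI := hJ.isNilpotent
    have hlt : ⁅V, Ob⁆ < V := lt_of_le_of_lt (Subgroup.commutator_mono le_rfl le_sup_right)
      (Coprime.commutator_lt_of_isNilpotent (Y := V ⊔ Ob) le_sup_left hVne
        (by rw [Subgroup.normalizer_eq_top]; exact le_top))
    have hb := (hmin _ inferInstance hlt.le).resolve_right hlt.ne
    exact fun o ho => hτ1 o fun v hv => (commutatorElement_eq_one_iff_mul_comm.mp ((Subgroup.eq_bot_iff_forall _).mp hb _
      (Subgroup.commutator_mem_commutator hv (Subgroup.mem_map_of_mem q ho)))).symm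
  have hqq : (τ g - 1) * (τ g - 1) = 0 := DFunLike.ext _ _ fun v => by
    obtain ⟨w, hw, hwv⟩ := (Additive.toMul v : V).2
    have hd : ∀ u : Additive V, ((Additive.toMul ((τ g - 1) u) : V) : Z ⧸ P2) =
        ⁅q g, ((Additive.toMul u : V) : Z ⧸ P2)⁆ := fun u => by
      show ((Additive.toMul (τ g u - u) : V) : Z ⧸ P2) = _
      rw [toMul_sub, div_eq_mul_inv, Subgroup.coe_mul, Subgroup.coe_inv, hτ, commutatorElement_def]
    refine Additive.toMul.injective (Subtype.ext ?_)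
    show ((Additive.toMul ((τ g - 1) ((τ g - 1) v)) : V) : Z ⧸ P2) = _
    rw [hd, hd, ← hwv, ← map_commutatorElement, ← map_commutatorElement, hq w hw, map_one]
    rfl
  have hcomm := D.commute τ hR hO hg hqq
  have hker : ∀ e ∈ E, τ ⁅e, g⁆ = 1 := fun e he => by
    have h1 := map_comm_rel τ e g
    rw [(hcomm e he).eq] at h1
    have h2 := congrArg (fun u => u * (τ g⁻¹ * τ e⁻¹)) h1
    simp only [mul_assoc] at h2
    rw [← mul_assoc (τ g) (τ g⁻¹), tau_cancel, one_mul, tau_cancel, mul_one] at h2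
    exact h2.symm
  let K1 : Subgroup Z := (Subgroup.centralizer (V : Set (Z ⧸ P2))).comap q
  haveI : (Subgroup.centralizer (V : Set (Z ⧸ P2))).Normal := Subgroup.normal_centralizer
  haveI : K1.Normal := Subgroup.Normal.comap inferInstance q
  haveI := hK2n
  refine ⟨K1 ⊓ K2, inferInstance, le_inf (fun x hx => Subgroup.mem_centralizer_iff.mpr ?_)
    ((Subgroup.centralizer_le hP2P.le).trans hK2c), fun x hx => ?_, fun e he => ⟨?_, hK2e e he⟩⟩
  · rintro _ ⟨v, hv, rfl⟩
    rw [← map_mul, ← map_mul, Subgroup.mem_centralizer_iff.mp hx v hv]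
  · obtain ⟨k, hk⟩ := hK2p x hx.2
    obtain ⟨m, hm⟩ := IsPGroup.iff_card.mp hP
    refine ⟨k + m, ?_⟩
    set y := x ^ p ^ k with hy
    rw [pow_add, pow_mul, ← hy, ← hm]
    refine Subgroup.mem_centralizer_iff.mpr fun v hv => ?_
    have hyK : y ∈ K1 := pow_mem hx.1 _
    have hd : v⁻¹ * (y * v * y⁻¹) ∈ P2 := by
      refine (hq1 _).mp ?_
      have h1 := Subgroup.mem_centralizer_iff.mp hyK (q v) (Subgroup.mem_map_of_mem q hv)
      rw [map_mul, map_mul, map_mul, map_inv, map_inv, ← h1]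
      group
    set d := v⁻¹ * (y * v * y⁻¹) with hddef
    have hyd : y * d = d * y := ((Subgroup.mem_centralizer_iff.mp hk) d hd).symm
    have hit : ∀ j : ℕ, y ^ j * v * (y ^ j)⁻¹ = v * d ^ j := by
      intro j
      induction j with
      | zero => simp
      | succ j ih =>
        calc y ^ (j + 1) * v * (y ^ (j + 1))⁻¹ = y * (y ^ j * v * (y ^ j)⁻¹) * y⁻¹ := by rw [pow_succ']; group
          _ = y * v * y⁻¹ * (y * d ^ j * y⁻¹) := by rw [ih]; group
          _ = v * d * d ^ j := by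
              rw [((show Commute y d from hyd).pow_right j).eq, mul_inv_cancel_right, hddef]; group
          _ = _ := by rw [mul_assoc, ← pow_succ']
    have hdc : d ^ Nat.card P = 1 := by
      have := pow_card_eq_one' (x := (⟨d, hP2P.le hd⟩ : P))
      exact congrArg Subtype.val this
    have h2 := hit (Nat.card P)
    rw [hdc, mul_one] at h2
    exact (mul_inv_eq_iff_eq_mul.mp h2).symm
  · exact Subgroup.mem_centralizer_iff.mpr fun v hv => (hτ1' _ (hker e he) v hv).symm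

/-- The action on every normal `p`-subgroup is stable. -/
theorem ZJData.stable (D : ZJData a H E r p) (P : Subgroup Z) [P.Normal] (hP : IsPGroup p P) :
    Cfsg.IsPStableOn p P := by
  haveI := D.normal
  intro g₀ hg₀
  set C := Subgroup.centralizer (P : Set Z) with hC
  haveI : C.Normal := Subgroup.normal_centralizer
  haveI := Fact.mk D.rprime
  -- quadratic
  have hquad : ∀ b ∈ Subgroup.zpowers g₀, ∀ v ∈ P, ⁅b, ⁅b, v⁆⁆ = 1 := fun b hb v hv => by
    have h1 : ⁅b, v⁆ ∈ ⁅P, Subgroup.zpowers g₀⁆ := by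
      rw [Subgroup.commutator_comm]; exact Subgroup.commutator_mem_commutator hb hv
    have h2 : ⁅⁅b, v⁆, b⁆ = 1 :=
      (Subgroup.eq_bot_iff_forall _).mp hg₀ _ (Subgroup.commutator_mem_commutator h1 hb)
    rw [← commutatorElement_inv, h2, inv_one]
  have hgp : ∃ n : ℕ, g₀ ^ p ^ n ∈ C := by
    obtain ⟨m, hm⟩ := IsPGroup.iff_card.mp hP
    refine ⟨m, Subgroup.mem_centralizer_iff.mpr fun v hv => ?_⟩
    set d := v⁻¹ * (g₀ * v * g₀⁻¹) with hd
    have hdP : d ∈ P := mul_mem (inv_mem hv) (Subgroup.Normal.conj_mem inferInstance v hv g₀)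
    have hgd : g₀ * d = d * g₀ := by
      have h3 := hquad g₀ (Subgroup.mem_zpowers g₀) v⁻¹ (inv_mem hv)
      have h4 := commutatorElement_eq_one_iff_mul_comm.mp h3
      have e : d = ⁅g₀, v⁻¹⁆⁻¹ * 1 := by rw [hd, mul_one, commutatorElement_def]; group
      rw [e, mul_one]
      exact (Commute.inv_right h4).eq
    have hit : ∀ j : ℕ, g₀ ^ j * v * (g₀ ^ j)⁻¹ = v * d ^ j := by
      intro j
      induction j with
      | zero => simp
      | succ j ih =>
        calc g₀ ^ (j + 1) * v * (g₀ ^ (j + 1))⁻¹ = g₀ * (g₀ ^ j * v * (g₀ ^ j)⁻¹) * g₀⁻¹ := by rw [pow_succ']; group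
          _ = g₀ * v * g₀⁻¹ * (g₀ * d ^ j * g₀⁻¹) := by rw [ih]; group
          _ = v * d * d ^ j := by
              rw [((show Commute g₀ d from hgd).pow_right j).eq, mul_inv_cancel_right, hd]; group
          _ = _ := by rw [mul_assoc, ← pow_succ']
    have hdc : d ^ Nat.card P = 1 := by
      have := pow_card_eq_one' (x := (⟨d, hdP⟩ : P))
      exact congrArg Subtype.val this
    have h2 := hit (Nat.card P)
    rw [hdc, mul_one, hm] at h2
    exact (mul_inv_eq_iff_eq_mul.mp h2).symm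
  obtain ⟨n₀, hn₀⟩ := hgp
  set g := g₀ ^ r with hgdef
  have hgH : g ∈ H := by
    let q := QuotientGroup.mk' H
    rw [← QuotientGroup.eq_one_iff]
    show q (g₀ ^ r) = 1
    have hle : (⊤ : Subgroup Z) ≤ (Subgroup.zpowers (q a)).comap q := by
      rw [← D.top]
      refine sup_le (fun x hx => ?_) (Subgroup.zpowers_le.mpr (Subgroup.mem_zpowers (q a)))
      rw [Subgroup.mem_comap, show q x = 1 from (QuotientGroup.eq_one_iff x).mpr hx]
      exact one_mem _
    obtain ⟨i, hi⟩ := Subgroup.mem_zpowers_iff.mp (hle (Subgroup.mem_top g₀))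
    rw [map_pow, ← hi, ← zpow_natCast, ← zpow_mul, mul_comm, zpow_mul, zpow_natCast, ← map_pow, D.pow, map_one,
      one_zpow]
  have hgq : ∀ v ∈ P, ⁅g, ⁅g, v⁆⁆ = 1 := hquad g (Subgroup.pow_mem _ (Subgroup.mem_zpowers g₀) r)
  obtain ⟨K, hKn, hKC, hKp, hKe⟩ := D.exists_kernel hgH P inferInstance hP hgq
  -- the quotient by `K` and the core
  haveI := hKn
  set N := K ⊔ Cfsg.pCore p Z with hN
  let q := QuotientGroup.mk' N
  have hqs : Function.Surjective q := QuotientGroup.mk'_surjective N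
  have hq0 : ∀ x ∈ N, q x = 1 := fun x hx => (QuotientGroup.eq_one_iff x).mpr hx
  set Eb := E.map q with hEb
  set Hb := H.map q with hHb
  haveI : Hb.Normal := D.normal.map q hqs
  have hnz : ∀ x : Z, x ∈ Subgroup.normalizer (E : Set Z) → q x ∈ Subgroup.normalizer (Eb : Set (Z ⧸ N)) := fun x hx =>
    (Subgroup.le_normalizer_map (H := E) q) ⟨x, hx, rfl⟩
  haveI hEn : Eb.Normal := by
    rw [← Subgroup.normalizer_eq_top_iff, eq_top_iff, ← Subgroup.map_top_of_surjective q hqs, ← D.top]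
    rintro _ ⟨x, hx, rfl⟩
    revert x
    show H ⊔ Subgroup.zpowers a ≤ (Subgroup.normalizer (Eb : Set (Z ⧸ N))).comap q
    refine sup_le (fun x hx => ?_) (Subgroup.zpowers_le.mpr (hnz a D.anorm))
    obtain ⟨o, ho, e, he, c, hc, -, rfl⟩ := D.decomp x hx
    rw [Subgroup.mem_comap, map_mul, hq0 o (Subgroup.mem_sup_right ho), one_mul, map_mul]
    exact mul_mem (Subgroup.le_normalizer (Subgroup.mem_map_of_mem q he)) (hnz c hc)
  set Cg := Hb ⊓ Subgroup.centralizer (Eb : Set (Z ⧸ N)) with hCg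
  haveI : Cg.Normal := Subgroup.normal_inf_normal _ _
  have hgC : q g ∈ Cg := ⟨Subgroup.mem_map_of_mem q hgH, Subgroup.mem_centralizer_iff.mpr (by
    rintro _ ⟨e, he, rfl⟩
    refine commutatorElement_eq_one_iff_mul_comm.mp ?_
    rw [← map_commutatorElement, hq0 _ (Subgroup.mem_sup_left (hKe e he))])⟩
  set Zg := Eb.subgroupOf Cg with hZg
  have hcen : Zg ≤ Subgroup.center Cg := fun x hx => Subgroup.mem_center_iff.mpr fun u => Subtype.ext
    ((Subgroup.mem_centralizer_iff.mp u.2.2 x (Subgroup.mem_subgroupOf.mp hx)).symm)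
  haveI : Zg.Normal := Subgroup.Normal.subgroupOf hEn Cg
  have hQ : IsPGroup p (Cg ⧸ Zg) := by
    intro u
    obtain ⟨⟨u, ⟨x, hx, rfl⟩, hu⟩, rfl⟩ := QuotientGroup.mk_surjective u
    obtain ⟨k, hk⟩ := D.quot x hx
    refine ⟨k, (QuotientGroup.eq_one_iff _).mpr ?_⟩
    rw [Subgroup.mem_subgroupOf, Subgroup.coe_pow]
    show q x ^ p ^ k ∈ Eb
    rw [← map_pow]
    have hle : Cfsg.pCore p Z ⊔ E ≤ Eb.comap q := sup_le (fun o ho => by
      rw [Subgroup.mem_comap, hq0 o (Subgroup.mem_sup_right ho)]; exact one_mem Eb) (Subgroup.le_comap_map q E)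
    exact hle hk
  haveI : Group.IsNilpotent (Cg ⧸ Zg) := hQ.isNilpotent
  haveI : Group.IsNilpotent Cg := Subgroup.isNilpotent_of_ker_le_center (QuotientGroup.mk' Zg)
    (by rw [QuotientGroup.ker_mk']; exact hcen)
  have hgbp : (q g) ^ p ^ n₀ = 1 := by
    rw [← map_pow]
    refine hq0 _ (Subgroup.mem_sup_left (hKC ?_))
    rw [hgdef, ← pow_mul, mul_comm, pow_mul]
    exact pow_mem hn₀ r
  have hzp : IsPGroup p (Subgroup.zpowers (⟨q g, hgC⟩ : Cg)) := IsPGroup.of_card_dvd_pow (n := n₀) (by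
    rw [Nat.card_zpowers]; exact orderOf_dvd_of_pow_eq_one (Subtype.ext (by simpa using hgbp)))
  obtain ⟨S, hS⟩ := hzp.exists_le_sylow
  haveI : (S : Subgroup Cg).Normal :=
    Sylow.normal_of_normalizerCondition Group.normalizerCondition_of_isNilpotent S
  have hcore : q g ∈ Cfsg.pCore p (Z ⧸ N) :=
    PLocal.Cores.map_subtype_pCore_le Cg
      ⟨⟨q g, hgC⟩, PLocal.Cores.le_pCore S.isPGroup' (hS (Subgroup.mem_zpowers _)), rfl⟩
  -- back to `Z / C`
  have hCN : C ≤ N := hKC.trans le_sup_left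
  let f : Z ⧸ C →* Z ⧸ N := QuotientGroup.lift C q fun x hx => hq0 x (hCN hx)
  have hf : Function.Surjective f := fun y => by
    obtain ⟨x, rfl⟩ := hqs y
    exact ⟨QuotientGroup.mk x, rfl⟩
  have hfker : IsPGroup p f.ker := by
    intro u
    obtain ⟨u, hu⟩ := u
    obtain ⟨x, rfl⟩ := QuotientGroup.mk_surjective u
    have hxN : x ∈ N := (QuotientGroup.eq_one_iff x).mp hu
    obtain ⟨y, hy, o, ho, rfl⟩ : ∃ y ∈ K, ∃ o ∈ Cfsg.pCore p Z, y * o = x :=
      (Coprime.mem_sup_of_le_normalizer (N := K) (by rw [Subgroup.normalizer_eq_top]; exact le_top)).mp hxN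
    obtain ⟨i, hi⟩ := PLocal.Cores.isPGroup_pCore (⟨o, ho⟩ : Cfsg.pCore p Z)
    have hi' : o ^ p ^ i = 1 := by simpa using congrArg Subtype.val hi
    have hpow : (y * o) ^ p ^ i ∈ K := by
      have : QuotientGroup.mk' K ((y * o) ^ p ^ i) = 1 := by
        rw [map_pow, map_mul, show QuotientGroup.mk' K y = 1 from (QuotientGroup.eq_one_iff y).mpr hy, one_mul,
          ← map_pow, hi', map_one]
      exact (QuotientGroup.eq_one_iff _).mp this
    obtain ⟨k, hk⟩ := hKp _ hpow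
    refine ⟨i + k, Subtype.ext ?_⟩
    rw [Subgroup.coe_pow, Subgroup.coe_one, ← QuotientGroup.mk_pow, QuotientGroup.eq_one_iff, pow_add, pow_mul]
    exact hk
  have hmem : (QuotientGroup.mk g : Z ⧸ C) ∈ Cfsg.pCore p (Z ⧸ C) :=
    PLocal.Cores.comap_pCore_le hf hfker (show f (QuotientGroup.mk g) ∈ _ from hcore)
  -- `g₀` is a power of `g` modulo `C`
  have hb : ((QuotientGroup.mk g₀ : Z ⧸ C)) ^ p ^ n₀ = 1 := by
    rw [← QuotientGroup.mk_pow, QuotientGroup.eq_one_iff]; exact hn₀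
  obtain ⟨j, hj⟩ := exists_pow_eq_self_of_coprime
    (show r.Coprime (orderOf (QuotientGroup.mk g₀ : Z ⧸ C)) from
      (((Nat.coprime_primes D.rprime D.pprime).mpr D.rp).pow_right n₀).coprime_dvd_right
        (orderOf_dvd_of_pow_eq_one hb))
  rw [← hj, ← QuotientGroup.mk_pow]
  exact pow_mem hmem j

/-- The centre of the Thompson subgroup is normal. -/
theorem ZJData.zj_normal (D : ZJData a H E r p) (S : Sylow p Z) :
    (Cfsg.centerThompsonOf p (S : Subgroup Z)).Normal :=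
  PLocal.ZJCenter.centerThompson_normal D.ptwo D.constrained (fun P _ hP => D.stable P hP) S

end Cfsg.Agent.Lib.ShultFlavell
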