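import Cfsg.Agent.Lib.ShultFlavell.NC
import Cfsg.Agent.Lib.ShultFlavell.ZJNorm

/-!
Every proper invariant subgroup containing `E` has moved part `E`.
-/

set_option autoImplicit false
set_option linter.style.haveILetI false
set_option linter.unusedSectionVars false

namespace Cfsg.Agent.Lib.ShultFlavell

open Module (End)
open scoped commutatorElement

variable {K : Type*} [Field K] {W : Type*} [AddCommGroup W] [Module K W]
variable {Y : Type*} [Group Y] [Finite Y]
variable {ρ : Y →* End K W} {a : Y} {r p : ℕ} {G : Subgroup Y}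
variable [IsAlgClosed K] [FiniteDimensional K W] [Nontrivial W] [CharP K p]

theorem Ctx.exists_pow_pc (h : Ctx ρ a r p G) {X : Subgroup Y} (hX : X < G)
    (haX : a ∈ Subgroup.normalizer (X : Set Y)) :
    ∀ x ∈ ⁅X, Subgroup.zpowers a⁆, ∃ k : ℕ, x ^ 2 ^ k ∈ pc p X := by
  obtain ⟨N, hNT, hTN, hNp, hq⟩ := h.ih X hX haX
  have hTX : ⁅X, Subgroup.zpowers a⁆ ≤ X :=
    Coprime.commutator_le_of_le_normalizer (zpowers_le_normalizer haX)
  have hNO : N ≤ pc p X := (le_pc hNp hNT hTN).trans (le_pc pc_isP (pc_le.trans hTX)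
    ((Subgroup.normalizer_commutator_ge_left X _).trans normalizer_le_normalizer_pc))
  exact fun x hx => (hq x hx).imp fun k hk => hNO hk

/-- If the `p`-core is not moved, the moved part is `E`. -/
theorem Ctx.moved_eq_E (h : Ctx ρ a r p G) {X E : Subgroup Y} (hX : X < G)
    (haX : a ∈ Subgroup.normalizer (X : Set Y)) (hU : ⁅pc p X, Subgroup.zpowers a⁆ = ⊥)
    (hE : IsE a G E) (hEX : E ≤ X) : ⁅X, Subgroup.zpowers a⁆ = E := by
  classical
  haveI := Fact.mk h.pprime
  haveI : Fact (Nat.Prime 2) := ⟨Nat.prime_two⟩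
  set A := Subgroup.zpowers a with hA
  set T := ⁅X, A⁆ with hT
  have hTX : T ≤ X := Coprime.commutator_le_of_le_normalizer (zpowers_le_normalizer haX)
  have hTG : T ≤ G := hTX.trans hX.le
  set O := pc p X ⊓ T with hO
  have hOfix : ⁅O, A⁆ = ⊥ := le_bot_iff.mp ((Subgroup.commutator_mono inf_le_left le_rfl).trans hU.le)
  have hOn : T ≤ Subgroup.normalizer (O : Set Y) := fun t ht =>
    mem_normalizer_inf (le_normalizer_pc (hTX ht)) (Subgroup.le_normalizer ht)
  have hgen : ⁅T, A⁆ = T := h.comm_idem hX.le haX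
  have hcen : ⁅T, O⁆ = ⊥ := by
    have h2 : ⁅⁅O, T⁆, A⁆ = ⊥ := le_bot_iff.mp ((Subgroup.commutator_mono
      (Subgroup.le_normalizer_iff_commutator_le_left.mp hOn) le_rfl).trans hOfix.le)
    have h1 : ⁅⁅A, O⁆, T⁆ = ⊥ := by rw [Subgroup.commutator_comm A, hOfix, Subgroup.commutator_bot_left]
    have h3 := Subgroup.commutator_commutator_eq_bot_of_rotate (H₁ := T) (H₂ := A) (H₃ := O) h1 h2
    rwa [hgen] at h3
  have hOc : ∀ t ∈ T, ∀ o ∈ O, t * o = o * t := fun t ht o ho =>
    commutatorElement_eq_one_iff_mul_comm.mp ((Subgroup.eq_bot_iff_forall _).mp hcen _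
      (Subgroup.commutator_mem_commutator ht ho))
  set O' := O.subgroupOf T
  haveI : O'.Normal := (Subgroup.normal_subgroupOf_iff_le_normalizer inf_le_right).mpr hOn
  have hQ : IsPGroup 2 (T ⧸ O') := by
    intro u
    obtain ⟨x, rfl⟩ := QuotientGroup.mk_surjective u
    obtain ⟨k, hk⟩ := h.exists_pow_pc hX haX x x.2
    refine ⟨k, (QuotientGroup.eq_one_iff (x ^ 2 ^ k)).mpr ?_⟩
    rw [Subgroup.mem_subgroupOf, Subgroup.coe_pow]
    exact ⟨hk, pow_mem x.2 _⟩
  haveI : Group.IsNilpotent (T ⧸ O') := hQ.isNilpotent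
  haveI : Group.IsNilpotent T := Subgroup.isNilpotent_of_ker_le_center (QuotientGroup.mk' O') (by
    rw [QuotientGroup.ker_mk']
    exact fun x hx => Subgroup.mem_center_iff.mpr fun u => Subtype.ext
      (hOc u u.2 x (Subgroup.mem_subgroupOf.mp hx)))
  obtain ⟨S⟩ : Nonempty (Sylow 2 T) := inferInstance
  haveI : (S : Subgroup T).Normal :=
    Sylow.normal_of_normalizerCondition Group.normalizerCondition_of_isNilpotent S
  obtain ⟨j, hj⟩ := IsPGroup.iff_card.mp ((pc_isP (l := p) (X := X)).to_le (inf_le_left : O ≤ pc p X))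
  have hsplit : ∀ x ∈ T, ∃ q ∈ pc 2 T, ∃ o ∈ O, x = q * o := by
    intro x hx
    obtain ⟨k, hk⟩ := h.exists_pow_pc hX haX x hx
    obtain ⟨u, v, huv⟩ : ∃ u v : ℤ, u * (p ^ j : ℕ) + v * (2 ^ k : ℕ) = 1 :=
      Nat.isCoprime_iff_coprime.mpr (((Nat.coprime_primes h.pprime Nat.prime_two).mpr h.fermat.1).pow j k)
    have ho : x ^ 2 ^ k ∈ O := ⟨hk, pow_mem hx _⟩
    refine ⟨(x ^ p ^ j) ^ u, zpow_mem ?_ u, (x ^ 2 ^ k) ^ v, zpow_mem ho v, ?_⟩
    · have h1 : (x ^ p ^ j) ^ 2 ^ k = 1 := by
        rw [← pow_mul, mul_comm, pow_mul, ← hj]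
        have := pow_card_eq_one' (x := (⟨_, ho⟩ : O))
        exact congrArg Subtype.val this
      have h2 : IsPGroup 2 (Subgroup.zpowers (⟨x ^ p ^ j, pow_mem hx _⟩ : T)) :=
        IsPGroup.of_card_dvd_pow (n := k) (by
          rw [Nat.card_zpowers]; exact orderOf_dvd_of_pow_eq_one (Subtype.ext (by rw [Subgroup.coe_pow]; exact h1)))
      obtain ⟨S', hS'⟩ := h2.exists_le_sylow
      haveI : (S' : Subgroup T).Normal :=
        Sylow.normal_of_normalizerCondition Group.normalizerCondition_of_isNilpotent S'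
      exact ⟨⟨x ^ p ^ j, pow_mem hx _⟩, PLocal.Cores.le_pCore S'.isPGroup' (hS' (Subgroup.mem_zpowers _)), rfl⟩
    · rw [← zpow_natCast x (p ^ j), ← zpow_natCast x (2 ^ k), ← zpow_mul, ← zpow_mul, ← zpow_add, mul_comm,
        mul_comm _ v, huv, zpow_one]
  have hT2 : IsPGroup 2 T := by
    refine (pc_isP (l := 2) (X := T)).to_le ?_
    conv_lhs => rw [← hgen]
    refine (Coprime.commutator_le_of_forall_eq_mul fun x hx => ?_).trans
      (Coprime.commutator_le_of_le_normalizer (zpowers_le_normalizer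
        (normalizer_le_normalizer_pc (Ctx.comm_norm haX))))
    obtain ⟨q, hq, o, ho, rfl⟩ := hsplit x hx
    exact ⟨q, hq, o, mem_centralizer_zpowers.mpr
      (comm_of_zpowers_eq_bot hOfix o ho).symm, rfl⟩
  have hET : E ≤ T := (hE.gen h).symm.le.trans (Subgroup.commutator_mono hEX le_rfl)
  rw [← hgen]
  exact hE.eq_comm_of_le h hET hTG hT2 (Ctx.comm_norm haX)

set_option maxHeartbeats 1000000 in
/-- Every proper invariant subgroup containing `E` has moved part `E`. -/
theorem Ctx.stable (h : Ctx ρ a r p G) {Z0 E : Subgroup Y} (hZ : Z0 < G)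
    (haZ : a ∈ Subgroup.normalizer (Z0 : Set Y)) (hE : IsE a G E) (hEZ : E ≤ Z0) :
    ⁅Z0, Subgroup.zpowers a⁆ = E := by
  classical
  haveI := Fact.mk h.pprime
  haveI : Fact (Nat.Prime 2) := ⟨Nat.prime_two⟩
  suffices hno : ∀ X E : Subgroup Y, MaxInv a G X → IsE a G E → E ≤ X →
      ⁅pc p X, Subgroup.zpowers a⁆ = ⊥ by
    obtain ⟨X, hZX, hX⟩ := exists_maxInv hZ haZ
    refine le_antisymm ?_ ((hE.gen h).symm.le.trans (Subgroup.commutator_mono hEZ le_rfl))
    exact (Subgroup.commutator_mono hZX le_rfl).trans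
      (h.moved_eq_E hX.lt hX.norm (hno X E hX hE (hEZ.trans hZX)) hE (hEZ.trans hZX)).le
  clear hEZ hE haZ hZ Z0 E
  intro X1 E1 hX1 hE1 hEX1
  by_contra hU1
  obtain ⟨X, ⟨hX, E, hE, hEX, hU⟩, hmaxX⟩ := Set.exists_max_image {X : Subgroup Y | MaxInv a G X ∧
      ∃ E, IsE a G E ∧ E ≤ X ∧ ⁅pc p X, Subgroup.zpowers a⁆ ≠ ⊥}
    (fun X => (Nat.card X).factorization p) (Set.toFinite _) ⟨X1, hX1, E1, hE1, hEX1, hU1⟩
  have hD : ⁅pc 2 X, Subgroup.zpowers a⁆ = ⊥ := (h.maxInv_cases hX).resolve_left hU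
  set T := ⁅X, Subgroup.zpowers a⁆ with hT
  have hTX : T ≤ X := Coprime.commutator_le_of_le_normalizer (zpowers_le_normalizer hX.norm)
  have hTG : T ≤ G := hTX.trans hX.lt.le
  have hgen : ⁅T, Subgroup.zpowers a⁆ = T := h.comm_idem hX.lt.le hX.norm
  have haT : a ∈ Subgroup.normalizer (T : Set Y) := Ctx.comm_norm hX.norm
  have hXT : X ≤ Subgroup.normalizer (T : Set Y) := Subgroup.normalizer_commutator_ge_left X _
  have hET : E ≤ T := (hE.gen h).symm.le.trans (Subgroup.commutator_mono hEX le_rfl)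
  have hEM := hE.moved h
  set O := pc p X ⊓ T with hO
  have hOn : X ≤ Subgroup.normalizer (O : Set Y) := fun x hx =>
    mem_normalizer_inf (le_normalizer_pc hx) (hXT hx)
  have hOp : IsPGroup p O := pc_isP.to_le inf_le_left
  -- the Sylow `2`-subgroup of `T`
  obtain ⟨S, hES, haS⟩ := Coprime.exists_invariant_sylow_ge (zpowers_le_normalizer haT) (h.coprime hTG)
    (Or.inl (Fpf.zpowers_solvable a)) hET (hE.isP h) (zpowers_le_normalizer hE.norm)
  set ST := (S : Subgroup T).map T.subtype with hST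
  have haST : a ∈ Subgroup.normalizer (ST : Set Y) := haS (Subgroup.mem_zpowers a)
  have hST2 : IsPGroup 2 ST := S.isPGroup'.map _
  have hSTT : ST ≤ T := Subgroup.map_subtype_le _
  have hSTE : ⁅ST, Subgroup.zpowers a⁆ = E := hE.eq_comm_of_le h hES (hSTT.trans hTG) hST2 haST
  have hTOS : T ≤ O ⊔ ST := by
    set O' := O.subgroupOf T
    haveI : O'.Normal := (Subgroup.normal_subgroupOf_iff_le_normalizer inf_le_right).mpr (hTX.trans hOn)
    have hQ : IsPGroup 2 (T ⧸ O') := by
      intro u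
      obtain ⟨x, rfl⟩ := QuotientGroup.mk_surjective u
      obtain ⟨k, hk⟩ := h.exists_pow_pc hX.lt hX.norm x x.2
      refine ⟨k, (QuotientGroup.eq_one_iff (x ^ 2 ^ k)).mpr ?_⟩
      rw [Subgroup.mem_subgroupOf, Subgroup.coe_pow]
      exact ⟨hk, pow_mem x.2 _⟩
    obtain ⟨n, hn⟩ := IsPGroup.iff_card.mp hQ
    have h1 : (O' ⊔ (S : Subgroup T)).index = 1 := by
      refine Nat.eq_one_of_dvd_coprimes ?_ (Subgroup.index_dvd_of_le (le_sup_left (a := O')))
        (Subgroup.index_dvd_of_le (le_sup_right (b := (S : Subgroup T))))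
      rw [show O'.index = 2 ^ n from hn]
      exact Nat.Coprime.pow_left _ ((Nat.prime_two.coprime_iff_not_dvd).mpr S.not_dvd_index)
    intro x hx
    have h2 : (⟨x, hx⟩ : T) ∈ O' ⊔ (S : Subgroup T) := Subgroup.index_eq_one.mp h1 ▸ Subgroup.mem_top _
    obtain ⟨o, ho, q, hq, e⟩ := Subgroup.mem_sup_of_normal_left.mp h2
    rw [show x = (o : Y) * q from (congrArg Subtype.val e).symm]
    exact mul_mem (Subgroup.mem_sup_left ho) (Subgroup.mem_sup_right ⟨q, hq, rfl⟩)
  have hSn : ST ≤ Subgroup.normalizer (E : Set Y) := hSTE ▸ Subgroup.normalizer_commutator_ge_left ST _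
  have hTOE : T ≤ O ⊔ E := by
    have haOE : a ∈ Subgroup.normalizer ((O ⊔ E : Subgroup Y) : Set Y) :=
      mem_normalizer_sup (mem_normalizer_inf (normalizer_le_normalizer_pc hX.norm) haT) hE.norm
    conv_lhs => rw [← hgen]
    refine (Coprime.commutator_le_of_forall_eq_mul fun x hx => ?_).trans
      (Coprime.commutator_le_of_le_normalizer (zpowers_le_normalizer haOE))
    obtain ⟨o, ho, s, hs, rfl⟩ :=
      (Coprime.mem_sup_of_le_normalizer (N := O) (H := ST) (hSTT.trans (hTX.trans hOn))).mp (hTOS hx)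
    obtain ⟨c, hc, e, he, rfl⟩ := Coprime.exists_eq_centralizer_mul_commutator (zpowers_le_normalizer haST)
      (h.coprime (hSTT.trans hTG)) (Or.inl (Fpf.zpowers_solvable a)) hs
    rw [hSTE] at he
    refine ⟨o * (c * e * c⁻¹), mul_mem (Subgroup.mem_sup_left ho)
      (Subgroup.mem_sup_right ((Subgroup.mem_normalizer_iff.mp (hSn hc.1) e).mp he)), c, hc.2, ?_⟩
    group
  have hSTeq : ST = E := by
    refine le_antisymm (fun x hx => ?_) hES
    obtain ⟨o, ho, e, he, rfl⟩ :=
      (Coprime.mem_sup_of_le_normalizer (N := O) (H := E) (hET.trans (hTX.trans hOn))).mp (hTOE (hSTT hx))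
    have h1 : o ∈ ST := by
      have := mul_mem hx (inv_mem (hES he))
      rwa [mul_inv_cancel_right] at this
    rw [(Subgroup.eq_bot_iff_forall _).mp (disjoint_iff.mp (IsPGroup.disjoint_of_ne p 2 h.fermat.1 O ST hOp hST2))
      o ⟨ho, h1⟩, one_mul]
    exact he
  -- the group `Dz`
  set Dz := pc 2 X ⊓ T ⊓ Subgroup.centralizer (pc p X : Set Y) with hDz
  have hDz2 : IsPGroup 2 Dz := pc_isP.to_le (inf_le_left.trans inf_le_left)
  have hDzn : X ⊔ Subgroup.zpowers a ≤ Subgroup.normalizer (Dz : Set Y) := by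
    have hgen' : ∀ x, x ∈ Subgroup.normalizer (X : Set Y) → x ∈ Subgroup.normalizer (T : Set Y) →
        x ∈ Subgroup.normalizer (Dz : Set Y) := fun x hx hxT =>
      mem_normalizer_inf (mem_normalizer_inf (normalizer_le_normalizer_pc hx) hxT)
        (mem_normalizer_centralizer (normalizer_le_normalizer_pc hx))
    exact sup_le (fun x hx => hgen' x (Subgroup.le_normalizer hx) (hXT hx))
      (Subgroup.zpowers_le.mpr (hgen' a hX.norm haT))
  have hDzE : Dz ≤ E := by
    rw [← hSTeq]
    haveI : (Dz.subgroupOf T).Normal :=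
      (Subgroup.normal_subgroupOf_iff_le_normalizer (inf_le_left.trans inf_le_right)).mpr
        ((hTX.trans le_sup_left).trans hDzn)
    haveI : (Subgroup.comap T.subtype Dz).Normal := ‹(Dz.subgroupOf T).Normal›
    intro x hx
    exact ⟨⟨x, hx.1.2⟩, (hDz2.comap_subtype (K := T)).le_sylow_of_normal S (Subgroup.mem_subgroupOf.mpr hx), rfl⟩
  have hDza : ∀ x ∈ Dz, a * x = x * a := fun x hx => comm_of_zpowers_eq_bot hD x hx.1.1
  have hDzc : ∀ x ∈ Dz, x ∈ ctr E := fun x hx => (hEM.mem_ctr_iff_fixed (hDzE hx)).mpr (hDza x hx)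
  -- the Sylow `p`-subgroup
  obtain ⟨Q, hQ⟩ := Coprime.exists_invariant_sylow p (zpowers_le_normalizer hX.norm) (h.coprime hX.lt.le)
    (Or.inl (Fpf.zpowers_solvable a))
  set P0 := (Q : Subgroup X).map X.subtype with hP0
  have haP0 : a ∈ Subgroup.normalizer (P0 : Set Y) := hQ (Subgroup.mem_zpowers a)
  have hP0X : P0 ≤ X := Subgroup.map_subtype_le _
  have hP0G : P0 ≤ G := hP0X.trans hX.lt.le
  have hP0p : IsPGroup p P0 := Q.isPGroup'.map _
  have hP0card : Nat.card P0 = p ^ (Nat.card X).factorization p := by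
    rw [hP0, Subgroup.card_map_of_injective X.subtype_injective, Q.card_eq_multiplicity]
  have hpcP0 : pc p X ≤ P0 := Subgroup.map_mono (PLocal.Cores.pCore_le_sylow Q)
  have hU0 : ⁅P0, Subgroup.zpowers a⁆ ≤ O :=
    le_inf (h.movedP_le_pc hX.lt hX.norm hP0p hP0X haP0) (Subgroup.commutator_mono hP0X le_rfl)
  have hP0ne : P0 ≠ ⊥ := fun e => hU (by
    rw [le_bot_iff.mp (hpcP0.trans e.le), Subgroup.commutator_bot_left])
  obtain ⟨P, hP0P, hPa⟩ := Coprime.exists_invariant_sylow_ge h.A_norm (h.coprime le_rfl)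
    (Or.inl (Fpf.zpowers_solvable a)) hP0G hP0p (zpowers_le_normalizer haP0)
  set PY := (P : Subgroup G).map G.subtype with hPY
  rcases hP0P.lt_or_eq with hlt | heq
  swap
  · refine h.not_both hX.lt hX.norm hE hEX P (hPa (Subgroup.mem_zpowers a)) ?_
    show ⁅PY, Subgroup.zpowers a⁆ ≤ X
    rw [← heq]
    exact (hU0.trans inf_le_right).trans hTX
  -- the group `H⁺ / Dz`
  set H := T ⊔ P0 with hH
  have hHX : H ≤ X := sup_le hTX hP0X
  have haH : a ∈ Subgroup.normalizer (H : Set Y) := mem_normalizer_sup haT haP0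
  set Hp := H ⊔ Subgroup.zpowers a with hHp
  set D' := Dz.subgroupOf Hp with hD'
  have hHpX : Hp ≤ X ⊔ Subgroup.zpowers a := sup_le_sup_right hHX _
  haveI : D'.Normal := (Subgroup.normal_subgroupOf_iff_le_normalizer
    (inf_le_left.trans (inf_le_right.trans (le_sup_left.trans le_sup_left)))).mpr (hHpX.trans hDzn)
  let f : Hp →* Hp ⧸ D' := QuotientGroup.mk' D'
  have hfs : Function.Surjective f := QuotientGroup.mk'_surjective D'
  have hf1 : ∀ x : Hp, f x = 1 ↔ (x : Y) ∈ Dz := fun x => by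
    show (QuotientGroup.mk x : Hp ⧸ D') = 1 ↔ _
    rw [QuotientGroup.eq_one_iff, hD', Subgroup.mem_subgroupOf]
  let aH : Hp := ⟨a, Subgroup.mem_sup_right (Subgroup.mem_zpowers a)⟩
  have hHHp : H ≤ Hp := le_sup_left
  have hEHp : E ≤ Hp := hET.trans (le_sup_left.trans hHHp)
  let img : Subgroup Y → Subgroup (Hp ⧸ D') := fun S => (S.subgroupOf Hp).map f
  have himg : ∀ {S : Subgroup Y} (x : Hp), (x : Y) ∈ S → f x ∈ img S := fun x hx =>
    Subgroup.mem_map_of_mem f (Subgroup.mem_subgroupOf.mpr hx)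
  have hOle : O ≤ Hp := inf_le_right.trans (le_sup_left.trans hHHp)
  have hOcore : img O ≤ Cfsg.pCore p (Hp ⧸ D') := by
    have hOna : Hp ≤ Subgroup.normalizer (O : Set Y) := hHpX.trans (sup_le hOn
      (Subgroup.zpowers_le.mpr (mem_normalizer_inf (normalizer_le_normalizer_pc hX.norm) haT)))
    haveI : (O.subgroupOf Hp).Normal := (Subgroup.normal_subgroupOf_iff_le_normalizer hOle).mpr hOna
    haveI : (img O).Normal := Subgroup.Normal.map inferInstance f hfs
    exact PLocal.Cores.le_pCore ((hOp.comap_subtype (K := Hp)).map f)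
  have hmem_img : ∀ {S : Subgroup Y} (u : Hp ⧸ D'), u ∈ img S → ∃ x : Hp, (x : Y) ∈ S ∧ f x = u := by
    rintro S _ ⟨x, hx, rfl⟩
    exact ⟨x, hx, rfl⟩
  -- decompositions
  have hHdec : ∀ g ∈ H, ∃ o ∈ O, ∃ e ∈ E, ∃ c ∈ H, c ∈ Subgroup.normalizer (E : Set Y) ∧ Commute c a ∧
      g = o * (e * c) := by
    intro g hg
    obtain ⟨t, ht, g', hg', rfl⟩ := (Coprime.mem_sup_of_le_normalizer (N := T) (H := P0) (hP0X.trans hXT)).mp hg
    obtain ⟨c, hc, u, hu, rfl⟩ := Coprime.exists_eq_centralizer_mul_commutator (zpowers_le_normalizer haP0)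
      (h.coprime hP0G) (Or.inl (Fpf.zpowers_solvable a)) hg'
    have hca : Commute c a := mem_centralizer_zpowers.mp hc.2
    -- a Frattini argument
    let E2 := E.map ((MulAut.conj c : Y ≃* Y) : Y →* Y)
    have hE2T : E2 ≤ T := (Subgroup.map_mono hET).trans
      (le_of_eq (Subgroup.mem_normalizer_iff_map_conj_eq.mp (hXT (hP0X hc.1))))
    have hcardE : Nat.card E = Nat.card S := by
      rw [← hSTeq, hST, Subgroup.card_map_of_injective T.subtype_injective]
    have hE2card : Nat.card E2 = Nat.card E := Subgroup.card_map_of_injective (MulEquiv.injective _)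
    let S2 : Sylow 2 T := Sylow.ofCard (E2.subgroupOf T) (by
      rw [Nat.card_congr (Subgroup.subgroupOfEquivOfLe hE2T).toEquiv, hE2card, hcardE, S.card_eq_multiplicity])
    have hS2 : (S2 : Subgroup T).map T.subtype = E2 := by
      simp only [S2, Sylow.coe_ofCard, Subgroup.map_subgroupOf_eq_of_le hE2T]
    have haE2 : Subgroup.zpowers a ≤ Subgroup.normalizer (((S2 : Subgroup T).map T.subtype : Subgroup Y) : Set Y) := by
      rw [hS2]
      refine Subgroup.zpowers_le.mpr (mem_normalizer_of_conj_mem ?_)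
      rintro _ ⟨x, hx, rfl⟩
      refine ⟨a * x * a⁻¹, (Subgroup.mem_normalizer_iff.mp hE.norm x).mp hx, ?_⟩
      show c * (a * x * a⁻¹) * c⁻¹ = a * (c * x * c⁻¹) * a⁻¹
      calc c * (a * x * a⁻¹) * c⁻¹ = (c * a) * x * (c * a)⁻¹ := by group
        _ = _ := by rw [hca.eq]; group
    obtain ⟨t1, ht1, ht1S⟩ := Coprime.exists_centralizer_conj_sylow (zpowers_le_normalizer haT) (h.coprime hTG)
      (Or.inl (Fpf.zpowers_solvable a)) S S2 haS haE2
    have ht1E : E.map ((MulAut.conj (t1 : Y) : Y ≃* Y) : Y →* Y) = E2 := by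
      rw [← hS2, ← ht1S, Coprime.sylow_map_smul, Coprime.conj_smul_eq_map, ← hST, hSTeq]
      rfl
    set c0 := (t1 : Y)⁻¹ * c with hc0
    have hc0E : c0 ∈ Subgroup.normalizer (E : Set Y) := by
      refine mem_normalizer_of_conj_mem fun x hx => ?_
      have h1 : c * x * c⁻¹ ∈ E.map ((MulAut.conj (t1 : Y) : Y ≃* Y) : Y →* Y) := ht1E ▸ ⟨x, hx, rfl⟩
      obtain ⟨y, hy, hye⟩ := h1
      have hye' : (t1 : Y) * y * (t1 : Y)⁻¹ = c * x * c⁻¹ := hye
      rw [hc0, show (t1 : Y)⁻¹ * c * x * ((t1 : Y)⁻¹ * c)⁻¹ = (t1 : Y)⁻¹ * (c * x * c⁻¹) * t1 by group, ← hye',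
        show (t1 : Y)⁻¹ * ((t1 : Y) * y * (t1 : Y)⁻¹) * t1 = y by group]
      exact hy
    have hc0a : Commute c0 a := (mem_centralizer_zpowers.mp ht1).inv_left.mul_left hca
    have hc0H : c0 ∈ H := mul_mem (inv_mem (Subgroup.mem_sup_left t1.2)) (Subgroup.mem_sup_right hc.1)
    obtain ⟨o', ho', e', he', hoe⟩ := (Coprime.mem_sup_of_le_normalizer (N := O) (H := E)
      (hET.trans (hTX.trans hOn))).mp (hTOE (mul_mem ht t1.2))
    have hu' : c0 * u * c0⁻¹ ∈ O := (Subgroup.mem_normalizer_iff.mp (hOn (hHX hc0H)) u).mp (hU0 hu)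
    refine ⟨o' * (e' * (c0 * u * c0⁻¹) * e'⁻¹),
      mul_mem ho' ((Subgroup.mem_normalizer_iff.mp (hOn (hEX he')) _).mp hu'), e', he', c0, hc0H, hc0E, hc0a, ?_⟩
    calc t * (c * u) = t * (t1 : Y) * c0 * u := by rw [hc0]; group
      _ = o' * e' * c0 * u := by rw [hoe]
      _ = _ := by group
  have hcom_img : ⁅img E, img E⁆ = img ⁅E, E⁆ := by
    show ⁅(E.subgroupOf Hp).map f, (E.subgroupOf Hp).map f⁆ = (⁅E, E⁆.subgroupOf Hp).map f
    rw [← Subgroup.map_commutator]
    congr 1
    apply Subgroup.map_injective Hp.subtype_injective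
    rw [Subgroup.map_commutator, Subgroup.map_subgroupOf_eq_of_le hEHp,
      Subgroup.map_subgroupOf_eq_of_le ((Subgroup.commutator_le_self E).trans hEHp)]
  have hD : ZJData (f aH) (img H) (img E) r p := by
    refine ⟨h.pprime, h.fermat.1, h.fpf.prime, fun e => h.ne_r e.symm, fun hp3 => ?_, ?_, ?_, ?_, ?_, ?_, ?_, ?_, ?_,
      ?_, ?_, ?_, ?_, ?_, ?_, ?_⟩
    · obtain ⟨-, m, hm, hr⟩ := h.fermat
      have h2 : 2 ≤ 2 ^ m := by
        calc 2 = 2 ^ 1 := rfl
          _ ≤ _ := Nat.pow_le_pow_right (by norm_num) hm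
      have h3 : r ≠ 3 := fun e => h.ne_r (hp3.trans e.symm)
      have h4 : r ≠ 4 := fun e => absurd h.fpf.prime (e ▸ by norm_num)
      omega
    · rw [← map_pow, show aH ^ r = 1 from Subtype.ext h.fpf.pow, map_one]
    · haveI : (H.subgroupOf Hp).Normal := (Subgroup.normal_subgroupOf_iff_le_normalizer hHHp).mpr
        (sup_le Subgroup.le_normalizer (zpowers_le_normalizer haH))
      exact Subgroup.Normal.map inferInstance f hfs
    · rw [eq_top_iff]
      intro u _
      obtain ⟨⟨x, hx⟩, rfl⟩ := hfs u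
      obtain ⟨g, hg, b, hb, rfl⟩ := (Coprime.mem_sup_of_le_normalizer (N := H) (H := Subgroup.zpowers a)
        (zpowers_le_normalizer haH)).mp hx
      obtain ⟨i, rfl⟩ := Subgroup.mem_zpowers_iff.mp hb
      rw [show (⟨g * a ^ i, hx⟩ : Hp) = ⟨g, hHHp hg⟩ * aH ^ i from Subtype.ext (by simp [aH]), map_mul, map_zpow]
      exact mul_mem (Subgroup.mem_sup_left (himg ⟨g, hHHp hg⟩ hg))
        (Subgroup.mem_sup_right (Subgroup.zpow_mem _ (Subgroup.mem_zpowers _) i))
    · intro u hu
      obtain ⟨⟨x, hxp⟩, hx, rfl⟩ := hmem_img u hu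
      obtain ⟨o, ho, e, he, c, hc, hcE, hca, hxe⟩ := hHdec x hx
      refine ⟨_, hOcore (himg ⟨o, hOle ho⟩ ho), _, himg ⟨e, hEHp he⟩ he, f ⟨c, hHHp hc⟩, ?_, ?_, ?_⟩
      · refine (Subgroup.le_normalizer_map (H := E.subgroupOf Hp) f) ⟨⟨c, hHHp hc⟩, ?_, rfl⟩
        rw [← Subgroup.subgroupOf_normalizer_eq hEHp]
        exact Subgroup.mem_subgroupOf.mpr hcE
      · exact Commute.map (show Commute (⟨c, hHHp hc⟩ : Hp) aH from Subtype.ext hca.eq) f
      · rw [← map_mul, ← map_mul]
        exact congrArg f (Subtype.ext hxe)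
    · intro u hu
      obtain ⟨⟨x, hxp⟩, hx, rfl⟩ := hmem_img u hu
      obtain ⟨j, hj⟩ := IsPGroup.iff_card.mp hP0p
      have h1 : x ^ p ^ j ∈ T := by
        have hTn : T.subgroupOf H |>.Normal :=
          (Subgroup.normal_subgroupOf_iff_le_normalizer le_sup_left).mpr (hHX.trans hXT)
        let q := QuotientGroup.mk' (T.subgroupOf H)
        obtain ⟨t, ht, g, hg, hxe⟩ := (Coprime.mem_sup_of_le_normalizer (N := T) (H := P0) (hP0X.trans hXT)).mp hx
        have hx' : q ⟨x, hx⟩ = q ⟨g, Subgroup.mem_sup_right hg⟩ := by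
          rw [← mul_inv_eq_one, ← map_inv, ← map_mul]
          refine (QuotientGroup.eq_one_iff _).mpr (Subgroup.mem_subgroupOf.mpr ?_)
          show x * g⁻¹ ∈ T
          rw [← (show t * g = x from hxe), mul_inv_cancel_right]; exact ht
        have hgp : g ^ p ^ j = 1 := by
          rw [← hj]
          have := pow_card_eq_one' (x := (⟨g, hg⟩ : P0))
          exact congrArg Subtype.val this
        have h2 : q (⟨x, hx⟩ ^ p ^ j) = 1 := by
          rw [map_pow, hx', ← map_pow,
            show (⟨g, Subgroup.mem_sup_right hg⟩ : H) ^ p ^ j = 1 from Subtype.ext hgp, map_one]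
        exact Subgroup.mem_subgroupOf.mp ((QuotientGroup.eq_one_iff _).mp h2)
      obtain ⟨o, ho, e, he, hoe⟩ :=
        (Coprime.mem_sup_of_le_normalizer (N := O) (H := E) (hET.trans (hTX.trans hOn))).mp (hTOE h1)
      refine ⟨j, ?_⟩
      rw [← map_pow, show (⟨x, hxp⟩ : Hp) ^ p ^ j = ⟨o, hOle ho⟩ * ⟨e, hEHp he⟩ from Subtype.ext hoe.symm, map_mul]
      exact mul_mem (Subgroup.mem_sup_left (hOcore (himg ⟨o, hOle ho⟩ ho)))
        (Subgroup.mem_sup_right (himg ⟨e, hEHp he⟩ he))
    · exact Subgroup.map_mono (Subgroup.comap_mono (hET.trans le_sup_left))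
    · exact ((hE.isP h).comap_subtype (K := Hp)).map f
    · refine (Subgroup.le_normalizer_map (H := E.subgroupOf Hp) f) ⟨aH, ?_, rfl⟩
      rw [← Subgroup.subgroupOf_normalizer_eq hEHp]
      exact Subgroup.mem_subgroupOf.mpr hE.norm
    · refine Nat.Coprime.coprime_dvd_left ?_ (Nat.Coprime.coprime_dvd_right ?_ (h.coprime (hE.le h)))
      · rw [Nat.card_zpowers, Nat.card_zpowers]
        exact (orderOf_map_dvd f aH).trans (Subgroup.orderOf_coe aH).symm.dvd
      · exact (Subgroup.card_map_dvd (E.subgroupOf Hp) f).trans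
          (Nat.card_congr (Subgroup.subgroupOfEquivOfLe hEHp).toEquiv).dvd
    · intro u hu v hv
      rw [hcom_img] at hu
      obtain ⟨x, hx, rfl⟩ := hmem_img u hu
      obtain ⟨y, hy, rfl⟩ := hmem_img v hv
      rw [← hEM.ctr_eq] at hx
      exact Commute.map (show Commute x y from Subtype.ext ((mem_ctr.mp hx).2 y hy).symm) f
    · intro u hu
      rw [hcom_img] at hu
      obtain ⟨x, hx, rfl⟩ := hmem_img u hu
      rw [← hEM.ctr_eq] at hx
      rw [← map_mul, show x * x = 1 from Subtype.ext (hEM.ctr_sq hx), map_one]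
    · intro u hu
      obtain ⟨x, hx, rfl⟩ := hmem_img u hu
      rw [hcom_img, ← map_mul]
      refine himg (x * x) ?_
      rw [Subgroup.coe_mul, ← hEM.ctr_eq, ← pow_two]
      exact hEM.sq_mem_ctr hx
    · intro u hu hua
      obtain ⟨x, hx, rfl⟩ := hmem_img u hu
      rw [hcom_img]
      refine himg x ?_
      rw [← hEM.ctr_eq]
      have h1 : (x : Y)⁻¹ * (a * x * a⁻¹) ∈ Dz := by
        have h2 : f (x⁻¹ * (aH * x * aH⁻¹)) = 1 := by
          rw [map_mul, map_mul, map_mul, map_inv, map_inv, ← hua.eq, mul_inv_cancel_right, inv_mul_cancel]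
        exact (hf1 _).mp h2
      -- a fixed point in the coset of the centre
      have hca : a ∈ Subgroup.normalizer (ctr E : Set Y) :=
        mem_normalizer_inf hE.norm (mem_normalizer_centralizer hE.norm)
      obtain ⟨n, hn, hxn⟩ := Coprime.exists_fixed_in_coset (k := (x : Y)) (zpowers_le_normalizer hca)
        (h.coprime (inf_le_left.trans (hE.le h))) (Or.inl (Fpf.zpowers_solvable a)) (fun b hb => by
          have hS : Subgroup.zpowers a ≤ (⟨⟨⟨{g | g ∈ Subgroup.normalizer (ctr E : Set Y) ∧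
              (x : Y)⁻¹ * (g * x * g⁻¹) ∈ ctr E}, fun {g g'} hg hg' => ⟨mul_mem hg.1 hg'.1, by
              have h3 := mul_mem hg.2 ((Subgroup.mem_normalizer_iff.mp hg.1 _).mp hg'.2)
              rwa [show (x : Y)⁻¹ * (g * x * g⁻¹) * (g * ((x : Y)⁻¹ * (g' * x * g'⁻¹)) * g⁻¹) =
                (x : Y)⁻¹ * (g * g' * x * (g * g')⁻¹) by group] at h3⟩⟩, ⟨one_mem _, by simp⟩⟩, fun {g} hg => ⟨inv_mem hg.1, by
              have h4 := inv_mem ((Subgroup.mem_normalizer_iff''.mp hg.1 _).mp hg.2)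
              rwa [show (g⁻¹ * ((x : Y)⁻¹ * (g * x * g⁻¹)) * g)⁻¹ = (x : Y)⁻¹ * (g⁻¹ * x * g⁻¹⁻¹) by group] at h4⟩⟩ :
              Subgroup Y) := Subgroup.zpowers_le.mpr ⟨hca, hDzc _ h1⟩
          exact (hS hb).2)
      have h5 : (x : Y) * n ∈ ctr E :=
        (hEM.mem_ctr_iff_fixed (mul_mem hx hn.1)).mpr (mem_centralizer_zpowers.mp hxn).symm.eq
      have := mul_mem h5 (inv_mem hn)
      rwa [mul_inv_cancel_right] at this
    · intro u hu
      rw [hcom_img] at hu
      obtain ⟨x, hx, rfl⟩ := hmem_img u hu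
      rw [← hEM.ctr_eq] at hx
      exact Commute.map (show Commute x aH from Subtype.ext (hEM.comm_ctr hx).symm) f
    · -- constrained
      set Cc := Subgroup.centralizer (Cfsg.pCore p (Hp ⧸ D') : Set (Hp ⧸ D')) with hCc
      have hkey : ∀ x : Hp, f x ∈ Cc → ∀ o ∈ pc p X, Commute (x : Y) o → (x : Y) * o = o * x := fun _ _ _ _ e => e.eq
      have hcO : ∀ x : Hp, f x ∈ Cc → ∀ o ∈ O, (x : Y) * o = o * x := by
        intro x hx o ho
        have h1 := Subgroup.mem_centralizer_iff.mp hx _ (hOcore (himg ⟨o, hOle ho⟩ ho))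
        have h2 : f (x * ⟨o, hOle ho⟩ * x⁻¹ * ⟨o, hOle ho⟩⁻¹) = 1 := by
          rw [map_mul, map_mul, map_mul, map_inv, map_inv, ← h1, mul_inv_cancel_right, mul_inv_cancel]
        have h3 := (hf1 _).mp h2
        simp only [Subgroup.coe_mul, Subgroup.coe_inv] at h3
        have hxN : (x : Y) ∈ Subgroup.normalizer (O : Set Y) :=
          sup_le hOn (Subgroup.zpowers_le.mpr (mem_normalizer_inf (normalizer_le_normalizer_pc hX.norm) haT))
            (hHpX x.2)
        have h4 : (x : Y) * o * (x : Y)⁻¹ * o⁻¹ ∈ O :=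
          mul_mem ((Subgroup.mem_normalizer_iff.mp hxN o).mp ho) (inv_mem ho)
        have h5 := (Subgroup.eq_bot_iff_forall _).mp (disjoint_iff.mp (IsPGroup.disjoint_of_ne p 2 h.fermat.1 O Dz
          hOp hDz2)) _ ⟨h4, h3⟩
        exact mul_inv_eq_iff_eq_mul.mp (mul_inv_eq_one.mp h5)
      -- centralising the moved part of the core is centralising the core
      clear hkey
      have hin : ∀ x : Hp, f x ∈ Cc → (x : Y) ∈ H := by
        intro x hx
        by_contra hxH
        obtain ⟨g, hg, b, hb, hgb⟩ := (Coprime.mem_sup_of_le_normalizer (N := H) (H := Subgroup.zpowers a)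
          (zpowers_le_normalizer haH)).mp x.2
        haveI := Fact.mk h.fpf.prime
        haveI hHn : (H.subgroupOf Hp).Normal := (Subgroup.normal_subgroupOf_iff_le_normalizer hHHp).mpr
          (sup_le Subgroup.le_normalizer (zpowers_le_normalizer haH))
        have hrH : ¬ r ∣ Nat.card H := h.not_dvd (hHX.trans hX.lt.le)
        set y := x ^ Nat.card H with hy
        have hxr : x ^ r ∈ H.subgroupOf Hp := by
          refine (QuotientGroup.eq_one_iff _).mp ?_
          obtain ⟨i, rfl⟩ := Subgroup.mem_zpowers_iff.mp hb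
          have e1 : x = ⟨g, hHHp hg⟩ * aH ^ i := Subtype.ext (by simpa [aH] using hgb.symm)
          show QuotientGroup.mk' (H.subgroupOf Hp) (x ^ r) = 1
          rw [map_pow, e1, map_mul,
            show QuotientGroup.mk' (H.subgroupOf Hp) ⟨g, hHHp hg⟩ = 1 from (QuotientGroup.eq_one_iff _).mpr hg,
            one_mul, map_zpow, ← zpow_natCast, ← zpow_mul, mul_comm, zpow_mul, zpow_natCast, ← map_pow,
            show aH ^ r = 1 from Subtype.ext h.fpf.pow, map_one, one_zpow]
        have hyr : y ^ r = 1 := by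
          rw [hy, ← pow_mul, mul_comm, pow_mul]
          have := pow_card_eq_one' (x := (⟨_, hxr⟩ : H.subgroupOf Hp))
          rw [Nat.card_congr (Subgroup.subgroupOfEquivOfLe hHHp).toEquiv] at this
          exact congrArg Subtype.val this
        have hyne : y ≠ 1 := by
          intro e1
          refine hxH ?_
          obtain ⟨j, hj⟩ := exists_pow_eq_self_of_coprime (x := x) (n := r)
            ((((h.fpf.prime).coprime_iff_not_dvd).mpr hrH).coprime_dvd_right (orderOf_dvd_of_pow_eq_one e1))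
          rw [← hj]
          exact Subgroup.mem_subgroupOf.mp (pow_mem hxr j)
        have hyord : orderOf (y : Y) = r := by
          rw [Subgroup.orderOf_coe]
          exact orderOf_eq_prime hyr hyne
        have hyO : ∀ o ∈ O, (y : Y) * o = o * y := hcO y (by rw [hy, map_pow]; exact pow_mem hx _)
        have hao : orderOf a = r := by
          rcases (Nat.dvd_prime h.fpf.prime).mp (orderOf_dvd_of_pow_eq_one h.fpf.pow) with e | e
          · refine absurd (orderOf_eq_one_iff.mp e) fun e1 => ?_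
            exact hxH (by
              have h6 : Hp = H := by rw [hHp, e1, Subgroup.zpowers_one_eq_bot, sup_bot_eq]
              exact h6 ▸ x.2)
          · exact e
        -- `⟨y⟩` is conjugate to `⟨a⟩`
        have hcardP : ∀ P : Sylow r Hp, Nat.card P = r := by
          intro P
          have h7 : Nat.card Hp ∣ Nat.card H * r := by
            haveI : (H.subgroupOf Hp).Normal := hHn
            have h8 := PLocal.Cores.card_sup_dvd_of_normal' (G := Hp) (H.subgroupOf Hp) (Subgroup.zpowers aH)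
            rw [show H.subgroupOf Hp ⊔ Subgroup.zpowers aH = ⊤ from eq_top_iff.mpr fun u _ => by
              obtain ⟨g, hg, b, hb, hgb⟩ := (Coprime.mem_sup_of_le_normalizer (N := H) (H := Subgroup.zpowers a)
                (zpowers_le_normalizer haH)).mp u.2
              obtain ⟨i, rfl⟩ := Subgroup.mem_zpowers_iff.mp hb
              rw [show u = ⟨g, hHHp hg⟩ * aH ^ i from Subtype.ext (by simpa [aH] using hgb.symm)]
              exact mul_mem (Subgroup.mem_sup_left hg) (Subgroup.mem_sup_right (Subgroup.zpow_mem _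
                (Subgroup.mem_zpowers _) i)), Subgroup.card_top,
              Nat.card_congr (Subgroup.subgroupOfEquivOfLe hHHp).toEquiv, Nat.card_zpowers,
              ← Subgroup.orderOf_coe, hao] at h8
            exact h8
          obtain ⟨n, hn⟩ := IsPGroup.iff_card.mp P.isPGroup'
          have h9 : r ^ n ∣ r := by
            have := (hn ▸ (P : Subgroup Hp).card_subgroup_dvd_card).trans h7
            exact (Nat.Coprime.pow_left n ((h.fpf.prime.coprime_iff_not_dvd).mpr hrH)).dvd_of_dvd_mul_left this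
          have h10 : r ∣ Nat.card P := by
            refine P.dvd_card_of_dvd_card ?_
            exact (hao ▸ Subgroup.orderOf_coe aH ▸ dvd_rfl : r ∣ orderOf aH).trans (orderOf_dvd_natCard aH)
          rcases (Nat.dvd_prime h.fpf.prime).mp h9 with e | e
          · exact absurd (hn ▸ h10) (by rw [e]; exact h.fpf.prime.not_dvd_one)
          · rw [hn, e]
        have hsyl : ∀ u : Hp, orderOf (u : Y) = r → ∃ P : Sylow r Hp, (P : Subgroup Hp) = Subgroup.zpowers u := by
          intro u hu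
          have h11 : IsPGroup r (Subgroup.zpowers u) := IsPGroup.of_card (n := 1) (by
            rw [Nat.card_zpowers, ← Subgroup.orderOf_coe, hu, pow_one])
          obtain ⟨P, hP⟩ := h11.exists_le_sylow
          exact ⟨P, (Subgroup.eq_of_le_of_card_ge hP (le_of_eq (by
            rw [hcardP, Nat.card_zpowers, ← Subgroup.orderOf_coe, hu]))).symm⟩
        obtain ⟨Py, hPy⟩ := hsyl y hyord
        obtain ⟨Pa, hPaS⟩ := hsyl aH hao
        obtain ⟨k, hk⟩ := MulAction.exists_smul_eq Hp Py Pa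
        have ha' : aH ∈ (Py : Subgroup Hp).map (MulAut.conj k : Hp ≃* Hp).toMonoidHom := by
          have h12 : (k • Py : Sylow r Hp).toSubgroup = Pa.toSubgroup := by rw [hk]
          rw [show (Py : Subgroup Hp).map (MulAut.conj k : Hp ≃* Hp).toMonoidHom = (k • Py : Sylow r Hp).toSubgroup
            from rfl, h12, hPaS]
          exact Subgroup.mem_zpowers aH
        obtain ⟨u, hu, hue⟩ := ha'
        rw [hPy] at hu
        obtain ⟨i, rfl⟩ := Subgroup.mem_zpowers_iff.mp hu
        have haO : ∀ o ∈ O, a * o = o * a := by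
          intro o ho
          have hkN : (k : Y) ∈ Subgroup.normalizer (O : Set Y) :=
            sup_le hOn (Subgroup.zpowers_le.mpr (mem_normalizer_inf (normalizer_le_normalizer_pc hX.norm) haT))
              (hHpX k.2)
          have ho' := (Subgroup.mem_normalizer_iff''.mp hkN o).mp ho
          have h13 : Commute ((y : Y) ^ i) ((k : Y)⁻¹ * o * k) := (show Commute (y : Y) _ from hyO _ ho').zpow_left i
          have h14 := h13.map (MulAut.conj (k : Y) : Y ≃* Y).toMonoidHom
          have e2 : (k : Y) * (y : Y) ^ i * (k : Y)⁻¹ = a := by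
            have := congrArg Subtype.val hue
            simpa using this
          simp only [MulEquiv.coe_toMonoidHom, MulAut.conj_apply, e2] at h14
          have e3 : (k : Y) * ((k : Y)⁻¹ * o * k) * (k : Y)⁻¹ = o := by group
          rw [e3] at h14
          exact h14.eq
        refine hU (le_bot_iff.mp ?_)
        have h15 : ⁅pc p X, Subgroup.zpowers a⁆ ≤ O := (Subgroup.commutator_mono hpcP0 le_rfl).trans hU0
        rw [← h.comm_idem (pc_le.trans hX.lt.le) (normalizer_le_normalizer_pc hX.norm)]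
        exact (Subgroup.commutator_mono h15 le_rfl).trans (comm_zpowers_eq_bot haO).le
      haveI : Cc.Normal := Subgroup.normal_centralizer
      refine PLocal.Cores.le_pCore fun u => ?_
      obtain ⟨u, hu⟩ := u
      obtain ⟨x, rfl⟩ := hfs u
      have hxH := hin x hu
      obtain ⟨j, hj⟩ := IsPGroup.iff_card.mp hP0p
      -- into `T`
      obtain ⟨t, ht, g, hg, htg⟩ := (Coprime.mem_sup_of_le_normalizer (N := T) (H := P0) (hP0X.trans hXT)).mp hxH
      haveI hTn : (T.subgroupOf H).Normal :=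
        (Subgroup.normal_subgroupOf_iff_le_normalizer le_sup_left).mpr (hHX.trans hXT)
      have hxT : (x : Y) ^ p ^ j ∈ T := by
        let q := QuotientGroup.mk' (T.subgroupOf H)
        have hx' : q ⟨x, hxH⟩ = q ⟨g, Subgroup.mem_sup_right hg⟩ := by
          rw [← mul_inv_eq_one, ← map_inv, ← map_mul]
          refine (QuotientGroup.eq_one_iff _).mpr (Subgroup.mem_subgroupOf.mpr ?_)
          show (x : Y) * g⁻¹ ∈ T
          rw [← htg, mul_inv_cancel_right]; exact ht
        have hgp : g ^ p ^ j = 1 := by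
          rw [← hj]
          have := pow_card_eq_one' (x := (⟨g, hg⟩ : P0))
          exact congrArg Subtype.val this
        have h2 : q (⟨x, hxH⟩ ^ p ^ j) = 1 := by
          rw [map_pow, hx', ← map_pow,
            show (⟨g, Subgroup.mem_sup_right hg⟩ : H) ^ p ^ j = 1 from Subtype.ext hgp, map_one]
        exact Subgroup.mem_subgroupOf.mp ((QuotientGroup.eq_one_iff _).mp h2)
      set x2 := (x : Y) ^ p ^ j with hx2
      obtain ⟨k, hk⟩ := h.exists_pow_pc hX.lt hX.norm x2 hxT
      obtain ⟨i, hi⟩ := IsPGroup.iff_card.mp hOp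
      set z := x2 ^ p ^ i with hz
      have hz2 : z ^ 2 ^ k = 1 := by
        rw [hz, ← pow_mul, mul_comm, pow_mul, ← hi]
        have := pow_card_eq_one' (x := (⟨_, hk, pow_mem hxT _⟩ : O))
        exact congrArg Subtype.val this
      have hzO : ∀ o ∈ O, Commute z o := fun o ho => by
        rw [hz, hx2, ← pow_mul]
        exact (show Commute (x : Y) o from hcO x hu o ho).pow_left _
      -- `z` centralises the `p`-core
      have hzc : ∀ o ∈ pc p X, z * o = o * z := by
        have hzT : z ∈ T := pow_mem hxT _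
        have hzp : IsPGroup 2 (Subgroup.zpowers z) := IsPGroup.of_card_dvd_pow (n := k) (by
          rw [Nat.card_zpowers]; exact orderOf_dvd_of_pow_eq_one hz2)
        have hstab : Subgroup.zpowers z ≤ Subgroup.centralizer (pc p X : Set Y) := by
          refine Coprime.le_centralizer_of_series (N := O)
            ((Subgroup.zpowers_le.mpr (hTX hzT)).trans le_normalizer_pc) ?_ (Or.inl (Fpf.zpowers_solvable z))
            (Subgroup.zpowers_le.mpr (Subgroup.mem_centralizer_iff.mpr fun o ho => (hzO o ho).eq.symm)) ?_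
          · obtain ⟨n1, hn1⟩ := IsPGroup.iff_card.mp hzp
            obtain ⟨n2, hn2⟩ := IsPGroup.iff_card.mp (pc_isP (l := p) (X := X))
            rw [hn1, hn2]
            exact ((Nat.coprime_primes Nat.prime_two h.pprime).mpr h.two_ne_p).pow n1 n2
          · refine Subgroup.commutator_le.mpr fun o ho b hb => ⟨?_, ?_⟩
            · rw [commutatorElement_def, show o * b * o⁻¹ * b⁻¹ = o * (b * o⁻¹ * b⁻¹) by group]
              exact mul_mem ho ((Subgroup.mem_normalizer_iff.mp
                (le_normalizer_pc (hTX (Subgroup.zpowers_le.mpr hzT hb))) _).mp ((pc p X).inv_mem ho))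
            · rw [commutatorElement_def]
              exact mul_mem ((Subgroup.mem_normalizer_iff.mp (hXT (pc_le ho)) b).mp
                (Subgroup.zpowers_le.mpr hzT hb)) (T.inv_mem (Subgroup.zpowers_le.mpr hzT hb))
        exact fun o ho => (Subgroup.mem_centralizer_iff.mp (hstab (Subgroup.mem_zpowers z)) o ho).symm
      have hzD : z ∈ Dz := ⟨⟨h.le_pc_two_of_le hX.lt hX.norm (Subgroup.zpowers_le.mpr (pow_mem hxT _))
        (IsPGroup.of_card_dvd_pow (n := k) (by rw [Nat.card_zpowers]; exact orderOf_dvd_of_pow_eq_one hz2))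
        (fun b hb o ho => by
          obtain ⟨l, rfl⟩ := Subgroup.mem_zpowers_iff.mp hb
          exact ((show Commute z o from hzc o ho).zpow_left l).eq) (Subgroup.mem_zpowers z), pow_mem hxT _⟩,
        Subgroup.mem_centralizer_iff.mpr fun o ho => (hzc o ho).symm⟩
      refine ⟨j + i, Subtype.ext ?_⟩
      rw [Subgroup.coe_pow, Subgroup.coe_one, ← map_pow, hf1, Subgroup.coe_pow, pow_add, pow_mul]
      exact hzD
  -- the centre of the Thompson subgroup
  set P0' := P0.subgroupOf Hp with hP0'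
  have hP0Hp : P0 ≤ Hp := le_sup_right.trans hHHp
  let φ : P0 →* Hp ⧸ D' := f.comp (Subgroup.inclusion hP0Hp)
  have hPD : ∀ y ∈ P0, y ∈ Dz → y = 1 := fun y hy hyD =>
    (Subgroup.eq_bot_iff_forall _).mp (disjoint_iff.mp (IsPGroup.disjoint_of_ne p 2 h.fermat.1 P0 Dz hP0p hDz2))
      y ⟨hy, hyD⟩
  have hφ : Function.Injective φ := (injective_iff_map_eq_one φ).mpr fun u hu =>
    Subtype.ext (hPD u u.2 ((hf1 _).mp hu))
  set Sb := φ.range with hSb
  have hSbp : IsPGroup p Sb := by
    rw [hSb, MonoidHom.range_eq_map]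
    exact (hP0p.to_subgroup _ : IsPGroup p (⊤ : Subgroup P0)).map φ
  obtain ⟨SS, hSS⟩ : ∃ SS : Sylow p (Hp ⧸ D'), (SS : Subgroup (Hp ⧸ D')) = Sb := by
    obtain ⟨SS, hle⟩ := hSbp.exists_le_sylow
    refine ⟨SS, (Subgroup.eq_of_le_of_card_ge hle ?_).symm⟩
    have h1 : Nat.card SS ≤ Nat.card P0 := by
      rw [SS.card_eq_multiplicity]
      refine le_trans ?_ (le_of_eq hP0card.symm)
      refine Nat.pow_le_pow_right h.pprime.pos ?_
      have h2 : p ^ ((Nat.card (Hp ⧸ D')).factorization p) ∣ Nat.card X := by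
        have h3 : Nat.card (Hp ⧸ D') ∣ Nat.card Hp := Subgroup.card_quotient_dvd_card D'
        haveI : (H.subgroupOf Hp).Normal := (Subgroup.normal_subgroupOf_iff_le_normalizer hHHp).mpr
          (sup_le Subgroup.le_normalizer (zpowers_le_normalizer haH))
        have h4 := PLocal.Cores.card_sup_dvd_of_normal' (G := Hp) (H.subgroupOf Hp) (Subgroup.zpowers aH)
        have h5 : Nat.card Hp ∣ Nat.card H * r := by
          refine dvd_trans ?_ (mul_dvd_mul (Nat.card_congr (Subgroup.subgroupOfEquivOfLe hHHp).toEquiv).dvd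
            (show Nat.card (Subgroup.zpowers aH) ∣ r by
              rw [Nat.card_zpowers]; exact orderOf_dvd_of_pow_eq_one (Subtype.ext h.fpf.pow)))
          refine dvd_trans ?_ h4
          rw [show H.subgroupOf Hp ⊔ Subgroup.zpowers aH = ⊤ from eq_top_iff.mpr fun u _ => by
              obtain ⟨g, hg, b, hb, hgb⟩ := (Coprime.mem_sup_of_le_normalizer (N := H) (H := Subgroup.zpowers a)
                (zpowers_le_normalizer haH)).mp u.2
              obtain ⟨i, rfl⟩ := Subgroup.mem_zpowers_iff.mp hb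
              rw [show u = ⟨g, hHHp hg⟩ * aH ^ i from Subtype.ext (by simpa [aH] using hgb.symm)]
              exact mul_mem (Subgroup.mem_sup_left hg) (Subgroup.mem_sup_right (Subgroup.zpow_mem _
                (Subgroup.mem_zpowers _) i)), Subgroup.card_top]
        refine dvd_trans ?_ (Subgroup.card_dvd_of_le hHX)
        exact (Nat.Coprime.pow_left _ ((Nat.coprime_primes h.pprime h.fpf.prime).mpr h.ne_r)).dvd_of_dvd_mul_right
          (((Nat.ordProj_dvd _ p).trans h3).trans h5)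
      exact (h.pprime.pow_dvd_iff_le_factorization Nat.card_pos.ne').mp h2
    refine h1.trans ?_
    rw [hSb]
    exact (Nat.card_congr (MonoidHom.ofInjective hφ).toEquiv).le
  have hZJ := hD.zj_normal SS
  rw [hSS] at hZJ
  set J := thompsonSubgroupOf p P0 with hJ
  set R := centerThompsonOf p P0 with hR
  have hRP0 : R ≤ P0 := inf_le_left.trans (Subgroup.map_subtype_le _)
  have hJP0 : J ≤ P0 := Subgroup.map_subtype_le _
  have hJb : thompsonSubgroupOf p Sb = ((thompsonSubgroupOf p (⊤ : Subgroup P0))).map φ := by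
    rw [PLocal.ThompsonSubgroup.map_thompsonSubgroupOf hφ, hSb, MonoidHom.range_eq_map]
  have hJY : J = ((thompsonSubgroupOf p (⊤ : Subgroup P0))).map P0.subtype := by
    rw [PLocal.ThompsonSubgroup.map_thompsonSubgroupOf P0.subtype_injective, ← MonoidHom.range_eq_map,
      Subgroup.range_subtype]
  have hJmem : ∀ (y : Y) (hy : y ∈ P0), y ∈ J ↔ φ ⟨y, hy⟩ ∈ thompsonSubgroupOf p Sb := by
    intro y hy
    rw [hJb, hJY]
    constructor
    · rintro ⟨u, hu, hue⟩
      exact ⟨u, hu, congrArg φ (Subtype.ext hue)⟩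
    · rintro ⟨u, hu, hue⟩
      exact ⟨u, hu, congrArg Subtype.val (hφ hue)⟩
  have hRimg : ∀ (y : Y) (hy : y ∈ P0), y ∈ R ↔ φ ⟨y, hy⟩ ∈ centerThompsonOf p Sb := by
    intro y hy
    constructor
    · rintro ⟨hyJ, hyc⟩
      refine ⟨(hJmem y hy).mp hyJ, Subgroup.mem_centralizer_iff.mpr fun v hv => ?_⟩
      rw [SetLike.mem_coe, hJb] at hv
      obtain ⟨w, hw, rfl⟩ := hv
      rw [← map_mul, ← map_mul]
      exact congrArg φ (Subtype.ext (Subgroup.mem_centralizer_iff.mp hyc (w : Y)
        (show (w : Y) ∈ J by rw [hJY]; exact ⟨w, hw, rfl⟩)))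
    · rintro ⟨h1, h2⟩
      refine ⟨(hJmem y hy).mpr h1, Subgroup.mem_centralizer_iff.mpr fun j hj => ?_⟩
      have h3 := Subgroup.mem_centralizer_iff.mp h2 _ ((hJmem j (hJP0 hj)).mp hj)
      rw [← map_mul, ← map_mul] at h3
      exact congrArg Subtype.val (hφ h3)
  have hnormR : ∀ g : Y, g ∈ Subgroup.normalizer (P0 : Set Y) → g ∈ Subgroup.normalizer (R : Set Y) := fun g hg =>
    mem_normalizer_inf (PLocal.ThompsonSubgroup.normalizer_le_normalizer_thompsonSubgroupOf P0 hg)
      (mem_normalizer_centralizer (PLocal.ThompsonSubgroup.normalizer_le_normalizer_thompsonSubgroupOf P0 hg))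
  have hRne : R ≠ ⊥ := by
    have hJne : J ≠ ⊥ := by
      intro e
      have h1 : (thompsonSubgroup p P0).map P0.subtype = ⊥ := e
      rw [Subgroup.map_eq_bot_iff_of_injective _ P0.subtype_injective] at h1
      obtain ⟨n, hn⟩ := IsPGroup.iff_card.mp hP0p
      have hn0 : n ≠ 0 := fun e0 => hP0ne (Subgroup.card_eq_one.mp (by rw [hn, e0, pow_zero]))
      exact PLocal.ThompsonSubgroup.thompsonSubgroup_ne_bot (hn ▸ dvd_pow_self p hn0) h1
    haveI : Nontrivial J := (Subgroup.nontrivial_iff_ne_bot J).mpr hJne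
    haveI : Nontrivial (Subgroup.center J) := (hP0p.to_le hJP0).center_nontrivial
    obtain ⟨z, hz⟩ := exists_ne (1 : Subgroup.center J)
    intro e
    have h1 : ((z : J) : Y) ∈ R := ⟨(z : J).2, Subgroup.mem_centralizer_iff.mpr fun v hv =>
      congrArg Subtype.val (Subgroup.mem_center_iff.mp z.2 ⟨v, hv⟩)⟩
    rw [e, Subgroup.mem_bot] at h1
    exact hz (Subtype.ext (Subtype.ext h1))
  have haR : a ∈ Subgroup.normalizer (R : Set Y) := hnormR a haP0
  -- `E` normalises `R`
  have hER : E ≤ Subgroup.normalizer (R : Set Y) := by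
    have hRDz : R ≤ Subgroup.normalizer (Dz : Set Y) :=
      (hRP0.trans (hP0X.trans le_sup_left)).trans hDzn
    haveI : Group.IsNilpotent E := (hE.isP h).isNilpotent
    have key : (E ⊓ Subgroup.normalizer (R : Set Y)) ⊔ ⁅E, E⁆ = E := by
      refine le_antisymm (sup_le inf_le_left (Subgroup.commutator_le_self E)) fun e he => ?_
      have h1 : ∀ y ∈ R, e * y * e⁻¹ ∈ Dz ⊔ R := by
        intro y hy
        have hyP := hRP0 hy
        let eH : Hp := ⟨e, hEHp he⟩
        let yH : Hp := ⟨y, hP0Hp hyP⟩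
        have h2 := hZJ.conj_mem _ ((hRimg y hyP).mp hy) (f eH)
        have h3 : f (eH * yH * eH⁻¹) ∈ centerThompsonOf p Sb := by
          rw [map_mul, map_mul, map_inv]; exact h2
        obtain ⟨u, hu⟩ : f (eH * yH * eH⁻¹) ∈ Sb := (Subgroup.map_subtype_le (thompsonSubgroup p Sb)) h3.1
        have h4 : (u : Y) ∈ R := (hRimg u u.2).mpr (hu ▸ h3)
        have h5 : f (eH * yH * eH⁻¹ * (Subgroup.inclusion hP0Hp u)⁻¹) = 1 := by
          rw [map_mul, map_inv, ← hu]; exact mul_inv_cancel _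
        have h6 := (hf1 _).mp h5
        simp only [Subgroup.coe_mul, Subgroup.coe_inv, Subgroup.coe_inclusion, eH, yH] at h6
        have h7 := mul_mem (Subgroup.mem_sup_left (T := R) h6) (Subgroup.mem_sup_right h4)
        rwa [inv_mul_cancel_right] at h7
      set Re := R.map ((MulAut.conj e : Y ≃* Y) : Y →* Y) with hRe
      have hRe' : Re ≤ Dz ⊔ R := by
        rintro _ ⟨y, hy, rfl⟩
        exact h1 y hy
      have hcard : ∀ P : Sylow p ↥(Dz ⊔ R), Nat.card P ≤ Nat.card R := by
        intro P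
        obtain ⟨n, hn⟩ := IsPGroup.iff_card.mp P.isPGroup'
        obtain ⟨i, hi⟩ := IsPGroup.iff_card.mp hDz2
        refine Nat.le_of_dvd Nat.card_pos ?_
        have h8 : Nat.card ↥(Dz ⊔ R) ∣ Nat.card R * Nat.card Dz := by
          haveI : (Dz.subgroupOf (Dz ⊔ R)).Normal := (Subgroup.normal_subgroupOf_iff_le_normalizer le_sup_left).mpr
            (sup_le Subgroup.le_normalizer hRDz)
          have h := PLocal.Cores.card_sup_dvd_of_normal' (G := ↥(Dz ⊔ R)) (Dz.subgroupOf (Dz ⊔ R))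
            (R.subgroupOf (Dz ⊔ R))
          rw [← Subgroup.subgroupOf_sup le_sup_left le_sup_right, Subgroup.subgroupOf_self, Subgroup.card_top,
            Nat.card_congr (Subgroup.subgroupOfEquivOfLe (le_sup_left : Dz ≤ Dz ⊔ R)).toEquiv,
            Nat.card_congr (Subgroup.subgroupOfEquivOfLe (le_sup_right : R ≤ Dz ⊔ R)).toEquiv, mul_comm] at h
          exact h
        have h9 := ((P : Subgroup ↥(Dz ⊔ R)).card_subgroup_dvd_card).trans h8
        refine Nat.Coprime.dvd_of_dvd_mul_right ?_ h9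
        rw [hi, hn]
        exact ((Nat.coprime_primes h.pprime Nat.prime_two).mpr h.fermat.1).pow n i
      obtain ⟨PR, hPR⟩ := ((hP0p.to_le hRP0).comap_subtype (K := Dz ⊔ R)).exists_le_sylow
      have hPRe : (PR : Subgroup ↥(Dz ⊔ R)).map (Dz ⊔ R).subtype = R := by
        refine (Subgroup.eq_of_le_of_card_ge ?_ ?_).symm
        · exact (Subgroup.map_subgroupOf_eq_of_le (le_sup_right : R ≤ Dz ⊔ R)).symm.le.trans
            (Subgroup.map_mono hPR)
        · rw [Subgroup.card_map_of_injective (Dz ⊔ R).subtype_injective]; exact hcard PR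
      obtain ⟨k, hk, hkR⟩ := Coprime.exists_conj_sylow_map hRe' PR (by
        rw [← Subgroup.card_map_of_injective (K := (PR : Subgroup ↥(Dz ⊔ R))) (Dz ⊔ R).subtype_injective, hPRe]
        exact Subgroup.card_map_of_injective (MulEquiv.injective _))
      obtain ⟨d, hd, y, hy, rfl⟩ := (Coprime.mem_sup_of_le_normalizer (N := Dz) (H := R) hRDz).mp hk
      rw [hPRe, Coprime.conj_smul_eq_map] at hkR
      have h9 : d⁻¹ * e ∈ Subgroup.normalizer (R : Set Y) := by
        refine mem_normalizer_of_conj_mem fun v hv => ?_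
        have h10 : e * v * e⁻¹ ∈ R.map (MulAut.conj (d * y) : Y ≃* Y).toMonoidHom := hkR ▸ ⟨v, hv, rfl⟩
        obtain ⟨v', hv', hve⟩ := h10
        have hve' : d * y * v' * (d * y)⁻¹ = e * v * e⁻¹ := hve
        rw [show d⁻¹ * e * v * (d⁻¹ * e)⁻¹ = d⁻¹ * (e * v * e⁻¹) * d by group, ← hve',
          show d⁻¹ * (d * y * v' * (d * y)⁻¹) * d = y * v' * y⁻¹ by group]
        exact mul_mem (mul_mem hy hv') (inv_mem hy)
      have hdc : d ∈ ⁅E, E⁆ := by rw [← hEM.ctr_eq]; exact hDzc d hd
      have h11 := mul_mem (Subgroup.mem_sup_right (S := E ⊓ Subgroup.normalizer (R : Set Y)) hdc)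
        (Subgroup.mem_sup_left (T := ⁅E, E⁆)
          (⟨mul_mem (E.inv_mem (hDzE hd)) he, h9⟩ : d⁻¹ * e ∈ E ⊓ Subgroup.normalizer (R : Set Y)))
      rwa [mul_inv_cancel_left] at h11
    exact (Coprime.eq_of_le_of_sup_commutator_eq inf_le_left key).ge.trans inf_le_right
  -- the final contradiction
  set Z1 := G ⊓ Subgroup.normalizer (R : Set Y) with hZ1
  have hRG : R ≤ G := hRP0.trans hP0G
  obtain ⟨X', hZX', hX'⟩ := exists_maxInv (h.normalizer_lt hRG (hP0p.to_le hRP0) hRne haR) (h.norm_norm haR)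
  have hEX' : E ≤ X' := (le_inf (hE.le h) hER).trans hZX'
  have hP0X' : P0 ≤ X' := (le_inf hP0G fun g hg => hnormR g (Subgroup.le_normalizer hg)).trans hZX'
  have hU' : ⁅pc p X', Subgroup.zpowers a⁆ = ⊥ := by
    by_contra hne
    have hN : P0 < PY ⊓ Subgroup.normalizer (P0 : Set Y) := by
      refine lt_of_le_of_ne (le_inf hP0P Subgroup.le_normalizer) fun e => ?_
      haveI := (P.isPGroup'.map G.subtype).isNilpotent
      have h1 : P0.subgroupOf PY < ⊤ :=
        lt_top_iff_ne_top.mpr fun e1 => hlt.not_ge (Subgroup.subgroupOf_eq_top.mp e1)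
      refine (Group.normalizerCondition_of_isNilpotent (P0.subgroupOf PY) h1).ne ?_
      rw [← Subgroup.subgroupOf_normalizer_eq hP0P]
      refine le_antisymm (Subgroup.comap_mono Subgroup.le_normalizer) fun x hx => ?_
      rw [Subgroup.mem_subgroupOf] at hx ⊢
      exact e ▸ (⟨x.2, hx⟩ : (x : Y) ∈ PY ⊓ Subgroup.normalizer (P0 : Set Y))
    have hNX' : PY ⊓ Subgroup.normalizer (P0 : Set Y) ≤ X' :=
      fun g hg => hZX' ⟨Subgroup.map_subtype_le _ hg.1, hnormR g hg.2⟩
    refine hN.not_ge (le_of_eq (Subgroup.eq_of_le_of_card_ge hN.le ?_).symm)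
    obtain ⟨n, hn⟩ := IsPGroup.iff_card.mp ((P.isPGroup'.map G.subtype).to_le
      (inf_le_left : PY ⊓ Subgroup.normalizer (P0 : Set Y) ≤ PY))
    rw [hn, hP0card]
    exact Nat.pow_le_pow_right h.pprime.pos (le_trans
      ((h.pprime.pow_dvd_iff_le_factorization Nat.card_pos.ne').mp (hn ▸ Subgroup.card_dvd_of_le hNX'))
      (hmaxX X' ⟨hX', E, hE, hEX', hne⟩))
  have hTE' := h.moved_eq_E hX'.lt hX'.norm hU' hE hEX'
  refine hU (le_bot_iff.mp ?_)
  have h12 : ⁅pc p X, Subgroup.zpowers a⁆ ≤ E :=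
    hTE' ▸ Subgroup.commutator_mono (hpcP0.trans hP0X') le_rfl
  exact (le_inf (Coprime.commutator_le_of_le_normalizer (zpowers_le_normalizer
    (normalizer_le_normalizer_pc hX.norm))) h12).trans (le_of_eq (disjoint_iff.mp
      (IsPGroup.disjoint_of_ne p 2 h.fermat.1 _ E pc_isP (hE.isP h))))

end Cfsg.Agent.Lib.ShultFlavell
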