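import Cfsg.Agent.Lib.ShultFlavell.CaseTwo

/-!
The involutions exchanging two points.

All computations are made in `Y ⧸ Zc G`: two conjugates of elements of `PZ` at different points have a
product of odd order there, so an involution of the dihedral group they generate exchanges them.
-/

set_option autoImplicit false
set_option linter.style.haveILetI false
set_option linter.unusedSectionVars false

namespace Cfsg.Agent.Lib.ShultFlavell

open Module (End)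
open scoped commutatorElement

section dihedral

variable {Q : Type*} [Group Q] {U V : Q}

theorem conj_pow_of_sq (hU : U * U = 1) (hV : V * V = 1) (n : ℕ) :
    U * (U * V) ^ n * U = ((U * V) ^ n)⁻¹ := by
  have hUi : U⁻¹ = U := inv_eq_of_mul_eq_one_right hU
  have hVi : V⁻¹ = V := inv_eq_of_mul_eq_one_right hV
  have h1 : U * (U * V) * U⁻¹ = (U * V)⁻¹ := by
    rw [mul_inv_rev, hUi, hVi, ← mul_assoc, hU, one_mul]
  have h2 : (U * (U * V) * U⁻¹) ^ n = U * (U * V) ^ n * U⁻¹ := conj_pow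
  rw [h1, inv_pow, hUi] at h2
  exact h2.symm

theorem mul_pow_two_mul (hU : U * U = 1) (hV : V * V = 1) (n : ℕ) :
    U * (U * V) ^ (2 * n) = ((U * V) ^ n)⁻¹ * U * (U * V) ^ n := by
  rw [← conj_pow_of_sq hU hV n, two_mul, pow_add]
  calc U * ((U * V) ^ n * (U * V) ^ n) = U * (U * V) ^ n * (U * U) * (U * V) ^ n := by rw [hU]; group
    _ = _ := by group

theorem mul_pow_two_mul' (hU : U * U = 1) (hV : V * V = 1) (n : ℕ) :
    V * (U * V) ^ (2 * n) = ((U * V) ^ n)⁻¹ * V * (U * V) ^ n := by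
  have h := mul_pow_two_mul hU hV n
  calc V * (U * V) ^ (2 * n) = (U * U) * (V * (U * V) ^ (2 * n)) := by rw [hU, one_mul]
    _ = U * ((U * V) * (U * V) ^ (2 * n)) := by simp only [mul_assoc]
    _ = U * ((U * V) ^ (2 * n) * (U * V)) := by rw [← pow_succ, ← pow_succ']
    _ = ((U * V) ^ n)⁻¹ * U * ((U * V) ^ n * (U * V)) := by rw [← mul_assoc, h, mul_assoc]
    _ = ((U * V) ^ n)⁻¹ * U * ((U * V) * (U * V) ^ n) := by rw [← pow_succ, ← pow_succ']
    _ = ((U * V) ^ n)⁻¹ * (U * U * V) * (U * V) ^ n := by simp only [mul_assoc]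
    _ = _ := by rw [hU, one_mul]

/-- Two involutions with a product of odd order are exchanged by a conjugate of either. -/
theorem exists_exchange (hU : U * U = 1) (hV : V * V = 1) (ho : Odd (orderOf (U * V))) :
    ∃ n : ℕ, ∃ T : Q, T = ((U * V) ^ n)⁻¹ * U * (U * V) ^ n ∧ T * U * T⁻¹ = V := by
  obtain ⟨k, hk⟩ := ho
  have hone : (U * V) ^ (2 * k + 1) = 1 := hk ▸ pow_orderOf_eq_one _
  refine ⟨(k + 1) * (k + 1), _, rfl, ?_⟩
  rw [← mul_pow_two_mul hU hV]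
  have e : (U * V) ^ (2 * ((k + 1) * (k + 1))) = (U * V) ^ (k + 1) := by
    rw [show 2 * ((k + 1) * (k + 1)) = (2 * k + 1) * (k + 1) + (k + 1) by ring, pow_add, pow_mul, hone,
      one_pow, one_mul]
  rw [e]
  have h2 : (U * V) ^ (k + 1) * (U * V) ^ (k + 1) = U * V := by
    rw [← pow_add, show k + 1 + (k + 1) = (2 * k + 1) + 1 by ring, pow_succ, hone, one_mul]
  have hUi : U⁻¹ = U := inv_eq_of_mul_eq_one_right hU
  have h3 : U * ((U * V) ^ (k + 1))⁻¹ * U = (U * V) ^ (k + 1) := by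
    rw [← conj_pow_of_sq hU hV]
    calc U * (U * (U * V) ^ (k + 1) * U) * U = (U * U) * (U * V) ^ (k + 1) * (U * U) := by group
      _ = _ := by rw [hU, one_mul, mul_one]
  calc U * (U * V) ^ (k + 1) * U * (U * (U * V) ^ (k + 1))⁻¹
      = (U * (U * V) ^ (k + 1) * U) * ((U * V) ^ (k + 1))⁻¹ * U⁻¹ := by group
    _ = (((U * V) ^ (k + 1)) * (U * V) ^ (k + 1))⁻¹ * U⁻¹ := by rw [conj_pow_of_sq hU hV, mul_inv_rev]
    _ = V := by rw [h2, mul_inv_rev, hUi, inv_eq_of_mul_eq_one_right hV, mul_assoc, hU, mul_one]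

/-- The involution in the middle of two involutions with a product of even order. -/
theorem exists_middle_inv [Finite Q] (hU : U * U = 1) (hV : V * V = 1) (he : Even (orderOf (U * V))) :
    ∃ l : ℕ, (U * V) ^ l ≠ 1 ∧ (U * V) ^ l * (U * V) ^ l = 1 ∧ Commute ((U * V) ^ l) U ∧
      Commute ((U * V) ^ l) V ∧
      ∃ n : ℕ, ((∃ d, d = ((U * V) ^ n)⁻¹ ∧ U * (U * V) ^ l = d * U * d⁻¹) ∧
          ∃ d, d = ((U * V) ^ n)⁻¹ ∧ V * (U * V) ^ l = d * V * d⁻¹) ∨
        ((∃ d, d = ((U * V) ^ n)⁻¹ ∧ U * (U * V) ^ l = d * V * d⁻¹) ∧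
          ∃ d, d = ((U * V) ^ n)⁻¹ * V ∧ V * (U * V) ^ l = d * U * d⁻¹) := by
  obtain ⟨l, hl⟩ := he
  have hpos := orderOf_pos (U * V)
  have hne : (U * V) ^ l ≠ 1 := fun h => by
    have := Nat.le_of_dvd (by omega) (orderOf_dvd_of_pow_eq_one h)
    omega
  have hsq : (U * V) ^ l * (U * V) ^ l = 1 := by rw [← pow_add, ← hl, pow_orderOf_eq_one]
  have hcU : Commute ((U * V) ^ l) U := by
    have h := conj_pow_of_sq hU hV l
    rw [inv_eq_of_mul_eq_one_right hsq] at h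
    show _ = _
    calc (U * V) ^ l * U = (U * U) * (U * V) ^ l * U := by rw [hU, one_mul]
      _ = U * (U * (U * V) ^ l * U) := by group
      _ = U * (U * V) ^ l := by rw [h]
  have hcV : Commute ((U * V) ^ l) V := by
    have e : V = U * (U * V) := by rw [← mul_assoc, hU, one_mul]
    have := hcU.mul_right (Commute.pow_self (U * V) l)
    rwa [← e] at this
  refine ⟨l, hne, hsq, hcU, hcV, l / 2, ?_⟩
  rcases Nat.even_or_odd l with ⟨n, hn⟩ | ⟨n, hn⟩
  · left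
    have e : l / 2 = n := by omega
    rw [e, show l = 2 * n by omega]
    exact ⟨⟨_, rfl, by rw [inv_inv, mul_pow_two_mul hU hV]⟩, _, rfl, by rw [inv_inv, mul_pow_two_mul' hU hV]⟩
  · right
    have e : l / 2 = n := by omega
    rw [e, hn]
    refine ⟨⟨_, rfl, ?_⟩, _, rfl, ?_⟩
    · rw [inv_inv, pow_succ', ← mul_assoc, ← mul_assoc, hU, one_mul]
      calc V * (U * V) ^ (2 * n) = ((U * V) ^ n)⁻¹ * V * (U * V) ^ n := mul_pow_two_mul' hU hV n
        _ = _ := rfl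
    · rw [pow_succ, ← mul_assoc, mul_pow_two_mul' hU hV, mul_inv_rev, inv_inv, inv_eq_of_mul_eq_one_right hV]
      calc ((U * V) ^ n)⁻¹ * V * (U * V) ^ n * (U * V)
          = ((U * V) ^ n)⁻¹ * V * ((U * V) * (U * V) ^ n) := by rw [mul_assoc, ← pow_succ, ← pow_succ']
        _ = _ := by simp only [mul_assoc]

end dihedral

variable {K : Type*} [Field K] {W : Type*} [AddCommGroup W] [Module K W]
variable {Y : Type*} [Group Y]

/-- The quotient by the centre of `G`. -/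
def qZ (G : Subgroup Y) [G.Normal] : Y →* Y ⧸ Zc G := QuotientGroup.mk' (Zc G)

section quotient

variable {G : Subgroup Y} [G.Normal]

theorem qZ_eq_one {x : Y} : qZ G x = 1 ↔ x ∈ Zc G := QuotientGroup.eq_one_iff x

theorem qZ_eq {x y : Y} : qZ G x = qZ G y ↔ x * y⁻¹ ∈ Zc G := by
  rw [← qZ_eq_one, map_mul, map_inv, mul_inv_eq_one]

theorem qZ_comm {x y : Y} : Commute (qZ G x) (qZ G y) ↔ ⁅x, y⁆ ∈ Zc G := by
  rw [← qZ_eq_one, map_commutatorElement, commutatorElement_eq_one_iff_commute]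

theorem exists_mul_of_qZ {x y : Y} (h : qZ G x = qZ G y) : ∃ z ∈ Zc G, x = z * y :=
  ⟨x * y⁻¹, qZ_eq.mp h, by group⟩

end quotient

/-- `x` is, modulo the centre, a conjugate in `G` of a non-central element of `PZ`. -/
def IsT (G E : Subgroup Y) [G.Normal] (x : Y) : Prop :=
  ∃ w ∈ PZ G E, w ∉ Zc G ∧ ∃ l ∈ G, qZ G x = qZ G (l * w * l⁻¹)

variable [Finite Y]
variable {ρ : Y →* End K W} {a : Y} {r p : ℕ} {G E : Subgroup Y} [G.Normal]
variable [IsAlgClosed K] [FiniteDimensional K W] [Nontrivial W] [CharP K p]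

theorem Ctx.Zc_le_ptH (h : Ctx ρ a r p G) (hE : IsE a G E) : Zc G ≤ ptH G E := Zc_le_PZ.trans (PZ_le h hE)

theorem PZ_comm (h : Ctx ρ a r p G) (hE : IsE a G E) {y y' : Y} (hy : y ∈ PZ G E) (hy' : y' ∈ PZ G E) :
    Commute y y' := by
  obtain ⟨u, hu, v, hv, rfl⟩ := (mem_PZ h).mp hy'
  exact Commute.mul_right ((PZ_commute h hE hy).2 u hu.1).symm (h.center_commute hv y)

theorem PZ_qZ_sq (h : Ctx ρ a r p G) (hE : IsE a G E) {y : Y} (hy : y ∈ PZ G E) :
    qZ G y * qZ G y = 1 := by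
  rw [← map_mul, ← sq, qZ_eq_one]
  exact PZ_sq h hE hy

theorem mem_of_qZ_eq {X : Subgroup Y} (hX : Zc G ≤ X) {x y : Y} (e : qZ G x = qZ G y) (hy : y ∈ X) :
    x ∈ X := by
  obtain ⟨z, hz, rfl⟩ := exists_mul_of_qZ e
  exact X.mul_mem (hX hz) hy

theorem Ctx.exists_PZ_not_Zc (_h : Ctx ρ a r p G) (hT : TI G E) : ∃ y ∈ PZ G E, y ∉ Zc G := by
  obtain ⟨y, hy, hyZ⟩ := SetLike.not_le_iff_exists.mp hT.noncentral
  exact ⟨y, ctr_le_PZ hy, hyZ⟩

theorem Ctx.exists_not_ptH (h : Ctx ρ a r p G) (hE : IsE a G E) : ∃ g ∈ G, g ∉ ptH G E :=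
  SetLike.exists_of_lt (h.ptH_lt hE)

/-- An element of `H` conjugate to one of `PZ` lies in `PZ`. -/
theorem Ctx.isT_mem (h : Ctx ρ a r p G) (hE : IsE a G E) (hT : TI G E) {x : Y} (hx : x ∈ ptH G E)
    (hxT : IsT G E x) : x ∈ PZ G E := by
  obtain ⟨w, hw, hwZ, l, hl, e⟩ := hxT
  have hl' : l ∈ ptH G E := by
    by_contra hn
    exact hwZ (hT.ti l hl hn w hw (mem_of_qZ_eq (h.Zc_le_ptH hE) e.symm hx))
  exact mem_of_qZ_eq Zc_le_PZ e (h.mem_PZ_conj hl'.2 hE hw)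

/-- What commutes with a non-central element of `PZ` modulo the centre fixes its point. -/
theorem Ctx.comm_mem (h : Ctx ρ a r p G) (hE : IsE a G E) {y g : Y} (hy : y ∈ PZ G E) (hyZ : y ∉ Zc G)
    (hg : g ∈ G) (hc : Commute (qZ G g) (qZ G y)) : g ∈ ptH G E :=
  h.point hE hy hyZ hg (mem_of_qZ_eq Zc_le_PZ (by
    rw [map_mul, map_mul, map_inv, hc.eq, mul_inv_cancel_right]) hy)

theorem isT_conj_of_qZ {x w l : Y} (hw : w ∈ PZ G E) (hwZ : w ∉ Zc G) (hl : l ∈ G)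
    (e : qZ G x = qZ G l * qZ G w * (qZ G l)⁻¹) : IsT G E x :=
  ⟨w, hw, hwZ, l, hl, by rw [e, map_mul, map_mul, map_inv]⟩

/-- Conjugates of elements of `PZ` at different points have a product of odd order. -/
theorem Ctx.odd_order (h : Ctx ρ a r p G) (hE : IsE a G E) (hT : TI G E) {y y' g : Y}
    (hy : y ∈ PZ G E) (hyZ : y ∉ Zc G) (hy' : y' ∈ PZ G E) (hy'Z : y' ∉ Zc G) (hg : g ∈ G)
    (hgH : g ∉ ptH G E) : Odd (orderOf (qZ G y * qZ G (g * y' * g⁻¹))) := by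
  rw [← Nat.not_even_iff_odd]
  intro he
  have hG : ∀ {z : Y}, z ∈ PZ G E → z ∈ G := fun hz => ptH_le (PZ_le h hE hz)
  set v := g * y' * g⁻¹ with hv
  have hvG : v ∈ G := mul_mem (mul_mem hg (hG hy')) (inv_mem hg)
  have hV : qZ G v * qZ G v = 1 := by
    rw [hv, map_mul, map_mul, map_inv]
    calc qZ G g * qZ G y' * (qZ G g)⁻¹ * (qZ G g * qZ G y' * (qZ G g)⁻¹)
        = qZ G g * (qZ G y' * qZ G y') * (qZ G g)⁻¹ := by group
      _ = 1 := by rw [PZ_qZ_sq h hE hy']; group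
  obtain ⟨l, hne, -, hcy, hcv, n, hcase⟩ := exists_middle_inv (PZ_qZ_sq h hE hy) hV he
  set j := (y * v) ^ l with hj
  have hjG : j ∈ G := pow_mem (mul_mem (hG hy) hvG) l
  have hqj : qZ G j = (qZ G y * qZ G v) ^ l := by rw [hj, map_pow, map_mul]
  have hjH : j ∈ ptH G E := h.comm_mem hE hy hyZ hjG (hqj ▸ hcy)
  have hj'G : g⁻¹ * j * g ∈ G := mul_mem (mul_mem (inv_mem hg) hjG) hg
  have hj'H : g⁻¹ * j * g ∈ ptH G E := by
    refine h.comm_mem hE hy' hy'Z hj'G ?_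
    have hc := (hqj ▸ hcv : Commute (qZ G j) (qZ G v)).map (MulAut.conj (qZ G g)⁻¹)
    rw [show qZ G v = qZ G g * qZ G y' * (qZ G g)⁻¹ by rw [hv, map_mul, map_mul, map_inv]] at hc
    simp only [map_mul, map_inv, MulEquiv.coe_toMonoidHom, MulAut.conj_apply] at hc ⊢
    simpa [mul_assoc] using hc
  have hdG : (y * v) ^ n ∈ G := pow_mem (mul_mem (hG hy) hvG) n
  have hqd : qZ G ((y * v) ^ n)⁻¹ = ((qZ G y * qZ G v) ^ n)⁻¹ := by rw [map_inv, map_pow, map_mul]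
  obtain ⟨hT1, hT2⟩ : IsT G E (y * j) ∧ IsT G E (g⁻¹ * (v * j) * g) := by
    have hyj : qZ G (y * j) = qZ G y * (qZ G y * qZ G v) ^ l := by rw [map_mul, hqj]
    have hvj : qZ G (g⁻¹ * (v * j) * g) = (qZ G g)⁻¹ * (qZ G v * (qZ G y * qZ G v) ^ l) * qZ G g := by
      rw [map_mul, map_mul, map_mul, map_inv, hqj]
    rcases hcase with ⟨⟨d, rfl, e1⟩, d', rfl, e2⟩ | ⟨⟨d, rfl, e1⟩, d', rfl, e2⟩
    · refine ⟨isT_conj_of_qZ hy hyZ (inv_mem hdG) (by rw [hyj, hqd, e1]), isT_conj_of_qZ hy' hy'Z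
        (mul_mem (mul_mem (inv_mem hg) (inv_mem hdG)) hg) ?_⟩
      rw [hvj, e2, hv]
      simp only [map_mul, map_inv, map_pow]
      group
    · refine ⟨isT_conj_of_qZ hy' hy'Z (mul_mem (inv_mem hdG) hg) ?_, isT_conj_of_qZ hy hyZ
        (mul_mem (inv_mem hg) (mul_mem (inv_mem hdG) hvG)) ?_⟩
      · rw [hyj, e1, hv]
        simp only [map_mul, map_inv, map_pow]
        group
      · rw [hvj, e2]
        simp only [map_mul, map_inv, map_pow]
        group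
  have hjP : j ∈ PZ G E := by
    have := h.isT_mem hE hT (mul_mem (PZ_le h hE hy) hjH) hT1
    simpa using mul_mem (inv_mem hy) this
  have hj'P : g⁻¹ * j * g ∈ PZ G E := by
    have e : g⁻¹ * (v * j) * g = y' * (g⁻¹ * j * g) := by rw [hv]; group
    rw [e] at hT2
    simpa using mul_mem (inv_mem hy') (h.isT_mem hE hT (mul_mem (PZ_le h hE hy') hj'H) hT2)
  have hjZ : j ∉ Zc G := fun hz => hne (by rw [← hqj, qZ_eq_one]; exact hz)
  exact hgH (by simpa using inv_mem (h.point hE hjP hjZ (inv_mem hg) (by rwa [inv_inv])))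

/-- The involution exchanging `y` with `g y' g⁻¹`. -/
theorem Ctx.exists_swap (h : Ctx ρ a r p G) (hE : IsE a G E) (hT : TI G E) {y y' g : Y}
    (hy : y ∈ PZ G E) (hyZ : y ∉ Zc G) (hy' : y' ∈ PZ G E) (hy'Z : y' ∉ Zc G) (hg : g ∈ G)
    (hgH : g ∉ ptH G E) :
    ∃ t, (∃ l ∈ G, t = l * y * l⁻¹) ∧ g⁻¹ * t ∈ ptH G E ∧
      qZ G t * qZ G y * (qZ G t)⁻¹ = qZ G (g * y' * g⁻¹) ∧
      ∀ X, Commute X (qZ G y) → Commute X (qZ G (g * y' * g⁻¹)) → Commute X (qZ G t) := by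
  have hG : ∀ {z : Y}, z ∈ PZ G E → z ∈ G := fun hz => ptH_le (PZ_le h hE hz)
  set v := g * y' * g⁻¹ with hv
  have hV : qZ G v * qZ G v = 1 := by
    rw [hv, map_mul, map_mul, map_inv]
    calc qZ G g * qZ G y' * (qZ G g)⁻¹ * (qZ G g * qZ G y' * (qZ G g)⁻¹)
        = qZ G g * (qZ G y' * qZ G y') * (qZ G g)⁻¹ := by group
      _ = 1 := by rw [PZ_qZ_sq h hE hy']; group
  obtain ⟨n, T, hTdef, hTy⟩ := exists_exchange (PZ_qZ_sq h hE hy) hV (h.odd_order hE hT hy hyZ hy' hy'Z hg hgH)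
  set l := ((y * v) ^ n)⁻¹ with hl
  have hlG : l ∈ G := inv_mem (pow_mem (mul_mem (hG hy) (mul_mem (mul_mem hg (hG hy')) (inv_mem hg))) n)
  have hqt : qZ G (l * y * l⁻¹) = T := by
    rw [hTdef, hl]; simp only [map_mul, map_inv, map_pow, inv_inv]
  refine ⟨l * y * l⁻¹, ⟨l, hlG, rfl⟩, ?_, by rw [hqt, hTy], fun X h1 h2 => ?_⟩
  · have htG : l * y * l⁻¹ ∈ G := mul_mem (mul_mem hlG (hG hy)) (inv_mem hlG)
    refine h.point hE hy hyZ (mul_mem (inv_mem hg) htG) (mem_of_qZ_eq Zc_le_PZ ?_ hy')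
    rw [map_mul, map_mul, map_inv, map_mul, map_inv, hqt]
    calc (qZ G g)⁻¹ * T * qZ G y * ((qZ G g)⁻¹ * T)⁻¹ = (qZ G g)⁻¹ * (T * qZ G y * T⁻¹) * qZ G g := by group
      _ = qZ G y' := by rw [hTy, hv]; simp only [map_mul, map_inv]; group
  · rw [hqt, hTdef]
    have h3 := (h1.mul_right h2).pow_right n
    exact ((h3.inv_right).mul_right h1).mul_right h3

/-- Two exchanges with the same target give an element of `H`. -/
theorem Ctx.exists_transfer (h : Ctx ρ a r p G) (hE : IsE a G E) (hT : TI G E) {y y' y₀ g : Y}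
    (hy : y ∈ PZ G E) (hyZ : y ∉ Zc G) (hy' : y' ∈ PZ G E) (hy'Z : y' ∉ Zc G) (hy₀ : y₀ ∈ PZ G E)
    (hy₀Z : y₀ ∉ Zc G) (hg : g ∈ G) (hgH : g ∉ ptH G E) :
    ∃ t t', (∃ l ∈ G, t = l * y * l⁻¹) ∧ (∃ l ∈ G, t' = l * y' * l⁻¹) ∧ g⁻¹ * t ∈ ptH G E ∧
      g⁻¹ * t' ∈ ptH G E ∧ qZ G (t'⁻¹ * t) * qZ G y * (qZ G (t'⁻¹ * t))⁻¹ = qZ G y' ∧
      t'⁻¹ * t ∈ ptH G E ∧
      ∀ X, Commute X (qZ G y) → Commute X (qZ G y') → Commute X (qZ G (g * y₀ * g⁻¹)) →
        Commute X (qZ G (t'⁻¹ * t)) := by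
  obtain ⟨t, ht, htH, hty, htX⟩ := h.exists_swap hE hT hy hyZ hy₀ hy₀Z hg hgH
  obtain ⟨t', ht', ht'H, ht'y, ht'X⟩ := h.exists_swap hE hT hy' hy'Z hy₀ hy₀Z hg hgH
  refine ⟨t, t', ht, ht', htH, ht'H, ?_, ?_, fun X h1 h2 h3 => ?_⟩
  · rw [map_mul, map_inv]
    calc (qZ G t')⁻¹ * qZ G t * qZ G y * ((qZ G t')⁻¹ * qZ G t)⁻¹
        = (qZ G t')⁻¹ * (qZ G t * qZ G y * (qZ G t)⁻¹) * qZ G t' := by group
      _ = (qZ G t')⁻¹ * (qZ G t' * qZ G y' * (qZ G t')⁻¹) * qZ G t' := by rw [hty, ht'y]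
      _ = qZ G y' := by group
  · simpa [mul_assoc] using mul_mem (inv_mem ht'H) htH
  · rw [map_mul, map_inv]
    exact ((ht'X X h2 h3).inv_right).mul_right (htX X h1 h3)

omit [G.Normal] in
/-- **The swaps.** -/
theorem Ctx.swaps (h : Ctx ρ a r p G) (hE : IsE a G E) (hT : TI G E) : Swaps a G E := by
  haveI := h.normal
  refine ⟨?_, ?_, ?_, ?_⟩
  · intro y hy hyZ y' hy' hy'Z
    obtain ⟨g, hg, hgH⟩ := h.exists_not_ptH hE
    obtain ⟨t, t', -, -, -, -, hk, hkH, -⟩ := h.exists_transfer hE hT hy hyZ hy' hy'Z hy hyZ hg hgH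
    obtain ⟨e, he, c, hc, hca, hce⟩ := h.ptH_split hE hkH
    refine ⟨c, hc, hca, qZ_eq.mp ?_⟩
    rw [hce] at hk
    rw [← hk]
    simp only [map_mul, map_inv]
    have hey : Commute (qZ G e) (qZ G y) := (show Commute e y from (PZ_commute h hE hy).2 e he).map _
    calc qZ G c * qZ G y * (qZ G c)⁻¹ = qZ G c * (qZ G e * qZ G y * (qZ G e)⁻¹) * (qZ G c)⁻¹ := by
          rw [hey.eq, mul_inv_cancel_right]
      _ = _ := by group
  · intro y hy hyZ y' hy' hy'Z g hg hgH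
    obtain ⟨t, ⟨l, hl, ht⟩, -, hty, htX⟩ := h.exists_swap hE hT hy hyZ hy' hy'Z hg hgH
    refine ⟨t, ⟨y, hy, hyZ, l, hl, ht⟩, qZ_eq.mp (by rw [map_mul, map_mul, map_inv, hty]), fun x _ h1 h2 => ?_⟩
    exact qZ_comm.mp (htX _ (qZ_comm.mpr h1) (qZ_comm.mpr h2))
  · intro x hx hxP hx2 hfix
    obtain ⟨y, hy, hyZ⟩ := h.exists_PZ_not_Zc hT
    obtain ⟨g, hg, hgH⟩ := h.exists_not_ptH hE
    have hG : y ∈ G := ptH_le (PZ_le h hE hy)
    set v := g * y * g⁻¹ with hv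
    have hvG : v ∈ G := mul_mem (mul_mem hg hG) (inv_mem hg)
    have hX : qZ G x * qZ G x = 1 := by rw [← map_mul, ← sq, qZ_eq_one]; exact hx2
    have hV : qZ G v * qZ G v = 1 := by
      rw [hv, map_mul, map_mul, map_inv]
      calc qZ G g * qZ G y * (qZ G g)⁻¹ * (qZ G g * qZ G y * (qZ G g)⁻¹)
          = qZ G g * (qZ G y * qZ G y) * (qZ G g)⁻¹ := by group
        _ = 1 := by rw [PZ_qZ_sq h hE hy]; group
    rcases Nat.even_or_odd (orderOf (qZ G x * qZ G v)) with he | ho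
    · obtain ⟨l, hne, -, hcx, hcv, n, hcase⟩ := exists_middle_inv hX hV he
      set j := (x * v) ^ l with hj
      have hxG : x ∈ G := hx.1
      have hjG : j ∈ G := pow_mem (mul_mem hxG hvG) l
      have hqj : qZ G j = (qZ G x * qZ G v) ^ l := by rw [hj, map_pow, map_mul]
      have hjH : j ∈ ptH G E := by
        refine hfix 1 (one_mem _) j hjG (mem_of_qZ_eq (h.Zc_le_ptH hE) ?_ hx)
        rw [map_mul, map_mul, map_inv, map_mul, map_one, mul_one, hqj, mul_assoc, ← hcx.eq, inv_mul_cancel_left]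
      have hj'G : g⁻¹ * j * g ∈ G := mul_mem (mul_mem (inv_mem hg) hjG) hg
      have hj'H : g⁻¹ * j * g ∈ ptH G E := by
        refine h.comm_mem hE hy hyZ hj'G ?_
        have hc := (hqj ▸ hcv : Commute (qZ G j) (qZ G v)).map (MulAut.conj (qZ G g)⁻¹)
        rw [show qZ G v = qZ G g * qZ G y * (qZ G g)⁻¹ by rw [hv, map_mul, map_mul, map_inv]] at hc
        simp only [map_mul, map_inv, MulEquiv.coe_toMonoidHom, MulAut.conj_apply] at hc ⊢
        simpa [mul_assoc] using hc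
      have hdG : (x * v) ^ n ∈ G := pow_mem (mul_mem hxG hvG) n
      rcases hcase with ⟨-, d', rfl, e2⟩ | ⟨⟨d, rfl, e1⟩, -⟩
      · have hT2 : IsT G E (g⁻¹ * (v * j) * g) := by
          refine isT_conj_of_qZ hy hyZ (mul_mem (mul_mem (inv_mem hg) (inv_mem hdG)) hg) ?_
          rw [map_mul, map_mul, map_mul, map_inv, hqj, e2, hv]
          simp only [map_mul, map_inv, map_pow]
          group
        have e : g⁻¹ * (v * j) * g = y * (g⁻¹ * j * g) := by rw [hv]; group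
        rw [e] at hT2
        have hj'P : g⁻¹ * j * g ∈ PZ G E := by
          simpa using mul_mem (inv_mem hy) (h.isT_mem hE hT (mul_mem (PZ_le h hE hy) hj'H) hT2)
        have hjZ : j ∈ Zc G := by
          have hz := hT.ti g hg hgH _ hj'P (by rwa [show g * (g⁻¹ * j * g) * g⁻¹ = j by group])
          have := h.conj_Zc hz g
          rw [show g * (g⁻¹ * j * g) * g⁻¹ = j by group] at this
          exact this ▸ hz
        exact hne (by rw [← hqj, qZ_eq_one]; exact hjZ)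
      · have hT1 : IsT G E (x * j) := by
          refine isT_conj_of_qZ hy hyZ (mul_mem (inv_mem hdG) hg) ?_
          rw [map_mul, hqj, e1, hv]
          simp only [map_mul, map_inv, map_pow]
          group
        have hxj := h.isT_mem hE hT (mul_mem hx hjH) hT1
        refine hgH (hfix ((x ^ 2)⁻¹ * (x * j)) (mul_mem (inv_mem (Zc_le_PZ hx2)) hxj) g hg ?_)
        rwa [show x * ((x ^ 2)⁻¹ * (x * j)) = j by group]
    · obtain ⟨n, T, hTdef, hTx⟩ := exists_exchange hX hV ho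
      refine hxP (h.isT_mem hE hT hx ?_)
      have hTG : ((x * v) ^ n)⁻¹ * x * (x * v) ^ n ∈ G :=
        mul_mem (mul_mem (inv_mem (pow_mem (mul_mem hx.1 hvG) n)) hx.1) (pow_mem (mul_mem hx.1 hvG) n)
      refine isT_conj_of_qZ hy hyZ (mul_mem (inv_mem hTG) hg) ?_
      have e : qZ G (((x * v) ^ n)⁻¹ * x * (x * v) ^ n) = T := by
        rw [hTdef]; simp only [map_mul, map_inv, map_pow]
      rw [map_mul, map_inv, e]
      calc qZ G x = T⁻¹ * (T * qZ G x * T⁻¹) * T := by group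
        _ = _ := by rw [hTx, hv]; simp only [map_mul, map_inv]; group
  · intro x hx hx2 hxP g hg hgH hgx y hy hyZ y' hy' hy'Z
    obtain ⟨y₀, hy₀, hy₀Z, hc0⟩ : ∃ y₀ ∈ PZ G E, y₀ ∉ Zc G ∧
        Commute (qZ G (g⁻¹ * x * g)) (qZ G y₀) := by
      set x' := g⁻¹ * x * g with hx'
      by_cases hc : Commute (qZ G x') (qZ G y)
      · exact ⟨y, hy, hyZ, hc⟩
      have hcy : x' * y * x'⁻¹ ∈ PZ G E := h.mem_PZ_conj hgx.2 hE hy
      refine ⟨y * (x' * y * x'⁻¹), mul_mem hy hcy, fun hz => hc ?_, ?_⟩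
      · have h1 := qZ_eq_one.mpr hz
        simp only [map_mul, map_inv] at h1
        have h2 : qZ G x' * qZ G y * (qZ G x')⁻¹ = qZ G y :=
          (eq_inv_of_mul_eq_one_right h1).trans (inv_eq_of_mul_eq_one_right (PZ_qZ_sq h hE hy))
        exact mul_inv_eq_iff_eq_mul.mp h2
      · have hsq : qZ G x' * qZ G x' = 1 := by
          rw [hx', ← map_mul, show g⁻¹ * x * g * (g⁻¹ * x * g) = g⁻¹ * x ^ 2 * g⁻¹⁻¹ by rw [sq]; group,
            h.conj_Zc hx2 g⁻¹, qZ_eq_one]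
          exact hx2
        have hcomm := (PZ_comm h hE hy hcy).map (qZ G)
        simp only [map_mul, map_inv] at hcomm ⊢
        rw [inv_eq_of_mul_eq_one_right hsq] at hcomm ⊢
        show _ = _
        calc qZ G x' * (qZ G y * (qZ G x' * qZ G y * qZ G x'))
            = (qZ G x' * qZ G y * qZ G x') * qZ G y * qZ G x' := by simp only [mul_assoc]
          _ = qZ G y * (qZ G x' * qZ G y * qZ G x') * qZ G x' := by rw [← hcomm.eq]
    have hc0' : Commute (qZ G x) (qZ G (g * y₀ * g⁻¹)) := by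
      have := hc0.map (MulAut.conj (qZ G g))
      simp only [map_mul, map_inv, MulEquiv.coe_toMonoidHom, MulAut.conj_apply] at this ⊢
      simpa [mul_assoc] using this
    obtain ⟨t, t', -, -, -, -, hk, hkH, hkX⟩ := h.exists_transfer hE hT hy hyZ hy' hy'Z hy₀ hy₀Z hg hgH
    refine ⟨t'⁻¹ * t, hkH, qZ_comm.mp (hkX _ (qZ_comm.mpr (hxP y hy)) (qZ_comm.mpr (hxP y' hy')) hc0'),
      qZ_eq.mp ?_⟩
    rw [← hk]
    simp only [map_mul, map_inv]

end Cfsg.Agent.Lib.ShultFlavell
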