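import Cfsg.Agent.Lib.ShultFlavell.Piece

/-!
`E = [E, a] ≠ 1` is a `2`-group, the order of `a` is a Fermat prime, and the squares of `E` are
central of order at most two.
-/

set_option autoImplicit false
set_option linter.style.haveILetI false
set_option linter.unusedSectionVars false

namespace Cfsg.Agent.Lib.ShultFlavell

open Module (End)
open scoped commutatorElement

/-- The multiplicative order of `2` modulo `2 ^ m + 1` is `2 m`. -/
theorem two_pow_order {m j : ℕ} (hj : 1 ≤ j) (h : 2 ^ j ≡ 1 [MOD 2 ^ m + 1]) : 2 * m ≤ j := by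
  by_contra hlt
  push Not at hlt
  have hd : 2 ^ m + 1 ∣ 2 ^ j - 1 := (Nat.modEq_iff_dvd' Nat.one_le_two_pow).mp h.symm
  have h2 : 2 ≤ 2 ^ j := by
    calc 2 = 2 ^ 1 := (pow_one 2).symm
      _ ≤ 2 ^ j := Nat.pow_le_pow_right (by norm_num) hj
  by_cases hjm : j ≤ m
  · have := Nat.le_of_dvd (by omega) hd
    have := Nat.pow_le_pow_right (show 1 ≤ 2 by norm_num) hjm
    omega
  · obtain ⟨i, rfl⟩ := Nat.exists_eq_add_of_le (le_of_not_ge hjm)
    have him : 2 ^ i < 2 ^ m := Nat.pow_lt_pow_right (by norm_num) (by omega)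
    have e : 2 ^ i * (2 ^ m + 1) = (2 ^ (m + i) - 1) + (2 ^ i + 1) := by
      rw [pow_add, mul_add, mul_one, mul_comm]
      have : 1 ≤ 2 ^ m * 2 ^ i := Nat.mul_pos (by positivity) (by positivity)
      omega
    have h3 : 2 ^ m + 1 ∣ 2 ^ i + 1 := (Nat.dvd_add_right hd).mp ⟨2 ^ i, by rw [← e, mul_comm]⟩
    have := Nat.le_of_dvd (Nat.succ_pos _) h3
    omega

variable {K : Type*} [Field K] {W : Type*} [AddCommGroup W] [Module K W]
variable {Y : Type*} [Group Y]
variable {ρ : Y →* End K W} {a : Y} {r q : ℕ} {E : Subgroup Y} {χ : ctr E → K}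
variable [IsAlgClosed K] [FiniteDimensional K W] [Finite Y]

/-- The degree on a piece where `E` acts non-trivially. -/
theorem Moved.exc_data (h : Moved ρ a r E q) (he : Exc ρ a r E χ) :
    q = 2 ∧ ∃ m, 1 ≤ m ∧ r = 2 ^ m + 1 ∧ (rad ρ E χ).relIndex E = 2 ^ (2 * m) := by
  obtain ⟨d, hd, hdr⟩ := he.degree
  haveI := Fact.mk h.qprime
  obtain ⟨n, hn⟩ := IsPGroup.iff_card.mp h.isP
  have hdvd : d ∣ q ^ n := by
    rw [← hn]
    exact (Dvd.intro _ hd).trans (Subgroup.relIndex_dvd_card _ _)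
  obtain ⟨i, -, rfl⟩ := (Nat.dvd_prime_pow h.qprime).mp hdvd
  have hi : 1 ≤ i := by
    by_contra hi
    obtain rfl : i = 0 := by omega
    rw [pow_zero, one_mul] at hd
    exact he.ne (le_antisymm rad_le (Subgroup.relIndex_eq_one.mp hd.symm))
  have hq : q = 2 := by
    by_contra hq
    have h1 : Odd (q ^ i) := (h.qprime.odd_of_ne_two hq).pow
    have h2 : Even r := hdr ▸ h1.add_one
    have h3 : r = 2 := (Nat.Prime.even_iff h.fpf.prime).mp h2
    have h4 : 3 ≤ q ^ i := by
      calc 3 ≤ q := by have := h.qprime.two_le; omega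
        _ = q ^ 1 := (pow_one q).symm
        _ ≤ q ^ i := Nat.pow_le_pow_right h.qprime.pos hi
    omega
  subst hq
  exact ⟨rfl, i, hi, hdr.symm, by rw [← hd, ← pow_add, two_mul]⟩

/-- A non-trivial group `[E, a]` is a `2`-group and `r` is a Fermat prime. -/
theorem Moved.two (h : Moved ρ a r E q) (hE : E ≠ ⊥) : q = 2 ∧ ∃ m, 1 ≤ m ∧ r = 2 ^ m + 1 := by
  by_contra hcon
  refine hE ((Subgroup.eq_bot_iff_forall _).mpr fun x hx => h.eq_one_of_pieces hx fun χ w hw => ?_)
  rcases h.piece_cases χ with h1 | h1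
  · exact h1 x hx w hw
  · obtain ⟨h2, m, hm, hr, -⟩ := h.exc_data h1
    exact absurd ⟨h2, m, hm, hr⟩ hcon

/-- Squares lie in the radical of every piece. -/
theorem Moved.sq_mem_rad (h : Moved ρ a r E q) (he : Exc ρ a r E χ) {x : Y} (hx : x ∈ E) :
    x ^ 2 ∈ rad ρ E χ := by
  obtain ⟨hq, m, hm, hr, hidx⟩ := h.exc_data he
  subst hq
  set S := rad ρ E χ
  haveI hSn : (S.subgroupOf E).Normal :=
    (Subgroup.normal_subgroupOf_iff_le_normalizer rad_le).mpr h.le_normalizer_rad
  let Q := E ⧸ S.subgroupOf E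
  have hcomm : ∀ u v : Q, u * v = v * u := by
    intro u v
    obtain ⟨u, rfl⟩ := QuotientGroup.mk'_surjective _ u
    obtain ⟨v, rfl⟩ := QuotientGroup.mk'_surjective _ v
    rw [← map_mul, ← map_mul, QuotientGroup.mk'_apply, QuotientGroup.mk'_apply, QuotientGroup.eq,
      Subgroup.mem_subgroupOf]
    have := ctr_le_rad (ρ := ρ) (χ := χ) (h.commutator_le_ctr
      (Subgroup.commutator_mem_commutator (inv_mem v.2) (inv_mem u.2)))
    simpa [commutatorElement_def, mul_assoc] using this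
  letI : CommGroup Q := { (inferInstance : Group Q) with mul_comm := hcomm }
  have hcard : Nat.card Q = 2 ^ (2 * m) := by rw [← hidx]; rfl
  let O : Subgroup Q := (powMonoidHom 2 : Q →* Q).ker
  have hOne : O ≠ ⊥ := by
    intro e
    have hd2 : 2 ∣ Nat.card Q := hcard ▸ dvd_pow_self 2 (by omega)
    obtain ⟨u, hu⟩ := exists_prime_orderOf_dvd_card' 2 hd2
    have : u ∈ O := by
      show u ^ 2 = 1
      rw [← hu, pow_orderOf_eq_one]
    rw [e, Subgroup.mem_bot] at this
    rw [this, orderOf_one] at hu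
    omega
  -- `a` permutes `O` with one fixed point
  let c : E →* E :=
    { toFun := fun y => ⟨a * y * a⁻¹, (Subgroup.mem_normalizer_iff.mp h.norm y).mp y.2⟩
      map_one' := Subtype.ext (by simp)
      map_mul' := fun y z => Subtype.ext (by simp [mul_assoc]) }
  let cQ : Q →* Q := QuotientGroup.map _ _ c fun y hy =>
    (Subgroup.mem_normalizer_iff.mp h.le_normalizer_rad_a (y : Y)).mp hy
  have hcQk : ∀ (k : ℕ) (y : E), cQ^[k] (QuotientGroup.mk y) =
      QuotientGroup.mk ⟨a ^ k * y * (a ^ k)⁻¹,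
        (Subgroup.mem_normalizer_iff.mp (Subgroup.pow_mem _ h.norm k) _).mp y.2⟩ := by
    intro k y
    induction k with
    | zero => simp
    | succ k ih =>
      rw [Function.iterate_succ_apply', ih]
      show QuotientGroup.mk (c _) = _
      congr 1
      apply Subtype.ext
      show a * (a ^ k * y * (a ^ k)⁻¹) * a⁻¹ = a ^ (k + 1) * y * (a ^ (k + 1))⁻¹
      rw [pow_succ']; group
  have hmap : ∀ u ∈ O, cQ u ∈ O := fun u hu => by
    show cQ u ^ 2 = 1
    rw [← map_pow, show u ^ 2 = 1 from hu, map_one]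
  let π : O → O := fun u => ⟨cQ u, hmap u u.2⟩
  have hπk : ∀ (k : ℕ) (u : O), ((π^[k] u : O) : Q) = cQ^[k] (u : Q) := by
    intro k u
    induction k with
    | zero => rfl
    | succ k ih => rw [Function.iterate_succ_apply', Function.iterate_succ_apply', ← ih]
  have hπr : π^[r] = id := funext fun u => Subtype.ext (by
    rw [hπk]
    obtain ⟨y, hy⟩ := QuotientGroup.mk_surjective (u : Q)
    rw [← hy, hcQk]
    simp [h.fpf.pow, hy])
  classical
  haveI := Fintype.ofFinite O
  haveI := Fact.mk h.fpf.prime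
  have hfix1 : Fintype.card (Function.fixedPoints π) = 1 := by
    rw [Fintype.card_eq_one_iff]
    refine ⟨⟨1, Subtype.ext (map_one cQ)⟩, fun ⟨u, hu⟩ => Subtype.ext (Subtype.ext ?_)⟩
    obtain ⟨y, hy⟩ := QuotientGroup.mk_surjective (u : Q)
    have h1 : cQ (u : Q) = (u : Q) := congrArg Subtype.val hu
    rw [← hy] at h1
    have h2 : (c y)⁻¹ * y ∈ S.subgroupOf E := QuotientGroup.eq.mp h1
    rw [← hy]
    refine (QuotientGroup.eq_one_iff y).mpr (he.fixed 1 (fun e => h.fpf.prime.not_dvd_one e) _ y.2 ?_)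
    have := inv_mem (Subgroup.mem_subgroupOf.mp h2)
    simpa [c, pow_one, mul_assoc] using this
  have hmod := Equiv.Perm.card_fixedPoints_modEq (f := (π : Function.End O)) (p := r) (n := 1) (by
    rw [pow_one]
    show π^[r] = id
    exact hπr)
  rw [show Fintype.card (Function.fixedPoints (π : Function.End O)) = 1 by
      convert hfix1, ← Nat.card_eq_fintype_card] at hmod
  obtain ⟨j, hj, hjc⟩ := (Nat.dvd_prime_pow Nat.prime_two).mp (hcard ▸ O.card_subgroup_dvd_card)
  have hj1 : 1 ≤ j := by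
    by_contra h0
    obtain rfl : j = 0 := by omega
    exact hOne (Subgroup.card_eq_one.mp (by rw [hjc, pow_zero]))
  rw [hjc, hr] at hmod
  have hjj : j = 2 * m := le_antisymm hj (two_pow_order hj1 hmod)
  have hOtop : O = ⊤ := Subgroup.eq_top_of_card_eq O (by rw [hjc, hcard, hjj])
  have hmem : (QuotientGroup.mk (⟨x, hx⟩ : E) : Q) ∈ O := hOtop ▸ Subgroup.mem_top _
  have h3 : (QuotientGroup.mk ((⟨x, hx⟩ : E) ^ 2) : Q) = 1 := hmem
  simpa [Subgroup.mem_subgroupOf] using (QuotientGroup.eq_one_iff _).mp h3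

/-- Squares are central. -/
theorem Moved.sq_mem_ctr (h : Moved ρ a r E q) {x : Y} (hx : x ∈ E) : x ^ 2 ∈ ctr E := by
  refine mem_ctr.mpr ⟨pow_mem hx 2, fun y hy => ?_⟩
  have h1 : (x ^ 2 * y)⁻¹ * (y * x ^ 2) ∈ E :=
    mul_mem (inv_mem (mul_mem (pow_mem hx 2) hy)) (mul_mem hy (pow_mem hx 2))
  refine (inv_mul_eq_one.mp (h.eq_one_of_pieces h1 fun χ w hw => ?_)).symm
  rcases h.piece_cases χ with h2 | h2
  · exact h2 _ h1 w hw
  · have h3 := (h.sq_mem_rad h2 hx).2 y hy w hw
    rw [← Module.End.mul_apply, ← map_mul, ← Module.End.mul_apply, ← map_mul] at h3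
    rw [map_mul, Module.End.mul_apply, ← h3, ← Module.End.mul_apply, ← map_mul, inv_mul_cancel, map_one,
      Module.End.one_apply]

/-- The commutator of two elements has order at most two. -/
theorem Moved.commutator_sq (h : Moved ρ a r E q) {x y : Y} (hx : x ∈ E) (hy : y ∈ E) :
    ⁅x, y⁆ * ⁅x, y⁆ = 1 := by
  have hz := mem_ctr.mp (h.commutator_le_ctr (Subgroup.commutator_mem_commutator hx hy))
  have h2 := (mem_ctr.mp (h.sq_mem_ctr hx)).2 y hy
  have e : ⁅x ^ 2, y⁆ = ⁅x, y⁆ * ⁅x, y⁆ := by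
    rw [sq, commutatorElement_mul_left_eq_conj_mul, hz.2 x hx, mul_inv_cancel_right]
  rw [← e, commutatorElement_eq_one_iff_commute]
  exact h2.symm

/-- The centre is elementary abelian. -/
theorem Moved.ctr_sq (h : Moved ρ a r E q) {z : Y} (hz : z ∈ ctr E) : z * z = 1 := by
  rw [h.ctr_eq] at hz
  refine Subgroup.closure_induction (p := fun z _ => z * z = 1) ?_ (mul_one 1) ?_ ?_
    (show z ∈ Subgroup.closure {g | ∃ x ∈ E, ∃ y ∈ E, ⁅x, y⁆ = g} from
      Subgroup.commutator_def E E ▸ hz)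
  · rintro _ ⟨x, hx, y, hy, rfl⟩
    exact h.commutator_sq hx hy
  · intro u v hu hv h1 h2
    have hcu : u ∈ ctr E := by rw [h.ctr_eq, Subgroup.commutator_def]; exact hu
    have hcv : v ∈ ctr E := by rw [h.ctr_eq, Subgroup.commutator_def]; exact hv
    rw [show u * v * (u * v) = u * (v * u) * v by simp [mul_assoc], (mem_ctr.mp hcu).2 v hcv.1,
      show u * (u * v) * v = u * u * (v * v) by simp [mul_assoc], h1, h2, mul_one]
  · intro u _ h1
    rw [← mul_inv_rev, h1, inv_one]

end Cfsg.Agent.Lib.ShultFlavell
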